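import Mathlib
import Cfsg.Prelude.Def_Transfer

set_option autoImplicit false

namespace Cfsg.Agent.Lib.Helper74

open Cfsg

variable {G : Type*} [Group G]

/-- `L` is an internal normal `p`-complement of the subgroup `Y` of `G`. -/
structure IsNPC (p : ℕ) (L Y : Subgroup G) : Prop where
  le : L ≤ Y
  norm : Y ≤ Subgroup.normalizer (L : Set G)
  cop : (Nat.card L).Coprime p
  idx : ∃ j : ℕ, L.relIndex Y = p ^ j

theorem relIndex_mul_card_of_le' {H K : Subgroup G} (h : H ≤ K) :
    H.relIndex K * Nat.card H = Nat.card K := by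
  have h1 := Subgroup.card_mul_index (H.subgroupOf K)
  rw [Nat.card_congr (Subgroup.subgroupOfEquivOfLe h).toEquiv] at h1
  rw [Subgroup.relIndex, mul_comm]
  exact h1

/-- elements of `Y` of order prime to `p` lie in the normal `p`-complement. -/
theorem IsNPC.mem_of_coprime [Finite G] {p : ℕ} [hp : Fact p.Prime] {L Y : Subgroup G}
    (h : IsNPC p L Y) {y : G} (hy : y ∈ Y) (hyo : (orderOf y).Coprime p) : y ∈ L := by
  have : (L.subgroupOf Y).Normal :=
    (Subgroup.normal_subgroupOf_iff_le_normalizer h.le).mpr h.norm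
  obtain ⟨j, hj⟩ := h.idx
  set y' : ↥Y := ⟨y, hy⟩ with hy'
  have h1 : (QuotientGroup.mk' (L.subgroupOf Y) y') ^ (orderOf y) = 1 := by
    rw [← map_pow]
    have : y' ^ orderOf y = 1 := by
      apply Subtype.ext
      simp [hy', pow_orderOf_eq_one]
    rw [this, map_one]
  have h2 : (QuotientGroup.mk' (L.subgroupOf Y) y') ^ (p ^ j) = 1 := by
    have : Nat.card (↥Y ⧸ L.subgroupOf Y) = p ^ j := by
      rw [← Subgroup.index_eq_card]; exact hj
    rw [← this, pow_card_eq_one']
  have h3 : orderOf (QuotientGroup.mk' (L.subgroupOf Y) y') ∣ 1 := by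
    have hc : (orderOf y).Coprime (p ^ j) := Nat.Coprime.pow_right _ hyo
    rw [← hc.gcd_eq_one]
    exact Nat.dvd_gcd (orderOf_dvd_of_pow_eq_one h1) (orderOf_dvd_of_pow_eq_one h2)
  have h4 : QuotientGroup.mk' (L.subgroupOf Y) y' = 1 := orderOf_eq_one_iff.mp (Nat.dvd_one.mp h3)
  have h5 : y' ∈ L.subgroupOf Y := (QuotientGroup.eq_one_iff y').mp h4
  exact h5

/-- a normal `p`-complement of a normal subgroup is normal. -/
theorem IsNPC.normal [Finite G] {p : ℕ} [hp : Fact p.Prime] {L Y : Subgroup G}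
    (h : IsNPC p L Y) [hY : Y.Normal] : L.Normal := by
  refine ⟨fun l hl g => ?_⟩
  apply h.mem_of_coprime (hY.conj_mem l (h.le hl) g)
  have ho : orderOf (g * l * g⁻¹) = orderOf l := by
    have := (MulAut.conj g).orderOf_eq l
    rwa [MulAut.conj_apply] at this
  rw [ho]
  exact Nat.Coprime.coprime_dvd_left (Subgroup.orderOf_dvd_natCard L hl) h.cop

/-- subgroups inherit normal `p`-complements. -/
theorem IsNPC.inf [Finite G] {p : ℕ} [hp : Fact p.Prime] {L Y : Subgroup G}
    (h : IsNPC p L Y) {Z : Subgroup G} (hZ : Z ≤ Y) : IsNPC p (L ⊓ Z) Z := by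
  refine ⟨inf_le_right, ?_, ?_, ?_⟩
  · intro z hz
    have hzn := h.norm (hZ hz)
    rw [Subgroup.mem_normalizer_iff] at hzn ⊢
    intro g
    rw [Subgroup.mem_inf, Subgroup.mem_inf, ← hzn g]
    constructor
    · rintro ⟨h1, h2⟩
      exact ⟨h1, Z.mul_mem (Z.mul_mem hz h2) (Z.inv_mem hz)⟩
    · rintro ⟨h1, h2⟩
      refine ⟨h1, ?_⟩
      have : g = z⁻¹ * (z * g * z⁻¹) * z := by group
      rw [this]
      exact Z.mul_mem (Z.mul_mem (Z.inv_mem hz) h2) hz
  · exact Nat.Coprime.coprime_dvd_left (Subgroup.card_dvd_of_le inf_le_left) h.cop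
  · obtain ⟨j, hj⟩ := h.idx
    have : (L.subgroupOf Y).Normal :=
      (Subgroup.normal_subgroupOf_iff_le_normalizer h.le).mpr h.norm
    have h1 := Subgroup.relIndex_dvd_index_of_normal (L.subgroupOf Y) (Z.subgroupOf Y)
    rw [Subgroup.relIndex_subgroupOf hZ] at h1
    have h2 : (L.subgroupOf Y).index = p ^ j := hj
    rw [h2] at h1
    obtain ⟨i, -, hi⟩ := (Nat.dvd_prime_pow hp.out).mp h1
    exact ⟨i, by rw [Subgroup.inf_relIndex_right, hi]⟩

/-- `Y = L Q` whenever `Q ≤ Y` has index in `Y` prime to `p`. -/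
theorem IsNPC.sup_eq [Finite G] {p : ℕ} [hp : Fact p.Prime] {L Y : Subgroup G}
    (h : IsNPC p L Y) {Q : Subgroup G} (hQ : Q ≤ Y) (hQi : ¬ p ∣ Q.relIndex Y) : L ⊔ Q = Y := by
  apply le_antisymm (sup_le h.le hQ)
  obtain ⟨j, hj⟩ := h.idx
  have h1 : (L ⊔ Q).relIndex Y ∣ p ^ j := by
    rw [← hj]; exact Subgroup.relIndex_dvd_of_le_left Y le_sup_left
  have h2 : (L ⊔ Q).relIndex Y ∣ Q.relIndex Y := Subgroup.relIndex_dvd_of_le_left Y le_sup_right
  obtain ⟨i, -, hi⟩ := (Nat.dvd_prime_pow hp.out).mp h1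
  have hi0 : i = 0 := by
    by_contra h0
    apply hQi
    refine dvd_trans ?_ h2
    rw [hi]
    exact dvd_pow_self p h0
  rw [hi0, pow_zero] at hi
  exact Subgroup.relIndex_eq_one.mp hi

/-- internal characterisation of `HasNormalPComplement` for a subgroup. -/
theorem hasNormalPComplement_iff_exists_isNPC [Finite G] {p : ℕ} [hp : Fact p.Prime]
    (Y : Subgroup G) : HasNormalPComplement p ↥Y ↔ ∃ L : Subgroup G, IsNPC p L Y := by
  constructor
  · rintro ⟨Q, N, hN, hc⟩
    refine ⟨N.map Y.subtype, Subgroup.map_subtype_le N, ?_, ?_, ?_⟩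
    · have h1 := Subgroup.le_normalizer_map (H := N) Y.subtype
      have h2 : Subgroup.normalizer (N : Set ↥Y) = ⊤ := Subgroup.normalizer_eq_top_iff.mpr hN
      rw [h2] at h1
      have h3 : (⊤ : Subgroup ↥Y).map Y.subtype = Y := by
        rw [← MonoidHom.range_eq_map, Subgroup.range_subtype]
      rw [h3] at h1
      exact h1
    · have h1 : Nat.card (N.map Y.subtype) = Nat.card N :=
        Subgroup.card_map_of_injective Y.subtype_injective
      rw [h1, ← hc.index_eq_card]
      exact (Nat.Coprime.symm ((Nat.Prime.coprime_iff_not_dvd hp.out).mpr Q.not_dvd_index))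
    · obtain ⟨k, hk⟩ := IsPGroup.iff_card.mp Q.2
      refine ⟨k, ?_⟩
      have h1 : (N.map Y.subtype).subgroupOf Y = N := by
        ext z
        rw [Subgroup.mem_subgroupOf, Subgroup.mem_map]
        constructor
        · rintro ⟨w, hw, hwz⟩
          have : w = z := Subtype.ext hwz
          rwa [← this]
        · intro hz
          exact ⟨z, hz, rfl⟩
      rw [Subgroup.relIndex, h1, hc.symm.index_eq_card, hk]
  · rintro ⟨L, h⟩
    have : (L.subgroupOf Y).Normal :=
      (Subgroup.normal_subgroupOf_iff_le_normalizer h.le).mpr h.norm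
    obtain ⟨Q⟩ : Nonempty (Sylow p ↥Y) := inferInstance
    refine ⟨Q, L.subgroupOf Y, inferInstance, ?_⟩
    obtain ⟨j, hj⟩ := h.idx
    have hcL : Nat.card (L.subgroupOf Y) = Nat.card L :=
      Nat.card_congr (Subgroup.subgroupOfEquivOfLe h.le).toEquiv
    have hY : Nat.card ↥Y = p ^ j * Nat.card L := by
      rw [← hj]; exact (relIndex_mul_card_of_le' h.le).symm
    have hfac : (Nat.card ↥Y).factorization p = j := by
      rw [hY, Nat.factorization_mul (pow_ne_zero _ hp.out.ne_zero) Nat.card_pos.ne',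
        Nat.Prime.factorization_pow hp.out]
      have : (Nat.card L).factorization p = 0 := by
        apply Nat.factorization_eq_zero_of_not_dvd
        exact (Nat.Prime.coprime_iff_not_dvd hp.out).mp h.cop.symm
      simp [this]
    have hQ : Nat.card (Q : Subgroup ↥Y) = p ^ j := by
      rw [Q.card_eq_multiplicity, hfac]
    apply Subgroup.isComplement'_of_coprime
    · rw [hcL, hQ, hY, mul_comm]
    · rw [hcL, hQ]
      exact Nat.Coprime.pow_right _ h.cop

end Cfsg.Agent.Lib.Helper74
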