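import Cfsg.Agent.Lib.Helper74.BGFrobF3
import Cfsg.Agent.Lib.Helper74.BGFrobCore2

/-!
# LEMMA F for S1428 (BG 13.4), final form (keystone 142814 of helper31's pack)

F0-F2 + assembly: helper74 (`BGFrobF0`..`BGFrobF3`); F3-F5: helper22 (`Helper22.BGFrobCore`, used here
through the copy `BGFrobCore2` with a per-index coprimality hypothesis).
-/

set_option autoImplicit false

namespace Cfsg.Agent.Lib.Helper74.BGFrobF

open Subgroup

/-- `|Q ⊔ R|` is prime to `p` when `R` normalizes `Q` and `|Q|`, `|R|` are prime to `p`. -/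
theorem not_dvd_card_sup {G : Type*} [Group G] [Finite G] {p : ℕ} [Fact p.Prime] (Q R : Subgroup G)
    (hRQ : R ≤ normalizer (Q : Set G)) (hQp : ¬ p ∣ Nat.card Q) (hRp : ¬ p ∣ Nat.card R) :
    ¬ p ∣ Nat.card ↥(Q ⊔ R) := by
  classical
  have hp := (Fact.out : p.Prime)
  set K : Subgroup G := Q ⊔ R with hK
  have hQK : Q ≤ K := le_sup_left
  have hRK : R ≤ K := le_sup_right
  have hKN : K ≤ normalizer (Q : Set G) := sup_le Subgroup.le_normalizer hRQ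
  let Q' : Subgroup ↥K := Q.subgroupOf K
  haveI : Q'.Normal := by
    refine ⟨fun a ha k => ?_⟩
    rw [Subgroup.mem_subgroupOf] at ha ⊢
    have := (Subgroup.mem_normalizer_iff.mp (hKN k.2) (a : G)).mp ha
    simpa using this
  -- `R → K/Q'` is surjective
  let f : ↥R →* (↥K ⧸ Q') := (QuotientGroup.mk' Q').comp (Subgroup.inclusion hRK)
  have hf : Function.Surjective f := by
    intro x
    induction x using QuotientGroup.induction_on with | _ k => ?_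
    have hk : (k : G) ∈ ((Q ⊔ R : Subgroup G) : Set G) := k.2
    rw [Subgroup.coe_mul_of_right_le_normalizer_left Q R hRQ] at hk
    obtain ⟨q, hq, ρ, hρ, hqρ⟩ := hk
    refine ⟨⟨ρ, hρ⟩, ?_⟩
    show (QuotientGroup.mk' Q') _ = _
    rw [QuotientGroup.mk'_apply, QuotientGroup.eq, Subgroup.mem_subgroupOf]
    have : (((Subgroup.inclusion hRK ⟨ρ, hρ⟩)⁻¹ * k : ↥K) : G) = ρ⁻¹ * (q * ρ) := by
      simp [← hqρ]
    rw [this]
    have h1 : ρ⁻¹ * q * (ρ⁻¹)⁻¹ ∈ Q :=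
      (Subgroup.mem_normalizer_iff.mp ((normalizer (Q : Set G)).inv_mem (hRQ hρ)) q).mp hq
    simpa [mul_assoc] using h1
  have h1 : Nat.card (↥K ⧸ Q') ∣ Nat.card ↥R := Subgroup.card_dvd_of_surjective f hf
  have h2 : Nat.card ↥K = Nat.card (↥K ⧸ Q') * Nat.card ↥Q' :=
    Subgroup.card_eq_card_quotient_mul_card_subgroup Q'
  have h3 : Nat.card ↥Q' = Nat.card ↥Q :=
    Nat.card_congr (Subgroup.subgroupOfEquivOfLe hQK).toEquiv
  intro hdvd
  rw [h2, h3] at hdvd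
  rcases (Nat.Prime.dvd_mul hp).mp hdvd with h | h
  · exact hRp (h.trans h1)
  · exact hQp h

/-- **LEMMA F** (keystone 142814 K-S1428-F, helper31's exact signature). -/
theorem isCyclic_of_frobenius_family {G : Type*} [Group G] [Finite G]
    {p : ℕ} [Fact p.Prime] {ι : Type*} [Finite ι]
    (S P₀ : Subgroup G) (Q R : ι → Subgroup G) (hS : IsPGroup p S)
    (hQab : ∀ i, ∀ a ∈ Q i, ∀ b ∈ Q i, a * b = b * a)
    (hQp : ∀ i, ¬ p ∣ Nat.card (Q i))
    (hRc : ∀ i, (Nat.card (R i)).Prime ∧ Nat.card (R i) ≠ p)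
    (hRQ : ∀ i, R i ≤ Subgroup.normalizer (Q i : Set G))
    (hfix : ∀ i, Q i ⊓ Subgroup.centralizer (R i : Set G) = ⊥)
    (hQS : ∀ i, Q i ≤ Subgroup.normalizer (S : Set G))
    (hRS : ∀ i, R i ≤ Subgroup.normalizer (S : Set G))
    (hRQs : ∀ i, R i ≤ Subgroup.normalizer ((⨆ j, Q j : Subgroup G) : Set G))
    (hCR : ∀ i, IsCyclic ↥(S ⊓ Subgroup.centralizer (R i : Set G)))
    (hCQ : IsCyclic ↥(S ⊓ Subgroup.centralizer ((⨆ j, Q j : Subgroup G) : Set G)))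
    (hP₀1 : P₀ ≠ ⊥) (hP₀S : P₀ ≤ S) (hP₀Q : ∀ i, Q i ≤ Subgroup.centralizer (P₀ : Set G))
    (hP₀R : ∀ i, R i ≤ Subgroup.centralizer (P₀ : Set G)) : IsCyclic S := by
  have hp := (Fact.out : p.Prime)
  refine family_of_core S P₀ Q R hS hQp hRc hRQ hfix hQS hRS hRQs hCR hCQ hP₀1 hP₀S hP₀Q hP₀R ?_
  intro hΓS _hQp' _hRp' hfpf hF1 hYab hF2
  have hQRp : ∀ i, ¬ p ∣ Nat.card ↥(Q i ⊔ R i) := fun i =>
    not_dvd_card_sup (Q i) (R i) (hRQ i) (hQp i) (fun h =>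
      (hRc i).2 ((Nat.prime_dvd_prime_iff_eq hp (hRc i).1).mp h).symm)
  exact Cfsg.Agent.Lib.Helper74.BGFrobCore2.abelian_of_core S (⨆ i, (Q i ⊔ R i)) hS hΓS Q R hQRp
    hQab hRQ (fun i => (hRc i).1) hfpf rfl hCR hF1 hYab hF2

end Cfsg.Agent.Lib.Helper74.BGFrobF
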