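import Mathlib
import Cfsg.Agent.S1350
import Cfsg.Agent.S1420
import Cfsg.Agent.Lib.Helper15.BG142Defs
import Cfsg.Agent.Lib.Helper31.BG12a
import Cfsg.Agent.Lib.Helper13.BG12B
import Cfsg.Agent.Lib.Helper12.CNMaxSub
import Cfsg.Agent.Lib.Helper14.BG134G8
import Cfsg.Agent.Lib.Helper71.BG11a

/-!
# BG 14.2 (S1430 pack, architect helper15), keystone 143007 (K-TX-7): `TXc.not_tau2`
-/

set_option autoImplicit false
set_option linter.unusedSectionVars false
set_option linter.unusedVariables false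

namespace Cfsg.Agent.Lib.Helper74.BG142

open Cfsg Cfsg.Agent.Lib.Helper55 Cfsg.Agent.Lib.Helper31.BG134 Cfsg.Agent.Lib.Helper15.BG139
  Cfsg.Agent.Lib.Helper15.BG142

variable {G : Type*} [Group G] [Finite G]

/-- a subgroup of prime order is generated by any of its non-identity elements -/
theorem tx_zpowers_eq_of_prime_card {T : Subgroup G} {t : ℕ} (ht : t.Prime) (hTc : Nat.card T = t)
    {x : G} (hxT : x ∈ T) (hx1 : x ≠ 1) : Subgroup.zpowers x = T := by
  have hle : Subgroup.zpowers x ≤ T := by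
    rw [Subgroup.zpowers_le]; exact hxT
  have hord : orderOf x ∣ t := by
    rw [← hTc]
    have := Subgroup.orderOf_dvd_natCard T hxT
    exact this
  have hordt : orderOf x = t := by
    rcases (Nat.dvd_prime ht).mp hord with h | h
    · exact absurd (orderOf_eq_one_iff.mp h) hx1
    · exact h
  apply Subgroup.eq_of_le_of_card_ge hle
  rw [Nat.card_zpowers, hordt, hTc]

theorem tx_exists_ne_one {T : Subgroup G} {t : ℕ} (ht : t.Prime) (hTc : Nat.card T = t) :
    ∃ x ∈ T, x ≠ 1 := by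
  by_contra hcon
  push Not at hcon
  have hbot : T = ⊥ := by
    rw [Subgroup.eq_bot_iff_forall]
    exact hcon
  rw [hbot, Subgroup.card_bot] at hTc
  exact ht.one_lt.ne hTc

theorem TXc.not_tau2 {M P H EH A T L : Subgroup G} {p t : ℕ} (c : TXc M P H EH A T L p t)
    (hb : p ∈ sigma L ∧ EH ≤ L ∧ L ≠ H ∧ (∀ g : G, cj g M ≠ L) ∧ A ≤ sigmaCore L ∧ t ∈ sigma M ∧
      t ∉ sigma L ∧ p ∉ beta L) :
    t ∉ tau2 L := by
  intro ht2
  obtain ⟨hpL, hEHL, hLH, hncL, hAL, htM, htL, hpβ⟩ := hb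
  have hG := c.b.hG
  have hM := c.b.hM
  have hL := c.hL
  have ht := c.ht
  have hpprime : p.Prime := by
    rcases c.b.hp13 with h | h
    · exact h.1
    · exact h.1
  -- `T ≤ L`, `P ≤ σ-core of L`
  have hTEH : T ≤ EH := c.hTC.trans (le_sup_left.trans c.w.hCE)
  have hTL : T ≤ L := hTEH.trans hEHL
  have hPL : P ≤ sigmaCore L := c.w.hPA.trans hAL
  have hTcent : T ≤ Subgroup.centralizer (P : Set G) := c.hTC.trans inf_le_right
  have hTM : T ≤ M := (c.hTC.trans inf_le_left).trans (Cfsg.Agent.Lib.Helper71.BG11.sigmaCore_le M)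
  -- a generator of `T`
  obtain ⟨x, hxT, hx1⟩ := tx_exists_ne_one ht c.hTc
  have hzp : Subgroup.zpowers x = T := tx_zpowers_eq_of_prime_card ht c.hTc hxT hx1
  have hordx : orderOf x = t := by
    rw [← Nat.card_zpowers, hzp, c.hTc]
  -- a non-identity element of `P`
  obtain ⟨y, hyP, hy1⟩ := tx_exists_ne_one hpprime c.b.hPc
  have hxy : x * y = y * x := by
    have := (Subgroup.mem_centralizer_iff.mp (hTcent hxT)) y hyP
    exact this.symm
  have hxhat : x ∈ sigmaHat L := ⟨hTL hxT, y, hPL hyP, hy1, hxy⟩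
  -- a complement of the σ-core of `L`
  have hHallL := (Cfsg.Agent.S1350.result hG L hL).1
  obtain ⟨E, hE, -⟩ := Cfsg.Agent.Lib.Helper13.BG12.exists_complIn_ge hG hL hHallL
    (K := ⊥) bot_le (by
      intro q hq hqd
      rw [Subgroup.card_bot] at hqd
      exact absurd (Nat.dvd_one.mp hqd) hq.one_lt.ne')
  have h20 := (Cfsg.Agent.S1420.result hG L hL E hE).2.2.2 x (hTL hxT) hx1
    (by
      intro q hq hqd
      rw [hordx] at hqd
      rw [(Nat.prime_dvd_prime_iff_eq hq ht).mp hqd]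
      exact ht2) hxhat
  -- `N_G(T) ≤ L`
  have hT1 : T ≠ ⊥ := by
    intro h
    have hc := c.hTc
    rw [h, Subgroup.card_bot] at hc
    exact ht.one_lt.ne hc
  have hTtop : T ≠ ⊤ := by
    intro h
    rw [h] at hTL
    exact hL.1 (top_le_iff.mp hTL)
  obtain ⟨L', hL', hNL'⟩ := Cfsg.Agent.Lib.Helper12.CNMaxSub.exists_coatom_normalizer_le hG hT1 hTtop
  have hCx : Subgroup.centralizer ({x} : Set G) ≤ L' := by
    refine le_trans ?_ hNL'
    intro g hg
    rw [Subgroup.mem_centralizer_iff] at hg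
    have hgx : x * g = g * x := hg x (Set.mem_singleton x)
    rw [← hzp]
    rw [Subgroup.mem_normalizer_iff]
    intro h
    have hcomm : ∀ n : ℤ, g * x ^ n * g⁻¹ = x ^ n := by
      intro n
      have : Commute g (x ^ n) := (Commute.zpow_right (hgx.symm : Commute g x) n)
      rw [this.eq, mul_inv_cancel_right]
    constructor
    · rintro ⟨n, rfl⟩
      exact ⟨n, (hcomm n).symm⟩
    · rintro ⟨n, hn⟩
      refine ⟨n, ?_⟩
      have h1 : g * x ^ n * g⁻¹ = g * h * g⁻¹ := by rw [hcomm n]; exact hn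
      exact mul_left_cancel (mul_right_cancel h1)
  have hL'L : L' = L := h20.2 L' hL' hCx
  have hNT : Subgroup.normalizer (T : Set G) ≤ L := hL'L ▸ hNL'
  -- the (Q)-argument
  have hneLM : L ≠ M := by
    intro h
    apply hncL 1
    rw [cj_one]
    exact h.symm
  have : Fact t.Prime := ⟨ht⟩
  have hTpg : IsPGroup t T := by
    apply IsPGroup.of_card (n := 1)
    rw [pow_one]
    exact c.hTc
  have hQ := Cfsg.Agent.Lib.Helper14.BG134.tau2_and_compl hG hM hL hneLM htM htL hTpg hT1 hTM hNT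
  have hPbot : P ≤ sigmaCore L ⊓ M := le_inf hPL c.b.hPM
  rw [hQ.2.2] at hPbot
  have : y = 1 := by
    have := hPbot hyP
    rwa [Subgroup.mem_bot] at this
  exact hy1 this

end Cfsg.Agent.Lib.Helper74.BG142
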