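import Mathlib
import Cfsg.Agent.S1350
import Cfsg.Agent.S1409
import Cfsg.Agent.S1424
import Cfsg.Agent.Lib.Helper15.BG142Defs
import Cfsg.Agent.Lib.Helper31.BG12a
import Cfsg.Agent.Lib.Helper16.BG134Asm
import Cfsg.Agent.Lib.Helper55.SylowIn
import Cfsg.Agent.Lib.Helper71.BG11a

/-!
# BG 14.2 (S1430 pack, architect helper15), keystone 143008 (K-TX-8): `TXc.uniq`
-/

set_option autoImplicit false
set_option linter.unusedSectionVars false
set_option linter.unusedVariables false

namespace Cfsg.Agent.Lib.Helper74.BG142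

open Cfsg Cfsg.Agent.Lib.Helper55 Cfsg.Agent.Lib.Helper31.BG134 Cfsg.Agent.Lib.Helper15.BG139
  Cfsg.Agent.Lib.Helper15.BG142

variable {G : Type*} [Group G] [Finite G]

theorem TXc.uniq {M P H EH A T L : Subgroup G} {p t : ℕ} (c : TXc M P H EH A T L p t)
    (hSP : HSP G)
    (hb : p ∈ sigma L ∧ EH ≤ L ∧ L ≠ H ∧ (∀ g : G, cj g M ≠ L) ∧ A ≤ sigmaCore L ∧ t ∈ sigma M ∧
      t ∉ sigma L ∧ p ∉ beta L)
    (ht2 : t ∉ tau2 L) (htp : t ∣ p - 1)
    (hX : ∀ (H2 P' : Subgroup G) (p' : ℕ), Bad L T H2 t → P' ≤ CP L T → Nat.card P' = p' → p'.Prime →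
      p' ≠ t → p' ∣ t - 1) :
    ∀ H2 : Subgroup G, IsCoatom H2 → Subgroup.normalizer (T : Set G) ≤ H2 → H2 = M := by
  intro H2 hH2 hNT
  by_contra hne
  obtain ⟨hpL, hEHL, hLH, hncL, hAL, htM, htL, hpβ⟩ := hb
  have hG := c.b.hG
  have hM := c.b.hM
  have hL := c.hL
  have ht := c.ht
  have hpprime : p.Prime := by
    rcases c.b.hp13 with h | h
    · exact h.1
    · exact h.1
  have hTEH : T ≤ EH := c.hTC.trans (le_sup_left.trans c.w.hCE)
  have hTL : T ≤ L := hTEH.trans hEHL
  have hPL : P ≤ sigmaCore L := c.w.hPA.trans hAL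
  have hTcent : T ≤ Subgroup.centralizer (P : Set G) := c.hTC.trans inf_le_right
  have hTM : T ≤ M := (c.hTC.trans inf_le_left).trans (Cfsg.Agent.Lib.Helper71.BG11.sigmaCore_le M)
  have hT1 : T ≠ ⊥ := by
    intro h
    have hc := c.hTc
    rw [h, Subgroup.card_bot] at hc
    exact ht.one_lt.ne hc
  have hP1 : P ≠ ⊥ := by
    intro h
    have hc := c.b.hPc
    rw [h, Subgroup.card_bot] at hc
    exact hpprime.one_lt.ne hc
  have : Fact t.Prime := ⟨ht⟩
  have hTpg : IsPGroup t T := by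
    apply IsPGroup.of_card (n := 1)
    rw [pow_one]
    exact c.hTc
  have hTH2 : T ≤ H2 := Subgroup.le_normalizer.trans hNT
  by_cases htH2 : t ∈ sigma H2
  · -- `H2` is conjugate to `M` by the σ-partition, against S1424
    have hTMH : T ≤ M ⊓ H2 := le_inf hTM hTH2
    obtain ⟨S, hS, hTS⟩ := exists_isSylowIn_ge hTMH hTpg
    have h24 := Cfsg.Agent.S1424.result hG M hM t htM T hTpg hT1 hTM H2 hH2 hne hNT hS.toSylow
      (by rw [hS.map_toSylow]; exact hTS)
    have hnc : ∀ g : G, cj g M ≠ H2 := fun g h => h24.1 g h.symm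
    exact hSP M H2 hM hH2 hnc t htM htH2
  · -- `t ∈ τ₂(H2)`: the triple `(L, T, H2)` is BAD
    have h09 := Cfsg.Agent.S1409.result hG H2 hH2 t htH2 T c.hTc hNT
    have htτ2 : t ∈ tau2 H2 := ⟨ht, htH2, h09.1.1, h09.1.2⟩
    have htdL : t ∣ Nat.card L := by
      rw [← c.hTc]
      exact Subgroup.card_dvd_of_le hTL
    have hcases := Cfsg.Agent.Lib.Helper16.BG134.mem_tau_cases hG hL ht htdL htL
    have h13 : t ∈ tau1 L ∨ t ∈ tau3 L := by
      rcases hcases with h | h | h
      · exact Or.inl h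
      · exact absurd h ht2
      · exact Or.inr h
    have hPcent : P ≤ Subgroup.centralizer (T : Set G) := by
      intro y hy
      rw [Subgroup.mem_centralizer_iff]
      intro x hx
      have := (Subgroup.mem_centralizer_iff.mp (hTcent hx)) y hy
      exact this.symm
    have hPCP : P ≤ CP L T := le_inf hPL hPcent
    have hC1 : CP L T ≠ ⊥ := by
      intro h
      apply hP1
      rw [eq_bot_iff, ← h]
      exact hPCP
    have hbad : Bad L T H2 t :=
      { hG := hG, hM := hL, hPM := hTL, hPc := c.hTc, hp13 := h13, hC1 := hC1, hH := hH2,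
        hNH := hNT, hp2 := htτ2 }
    have hpt : p ≠ t := by
      intro h
      rw [h] at hpL
      exact htL hpL
    have hdvd := hX H2 P p hbad hPCP c.b.hPc hpprime hpt
    have h1 : t ≤ p - 1 := Nat.le_of_dvd (by have := hpprime.two_le; omega) htp
    have h2 : p ≤ t - 1 := Nat.le_of_dvd (by have := ht.two_le; omega) hdvd
    have := hpprime.two_le
    have := ht.two_le
    omega

end Cfsg.Agent.Lib.Helper74.BG142
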