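import Mathlib

/-!
# Conjugate rank two: class sizes `{1, m, m n}` with `(m, n) = 1` (S4284), common definitions
-/

set_option autoImplicit false

namespace Cfsg.Agent.Lib.Helper74.CR2

/-- The class sizes of `G` are exactly `1`, `m`, `m n` with `m, n > 1` coprime. -/
structure Hyp (G : Type*) [Group G] (m n : ℕ) : Prop where
  hm : 1 < m
  hn : 1 < n
  hcop : m.Coprime n
  h : Set.range (fun x : G => (Subgroup.centralizer ({x} : Set G)).index) = ({1, m, m * n} : Set ℕ)

/-- The conclusion of S4284. -/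
def Concl (G : Type*) [Group G] (m n : ℕ) : Prop :=
  m.Prime ∧ m ∣ n - 1 ∧
    (∃ M : Subgroup G, M.Normal ∧
      (M : Set G) = {x : G | (Subgroup.centralizer ({x} : Set G)).index = 1 ∨
        (Subgroup.centralizer ({x} : Set G)).index = m} ∧ M.index = m ∧ IsMulCommutative M) ∧
    (∃ N : Subgroup G, N.Normal ∧ (Nat.card N).Coprime m ∧ ∃ a : ℕ, N.index = m ^ a) ∧
    ∀ P : Sylow m G, Nat.card (commutator (P : Subgroup G)) = m

end Cfsg.Agent.Lib.Helper74.CR2
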