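import Cfsg.Agent.Lib.Helper06.Hall4.Defs

/-!
# K-H4 pack (S4221, architect helper6), keystone 422126 (LEAF IX)
-/

set_option autoImplicit false
open Equiv

namespace Cfsg.Agent.Lib.Helper74.Hall4
open Cfsg.Agent.Lib.Helper06.Hall4

variable {α : Type*} [Fintype α] [DecidableEq α]

theorem eq_top_of_card (G : Subgroup (Perm α))
    (h : Nat.card G = (Fintype.card α).factorial) : G = ⊤ := by
  apply (Subgroup.card_eq_iff_eq_top G).mp
  rw [h, Nat.card_eq_fintype_card, Fintype.card_perm]

theorem eq_alternatingGroup_of_two_mul_card (G : Subgroup (Perm α))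
    (h : 2 * Nat.card G = (Fintype.card α).factorial) : G = alternatingGroup α := by
  apply Equiv.Perm.eq_alternatingGroup_of_index_eq_two
  have h1 := Subgroup.index_mul_card G
  rw [Nat.card_eq_fintype_card (α := Perm α), Fintype.card_perm, ← h] at h1
  have hpos : 0 < Nat.card G := Nat.card_pos
  exact Nat.eq_of_mul_eq_mul_right hpos h1

end Cfsg.Agent.Lib.Helper74.Hall4
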