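import Mathlib

set_option autoImplicit false

/-!
# K-S3360-NUM (keystone 227627, for helper6's S3360): the Fermat-prime numerics

`numerics_fermat`: `p` odd prime, `j ≥ 2`, `2^j+1` prime and
`p^(2^j) - 1 ∣ (p-1) * 2^(2j) * |GL(2j,2)|` force `p = 3`, `j = 2`.
-/

namespace Cfsg.Agent.Lib.Helper74.NF2

/-- the number `2^(2j) * |GL(2j,2)|`. -/
def bigM (j : ℕ) : ℕ := 2 ^ (2 * j) * ∏ i ∈ Finset.range (2 * j), (2 ^ (2 * j) - 2 ^ i)

theorem bigM_pos (j : ℕ) : 0 < bigM j := by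
  unfold bigM
  apply Nat.mul_pos (by positivity)
  apply Finset.prod_pos
  intro i hi
  have : 2 ^ i < 2 ^ (2 * j) := Nat.pow_lt_pow_right (by norm_num) (Finset.mem_range.mp hi)
  omega

theorem bigM_le (j : ℕ) : bigM j ≤ 2 ^ (2 * j + 4 * j ^ 2) := by
  unfold bigM
  rw [pow_add]
  apply Nat.mul_le_mul_left
  calc ∏ i ∈ Finset.range (2 * j), (2 ^ (2 * j) - 2 ^ i)
      ≤ ∏ _i ∈ Finset.range (2 * j), 2 ^ (2 * j) :=
        Finset.prod_le_prod (fun i _ => Nat.zero_le _) (fun i _ => Nat.sub_le _ _)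
    _ = 2 ^ (4 * j ^ 2) := by
        rw [Finset.prod_const, Finset.card_range, ← pow_mul]
        congr 1
        ring

/-- `p^n - 1 ∣ (p-1) * M` forces `p^(n-1) ≤ M`. -/
theorem pow_pred_le_of_dvd (p n M : ℕ) (hp : 2 ≤ p) (hn : 1 ≤ n) (hM : 0 < M)
    (h : p ^ n - 1 ∣ (p - 1) * M) : p ^ (n - 1) ≤ M := by
  obtain ⟨S, hS⟩ : p - 1 ∣ p ^ n - 1 := by
    simpa only [one_pow] using Nat.sub_dvd_pow_sub_pow p 1 n
  rw [hS] at h
  have hS' : S ∣ M := Nat.dvd_of_mul_dvd_mul_left (by omega) h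
  have hSM : S ≤ M := Nat.le_of_dvd hM hS'
  have h1 : p ^ n = p * p ^ (n - 1) := by
    rw [← pow_succ']
    congr 1
    omega
  have h2 : 1 ≤ p ^ (n - 1) := Nat.one_le_pow _ _ (by omega)
  have key : (p - 1) * p ^ (n - 1) ≤ (p - 1) * S := by
    rw [← hS, h1]
    generalize p ^ (n - 1) = x at h2 ⊢
    obtain ⟨q, rfl⟩ : ∃ q, p = q + 1 := ⟨p - 1, by omega⟩
    simp only [Nat.add_sub_cancel]
    have : (q + 1) * x = q * x + x := by ring
    omega
  exact le_trans (Nat.le_of_mul_le_mul_left key (by omega)) hSM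

theorem two_pow_ge (j : ℕ) (hj : 9 ≤ j) : 4 * j ^ 2 + 2 * j + 2 ≤ 2 ^ j := by
  induction j, hj using Nat.le_induction with
  | base => norm_num
  | succ k hk ih =>
    have h9k : 9 * k ≤ k * k := Nat.mul_le_mul_right k hk
    have hsq : k ^ 2 = k * k := sq k
    have hsq1 : (k + 1) ^ 2 = k * k + 2 * k + 1 := by ring
    rw [pow_succ 2 k, hsq1]
    rw [hsq] at ih
    generalize k * k = q at *
    generalize 2 ^ k = t at *
    omega

set_option exponentiation.threshold 600 in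
/-- K-S3360-NUM. -/
theorem numerics_fermat (p j : ℕ) (hp : p.Prime) (hp2 : p ≠ 2) (hj : 2 ≤ j) (hl : (2 ^ j + 1).Prime)
    (h : p ^ (2 ^ j) - 1 ∣ (p - 1) * (2 ^ (2 * j) * ∏ i ∈ Finset.range (2 * j), (2 ^ (2 * j) - 2 ^ i))) :
    p = 3 ∧ j = 2 := by
  have hp3 : 3 ≤ p := by
    have := hp.two_le
    omega
  have hle : p ^ (2 ^ j - 1) ≤ bigM j :=
    pow_pred_le_of_dvd p (2 ^ j) (bigM j) hp.two_le (Nat.one_le_two_pow) (bigM_pos j) h
  have hle2 : p ^ (2 ^ j - 1) ≤ 2 ^ (2 * j + 4 * j ^ 2) := hle.trans (bigM_le j)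
  rcases (by omega : j = 2 ∨ j = 3 ∨ j = 4 ∨ j = 5 ∨ j = 6 ∨ j = 7 ∨ j = 8 ∨ 9 ≤ j) with
    rfl | rfl | rfl | rfl | rfl | rfl | rfl | h9
  · -- j = 2
    refine ⟨?_, rfl⟩
    have hM : bigM 2 = 322560 := by
      unfold bigM
      simp only [Finset.prod_range_succ, Finset.prod_range_zero]
      norm_num
    have hb : p ^ 3 ≤ 322560 := by
      have := hle
      rw [hM] at this
      simpa using this
    have hp68 : p ≤ 68 := by
      by_contra hcon
      push Not at hcon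
      have : 69 ^ 3 ≤ p ^ 3 := Nat.pow_le_pow_left hcon 3
      omega
    have h' : p ^ 4 - 1 ∣ (p - 1) * 322560 := by
      have := h
      change p ^ (2 ^ 2) - 1 ∣ (p - 1) * bigM 2 at this
      rw [hM] at this
      simpa using this
    clear h hle hle2 hb
    interval_cases p <;> first | rfl | (exfalso; revert h'; decide)
  · exfalso; revert hl; norm_num
  · -- j = 4
    exfalso
    have hM : bigM 4 = 1369104324918194995200 := by
      unfold bigM
      simp only [Finset.prod_range_succ, Finset.prod_range_zero]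
      norm_num
    have hb : p ^ 15 ≤ 1369104324918194995200 := by
      have := hle
      rw [hM] at this
      simpa using this
    have hp25 : p ≤ 25 := by
      by_contra hcon
      push Not at hcon
      have : 26 ^ 15 ≤ p ^ 15 := Nat.pow_le_pow_left hcon 15
      omega
    have h' : p ^ 16 - 1 ∣ (p - 1) * 1369104324918194995200 := by
      have := h
      change p ^ (2 ^ 4) - 1 ∣ (p - 1) * bigM 4 at this
      rw [hM] at this
      simpa using this
    clear h hle hle2 hb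
    interval_cases p <;> (revert h'; decide)
  · exfalso; revert hl; norm_num
  · exfalso; revert hl; norm_num
  · exfalso; revert hl; norm_num
  · -- j = 8
    exfalso
    have h1 : 3 ^ 255 ≤ p ^ (2 ^ 8 - 1) := by
      have : (2 : ℕ) ^ 8 - 1 = 255 := by norm_num
      rw [this]
      exact Nat.pow_le_pow_left hp3 255
    have h2 : (2 : ℕ) ^ (2 * 8 + 4 * 8 ^ 2) < 3 ^ 255 := by decide
    omega
  · -- j ≥ 9
    exfalso
    have h1 : 2 ^ (2 ^ j - 1) ≤ p ^ (2 ^ j - 1) := Nat.pow_le_pow_left hp.two_le _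
    have h2 := two_pow_ge j h9
    have h3 : (2 : ℕ) ^ (2 * j + 4 * j ^ 2) < 2 ^ (2 ^ j - 1) :=
      Nat.pow_lt_pow_right (by norm_num) (by omega)
    omega

end Cfsg.Agent.Lib.Helper74.NF2
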