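import Mathlib
import Cfsg.Agent.Lib.Helper06.PMinAlt.Defs

/-!
# K-PMinAlt-C2 (keystone 293006, helper74): the alternating group does not preserve a relation
that relates `x` to `y` but not to `z` (four distinct points `x y z w`)
-/

set_option autoImplicit false

namespace Cfsg.Agent.Lib.Helper74.PMinAlt

open Equiv Equiv.Perm
open Cfsg.Agent.Lib.Helper06.PMinAlt

variable {α : Type*} [Fintype α] [DecidableEq α]

/-- **K-PMinAlt-C2.** (The 3-cycle `(y z w)` fixes `x` and maps `y` to `z`.) -/
theorem not_alternatingGroup_le_relStab (r : α → α → Prop) (x y z w : α) (hxy : x ≠ y) (hxz : x ≠ z)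
    (hxw : x ≠ w) (hyz : y ≠ z) (hyw : y ≠ w) (hzw : z ≠ w) (rxy : r x y) (hz : ¬ r x z) :
    ¬ alternatingGroup α ≤ relStab r := by
  intro hle
  have h3 : (swap z y * swap z w).IsThreeCycle :=
    Equiv.Perm.isThreeCycle_swap_mul_swap_same hyz.symm hzw hyw
  have hmem : swap z y * swap z w ∈ relStab r := hle h3.mem_alternatingGroup
  have hgx : (swap z y * swap z w) x = x := by
    rw [Equiv.Perm.mul_apply, Equiv.swap_apply_of_ne_of_ne hxz hxw,
      Equiv.swap_apply_of_ne_of_ne hxz hxy]
  have hgy : (swap z y * swap z w) y = z := by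
    rw [Equiv.Perm.mul_apply, Equiv.swap_apply_of_ne_of_ne hyz hyw, Equiv.swap_apply_right]
  have h := (mem_relStab.mp hmem) x y
  rw [hgx, hgy] at h
  exact hz (h.mpr rxy)

end Cfsg.Agent.Lib.Helper74.PMinAlt
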