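import Mathlib
import Cfsg.Agent.Lib.Helper64.MarggrafC
import Cfsg.Agent.Lib.Helper17.MultTrans

/-! Keystone 292818 K-SylTwo-A8e (S2928 pack, architect helper6): in a 3-transitive, not
4-transitive group of degree 8 with a Jordan set `B` of size 4, an element fixing three points of
`Bᶜ` fixes the fourth. -/

set_option autoImplicit false

namespace Cfsg.Agent.Lib.Helper74.SylTwo

open MulAction SubMulAction
open scoped Pointwise
open Cfsg.Agent.Lib.Helper64.Marggraf (IsJ)

variable {M β : Type*} [Group M] [Finite M] [MulAction M β] [FaithfulSMul M β] [Fintype β]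
  [DecidableEq β]

theorem a8_fix_fourth (h8 : Fintype.card β = 8) (h3 : IsMultiplyPretransitive M β 3)
    (h4 : ¬ IsMultiplyPretransitive M β 4) (B : Set β) (hB : B.ncard = 4) (hJ : IsJ M B) :
    ∀ (m : M) (x y z w : β), x ∉ B → y ∉ B → z ∉ B → w ∉ B → x ≠ y → x ≠ z → y ≠ z →
      m • x = x → m • y = y → m • z = z → m • w = w := by
  intro m x y z w hx hy hz hw hxy hxz hyz mx my mz
  by_cases hwx : w = x
  · rw [hwx]; exact mx
  by_cases hwy : w = y
  · rw [hwy]; exact my
  by_cases hwz : w = z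
  · rw [hwz]; exact mz
  -- the complement of `B` is `{x, y, z, w}`
  have hBc : Bᶜ.ncard = 4 := by
    rw [Set.ncard_compl, hB, Nat.card_eq_fintype_card, h8]
  have hsub : ({x, y, z, w} : Set β) ⊆ Bᶜ := by
    intro p hp
    simp only [Set.mem_insert_iff, Set.mem_singleton_iff] at hp
    rcases hp with rfl | rfl | rfl | rfl <;> assumption
  have hcard4 : ({x, y, z, w} : Set β).ncard = 4 := by
    have h1 : ({z, w} : Set β).ncard = 2 := Set.ncard_pair (Ne.symm hwz)
    have h2 : ({y, z, w} : Set β).ncard = 3 := by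
      rw [Set.ncard_insert_of_notMem _ (Set.toFinite _), h1]
      simp only [Set.mem_insert_iff, Set.mem_singleton_iff, not_or]
      exact ⟨hyz, Ne.symm hwy⟩
    rw [Set.ncard_insert_of_notMem _ (Set.toFinite _), h2]
    simp only [Set.mem_insert_iff, Set.mem_singleton_iff, not_or]
    exact ⟨hxy, hxz, Ne.symm hwx⟩
  have hBceq : ({x, y, z, w} : Set β) = Bᶜ :=
    Set.eq_of_subset_of_ncard_le hsub (by rw [hBc, hcard4]) (Set.toFinite _)
  have hout : ∀ p : β, p ∉ B → p = x ∨ p = y ∨ p = z ∨ p = w := by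
    intro p hp
    have : p ∈ ({x, y, z, w} : Set β) := by rw [hBceq]; exact hp
    simpa using this
  -- the pointwise stabilizer of `S = {x, y}` acting on the other six points
  set S : Set β := {x, y} with hS
  have hScard : S.ncard = 2 := Set.ncard_pair hxy
  have hSB : ∀ s ∈ S, s ∉ B := by
    intro s hs
    simp only [hS, Set.mem_insert_iff, Set.mem_singleton_iff] at hs
    rcases hs with rfl | rfl <;> assumption
  have hzS : z ∉ S := by
    simp only [hS, Set.mem_insert_iff, Set.mem_singleton_iff, not_or]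
    exact ⟨fun h => hxz h.symm, fun h => hyz h.symm⟩
  have hwS : w ∉ S := by
    simp only [hS, Set.mem_insert_iff, Set.mem_singleton_iff, not_or]
    exact ⟨hwx, hwy⟩
  have hcardΩ : Nat.card ↥(ofFixingSubgroup M S) = 6 := by
    have := Cfsg.Agent.Lib.Helper64.Marggraf.card_ofFixingSubgroup (G := M) S
    rw [hScard, h8] at this
    omega
  have : Finite ↥(ofFixingSubgroup M S) := Nat.finite_of_card_ne_zero (by rw [hcardΩ]; norm_num)
  let z' : ↥(ofFixingSubgroup M S) := ⟨z, (mem_ofFixingSubgroup_iff M).mpr hzS⟩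
  let w' : ↥(ofFixingSubgroup M S) := ⟨w, (mem_ofFixingSubgroup_iff M).mpr hwS⟩
  have hm' : m ∈ fixingSubgroup M S := by
    rw [mem_fixingSubgroup_iff]
    intro s hs
    simp only [hS, Set.mem_insert_iff, Set.mem_singleton_iff] at hs
    rcases hs with rfl | rfl <;> assumption
  -- transitivity
  have htr : IsPretransitive ↥(fixingSubgroup M S) ↥(ofFixingSubgroup M S) := by
    rw [isPretransitive_iff]
    rintro ⟨a, ha⟩ ⟨b, hb⟩
    rw [mem_ofFixingSubgroup_iff] at ha hb
    obtain ⟨h, hfix, hab⟩ := Cfsg.Agent.Lib.Helper64.Marggraf.exists_fix_move_act h3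
      (by rw [h8]; norm_num) S (by rw [hScard]) a b ha hb
    refine ⟨⟨h, ?_⟩, Subtype.ext hab⟩
    rw [mem_fixingSubgroup_iff]
    exact hfix
  -- the Jordan set in the subaction
  set Δ : Set ↥(ofFixingSubgroup M S) := {p | (p : β) ∈ B} with hΔ
  have hJ' : IsJ ↥(fixingSubgroup M S) Δ :=
    Cfsg.Agent.Lib.Helper64.Marggraf.isJ_fixing B hJ S hSB
  have hΔcard : Δ.ncard = 4 := by
    rw [hΔ, Cfsg.Agent.Lib.Helper64.Marggraf.ncard_sub (G := M) B S hSB, hB]
  -- not primitive
  have hnp : ¬ IsPreprimitive ↥(fixingSubgroup M S) ↥(ofFixingSubgroup M S) := by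
    intro hp
    have h2 : IsMultiplyPretransitive ↥(fixingSubgroup M S) ↥(ofFixingSubgroup M S) 2 := by
      apply Cfsg.Agent.Lib.Helper64.Marggraf.jordan_two' hp Δ hJ' (n := 1)
      · rw [Set.ncard_compl, hΔcard, hcardΩ]
      · rw [hcardΩ]; norm_num
    have h2M : IsMultiplyPretransitive M β 2 :=
      isMultiplyPretransitive_of_le (n := 3) (by norm_num)
        (by rw [Nat.card_eq_fintype_card, h8]; norm_num)
    exact h4 (Cfsg.Agent.Lib.Helper17.isMultiplyPretransitive_add_of_fixingSubgroup 2 2 S hScard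
      h2M h2)
  -- a nontrivial block
  obtain ⟨Bk, hBk, hBknt⟩ : ∃ Bk : Set ↥(ofFixingSubgroup M S),
      IsBlock ↥(fixingSubgroup M S) Bk ∧ ¬ IsTrivialBlock Bk := by
    by_contra hcon
    have hall : ∀ C : Set ↥(ofFixingSubgroup M S), IsBlock ↥(fixingSubgroup M S) C →
        IsTrivialBlock C := by
      intro C hC
      by_contra hC'
      exact hcon ⟨C, hC, hC'⟩
    exact hnp { toIsPretransitive := htr, isTrivialBlock_of_isBlock := fun {C} hC => hall C hC }
  have hBkne : Bk.Nonempty := by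
    rcases Set.eq_empty_or_nonempty Bk with h | h
    · exfalso
      apply hBknt
      left
      rw [h]
      exact Set.subsingleton_empty
    · exact h
  obtain ⟨b0, hb0⟩ := hBkne
  obtain ⟨g0, hg0⟩ := htr.exists_smul_eq b0 z'
  set Δ0 : Set ↥(ofFixingSubgroup M S) := g0 • Bk with hΔ0def
  have hΔ0 : IsBlock ↥(fixingSubgroup M S) Δ0 := hBk.translate g0
  have hzΔ0 : z' ∈ Δ0 := ⟨b0, hb0, hg0⟩
  have hΔ0nt : ¬ IsTrivialBlock Δ0 := fun h => hBknt ((IsTrivialBlock.smul_iff g0).mp h)
  -- elements fixing `z'` stabilize `Δ0`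
  have hstab : ∀ g : ↥(fixingSubgroup M S), g • z' = z' → g • Δ0 = Δ0 := by
    intro g hg
    apply isBlock_iff_smul_eq_of_mem.mp hΔ0 hzΔ0
    rw [hg]
    exact hzΔ0
  have hz'Δ : z' ∉ Δ := by
    rw [hΔ]
    exact hz
  -- `Δ0` contains no point of `B`
  have hno : ∀ b ∈ Δ0, (b : β) ∉ B := by
    intro b hbΔ0 hbB
    have hsubΔ : Δ ⊆ Δ0 := by
      intro b' hb'
      obtain ⟨j, hj1, hj2⟩ := hJ' b hbB b' hb'
      have hjz : j • z' = z' := hj1 z' hz'Δ
      rw [← hstab j hjz, ← hj2]
      exact Set.smul_mem_smul_set hbΔ0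
    have hins : insert z' Δ ⊆ Δ0 := Set.insert_subset hzΔ0 hsubΔ
    have h5 : 5 ≤ Δ0.ncard := by
      calc 5 = (insert z' Δ).ncard := by
            rw [Set.ncard_insert_of_notMem hz'Δ (Set.toFinite _), hΔcard]
        _ ≤ Δ0.ncard := Set.ncard_le_ncard hins (Set.toFinite _)
    have huniv : Δ0 = Set.univ := hΔ0.eq_univ_of_card_lt (by rw [hcardΩ]; omega)
    exact hΔ0nt (Or.inr huniv)
  -- so `Δ0 ⊆ {z', w'}`
  have hzw : ∀ b ∈ Δ0, b = z' ∨ b = w' := by
    intro b hb
    have h1 := hno b hb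
    have h2 : (b : β) ∉ S := (mem_ofFixingSubgroup_iff M).mp b.2
    rcases hout _ h1 with h | h | h | h
    · exfalso; apply h2; rw [h]; simp [hS]
    · exfalso; apply h2; rw [h]; simp [hS]
    · left; exact Subtype.ext h
    · right; exact Subtype.ext h
  have hw'Δ0 : w' ∈ Δ0 := by
    by_contra hcon
    apply hΔ0nt
    left
    intro a ha b hb
    rcases hzw a ha with rfl | rfl
    · rcases hzw b hb with rfl | rfl
      · rfl
      · exact absurd hb hcon
    · exact absurd ha hcon
  -- conclude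
  have hmz' : (⟨m, hm'⟩ : ↥(fixingSubgroup M S)) • z' = z' := Subtype.ext mz
  have hmΔ0 := hstab ⟨m, hm'⟩ hmz'
  have hmw : (⟨m, hm'⟩ : ↥(fixingSubgroup M S)) • w' ∈ Δ0 := by
    rw [← hmΔ0]
    exact Set.smul_mem_smul_set hw'Δ0
  rcases hzw _ hmw with h | h
  · exfalso
    have h1 : m • w = z := congrArg Subtype.val h
    have h2 : m • w = m • z := by rw [h1, mz]
    exact hwz (MulAction.injective m h2)
  · exact congrArg Subtype.val h

end Cfsg.Agent.Lib.Helper74.SylTwo
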