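import Mathlib

/-! Keystone 292809 K-SylTwo-D2 (S2928 pack, architect helper6): pure arithmetic on `ν₂(n!)`. -/

set_option autoImplicit false

namespace Cfsg.Agent.Lib.Helper74.SylTwo

theorem pow_dvd_factorial_le (k N : ℕ) (h : 2 ^ k ∣ N.factorial) : k ≤ N.factorial.factorization 2 :=
  (Nat.Prime.pow_dvd_iff_le_factorization Nat.prime_two (Nat.factorial_ne_zero N)).mp h

theorem eight_mul_factorial_dvd (m : ℕ) : 8 * m.factorial ∣ (m + 4).factorial := by
  have h1 : m.factorial * (m + 1).ascFactorial 4 = (m + 4).factorial := Nat.factorial_mul_ascFactorial m 4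
  have h2 : (4 : ℕ).factorial ∣ (m + 1).ascFactorial 4 := Nat.factorial_dvd_ascFactorial (m + 1) 4
  have h3 : (8 : ℕ) ∣ (m + 1).ascFactorial 4 := by
    refine dvd_trans ?_ h2
    decide
  rw [← h1, mul_comm 8]
  exact Nat.mul_dvd_mul_left _ h3

theorem arith (n m c : ℕ) (hn : 8 ≤ n) (hm : m ≤ n) (hc : 2 * c = 2 ^ (n.factorial.factorization 2))
    (hdvd : c ∣ m.factorial) : 8 ≤ m ∧ n ≤ m + 3 ∧ 64 ∣ c := by
  set v := n.factorial.factorization 2 with hv
  -- 7 ≤ v
  have h8 : (8 : ℕ).factorial ∣ n.factorial := Nat.factorial_dvd_factorial hn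
  have h7 : 7 ≤ v := by
    apply pow_dvd_factorial_le
    refine dvd_trans ?_ h8
    decide
  -- c = 2^(v-1)
  obtain ⟨w, hw⟩ : ∃ w, v = w + 1 := ⟨v - 1, by omega⟩
  have hcw : c = 2 ^ w := by
    rw [hw, pow_succ] at hc
    omega
  have hw6 : 6 ≤ w := by omega
  have h64 : 64 ∣ c := by
    rw [hcw]
    exact pow_dvd_pow 2 hw6
  have hwm : w ≤ m.factorial.factorization 2 := by
    apply pow_dvd_factorial_le
    rw [← hcw]
    exact hdvd
  refine ⟨?_, ?_, h64⟩
  · by_contra hlt
    have hm7 : m ≤ 7 := by omega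
    have h1 : m.factorial ∣ (7 : ℕ).factorial := Nat.factorial_dvd_factorial hm7
    have h2 : 64 ∣ (7 : ℕ).factorial := dvd_trans (dvd_trans h64 hdvd) h1
    revert h2
    decide
  · by_contra hlt
    have hm4 : m + 4 ≤ n := by omega
    have h1 : (m + 4).factorial ∣ n.factorial := Nat.factorial_dvd_factorial hm4
    have h2 : 8 * m.factorial ∣ n.factorial := dvd_trans (eight_mul_factorial_dvd m) h1
    have h3 : 2 ^ (m.factorial.factorization 2 + 3) ∣ n.factorial := by
      refine dvd_trans ?_ h2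
      rw [pow_add, mul_comm]
      exact Nat.mul_dvd_mul (by norm_num) (Nat.ordProj_dvd _ 2)
    have h4 := pow_dvd_factorial_le _ _ h3
    omega

end Cfsg.Agent.Lib.Helper74.SylTwo
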