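import Mathlib

set_option autoImplicit false

/-!
Hughes-type norm argument: if `A` is an abelian normal subgroup, all elements outside `A` have
`p`-th power in a central subgroup `Z`, and the quotient by `A` contains two independent commuting
elements, then all `p`-th powers of elements of `A` lie in `Z`.
-/

namespace Cfsg.Agent.Lib.Helper74

theorem sum_pow_mul_eq_sum_pow {R : Type*} [Monoid R] [AddCommMonoid R] (p : ℕ) (hp : p.Prime) (t : R)
    (ht : t ^ p = 1) (k : ℕ) (hk1 : 1 ≤ k) (hkp : k < p) :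
    ∑ j ∈ Finset.range p, t ^ (j * k) = ∑ j ∈ Finset.range p, t ^ j := by
  have hpos : 0 < p := hp.pos
  have hcop : Nat.Coprime k p := by
    rw [Nat.coprime_comm]
    exact (Nat.Prime.coprime_iff_not_dvd hp).mpr (Nat.not_dvd_of_pos_of_lt hk1 hkp)
  have hpow : ∀ n : ℕ, t ^ n = t ^ (n % p) := by
    intro n
    conv_lhs => rw [← Nat.div_add_mod n p, pow_add, pow_mul, ht, one_pow, one_mul]
  have hinj : Set.InjOn (fun j => (j * k) % p) (Finset.range p : Set ℕ) := by
    intro j₁ h₁ j₂ h₂ h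
    simp only [Finset.coe_range, Set.mem_Iio] at h₁ h₂
    have h' : j₁ * k ≡ j₂ * k [MOD p] := h
    have := Nat.ModEq.cancel_right_of_coprime (Nat.coprime_comm.mp hcop) h'
    exact Nat.ModEq.eq_of_lt_of_lt this h₁ h₂
  have himg : Finset.image (fun j => (j * k) % p) (Finset.range p) = Finset.range p := by
    apply Finset.eq_of_subset_of_card_le
    · intro b hb
      rw [Finset.mem_image] at hb
      obtain ⟨j, _, rfl⟩ := hb
      exact Finset.mem_range.mpr (Nat.mod_lt _ hpos)
    · rw [Finset.card_image_of_injOn hinj]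
  calc ∑ j ∈ Finset.range p, t ^ (j * k) = ∑ j ∈ Finset.range p, t ^ ((j * k) % p) := by
        apply Finset.sum_congr rfl
        intro j _
        exact hpow _
    _ = ∑ b ∈ Finset.image (fun j => (j * k) % p) (Finset.range p), t ^ b := by
        rw [Finset.sum_image hinj]
    _ = ∑ j ∈ Finset.range p, t ^ j := by rw [himg]

theorem norm_ring_identity {R : Type*} [Ring R] (p : ℕ) (hp : p.Prime) (s t : R)
    (hst : Commute s t) (ht : t ^ p = 1) :
    ∑ j ∈ Finset.range p, ∑ k ∈ Finset.range p, (s * t ^ j) ^ k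
      = (p : R) + (∑ k ∈ Finset.Ico 1 p, s ^ k) * (∑ j ∈ Finset.range p, t ^ j) := by
  have h1 : ∀ j k : ℕ, (s * t ^ j) ^ k = s ^ k * t ^ (j * k) := by
    intro j k
    rw [(hst.pow_right j).mul_pow, ← pow_mul]
  simp_rw [h1]
  rw [Finset.sum_comm]
  simp_rw [← Finset.mul_sum]
  rw [Finset.range_eq_Ico, Finset.sum_eq_sum_Ico_succ_bot hp.pos]
  congr 1
  · simp
  · rw [Finset.sum_mul]
    apply Finset.sum_congr rfl
    intro k hk
    rw [Finset.mem_Ico] at hk
    rw [← Finset.range_eq_Ico, sum_pow_mul_eq_sum_pow p hp t ht k hk.1 hk.2]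

/-- evaluation of endomorphisms at a point, as an additive map -/
def endEval {M : Type*} [AddCommGroup M] (m : M) : AddMonoid.End M →+ M where
  toFun f := f m
  map_zero' := rfl
  map_add' _ _ := rfl

theorem endEval_apply {M : Type*} [AddCommGroup M] (m : M) (f : AddMonoid.End M) :
    endEval m f = f m := rfl

/-- Abstract norm argument. -/
theorem nsmul_mem_of_norms {M : Type*} [AddCommGroup M] (Z' : AddSubgroup M) (p : ℕ) (hp : p.Prime)
    (s t : AddMonoid.End M) (hst : Commute s t) (ht : t ^ p = 1)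
    (h1 : ∀ j : ℕ, ∀ m : M, (∑ k ∈ Finset.range p, (s * t ^ j) ^ k) m ∈ Z')
    (h2 : ∀ m : M, (∑ j ∈ Finset.range p, t ^ j) m ∈ Z')
    (h3 : ∀ z ∈ Z', s z ∈ Z') (m : M) : p • m ∈ Z' := by
  have key := norm_ring_identity p hp s t hst ht
  have key2 := congrArg (endEval m) key
  rw [map_sum, map_add] at key2
  have hL : ∑ j ∈ Finset.range p, endEval m (∑ k ∈ Finset.range p, (s * t ^ j) ^ k) ∈ Z' := by
    apply AddSubgroup.sum_mem
    intro j _
    exact h1 j m
  have h3' : ∀ k : ℕ, ∀ z ∈ Z', (s ^ k) z ∈ Z' := by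
    intro k
    induction k with
    | zero => intro z hz; simpa using hz
    | succ n ih =>
      intro z hz
      rw [pow_succ]
      exact ih _ (h3 z hz)
  have hR : endEval m ((∑ k ∈ Finset.Ico 1 p, s ^ k) * (∑ j ∈ Finset.range p, t ^ j)) ∈ Z' := by
    have e : endEval m ((∑ k ∈ Finset.Ico 1 p, s ^ k) * (∑ j ∈ Finset.range p, t ^ j))
        = endEval ((∑ j ∈ Finset.range p, t ^ j) m) (∑ k ∈ Finset.Ico 1 p, s ^ k) := rfl
    rw [e, map_sum]
    apply AddSubgroup.sum_mem
    intro k _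
    exact h3' k _ (h2 m)
  rw [key2] at hL
  have hp' : endEval m (p : AddMonoid.End M) = p • m := rfl
  rw [hp'] at hL
  exact (AddSubgroup.add_mem_cancel_right Z' hR).mp hL

theorem pow_prime_mem_of_outside_pow_mem {G : Type*} [Group G] (A : Subgroup G) [hAn : A.Normal]
    (hA : ∀ u ∈ A, ∀ v ∈ A, u * v = v * u) (Z : Subgroup G) (hZ : Z ≤ Subgroup.center G)
    (p : ℕ) (hp : p.Prime) (hout : ∀ g : G, g ∉ A → g ^ p ∈ Z)
    (d₁ d₂ : G) (hd₁ : d₁ ∉ A) (hd₂ : ∀ j : ℕ, d₂ * d₁ ^ j ∉ A)
    (hcomm : d₁⁻¹ * d₂⁻¹ * d₁ * d₂ ∈ A) (u : G) (hu : u ∈ A) : u ^ p ∈ Z := by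
  let _ : CommGroup ↥A :=
    { (inferInstance : Group ↥A) with mul_comm := fun a b => Subtype.ext (hA a a.2 b b.2) }
  let val : Additive ↥A → G := fun m => ((Additive.toMul m : ↥A) : G)
  have val_mem : ∀ m, val m ∈ A := fun m => (Additive.toMul m).2
  have val_inj : ∀ m₁ m₂, val m₁ = val m₂ → m₁ = m₂ := by
    intro m₁ m₂ h
    exact Additive.toMul.injective (Subtype.ext h)
  have val_add : ∀ m₁ m₂, val (m₁ + m₂) = val m₁ * val m₂ := fun _ _ => rfl
  have val_zero : val 0 = 1 := rfl
  have val_nsmul : ∀ (n : ℕ) m, val (n • m) = val m ^ n := by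
    intro n m
    induction n with
    | zero => simp [val_zero]
    | succ k ih => rw [succ_nsmul, val_add, ih, pow_succ]
  -- the conjugation endomorphisms
  let φfun : G → AddMonoid.End (Additive ↥A) := fun g =>
    { toFun := fun m => Additive.ofMul (⟨g * val m * g⁻¹, hAn.conj_mem _ (val_mem m) g⟩ : ↥A)
      map_zero' := by
        apply val_inj
        show g * 1 * g⁻¹ = 1
        group
      map_add' := by
        intro m₁ m₂
        apply val_inj
        show g * (val m₁ * val m₂) * g⁻¹ = (g * val m₁ * g⁻¹) * (g * val m₂ * g⁻¹)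
        group }
  have val_φ : ∀ g m, val (φfun g m) = g * val m * g⁻¹ := fun _ _ => rfl
  let φ : G →* AddMonoid.End (Additive ↥A) :=
    { toFun := φfun
      map_one' := by
        apply AddMonoidHom.ext
        intro m
        apply val_inj
        show (1 : G) * val m * 1⁻¹ = val m
        group
      map_mul' := by
        intro g h
        apply AddMonoidHom.ext
        intro m
        apply val_inj
        show (g * h) * val m * (g * h)⁻¹ = g * (h * val m * h⁻¹) * g⁻¹
        group }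
  have val_φ' : ∀ g m, val (φ g m) = g * val m * g⁻¹ := fun _ _ => rfl
  have φ_of_mem : ∀ c ∈ A, φ c = 1 := by
    intro c hc
    apply AddMonoidHom.ext
    intro m
    apply val_inj
    show c * val m * c⁻¹ = val m
    rw [hA c hc (val m) (val_mem m)]
    group
  have φ_of_central : ∀ c ∈ Z, φ c = 1 := by
    intro c hc
    apply AddMonoidHom.ext
    intro m
    apply val_inj
    show c * val m * c⁻¹ = val m
    have := (Subgroup.mem_center_iff.mp (hZ hc)) (val m)
    rw [← this]
    group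
  let Z' : AddSubgroup (Additive ↥A) :=
    { carrier := {m | val m ∈ Z}
      zero_mem' := Z.one_mem
      add_mem' := fun h₁ h₂ => Z.mul_mem h₁ h₂
      neg_mem' := fun h => Z.inv_mem h }
  have mem_Z' : ∀ m, m ∈ Z' ↔ val m ∈ Z := fun _ => Iff.rfl
  have powf : ∀ g m (n : ℕ),
      (val m * g) ^ n = val ((∑ k ∈ Finset.range n, φ g ^ k) m) * g ^ n := by
    intro g m n
    induction n with
    | zero =>
      rw [Finset.sum_range_zero]
      show (val m * g) ^ 0 = val 0 * g ^ 0
      simp [val_zero]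
    | succ n ih =>
      rw [pow_succ, ih, Finset.sum_range_succ]
      have e : val ((∑ k ∈ Finset.range n, φ g ^ k + φ g ^ n) m) =
          val ((∑ k ∈ Finset.range n, φ g ^ k) m) * (g ^ n * val m * (g ^ n)⁻¹) := by
        rw [← map_pow]
        rfl
      rw [e, pow_succ]
      group
  have norm_mem : ∀ g, g ∉ A → ∀ m, (∑ k ∈ Finset.range p, φ g ^ k) m ∈ Z' := by
    intro g hg m
    rw [mem_Z']
    have h1 : (val m * g) ^ p ∈ Z := by
      apply hout
      intro h
      apply hg
      have := A.mul_mem (A.inv_mem (val_mem m)) h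
      simpa using this
    have h2 : g ^ p ∈ Z := hout g hg
    have e := powf g m p
    have e2 : val ((∑ k ∈ Finset.range p, φ g ^ k) m) = (val m * g) ^ p * (g ^ p)⁻¹ := by
      rw [e]; group
    rw [e2]
    exact Z.mul_mem h1 (Z.inv_mem h2)
  have hcommute : Commute (φ d₂) (φ d₁) := by
    show φ d₂ * φ d₁ = φ d₁ * φ d₂
    have hc : d₂⁻¹ * d₁⁻¹ * d₂ * d₁ ∈ A := by
      have := A.inv_mem hcomm
      have e : (d₁⁻¹ * d₂⁻¹ * d₁ * d₂)⁻¹ = d₂⁻¹ * d₁⁻¹ * d₂ * d₁ := by group
      rwa [e] at this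
    have e : d₂ * d₁ = d₁ * d₂ * (d₂⁻¹ * d₁⁻¹ * d₂ * d₁) := by group
    rw [← map_mul, e, map_mul, φ_of_mem _ hc, mul_one, map_mul]
  have htp : φ d₁ ^ p = 1 := by
    rw [← map_pow]
    exact φ_of_central _ (hout d₁ hd₁)
  have key := nsmul_mem_of_norms Z' p hp (φ d₂) (φ d₁) hcommute htp
    (by
      intro j m
      have e : φ d₂ * φ d₁ ^ j = φ (d₂ * d₁ ^ j) := by rw [map_mul, map_pow]
      rw [e]
      exact norm_mem _ (hd₂ j) m)
    (norm_mem d₁ hd₁)
    (by
      intro z hz
      rw [mem_Z'] at hz ⊢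
      rw [val_φ']
      have := (Subgroup.mem_center_iff.mp (hZ hz)) d₂
      have e : d₂ * val z * d₂⁻¹ = val z := by rw [this]; group
      rw [e]
      exact hz)
    (Additive.ofMul (⟨u, hu⟩ : ↥A))
  rw [mem_Z', val_nsmul] at key
  exact key

end Cfsg.Agent.Lib.Helper74
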