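import Mathlib

set_option autoImplicit false

namespace Cfsg.Agent.Lib.Helper74

open MulAction in
/-- The index of the centralizer of `x` is the number of conjugates of `x`. -/
theorem index_centralizer_eq_card_conj {G : Type*} [Group G] (x : G) :
    (Subgroup.centralizer ({x} : Set G)).index = Nat.card {y : G // IsConj x y} := by
  have h1 : (Subgroup.centralizer ({x} : Set G)).index = (stabilizer (ConjAct G) x).index := by
    rw [Subgroup.centralizer_eq_comap_stabilizer]
    exact Subgroup.index_comap_of_surjective _ (ConjAct.toConjAct (G := G)).surjective
  rw [h1, MulAction.index_stabilizer, ← Nat.card_coe_set_eq]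
  apply Nat.card_congr
  refine Equiv.subtypeEquivRight (fun y => ?_)
  rw [ConjAct.mem_orbit_conjAct, isConj_comm]

end Cfsg.Agent.Lib.Helper74
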