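import Mathlib
import Cfsg.Agent.Lib.Helper74.ConjClass

set_option autoImplicit false

/-!
# Groups with the same multiset of class sizes

Tools for the Cossey--Hawkes--Mann criterion: a bijection preserving class sizes,
the set of elements of `p'`-class size, its count modulo `p` and its size.
-/

namespace Cfsg.Agent.Lib.Helper74

section Transfer

variable {G H : Type*} [Group G] [Group H]

/-- The class size of `x` is the cardinality of the carrier of its conjugacy class. -/
theorem cm_idx_eq_card_carrier (x : G) :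
    (Subgroup.centralizer ({x} : Set G)).index = Nat.card (ConjClasses.mk x).carrier := by
  rw [index_centralizer_eq_card_conj]
  refine Nat.card_congr (Equiv.subtypeEquivRight fun y => ?_)
  rw [ConjClasses.mem_carrier_iff_mk_eq, ConjClasses.mk_eq_mk_iff_isConj, isConj_comm]

/-- The fibre of `ConjClasses.mk` over `C` has the cardinality of `C.carrier`. -/
theorem cm_card_fiber (C : ConjClasses G) :
    Nat.card {x : G // ConjClasses.mk x = C} = Nat.card C.carrier := by
  refine Nat.card_congr (Equiv.subtypeEquivRight fun y => ?_)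
  rw [ConjClasses.mem_carrier_iff_mk_eq]

/-- If two finite groups have the same number of classes of each size, there is a bijection
between them preserving class sizes. -/
theorem cm_exists_equiv [Finite G] [Finite H]
    (h : ∀ k : ℕ, Nat.card {C : ConjClasses G // Nat.card C.carrier = k} =
      Nat.card {C : ConjClasses H // Nat.card C.carrier = k}) :
    ∃ e : G ≃ H, ∀ x : G, (Subgroup.centralizer ({e x} : Set H)).index =
      (Subgroup.centralizer ({x} : Set G)).index := by
  classical
  have hk : ∀ k : ℕ, Nonempty ({C : ConjClasses G // Nat.card C.carrier = k} ≃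
      {C : ConjClasses H // Nat.card C.carrier = k}) := fun k => Finite.card_eq.1 (h k)
  let ek := fun k => Classical.choice (hk k)
  let fG : ConjClasses G → ℕ := fun C => Nat.card C.carrier
  let fH : ConjClasses H → ℕ := fun C => Nat.card C.carrier
  let e₁ : ConjClasses G ≃ ConjClasses H :=
    (Equiv.sigmaFiberEquiv fG).symm.trans
      ((Equiv.sigmaCongrRight ek).trans (Equiv.sigmaFiberEquiv fH))
  have he₁ : ∀ C, Nat.card (e₁ C).carrier = Nat.card C.carrier := by
    intro C
    exact (ek (fG C) ⟨C, rfl⟩).2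
  have hfib : ∀ C : ConjClasses G, Nonempty ({x : G // ConjClasses.mk x = C} ≃
      {y : H // ConjClasses.mk y = e₁ C}) := by
    intro C
    apply Finite.card_eq.1
    rw [cm_card_fiber, cm_card_fiber, he₁]
  let e₂ := fun C => Classical.choice (hfib C)
  let e : G ≃ H := (Equiv.sigmaFiberEquiv (ConjClasses.mk : G → ConjClasses G)).symm.trans
    ((Equiv.sigmaCongr e₁ e₂).trans (Equiv.sigmaFiberEquiv (ConjClasses.mk : H → ConjClasses H)))
  refine ⟨e, fun x => ?_⟩
  have hmk : ConjClasses.mk (e x) = e₁ (ConjClasses.mk x) :=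
    (e₂ (ConjClasses.mk x) ⟨x, rfl⟩).2
  rw [cm_idx_eq_card_carrier, cm_idx_eq_card_carrier, hmk, he₁]

end Transfer

section General

variable {X : Type*} [Group X]

/-- class size one iff central. -/
theorem cm_idx_eq_one_iff (x : X) :
    (Subgroup.centralizer ({x} : Set X)).index = 1 ↔ x ∈ Subgroup.center X := by
  rw [Subgroup.index_eq_one, Subgroup.centralizer_eq_top_iff_subset, Set.singleton_subset_iff]
  rfl

/-- class size is invariant under multiplication by a central element. -/
theorem cm_centralizer_mul_central (x : X) {z : X} (hz : z ∈ Subgroup.center X) :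
    Subgroup.centralizer ({x * z} : Set X) = Subgroup.centralizer ({x} : Set X) := by
  ext d
  rw [Subgroup.mem_centralizer_singleton_iff, Subgroup.mem_centralizer_singleton_iff]
  have hzd : d * z = z * d := (Subgroup.mem_center_iff.1 hz) d
  constructor
  · intro h
    have h1 : d * x * z = x * d * z := by
      calc d * x * z = d * (x * z) := by rw [mul_assoc]
        _ = x * z * d := h
        _ = x * (z * d) := by rw [mul_assoc]
        _ = x * (d * z) := by rw [hzd]
        _ = x * d * z := by rw [mul_assoc]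
    exact mul_right_cancel h1
  · intro h
    calc d * (x * z) = d * x * z := by rw [mul_assoc]
      _ = x * d * z := by rw [h]
      _ = x * (d * z) := by rw [mul_assoc]
      _ = x * (z * d) := by rw [hzd]
      _ = x * z * d := by rw [mul_assoc]

/-- class size is invariant under conjugation. -/
theorem cm_idx_conj (g x : X) :
    (Subgroup.centralizer ({g * x * g⁻¹} : Set X)).index =
      (Subgroup.centralizer ({x} : Set X)).index := by
  rw [index_centralizer_eq_card_conj, index_centralizer_eq_card_conj]
  refine Nat.card_congr (Equiv.subtypeEquivRight fun y => ?_)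
  have hc : IsConj x (g * x * g⁻¹) := isConj_iff.2 ⟨g, rfl⟩
  exact ⟨fun h => hc.trans h, fun h => hc.symm.trans h⟩

/-- If `P` normalizes `D` then `[P : P ∩ D]` divides `[X : D]`. -/
theorem cm_relIndex_dvd_index_of_le_normalizer (D P : Subgroup X)
    (h : P ≤ Subgroup.normalizer (D : Set X)) : D.relIndex P ∣ D.index := by
  have h1 : (D.subgroupOf (Subgroup.normalizer (D : Set X))).relIndex
      (P.subgroupOf (Subgroup.normalizer (D : Set X))) ∣
      (D.subgroupOf (Subgroup.normalizer (D : Set X))).index :=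
    Subgroup.relIndex_dvd_index_of_normal _ _
  rw [Subgroup.relIndex_subgroupOf h] at h1
  exact h1.trans (Subgroup.relIndex_dvd_index_of_le Subgroup.le_normalizer)

end General

section SylowPart

variable {X : Type*} [Group X] [Finite X] {p : ℕ} [Fact p.Prime]

/-- `p` does not divide the class size of `x` iff `x` centralizes a conjugate of `P`. -/
theorem cm_not_dvd_idx_iff (P : Sylow p X) (x : X) :
    ¬ p ∣ (Subgroup.centralizer ({x} : Set X)).index ↔
      ∃ g : X, ∀ u ∈ (P : Subgroup X), (g * u * g⁻¹) * x = x * (g * u * g⁻¹) := by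
  constructor
  · intro hx
    have hcard : ¬ p ∣ Nat.card (X ⧸ Subgroup.centralizer ({x} : Set X)) := by
      rwa [← Subgroup.index_eq_card]
    obtain ⟨q, hq⟩ := P.2.nonempty_fixed_point_of_prime_not_dvd_card
      (X ⧸ Subgroup.centralizer ({x} : Set X)) hcard
    obtain ⟨g, rfl⟩ := QuotientGroup.mk_surjective q
    refine ⟨g⁻¹, fun u hu => ?_⟩
    have h1 : (⟨u, hu⟩ : (P : Subgroup X)) • (QuotientGroup.mk g : X ⧸ Subgroup.centralizer ({x} : Set X))
        = QuotientGroup.mk g := hq ⟨u, hu⟩
    have h2 : (QuotientGroup.mk (u * g) : X ⧸ Subgroup.centralizer ({x} : Set X))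
        = QuotientGroup.mk g := h1
    rw [QuotientGroup.eq] at h2
    have h3 : g⁻¹ * u⁻¹ * g ∈ Subgroup.centralizer ({x} : Set X) := by
      have : (u * g)⁻¹ * g = g⁻¹ * u⁻¹ * g := by group
      rwa [this] at h2
    have h4 := Subgroup.inv_mem _ h3
    have h5 : (g⁻¹ * u⁻¹ * g)⁻¹ = g⁻¹ * u * g⁻¹⁻¹ := by group
    rw [h5] at h4
    exact Subgroup.mem_centralizer_singleton_iff.1 h4
  · rintro ⟨g, hg⟩
    have hle : (P : Subgroup X) ≤ Subgroup.centralizer ({g⁻¹ * x * g⁻¹⁻¹} : Set X) := by
      intro u hu
      rw [Subgroup.mem_centralizer_singleton_iff]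
      have h1 := hg u hu
      have h2 : u * (g⁻¹ * x * g⁻¹⁻¹) = g⁻¹ * ((g * u * g⁻¹) * x) * g := by group
      have h3 : (g⁻¹ * x * g⁻¹⁻¹) * u = g⁻¹ * (x * (g * u * g⁻¹)) * g := by group
      rw [h2, h3, h1]
    have hd := Subgroup.index_dvd_of_le hle
    rw [cm_idx_conj] at hd
    intro hp
    exact P.not_dvd_index (hp.trans hd)

/-- An element of `p'`-class size which commutes with `P` modulo the centre centralizes `P`. -/
theorem cm_mem_centralizer_of_comm_mod_center (P : Sylow p X) (x : X)
    (hx : ¬ p ∣ (Subgroup.centralizer ({x} : Set X)).index)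
    (h : ∀ g ∈ (P : Subgroup X), x⁻¹ * (g * x * g⁻¹) ∈ Subgroup.center X) :
    x ∈ Subgroup.centralizer ((P : Subgroup X) : Set X) := by
  set D := Subgroup.centralizer ({x} : Set X) with hD
  have hnorm : (P : Subgroup X) ≤ Subgroup.normalizer (D : Set X) := by
    rw [Subgroup.le_normalizer_iff]
    intro g hg d hd
    have hz := h g hg
    have hdx : Commute d x := by
      rw [hD, Subgroup.mem_centralizer_singleton_iff] at hd
      exact hd
    have h1 : Commute (g * d * g⁻¹) (g * x * g⁻¹) := (Commute.conj_iff g).2 hdx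
    have h2 : Commute (g * d * g⁻¹) (x⁻¹ * (g * x * g⁻¹))⁻¹ :=
      (Subgroup.mem_center_iff.1 (Subgroup.inv_mem _ hz)) (g * d * g⁻¹)
    have h3 : Commute (g * d * g⁻¹) ((g * x * g⁻¹) * (x⁻¹ * (g * x * g⁻¹))⁻¹) := h1.mul_right h2
    have h4 : (g * x * g⁻¹) * (x⁻¹ * (g * x * g⁻¹))⁻¹ = x := by group
    rw [h4] at h3
    rw [hD, Subgroup.mem_centralizer_singleton_iff]
    exact h3
  have h1 : D.relIndex (P : Subgroup X) ∣ D.index :=
    cm_relIndex_dvd_index_of_le_normalizer D P hnorm
  have h2 : D.relIndex (P : Subgroup X) ∣ Nat.card (P : Subgroup X) :=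
    Subgroup.index_dvd_card _
  obtain ⟨n, hn⟩ := P.2.exists_card_eq
  rw [hn] at h2
  obtain ⟨j, _, hj⟩ := (Nat.dvd_prime_pow (Fact.out : p.Prime)).1 h2
  have hj0 : j = 0 := by
    by_contra hj0
    apply hx
    have : p ∣ D.relIndex (P : Subgroup X) := by
      rw [hj]; exact dvd_pow_self p hj0
    exact this.trans h1
  rw [hj0, pow_zero, Subgroup.relIndex_eq_one] at hj
  rw [Subgroup.mem_centralizer_iff]
  intro u hu
  have := hj hu
  rw [hD, Subgroup.mem_centralizer_singleton_iff] at this
  exact this

/-- The elements of `p'`-class size are covered by the conjugates of `C_X(P)`; counting form. -/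
theorem cm_card_T_le (P : Sylow p X) :
    Nat.card {x : X // ¬ p ∣ (Subgroup.centralizer ({x} : Set X)).index} ≤
      (Subgroup.normalizer ((P : Subgroup X) : Set X)).index *
        Nat.card (Subgroup.centralizer ((P : Subgroup X) : Set X)) ∧
    ((Subgroup.normalizer ((P : Subgroup X) : Set X)).index ≠ 1 →
      Nat.card {x : X // ¬ p ∣ (Subgroup.centralizer ({x} : Set X)).index} <
      (Subgroup.normalizer ((P : Subgroup X) : Set X)).index *
        Nat.card (Subgroup.centralizer ((P : Subgroup X) : Set X))) := by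
  classical
  set N := Subgroup.normalizer ((P : Subgroup X) : Set X) with hN
  set C := Subgroup.centralizer ((P : Subgroup X) : Set X) with hC
  have hmem : ∀ (g : X) (c : X), c ∈ C →
      ¬ p ∣ (Subgroup.centralizer ({g * c * g⁻¹} : Set X)).index := by
    intro g c hc
    rw [cm_not_dvd_idx_iff P]
    refine ⟨g, fun u hu => ?_⟩
    have h1 : u * c = c * u := (Subgroup.mem_centralizer_iff.1 hc) u hu
    calc g * u * g⁻¹ * (g * c * g⁻¹) = g * (u * c) * g⁻¹ := by group
      _ = g * (c * u) * g⁻¹ := by rw [h1]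
      _ = g * c * g⁻¹ * (g * u * g⁻¹) := by group
  let φ : (X ⧸ N) × C → {x : X // ¬ p ∣ (Subgroup.centralizer ({x} : Set X)).index} :=
    fun qc => ⟨qc.1.out * (qc.2 : X) * qc.1.out⁻¹, hmem _ _ qc.2.2⟩
  have hsurj : Function.Surjective φ := by
    rintro ⟨x, hx⟩
    obtain ⟨g, hg⟩ := (cm_not_dvd_idx_iff P x).1 hx
    obtain ⟨n, hn⟩ := QuotientGroup.mk_out_eq_mul N g
    have hc : ((QuotientGroup.mk g : X ⧸ N).out)⁻¹ * x * (QuotientGroup.mk g : X ⧸ N).out ∈ C := by
      rw [hC, Subgroup.mem_centralizer_iff]
      intro u hu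
      have hnu : (n : X) * u * (n : X)⁻¹ ∈ (P : Subgroup X) :=
        (Subgroup.mem_normalizer_iff.1 n.2 u).1 hu
      have h1 := hg _ hnu
      rw [hn]
      have e1 : u * ((g * (n : X))⁻¹ * x * (g * (n : X))) =
          (g * (n : X))⁻¹ * ((g * ((n : X) * u * (n : X)⁻¹) * g⁻¹) * x) * (g * (n : X)) := by group
      have e2 : (g * (n : X))⁻¹ * x * (g * (n : X)) * u =
          (g * (n : X))⁻¹ * (x * (g * ((n : X) * u * (n : X)⁻¹) * g⁻¹)) * (g * (n : X)) := by group
      rw [e1, e2, h1]
    refine ⟨(QuotientGroup.mk g, ⟨_, hc⟩), ?_⟩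
    apply Subtype.ext
    show (QuotientGroup.mk g : X ⧸ N).out *
      (((QuotientGroup.mk g : X ⧸ N).out)⁻¹ * x * (QuotientGroup.mk g : X ⧸ N).out) *
      ((QuotientGroup.mk g : X ⧸ N).out)⁻¹ = x
    group
  have hcard : Nat.card ((X ⧸ N) × C) = N.index * Nat.card C := by
    rw [Nat.card_prod, Subgroup.index_eq_card]
  constructor
  · rw [← hcard]; exact Nat.card_le_card_of_surjective φ hsurj
  · intro hne
    rw [← hcard]
    have h2 : 1 < Nat.card (X ⧸ N) := by
      rw [← Subgroup.index_eq_card]
      have : N.index ≠ 0 := Subgroup.index_ne_zero_of_finite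
      omega
    have hnt : Nontrivial (X ⧸ N) := Finite.one_lt_card_iff_nontrivial.1 h2
    obtain ⟨q₁, q₂, hq⟩ := exists_pair_ne (X ⧸ N)
    have hninj : ¬ Function.Injective φ := by
      intro hinj
      apply hq
      have h3 : φ (q₁, 1) = φ (q₂, 1) := by
        apply Subtype.ext
        show q₁.out * ((1 : C) : X) * q₁.out⁻¹ = q₂.out * ((1 : C) : X) * q₂.out⁻¹
        simp
      exact (Prod.ext_iff.1 (hinj h3)).1
    let _ : Fintype ((X ⧸ N) × C) := Fintype.ofFinite _
    let _ : Fintype {x : X // ¬ p ∣ (Subgroup.centralizer ({x} : Set X)).index} :=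
      Fintype.ofFinite _
    rw [Nat.card_eq_fintype_card, Nat.card_eq_fintype_card]
    exact Fintype.card_lt_of_surjective_not_injective φ hsurj hninj

omit [Finite X] in
/-- class size is constant on cosets of the centre (formulated with `Quotient.out`). -/
theorem cm_idx_out (x : X) :
    (Subgroup.centralizer
      ({((QuotientGroup.mk x : X ⧸ Subgroup.center X)).out} : Set X)).index =
      (Subgroup.centralizer ({x} : Set X)).index := by
  obtain ⟨z, hz⟩ := QuotientGroup.mk_out_eq_mul (Subgroup.center X) x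
  rw [hz, cm_centralizer_mul_central x z.2]

/-- The number of elements of `p'`-class size and the order of `C_X(P)`, both divided by the
order of the centre, are congruent modulo `p`. -/
theorem cm_card_T_modEq (P : Sylow p X) : ∃ a b : ℕ,
    Nat.card {x : X // ¬ p ∣ (Subgroup.centralizer ({x} : Set X)).index} =
      a * Nat.card (Subgroup.center X) ∧
    Nat.card (Subgroup.centralizer ((P : Subgroup X) : Set X)) =
      b * Nat.card (Subgroup.center X) ∧
    a ≡ b [MOD p] := by
  classical
  set Z := Subgroup.center X with hZ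
  set C := Subgroup.centralizer ((P : Subgroup X) : Set X) with hC
  let B : X ⧸ Z → Prop := fun q => ¬ p ∣ (Subgroup.centralizer ({q.out} : Set X)).index
  let Tb : Set (X ⧸ Z) := {q | B q}
  let Cb : Set (X ⧸ Z) := {q | q.out ∈ C}
  have hT : Nat.card {x : X // ¬ p ∣ (Subgroup.centralizer ({x} : Set X)).index} =
      Nat.card Tb * Nat.card Z := by
    have e1 : {x : X // ¬ p ∣ (Subgroup.centralizer ({x} : Set X)).index} ≃
        (QuotientGroup.mk ⁻¹' Tb : Set X) :=
      Equiv.subtypeEquivRight (fun x => by
        show _ ↔ ¬ p ∣ (Subgroup.centralizer ({(QuotientGroup.mk x : X ⧸ Z).out} : Set X)).index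
        rw [cm_idx_out])
    rw [Nat.card_congr e1, Nat.card_congr (QuotientGroup.preimageMkEquivSubgroupProdSet Z Tb),
      Nat.card_prod, mul_comm]
  have hCc : Nat.card C = Nat.card Cb * Nat.card Z := by
    have e1 : C ≃ (QuotientGroup.mk ⁻¹' Cb : Set X) :=
      Equiv.subtypeEquivRight (fun x => by
        show x ∈ C ↔ (QuotientGroup.mk x : X ⧸ Z).out ∈ C
        obtain ⟨z, hz⟩ := QuotientGroup.mk_out_eq_mul Z x
        rw [hz]
        have hzC : (z : X) ∈ C := Subgroup.center_le_centralizer _ z.2
        constructor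
        · intro hx; exact C.mul_mem hx hzC
        · intro hx
          have := C.mul_mem hx (C.inv_mem hzC)
          simpa using this)
    rw [Nat.card_congr e1, Nat.card_congr (QuotientGroup.preimageMkEquivSubgroupProdSet Z Cb),
      Nat.card_prod, mul_comm]
  refine ⟨Nat.card Tb, Nat.card Cb, hT, hCc, ?_⟩
  have hmk : ∀ (g : X) (q : X ⧸ Z),
      (QuotientGroup.mk g : X ⧸ Z) * q * (QuotientGroup.mk g : X ⧸ Z)⁻¹ =
        QuotientGroup.mk (g * q.out * g⁻¹) := by
    intro g q
    conv_lhs => rw [← QuotientGroup.out_eq' q]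
    simp
  have hB : ∀ (g : X) (q : X ⧸ Z), B q →
      B ((QuotientGroup.mk g : X ⧸ Z) * q * (QuotientGroup.mk g : X ⧸ Z)⁻¹) := by
    intro g q hq
    show ¬ p ∣ _
    rw [hmk, cm_idx_out, cm_idx_conj]
    exact hq
  let _ : MulAction (P : Subgroup X) Tb :=
    { smul := fun g q => ⟨(QuotientGroup.mk (g : X) : X ⧸ Z) * q.1 *
        (QuotientGroup.mk (g : X) : X ⧸ Z)⁻¹, hB g q.1 q.2⟩
      one_smul := fun q => by
        apply Subtype.ext
        show (QuotientGroup.mk ((1 : (P : Subgroup X)) : X) : X ⧸ Z) * q.1 *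
          (QuotientGroup.mk ((1 : (P : Subgroup X)) : X) : X ⧸ Z)⁻¹ = q.1
        simp
      mul_smul := fun g h q => by
        apply Subtype.ext
        show (QuotientGroup.mk ((g * h : (P : Subgroup X)) : X) : X ⧸ Z) * q.1 *
          (QuotientGroup.mk ((g * h : (P : Subgroup X)) : X) : X ⧸ Z)⁻¹ =
          (QuotientGroup.mk (g : X) : X ⧸ Z) * ((QuotientGroup.mk (h : X) : X ⧸ Z) * q.1 *
            (QuotientGroup.mk (h : X) : X ⧸ Z)⁻¹) * (QuotientGroup.mk (g : X) : X ⧸ Z)⁻¹
        simp [mul_assoc] }
  have hsmul : ∀ (g : (P : Subgroup X)) (q : Tb), (g • q).1 =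
      (QuotientGroup.mk (g : X) : X ⧸ Z) * q.1 * (QuotientGroup.mk (g : X) : X ⧸ Z)⁻¹ :=
    fun _ _ => rfl
  have hmod := P.2.card_modEq_card_fixedPoints Tb
  have hfix : Nat.card (MulAction.fixedPoints (P : Subgroup X) Tb) = Nat.card Cb := by
    let F : X ⧸ Z → Prop := fun q => ∀ g : (P : Subgroup X),
      (QuotientGroup.mk (g : X) : X ⧸ Z) * q * (QuotientGroup.mk (g : X) : X ⧸ Z)⁻¹ = q
    have e1 : (MulAction.fixedPoints (P : Subgroup X) Tb) ≃ {t : {q : X ⧸ Z // B q} // F t.1} :=
      Equiv.subtypeEquivRight (fun t => by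
        rw [MulAction.mem_fixedPoints]
        constructor
        · intro h g
          have := congrArg Subtype.val (h g)
          rwa [hsmul] at this
        · intro h g
          apply Subtype.ext
          rw [hsmul]
          exact h g)
    have e2 : {t : {q : X ⧸ Z // B q} // F t.1} ≃ {q : X ⧸ Z // B q ∧ F q} :=
      Equiv.subtypeSubtypeEquivSubtypeInter B F
    have e3 : {q : X ⧸ Z // B q ∧ F q} ≃ Cb :=
      Equiv.subtypeEquivRight (fun q => by
        show B q ∧ F q ↔ q.out ∈ C
        constructor
        · rintro ⟨hBq, hFq⟩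
          apply cm_mem_centralizer_of_comm_mod_center P q.out hBq
          intro g hg
          have h1 := hFq ⟨g, hg⟩
          rw [hmk] at h1
          have h2 : (QuotientGroup.mk q.out : X ⧸ Z) = QuotientGroup.mk (g * q.out * g⁻¹) := by
            rw [h1, QuotientGroup.out_eq']
          exact QuotientGroup.eq.1 h2
        · intro hq
          have hcomm : ∀ u ∈ (P : Subgroup X), u * q.out = q.out * u :=
            Subgroup.mem_centralizer_iff.1 hq
          constructor
          · show ¬ p ∣ _
            rw [cm_not_dvd_idx_iff P]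
            refine ⟨1, fun u hu => ?_⟩
            simpa using hcomm u hu
          · intro g
            rw [hmk]
            have : (g : X) * q.out * (g : X)⁻¹ = q.out := by
              rw [hcomm g g.2, mul_inv_cancel_right]
            rw [this, QuotientGroup.out_eq'])
    exact Nat.card_congr (e1.trans (e2.trans e3))
  rw [hfix] at hmod
  exact hmod

/-- Numerical criterion for a Sylow subgroup to be normal, in terms of the number of elements of
`p'`-class size. -/
theorem cm_sylow_normal_of_count (P : Sylow p X)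
    (hA : ∀ m : ℕ, Nat.card {x : X // ¬ p ∣ (Subgroup.centralizer ({x} : Set X)).index} =
      m * Nat.card (Subgroup.center X) → ¬ p ∣ m)
    (hBd : p ^ (Nat.card (Subgroup.center X)).factorization p *
      (Nat.card X / p ^ (Nat.card X).factorization p) ≤
        Nat.card {x : X // ¬ p ∣ (Subgroup.centralizer ({x} : Set X)).index}) :
    (P : Subgroup X).Normal := by
  have hp : p.Prime := Fact.out
  obtain ⟨a, b, hTa, hCb, hab⟩ := cm_card_T_modEq P
  have hpa : ¬ p ∣ a := hA a hTa
  have hpb : ¬ p ∣ b := fun h => hpa ((hab.dvd_iff (dvd_refl p)).2 h)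
  obtain ⟨hle, hlt⟩ := cm_card_T_le P
  set N := Subgroup.normalizer ((P : Subgroup X) : Set X) with hN
  set C := Subgroup.centralizer ((P : Subgroup X) : Set X) with hC
  set t := Nat.card {x : X // ¬ p ∣ (Subgroup.centralizer ({x} : Set X)).index} with ht
  set z := Nat.card (Subgroup.center X) with hz
  have hz0 : z ≠ 0 := Nat.card_pos.ne'
  -- the order of `P ⊓ C`
  obtain ⟨j, hj⟩ := (P.2.to_le (inf_le_left : (P : Subgroup X) ⊓ C ≤ P)).exists_card_eq
  have hedvd : Nat.card ((P : Subgroup X) ⊓ C : Subgroup X) ∣ Nat.card C :=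
    Subgroup.card_dvd_of_le inf_le_right
  rw [hj, hCb] at hedvd
  have hcop : Nat.Coprime (p ^ j) b :=
    Nat.Coprime.pow_left j ((Nat.Prime.coprime_iff_not_dvd hp).2 hpb)
  have hjz : p ^ j ∣ z := hcop.dvd_of_dvd_mul_left hedvd
  have hjle : j ≤ z.factorization p := (hp.pow_dvd_iff_le_factorization hz0).1 hjz
  have hpow : p ^ j ≤ p ^ z.factorization p := Nat.pow_le_pow_right hp.pos hjle
  -- `|C| = |P ⊓ C| * r`
  have hCr : Nat.card C = p ^ j * (P : Subgroup X).relIndex C := by
    have h1 := Subgroup.relIndex_mul_relIndex (⊥ : Subgroup X) ((P : Subgroup X) ⊓ C) C bot_le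
      inf_le_right
    rw [Subgroup.relIndex_bot_left, Subgroup.relIndex_bot_left, Subgroup.inf_relIndex_right,
      hj] at h1
    exact h1.symm
  -- `r ∣ r'`
  have hCN : C ≤ N := Subgroup.centralizer_le_normalizer _
  have hPN : (P : Subgroup X) ≤ N := Subgroup.le_normalizer
  have hrr : (P : Subgroup X).relIndex C ∣ (P : Subgroup X).relIndex N := by
    have h1 : ((P : Subgroup X).subgroupOf N).relIndex (C.subgroupOf N) ∣
        ((P : Subgroup X).subgroupOf N).index :=
      Subgroup.relIndex_dvd_index_of_normal _ _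
    rw [Subgroup.relIndex_subgroupOf hCN] at h1
    exact h1
  have hr'pos : 0 < (P : Subgroup X).relIndex N := by
    rcases Nat.eq_zero_or_pos ((P : Subgroup X).relIndex N) with h0 | h0
    · exfalso
      have := Subgroup.relIndex_mul_index hPN
      rw [h0, zero_mul] at this
      exact Subgroup.index_ne_zero_of_finite this.symm
    · exact h0
  have hrle : (P : Subgroup X).relIndex C ≤ (P : Subgroup X).relIndex N :=
    Nat.le_of_dvd hr'pos hrr
  have hidx : (P : Subgroup X).relIndex N * N.index = (P : Subgroup X).index :=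
    Subgroup.relIndex_mul_index hPN
  have hPidx : (P : Subgroup X).index = Nat.card X / p ^ (Nat.card X).factorization p := by
    have h1 := Subgroup.card_mul_index (P : Subgroup X)
    rw [P.card_eq_multiplicity] at h1
    exact (Nat.div_eq_of_eq_mul_right (pow_pos hp.pos _) h1.symm).symm
  -- final comparison
  have hchain : N.index * Nat.card C ≤ t := by
    calc N.index * Nat.card C = N.index * (p ^ j * (P : Subgroup X).relIndex C) := by rw [hCr]
      _ ≤ N.index * (p ^ z.factorization p * (P : Subgroup X).relIndex N) :=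
        Nat.mul_le_mul_left _ (Nat.mul_le_mul hpow hrle)
      _ = p ^ z.factorization p * ((P : Subgroup X).relIndex N * N.index) := by ring
      _ = p ^ z.factorization p * (Nat.card X / p ^ (Nat.card X).factorization p) := by
        rw [hidx, hPidx]
      _ ≤ t := hBd
  have hN1 : N.index = 1 := by
    by_contra hne
    exact absurd (lt_of_lt_of_le (hlt hne) hchain) (lt_irrefl _)
  rw [Subgroup.index_eq_one] at hN1
  exact Subgroup.normalizer_eq_top_iff.1 hN1

/-- In a nilpotent group the number of elements of `p'`-class size is `|Z|_p |H|_{p'}`;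
we record the two consequences needed for the Cossey--Hawkes--Mann criterion. -/
theorem cm_nilpotent_count (hX : Group.IsNilpotent X) :
    (∀ m : ℕ, Nat.card {x : X // ¬ p ∣ (Subgroup.centralizer ({x} : Set X)).index} =
      m * Nat.card (Subgroup.center X) → ¬ p ∣ m) ∧
    p ^ (Nat.card (Subgroup.center X)).factorization p *
      (Nat.card X / p ^ (Nat.card X).factorization p) ≤
        Nat.card {x : X // ¬ p ∣ (Subgroup.centralizer ({x} : Set X)).index} := by
  classical
  have hp : p.Prime := Fact.out
  have htfae := (Group.isNilpotent_of_finite_tfae (G := X)).out 0 3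
  have hnormal : ∀ (q : ℕ) [Fact q.Prime] (Q : Sylow q X), (Q : Subgroup X).Normal :=
    htfae.1 hX
  obtain ⟨P⟩ : Nonempty (Sylow p X) := inferInstance
  have hPn : (P : Subgroup X).Normal := hnormal p P
  set C := Subgroup.centralizer ((P : Subgroup X) : Set X) with hC
  set t := Nat.card {x : X // ¬ p ∣ (Subgroup.centralizer ({x} : Set X)).index} with ht
  set z := Nat.card (Subgroup.center X) with hz
  -- `T = C`
  have htC : t = Nat.card C := by
    refine Nat.card_congr (Equiv.subtypeEquivRight fun x => ?_)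
    rw [cm_not_dvd_idx_iff P, hC, Subgroup.mem_centralizer_iff]
    constructor
    · rintro ⟨g, hg⟩ u hu
      have hu' : g⁻¹ * u * g⁻¹⁻¹ ∈ (P : Subgroup X) := hPn.conj_mem u hu g⁻¹
      have := hg _ hu'
      have e : g * (g⁻¹ * u * g⁻¹⁻¹) * g⁻¹ = u := by group
      rwa [e] at this
    · intro h
      refine ⟨1, fun u hu => ?_⟩
      simpa using h u hu
  -- other Sylow subgroups centralize `P`
  have hQC : ∀ (q : ℕ) [Fact q.Prime], q ≠ p → ∀ Q : Sylow q X, ∀ y ∈ (Q : Subgroup X),
      ∀ u ∈ (P : Subgroup X), u * y = y * u := by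
    intro q _ hqp Q y hy u hu
    have hQn : (Q : Subgroup X).Normal := hnormal q Q
    have hdis : Disjoint (P : Subgroup X) (Q : Subgroup X) :=
      IsPGroup.disjoint_of_ne p q hqp.symm _ _ P.2 Q.2
    exact Subgroup.commute_of_normal_of_disjoint _ _ hPn hQn hdis u y hu hy
  -- `P ⊓ C ≤ Z`
  have hPCZ : (P : Subgroup X) ⊓ C ≤ Subgroup.center X := by
    intro y hy
    rw [← cm_idx_eq_one_iff]
    by_contra hne
    obtain ⟨q, hq, hqd⟩ := Nat.exists_prime_and_dvd hne
    have : Fact q.Prime := ⟨hq⟩
    by_cases hqp : q = p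
    · subst hqp
      have hle : (P : Subgroup X) ≤ Subgroup.centralizer ({y} : Set X) := by
        intro u hu
        rw [Subgroup.mem_centralizer_singleton_iff]
        exact (Subgroup.mem_centralizer_iff.1 hy.2) u hu
      exact P.not_dvd_index (hqd.trans (Subgroup.index_dvd_of_le hle))
    · obtain ⟨Q⟩ : Nonempty (Sylow q X) := inferInstance
      have hle : (Q : Subgroup X) ≤ Subgroup.centralizer ({y} : Set X) := by
        intro v hv
        rw [Subgroup.mem_centralizer_singleton_iff]
        exact (hQC q hqp Q v hv y hy.1).symm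
      exact Q.not_dvd_index (hqd.trans (Subgroup.index_dvd_of_le hle))
  -- `[X : C]` is a power of `p`
  have hCidx : ∃ i : ℕ, C.index = p ^ i := by
    refine ⟨_, Nat.eq_prime_pow_of_unique_prime_dvd Subgroup.index_ne_zero_of_finite ?_⟩
    intro q hq hqd
    by_contra hqp
    have : Fact q.Prime := ⟨hq⟩
    obtain ⟨Q⟩ : Nonempty (Sylow q X) := inferInstance
    have hle : (Q : Subgroup X) ≤ C := by
      intro v hv
      rw [hC, Subgroup.mem_centralizer_iff]
      intro u hu
      exact hQC q hqp Q v hv u hu
    exact Q.not_dvd_index (hqd.trans (Subgroup.index_dvd_of_le hle))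
  have hZC : Subgroup.center X ≤ C := Subgroup.center_le_centralizer _
  have hzt : z ∣ t := by rw [htC]; exact Subgroup.card_dvd_of_le hZC
  have ht0 : 0 < t := by rw [htC]; exact Nat.card_pos
  constructor
  · -- `p ∤ t / z`
    intro m hm hpm
    have hez : Nat.card ((P : Subgroup X) ⊓ C : Subgroup X) ∣ z := Subgroup.card_dvd_of_le hPCZ
    obtain ⟨z', hz'⟩ := hez
    have hCr : Nat.card C = Nat.card ((P : Subgroup X) ⊓ C : Subgroup X) *
        (P : Subgroup X).relIndex C := by
      have h1 := Subgroup.relIndex_mul_relIndex (⊥ : Subgroup X) ((P : Subgroup X) ⊓ C) C bot_le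
        inf_le_right
      rw [Subgroup.relIndex_bot_left, Subgroup.relIndex_bot_left, Subgroup.inf_relIndex_right]
        at h1
      exact h1.symm
    have hrdvd : (P : Subgroup X).relIndex C ∣ (P : Subgroup X).index :=
      Subgroup.relIndex_dvd_index_of_normal _ _
    have he0 : 0 < Nat.card ((P : Subgroup X) ⊓ C : Subgroup X) := Nat.card_pos
    have h2 : m * z' = (P : Subgroup X).relIndex C := by
      have h3 : Nat.card ((P : Subgroup X) ⊓ C : Subgroup X) * (m * z') =
          Nat.card ((P : Subgroup X) ⊓ C : Subgroup X) * (P : Subgroup X).relIndex C := by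
        rw [← hCr, ← htC, hm, hz']; ring
      exact Nat.eq_of_mul_eq_mul_left he0 h3
    have h4 : p ∣ (P : Subgroup X).relIndex C := by
      rw [← h2]; exact Dvd.dvd.mul_right hpm z'
    exact P.not_dvd_index (h4.trans hrdvd)
  · -- lower bound
    obtain ⟨i, hi⟩ := hCidx
    have hn : Nat.card X = t * p ^ i := by
      rw [htC, ← hi]; exact (Subgroup.card_mul_index C).symm
    have hn0 : Nat.card X ≠ 0 := Nat.card_pos.ne'
    have h1 : Nat.card X / p ^ (Nat.card X).factorization p ∣ t := by
      have hfac : (Nat.card X).factorization p = t.factorization p + i := by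
        rw [hn, Nat.factorization_mul ht0.ne' (pow_pos hp.pos i).ne', Nat.factorization_pow,
          Finsupp.add_apply, Finsupp.smul_apply, hp.factorization_self, smul_eq_mul, mul_one]
      rw [hfac, hn, pow_add, Nat.mul_div_mul_right _ _ (pow_pos hp.pos i)]
      exact Nat.div_dvd_of_dvd (Nat.ordProj_dvd t p)
    have h2 : p ^ z.factorization p ∣ t := (Nat.ordProj_dvd z p).trans hzt
    have hcop : Nat.Coprime (p ^ z.factorization p)
        (Nat.card X / p ^ (Nat.card X).factorization p) :=
      Nat.Coprime.pow_left _ (Nat.coprime_ordCompl hp hn0)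
    exact Nat.le_of_dvd ht0 (hcop.mul_dvd_of_dvd_of_dvd h2 h1)

end SylowPart

end Cfsg.Agent.Lib.Helper74
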