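import Mathlib
import Cfsg.Agent.Lib.Helper16.BG1363Defs
import Cfsg.Agent.Lib.Helper55.Basic

set_option autoImplicit false

/-!
# K-1435-P16 (keystone 143521): `false_T0_of_le_star`

Cases (ii) and (iii) of BG 15.2(c): `T₀ ≤ M*` is impossible.
-/

namespace Cfsg.Agent.Lib.Helper74.BG1435

open Cfsg Subgroup Cfsg.Agent.Lib.Helper55 Cfsg.Agent.Lib.Helper11.BG14D Cfsg.Agent.Lib.Helper16.BG1363

variable {G : Type*} [Group G] [Finite G]

/-- An element of prime order `p` normalizing a subgroup of order `p` centralizes it. -/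
theorem mem_centralizer_of_prime_of_prime {T : Subgroup G} {p : ℕ} (hp : p.Prime)
    (hT : Nat.card T = p) {x : G} (hxT : x ∈ normalizer (T : Set G)) (hx : x ^ p = 1) :
    x ∈ centralizer (T : Set G) := by
  have : Fact p.Prime := ⟨hp⟩
  have : IsCyclic T := isCyclic_of_prime_card hT
  set x' : normalizer (T : Set G) := ⟨x, hxT⟩ with hx'
  have h1 : orderOf (T.normalizerMonoidHom x') ∣ p := by
    apply orderOf_dvd_of_pow_eq_one
    rw [← map_pow]
    have : x' ^ p = 1 := by
      apply Subtype.ext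
      simpa [hx'] using hx
    rw [this, map_one]
  have h2 : orderOf (T.normalizerMonoidHom x') ∣ p - 1 := by
    have h := orderOf_dvd_natCard (T.normalizerMonoidHom x')
    rwa [IsCyclic.card_mulAut, hT, Nat.totient_prime hp] at h
  have h3 : orderOf (T.normalizerMonoidHom x') = 1 := by
    have hcop : Nat.Coprime p (p - 1) := by
      have h1p : 1 ≤ p := hp.one_lt.le
      have := (Nat.coprime_self_sub_right h1p).mpr (Nat.coprime_one_right p)
      simpa using this
    exact Nat.eq_one_of_dvd_coprimes hcop h1 h2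
  have h4 : x' ∈ T.normalizerMonoidHom.ker := by
    rw [MonoidHom.mem_ker]
    exact orderOf_eq_one_iff.mp h3
  rw [normalizerMonoidHom_ker, mem_subgroupOf] at h4
  exact h4

theorem false_T0_of_le_star {K Ms Q T₀ : Subgroup G} (hK1 : K ≠ ⊥) (hp : (Nat.card K).Prime)
    (hQMs : Q ≤ Ms) (hQn : Ms ≤ normalizer (Q : Set G)) (hQp : IsPGroup (Nat.card K) Q) (hKQ : K ≤ Q)
    (hTp : (Nat.card T₀).Prime) (hKT : K ≤ normalizer (T₀ : Set G))
    (hTK : ∀ x ∈ K, x ≠ 1 → T₀ ⊓ centralizer ({x} : Set G) = ⊥) (hTMs : T₀ ≤ Ms) : False := by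
  classical
  obtain ⟨x, hx1⟩ := (Subgroup.ne_bot_iff_exists_ne_one).mp hK1
  have hxK' : (x : G) ∈ K := x.2
  have hx1' : (x : G) ≠ 1 := fun h => hx1 (Subtype.ext h)
  have hT1 : T₀ ≠ ⊥ := by
    intro h
    rw [h] at hTp
    simp at hTp
    exact Nat.not_prime_one hTp
  obtain ⟨t, ht1⟩ := (Subgroup.ne_bot_iff_exists_ne_one).mp hT1
  have htT' : (t : G) ∈ T₀ := t.2
  have ht1' : (t : G) ≠ 1 := fun h => ht1 (Subtype.ext h)
  -- the commutator
  set c : G := (x : G) * t * (x : G)⁻¹ * (t : G)⁻¹ with hc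
  have hxN : (x : G) ∈ normalizer (T₀ : Set G) := hKT hxK'
  have hcT : c ∈ T₀ := by
    have h1 : (x : G) * t * (x : G)⁻¹ ∈ T₀ := (mem_normalizer_iff.mp hxN (t : G)).mp htT'
    exact T₀.mul_mem h1 (T₀.inv_mem htT')
  have hcQ : c ∈ Q := by
    have htN : (t : G) ∈ normalizer (Q : Set G) := hQn (hTMs htT')
    have h1 : (t : G) * (x : G)⁻¹ * (t : G)⁻¹ ∈ Q :=
      (mem_normalizer_iff.mp htN ((x : G)⁻¹)).mp (Q.inv_mem (hKQ hxK'))
    have : c = (x : G) * ((t : G) * (x : G)⁻¹ * (t : G)⁻¹) := by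
      rw [hc]; group
    rw [this]
    exact Q.mul_mem (hKQ hxK') h1
  have hc1 : c ≠ 1 := by
    intro h
    have hcomm : (x : G) * t = t * x := by
      have : (x : G) * t * (x : G)⁻¹ * (t : G)⁻¹ = 1 := h
      have h2 : (x : G) * t * (x : G)⁻¹ = t := by
        rw [mul_inv_eq_one] at this
        exact this
      rw [mul_inv_eq_iff_eq_mul] at h2
      exact h2
    have hmem : (t : G) ∈ T₀ ⊓ centralizer ({(x : G)} : Set G) := by
      refine Subgroup.mem_inf.mpr ⟨htT', ?_⟩
      rw [mem_centralizer_iff]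
      intro y hy
      rw [Set.mem_singleton_iff] at hy
      rw [hy]
      exact hcomm
    rw [hTK x hxK' hx1', mem_bot] at hmem
    exact ht1' hmem
  -- `zpowers c = T₀`
  have hoc : orderOf c = Nat.card T₀ := by
    have hdvd : orderOf c ∣ Nat.card T₀ := by
      have := orderOf_dvd_natCard (⟨c, hcT⟩ : T₀)
      rwa [Subgroup.orderOf_mk] at this
    rcases (Nat.dvd_prime hTp).mp hdvd with h | h
    · exact absurd (orderOf_eq_one_iff.mp h) hc1
    · exact h
  -- `c` is a `p`-element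
  obtain ⟨k, hk⟩ := hQp ⟨c, hcQ⟩
  have hk' : c ^ (Nat.card K) ^ k = 1 := by
    have := congrArg Subtype.val hk
    simpa using this
  have hdvd : Nat.card T₀ ∣ (Nat.card K) ^ k := by
    rw [← hoc]
    exact orderOf_dvd_of_pow_eq_one hk'
  have hqp : Nat.card T₀ = Nat.card K :=
    (Nat.prime_dvd_prime_iff_eq hTp hp).mp (hTp.dvd_of_dvd_pow hdvd)
  -- `x` centralizes `T₀`
  have hxp : (x : G) ^ (Nat.card K) = 1 := by
    have h1 : x ^ (Nat.card K) = 1 := pow_card_eq_one' (G := K) (x := x)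
    have h2 := congrArg Subtype.val h1
    rw [Subgroup.coe_pow, Subgroup.coe_one] at h2
    exact h2
  have hxC : (x : G) ∈ centralizer (T₀ : Set G) :=
    mem_centralizer_of_prime_of_prime hp hqp hxN hxp
  have hcomm : (t : G) * x = x * t := (mem_centralizer_iff.mp hxC) (t : G) htT'
  have hmem : (t : G) ∈ T₀ ⊓ centralizer ({(x : G)} : Set G) := by
    refine Subgroup.mem_inf.mpr ⟨htT', ?_⟩
    rw [mem_centralizer_iff]
    intro y hy
    rw [Set.mem_singleton_iff] at hy
    rw [hy]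
    exact hcomm.symm
  rw [hTK x hxK' hx1', mem_bot] at hmem
  exact ht1' hmem

end Cfsg.Agent.Lib.Helper74.BG1435
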