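import Mathlib
import Cfsg.Agent.Lib.Helper15.BG1379Defs
import Cfsg.Agent.Lib.Helper57.BG142D4
import Cfsg.Agent.Lib.Helper64.BG14K
import Cfsg.Agent.Lib.Helper68.BG144G2
import Cfsg.Agent.Lib.Helper01.BG134CJ
import Cfsg.Agent.Lib.Helper55.Basic
import Cfsg.Agent.Lib.Helper55.Uniq3

set_option autoImplicit false

/-! K-1379-V8 (keystone 137908, architect helper15, pack for S1379): `κ(hMh⁻¹) ⊆ κ(M)`.
Parallel hand by helper74. -/

namespace Cfsg.Agent.Lib.Helper74.BG1379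

open Cfsg Subgroup Cfsg.Agent.Lib.Helper55

variable {G : Type*} [Group G] [Finite G]

/-- LEAF V8 (137908) -/
theorem mem_kappa_cj (hG : IsMinSimpleOddOrder G) {M : Subgroup G} (hM : IsCoatom M) (h : G) {q : ℕ}
    (hq : q ∈ kappa (M.map (MulAut.conj h).toMonoidHom)) : q ∈ kappa M := by
  have hM' : IsCoatom (cj h M) := isCoatom_cj h hM
  obtain ⟨h13, hCP, -⟩ := Cfsg.Agent.Lib.Helper57.BG142.kappa_facts hM' hq
  obtain ⟨hqp, hqM', hqσ', -⟩ := hq
  have hqM : q ∣ Nat.card M := by rwa [card_cj] at hqM'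
  have hqσ : q ∉ sigma M := fun hh => hqσ' ((Cfsg.Agent.Lib.Helper01.BG134.mem_sigma_cj_iff h).2 hh)
  have hrank' : PRankLE q 1 ↥(cj h M) := by
    rcases h13 with h1 | h3
    · exact h1.2.2.2.2
    · exact h3.2.2.2
  have hrank : PRankLE q 1 ↥M := (Cfsg.Agent.Lib.Helper01.BG134.pRankLE_cj_iff h M q 1).1 hrank'
  have : Fact q.Prime := ⟨hqp⟩
  obtain ⟨x, hx⟩ := exists_prime_orderOf_dvd_card' q hqM
  have hRM : zpowers (x : G) ≤ M := zpowers_le.2 x.2
  have hRc : Nat.card (zpowers (x : G)) = q := by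
    rw [Nat.card_zpowers, Subgroup.orderOf_coe, hx]
  have h1 := hCP (cj h (zpowers (x : G))) (cj_mono hRM) (by rw [card_cj]; exact hRc)
  have h2 : sigmaCore M ⊓ centralizer ((zpowers (x : G) : Subgroup G) : Set G) ≠ ⊥ := by
    intro hb
    apply h1
    show sigmaCore (cj h M) ⊓ centralizer ((cj h (zpowers (x : G)) : Subgroup G) : Set G) = ⊥
    rw [Cfsg.Agent.Lib.Helper68.BG144.sigmaCore_cj hG hM h, ← cj_centralizer, ← cj_inf, hb, cj_bot]
  exact Cfsg.Agent.Lib.Helper64.BG14.mem_kappa_of_cent_ne_bot hG hM hqp hqM hqσ hrank hRM hRc h2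

end Cfsg.Agent.Lib.Helper74.BG1379
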