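import Mathlib
import Cfsg.Prelude.Def_Solvable

set_option autoImplicit false

/-!
# Definitions for the Frobenius-complement structure theorems (S3359, S4291), architect helper74

* `SL25`  : `SL(2,5)` as in the statements.
* `IsFC G`: `G` occurs as a Frobenius complement (verbatim the hypothesis of S3359 / S4291).
* `FpfAct G`: `G` acts fixed-point-freely on a nontrivial finite group (universe 0).
* `Z690`  : the exact statement of S0690 (Zassenhaus: perfect fpf group is `SL(2,5)`), used as a
  hypothesis until `Cfsg.Agent.S0690` is on main.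
-/

namespace Cfsg.Agent.Lib.Helper74.FC

/-- `SL(2,5)`. -/
abbrev SL25 := Matrix.SpecialLinearGroup (Fin 2) (ZMod 5)

/-- `G` occurs as a Frobenius complement (verbatim the hypothesis of S3359 / S4291). -/
def IsFC (G : Type*) [Group G] : Prop :=
  ∃ (L : Type) (_ : Group L) (_ : Finite L) (H : Subgroup L),
    Cfsg.IsFrobeniusComplement H ∧ Nonempty (G ≃* H)

/-- `G` acts fixed-point-freely on some nontrivial finite group. -/
def FpfAct (G : Type*) [Group G] : Prop :=
  ∃ (K : Type) (_ : Group K) (_ : Finite K) (φ : G →* MulAut K), Nontrivial K ∧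
    ∀ g : G, g ≠ 1 → ∀ k : K, φ g k = k → k = 1

/-- the exact statement of S0690 (for `K : Type`). -/
def Z690 : Prop :=
  ∀ (K : Type) [Group K] [Finite K] (G : Subgroup (MulAut K)),
    (∀ φ ∈ G, φ ≠ 1 → ∀ k : K, φ k = k → k = 1) → commutator G = ⊤ → G ≠ ⊥ →
    Nonempty (G ≃* SL25)

end Cfsg.Agent.Lib.Helper74.FC
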