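import Mathlib
import Cfsg.Agent.Lib.Helper74.FCDefs

set_option autoImplicit false
universe u
namespace Cfsg.Agent.Lib.Helper74.FC

theorem inverts {K : Type} [Group K] [Finite K] (τ : MulAut K) (hτ2 : τ * τ = 1)
    (hfix : ∀ k : K, τ k = k → k = 1) (x : K) : τ x = x⁻¹ := by
  have hinj : Function.Injective (fun k : K => k⁻¹ * τ k) := by
    intro k l h
    simp only at h
    have h1 : τ (l * k⁻¹) = l * k⁻¹ := by
      rw [map_mul, map_inv]
      have : τ l = l * (k⁻¹ * τ k) := by rw [h]; group
      rw [this]; group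
    have := hfix _ h1
    exact (mul_inv_eq_one.mp this).symm
  obtain ⟨k, hk⟩ := (Finite.injective_iff_surjective.mp hinj) x
  simp only at hk
  rw [← hk, map_mul, map_inv]
  have h2 : τ (τ k) = k := by
    have := congrArg (fun f : MulAut K => f k) hτ2
    simpa using this
  rw [h2]; group

theorem unique_involution {G : Type u} [Group G] [Finite G] (hact : FpfAct G)
    (s t : G) (hs : s * s = 1) (hs1 : s ≠ 1) (ht : t * t = 1) (ht1 : t ≠ 1) : s = t := by
  obtain ⟨K, _, _, φ, hK, hfpf⟩ := hact
  have hsI : ∀ x : K, φ s x = x⁻¹ :=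
    inverts (φ s) (by rw [← map_mul, hs, map_one]) (hfpf s hs1)
  have htI : ∀ x : K, φ t x = x⁻¹ :=
    inverts (φ t) (by rw [← map_mul, ht, map_one]) (hfpf t ht1)
  by_contra hne
  have hst : s * t ≠ 1 := by
    intro h
    apply hne
    calc s = s * (t * t) := by rw [ht, mul_one]
      _ = (s * t) * t := by group
      _ = t := by rw [h, one_mul]
  obtain ⟨a, b, hab⟩ := hK.exists_pair_ne
  have h1 : ∀ k : K, φ (s * t) k = k := by
    intro k
    rw [map_mul, MulAut.mul_apply, htI, hsI, inv_inv]
  have ha := hfpf (s * t) hst a (h1 a)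
  have hb := hfpf (s * t) hst b (h1 b)
  exact hab (ha.trans hb.symm)

end Cfsg.Agent.Lib.Helper74.FC
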