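import Mathlib
import Cfsg.Agent.Lib.Helper74.FCDefs
import Cfsg.Agent.Lib.Helper63.FCSub
import Cfsg.Agent.Lib.Helper32.FCAct
import Cfsg.Agent.Lib.Helper81.FCPerf
import Cfsg.Agent.Lib.Helper86.FCSyl
import Cfsg.Agent.Lib.Helper80.FCRes
import Cfsg.Agent.Lib.Helper60.FCK10
import Cfsg.Agent.Lib.Helper14.FCIdx
import Cfsg.Agent.Lib.Helper42.FCComm
import Cfsg.Agent.Lib.Helper38.FCAut
import Cfsg.Agent.Lib.Helper74.FCInv

set_option autoImplicit false

/-!
# Hub for the S3359 keystones (helper74): re-exports the leaves proved by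
helper63 (K1), helper32 (K2), helper81 (K3), helper74 (K4), helper42 (K5), helper86 (K6), helper38 (K7),
helper80 (K9), helper60 (K10), helper14 (K11).
-/

universe u

namespace Cfsg.Agent.Lib.Helper74.FCHub

open Cfsg.Agent.Lib.Helper74.FC

theorem isFC_subgroup {G : Type u} [Group G] [Finite G] (h : IsFC G) (D : Subgroup G) (hD : D ≠ ⊥) :
    IsFC D := Cfsg.Agent.Lib.Helper63.FC.isFC_subgroup h D hD

theorem exists_fpf_action {G : Type u} [Group G] [Finite G] (h : IsFC G) : FpfAct G :=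
  Cfsg.Agent.Lib.Helper32.FC.exists_fpf_action h

theorem sl25_of_perfect (hZ : Z690) {G : Type u} [Group G] [Finite G] [Nontrivial G]
    (hact : FpfAct G) (hperf : commutator G = ⊤) : Nonempty (G ≃* SL25) :=
  Cfsg.Agent.Lib.Helper81.FC.sl25_of_perfect hZ hact hperf

theorem unique_involution {G : Type u} [Group G] [Finite G] (hact : FpfAct G)
    (s t : G) (hs : s * s = 1) (hs1 : s ≠ 1) (ht : t * t = 1) (ht1 : t ≠ 1) : s = t :=
  Cfsg.Agent.Lib.Helper74.FC.unique_involution hact s t hs hs1 ht ht1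

theorem mem_zpowers_of_commute {G : Type u} [Group G] [Finite G]
    (hsub : ∀ D : Subgroup G, D ≠ ⊥ → IsFC D) (p : ℕ) (hp : p.Prime)
    (x y : G) (hx : x ^ p = 1) (hy : y ^ p = 1) (hx1 : x ≠ 1) (hxy : x * y = y * x) :
    y ∈ Subgroup.zpowers x :=
  Cfsg.Agent.Lib.Helper42.FC.mem_zpowers_of_commute hsub p hp x y hx hy hx1 hxy

theorem sylow_cyclic_of_ne_two {G : Type u} [Group G] [Finite G]
    (hsub : ∀ D : Subgroup G, D ≠ ⊥ → IsFC D) (M : Subgroup G) (p : ℕ) [Fact p.Prime] (hp2 : p ≠ 2)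
    (P : Sylow p M) : IsCyclic P :=
  Cfsg.Agent.Lib.Helper86.FC.sylow_cyclic_of_ne_two hsub M p hp2 P

theorem card_mulAut_sl25_le : Nat.card (MulAut SL25) ≤ 120 :=
  Cfsg.Agent.Lib.Helper38.FC.card_mulAut_sl25_le

theorem exists_perfect_normal {G : Type u} [Group G] [Finite G] (h : ¬ Group.IsSolvable G) :
    ∃ S : Subgroup G, S.Normal ∧ S ≠ ⊥ ∧ commutator S = ⊤ :=
  Cfsg.Agent.Lib.Helper80.FC.exists_perfect_normal h

theorem exists_odd_complement {G : Type u} [Group G] [Finite G] (C : Subgroup G) [C.Normal] (z : G)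
    (hzC : z ∈ C) (hz : z * z = 1) (hz1 : z ≠ 1) (hcent : ∀ c ∈ C, z * c = c * z)
    (h2 : ∀ t ∈ C, t ^ 4 = 1 → t = 1 ∨ t = z) :
    ∃ M : Subgroup G, M.Normal ∧ M ≤ C ∧ Odd (Nat.card M) ∧ z ∉ M ∧ ∀ c ∈ C, c ∈ M ∨ z * c ∈ M :=
  Cfsg.Agent.Lib.Helper60.FC.exists_odd_complement C z hzC hz hz1 hcent h2

theorem index_centralizer_le {G : Type u} [Group G] [Finite G] (S : Subgroup G) [S.Normal]
    (e : S ≃* SL25) (hA : Nat.card (MulAut SL25) ≤ 120) :
    (Subgroup.centralizer (S : Set G)).index ≤ 120 :=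
  Cfsg.Agent.Lib.Helper14.FC.index_centralizer_le S e hA

end Cfsg.Agent.Lib.Helper74.FCHub
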