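import Mathlib

set_option autoImplicit false

/-!
# Arithmetic of the class equation of a finite subgroup of `SL₂(K)`, char 0 (Klein's list)

`W` = order of the group, `ζ` = order of its centre, a class with centralizer of order `ζ a`, normalizer of the
centralizer of order `e ζ a` (`e ∈ {1,2}`) and saturation of size `s` satisfies `e (s a) + W = W a`.
-/

namespace Cfsg.Agent.Lib.Helper74.ZassNum

/-- one class with `e = 2` is impossible -/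
theorem one_e2 {W ζ a s : ℤ} (hζ : 1 ≤ ζ) (ha : 2 ≤ a) (hL : 2 * (ζ * a) ≤ W)
    (hs : 2 * (s * a) + W = W * a) (htot : W = ζ + s) : False := by
  have hs' : s = W - ζ := by linarith
  subst hs'
  have h1 : W * a + W = 2 * (ζ * a) := by linear_combination hs
  have h2 : 0 < ζ * a := by positivity
  have h3 : 0 < W := by linarith
  have h4 : W * 2 ≤ W * a := by nlinarith
  linarith

/-- one class with `e = 1`: the centralizer is everything -/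
theorem one_e1 {W ζ a s : ℤ} (ha : 2 ≤ a)
    (hs : 1 * (s * a) + W = W * a) (htot : W = ζ + s) : W = ζ * a := by
  have hs' : s = W - ζ := by linarith
  subst hs'
  linear_combination hs

/-- two classes, `e = (1,1)`: impossible -/
theorem two_11 {W ζ a₁ a₂ s₁ s₂ : ℤ} (hζ : 1 ≤ ζ) (hW : 1 ≤ W) (ha₁ : 2 ≤ a₁) (ha₂ : 2 ≤ a₂)
    (hs₁ : 1 * (s₁ * a₁) + W = W * a₁) (hs₂ : 1 * (s₂ * a₂) + W = W * a₂)
    (htot : W = ζ + s₁ + s₂) : False := by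
  have key : W * (a₁ + a₂) = W * (a₁ * a₂) + ζ * (a₁ * a₂) := by
    have e1 : s₁ * a₁ = W * a₁ - W := by linarith
    have e2 : s₂ * a₂ = W * a₂ - W := by linarith
    have e3 : W * (a₁ * a₂) = ζ * (a₁ * a₂) + (s₁ * a₁) * a₂ + (s₂ * a₂) * a₁ := by
      rw [htot]; ring
    rw [e1, e2] at e3
    linarith
  have h1 : a₁ + a₂ ≤ a₁ * a₂ := by nlinarith
  have h2 : W * (a₁ + a₂) ≤ W * (a₁ * a₂) := by nlinarith
  have h3 : 0 < ζ * (a₁ * a₂) := by positivity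
  linarith

/-- two classes, `e = (1,2)` -/
theorem two_12 {W ζ a₁ a₂ s₁ s₂ : ℤ} (hζ : 1 ≤ ζ) (hW : 1 ≤ W) (ha₁ : 2 ≤ a₁) (ha₂ : 2 ≤ a₂)
    (hs₁ : 1 * (s₁ * a₁) + W = W * a₁) (hs₂ : 2 * (s₂ * a₂) + W = W * a₂)
    (htot : W = ζ + s₁ + s₂) :
    (a₁ = 2 ∧ W = 2 * (ζ * a₂)) ∨ (a₁ = 3 ∧ a₂ = 2 ∧ W = 12 * ζ) := by
  have key : W * (2 * a₂ + a₁) = W * (a₁ * a₂) + 2 * (ζ * (a₁ * a₂)) := by
    have e1 : s₁ * a₁ = W * a₁ - W := by linarith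
    have e2 : 2 * (s₂ * a₂) = W * a₂ - W := by linarith
    have e3 : 2 * (W * (a₁ * a₂)) =
        2 * (ζ * (a₁ * a₂)) + 2 * ((s₁ * a₁) * a₂) + (2 * (s₂ * a₂)) * a₁ := by
      rw [htot]; ring
    rw [e1, e2] at e3
    linarith
  by_cases h2 : a₁ = 2
  · left
    subst h2
    refine ⟨rfl, ?_⟩
    linarith
  · right
    have h3 : 3 ≤ a₁ := by omega
    have hpos : 0 < ζ * (a₁ * a₂) := by positivity
    have hd : 0 < 2 * a₂ + a₁ - a₁ * a₂ := by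
      by_contra hneg
      push Not at hneg
      have : W * (2 * a₂ + a₁ - a₁ * a₂) ≤ 0 := by nlinarith
      nlinarith
    have hA : a₁ ≤ 3 := by nlinarith
    have hB : a₂ ≤ 2 := by nlinarith
    have hA' : a₁ = 3 := by omega
    have hB' : a₂ = 2 := by omega
    subst hA' hB'
    refine ⟨rfl, rfl, ?_⟩
    linarith

/-- two classes, `e = (2,2)`: impossible -/
theorem two_22 {W ζ a₁ a₂ s₁ s₂ : ℤ} (hζ : 1 ≤ ζ) (ha₁ : 2 ≤ a₁) (ha₂ : 2 ≤ a₂)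
    (hL₁ : 2 * (ζ * a₁) ≤ W) (hL₂ : 2 * (ζ * a₂) ≤ W)
    (hs₁ : 2 * (s₁ * a₁) + W = W * a₁) (hs₂ : 2 * (s₂ * a₂) + W = W * a₂)
    (htot : W = ζ + s₁ + s₂) : False := by
  have key : W * (a₁ + a₂) = 2 * (ζ * (a₁ * a₂)) := by
    have e1 : 2 * (s₁ * a₁) = W * a₁ - W := by linarith
    have e2 : 2 * (s₂ * a₂) = W * a₂ - W := by linarith
    have e3 : 2 * (W * (a₁ * a₂)) =
        2 * (ζ * (a₁ * a₂)) + (2 * (s₁ * a₁)) * a₂ + (2 * (s₂ * a₂)) * a₁ := by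
      rw [htot]; ring
    rw [e1, e2] at e3
    linarith
  have h1 : 2 * (ζ * a₁) * a₂ ≤ W * a₂ := by nlinarith
  have h2 : 2 * (ζ * a₂) * a₁ ≤ W * a₁ := by nlinarith
  have h3 : 0 < ζ * (a₁ * a₂) := by positivity
  nlinarith

/-- three classes with `e = 2`, the first with `a = 2` -/
theorem three_2 {W ζ b c s₁ s₂ s₃ : ℤ} (hζ : 1 ≤ ζ) (hW : 1 ≤ W) (hb : 2 ≤ b) (hc : 2 ≤ c)
    (hs₁ : 2 * (s₁ * 2) + W = W * 2) (hs₂ : 2 * (s₂ * b) + W = W * b)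
    (hs₃ : 2 * (s₃ * c) + W = W * c) (htot : W = ζ + s₁ + s₂ + s₃) :
    (b = 2 ∧ W = 2 * (ζ * c)) ∨ (c = 2 ∧ W = 2 * (ζ * b)) ∨ (b = 3 ∧ c = 3 ∧ W = 12 * ζ) ∨
    (b = 3 ∧ c = 4 ∧ W = 24 * ζ) ∨ (b = 4 ∧ c = 3 ∧ W = 24 * ζ) ∨
    (b = 3 ∧ c = 5 ∧ W = 60 * ζ) ∨ (b = 5 ∧ c = 3 ∧ W = 60 * ζ) := by
  have key : W * (2 * b + 2 * c - b * c) = 4 * (ζ * (b * c)) := by
    have e1 : 4 * s₁ = W := by linarith
    have e2 : 2 * (s₂ * b) = W * b - W := by linarith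
    have e3 : 2 * (s₃ * c) = W * c - W := by linarith
    have e4 : 4 * (W * (b * c)) =
        4 * (ζ * (b * c)) + (4 * s₁) * (b * c) + 2 * ((2 * (s₂ * b)) * c) + 2 * ((2 * (s₃ * c)) * b) := by
      rw [htot]; ring
    rw [e1, e2, e3] at e4
    linarith
  by_cases hb2 : b = 2
  · left
    subst hb2
    refine ⟨rfl, ?_⟩
    linarith
  by_cases hc2 : c = 2
  · right; left
    subst hc2
    refine ⟨rfl, ?_⟩
    linarith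
  have hb3 : 3 ≤ b := by omega
  have hc3 : 3 ≤ c := by omega
  have hpos : 0 < ζ * (b * c) := by positivity
  have hd : 0 < 2 * b + 2 * c - b * c := by
    by_contra hneg
    push Not at hneg
    have : W * (2 * b + 2 * c - b * c) ≤ 0 := by nlinarith
    nlinarith
  have hb5 : b ≤ 5 := by nlinarith
  have hc5 : c ≤ 5 := by nlinarith
  right; right
  interval_cases b <;> interval_cases c <;> first | (exfalso; linarith) | skip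
  all_goals
    first
    | (left; refine ⟨rfl, rfl, ?_⟩; linarith)
    | (right; left; refine ⟨rfl, rfl, ?_⟩; linarith)
    | (right; right; left; refine ⟨rfl, rfl, ?_⟩; linarith)
    | (right; right; right; left; refine ⟨rfl, rfl, ?_⟩; linarith)
    | (right; right; right; right; refine ⟨rfl, rfl, ?_⟩; linarith)

/-- the symmetric form of Klein's list -/
def Sym3 (W ζ a₁ a₂ a₃ : ℤ) : Prop :=
  (a₂ = 2 ∧ a₃ = 2 ∧ W = 2 * (ζ * a₁)) ∨ (a₁ = 2 ∧ a₃ = 2 ∧ W = 2 * (ζ * a₂)) ∨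
  (a₁ = 2 ∧ a₂ = 2 ∧ W = 2 * (ζ * a₃)) ∨
  (W = 12 * ζ ∧ (a₁ = 2 ∨ a₁ = 3) ∧ (a₂ = 2 ∨ a₂ = 3) ∧ (a₃ = 2 ∨ a₃ = 3)) ∨
  (W = 24 * ζ ∧ (a₁ = 2 ∨ a₁ = 3 ∨ a₁ = 4) ∧ (a₂ = 2 ∨ a₂ = 3 ∨ a₂ = 4) ∧
    (a₃ = 2 ∨ a₃ = 3 ∨ a₃ = 4) ∧ a₁ ≠ a₂ ∧ a₁ ≠ a₃ ∧ a₂ ≠ a₃) ∨
  (W = 60 * ζ ∧ (a₁ = 2 ∨ a₁ = 3 ∨ a₁ = 5) ∧ (a₂ = 2 ∨ a₂ = 3 ∨ a₂ = 5) ∧
    (a₃ = 2 ∨ a₃ = 3 ∨ a₃ = 5) ∧ a₁ ≠ a₂ ∧ a₁ ≠ a₃ ∧ a₂ ≠ a₃)

/-- three classes with `e = 2` -/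
theorem three {W ζ a₁ a₂ a₃ s₁ s₂ s₃ : ℤ} (hζ : 1 ≤ ζ) (hW : 1 ≤ W)
    (ha₁ : 2 ≤ a₁) (ha₂ : 2 ≤ a₂) (ha₃ : 2 ≤ a₃)
    (hs₁ : 2 * (s₁ * a₁) + W = W * a₁) (hs₂ : 2 * (s₂ * a₂) + W = W * a₂)
    (hs₃ : 2 * (s₃ * a₃) + W = W * a₃) (htot : W = ζ + s₁ + s₂ + s₃) :
    Sym3 W ζ a₁ a₂ a₃ := by
  unfold Sym3
  by_cases h1 : a₁ = 2
  · subst h1
    rcases three_2 hζ hW ha₂ ha₃ hs₁ hs₂ hs₃ htot with
      ⟨rfl, h⟩ | ⟨rfl, h⟩ | ⟨rfl, rfl, h⟩ | ⟨rfl, rfl, h⟩ | ⟨rfl, rfl, h⟩ | ⟨rfl, rfl, h⟩ | ⟨rfl, rfl, h⟩ <;>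
    omega
  by_cases h2 : a₂ = 2
  · subst h2
    rcases three_2 hζ hW ha₁ ha₃ hs₂ hs₁ hs₃ (by linarith) with
      ⟨rfl, h⟩ | ⟨rfl, h⟩ | ⟨rfl, rfl, h⟩ | ⟨rfl, rfl, h⟩ | ⟨rfl, rfl, h⟩ | ⟨rfl, rfl, h⟩ | ⟨rfl, rfl, h⟩ <;>
    omega
  by_cases h3 : a₃ = 2
  · subst h3
    rcases three_2 hζ hW ha₁ ha₂ hs₃ hs₁ hs₂ (by linarith) with
      ⟨rfl, h⟩ | ⟨rfl, h⟩ | ⟨rfl, rfl, h⟩ | ⟨rfl, rfl, h⟩ | ⟨rfl, rfl, h⟩ | ⟨rfl, rfl, h⟩ | ⟨rfl, rfl, h⟩ <;>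
    omega
  exfalso
  have hb1 : 3 ≤ a₁ := by omega
  have hb2 : 3 ≤ a₂ := by omega
  have hb3 : 3 ≤ a₃ := by omega
  have key : W * (a₂ * a₃ + a₁ * a₃ + a₁ * a₂) = W * (a₁ * a₂ * a₃) + 2 * (ζ * (a₁ * a₂ * a₃)) := by
    have e1 : 2 * (s₁ * a₁) = W * a₁ - W := by linarith
    have e2 : 2 * (s₂ * a₂) = W * a₂ - W := by linarith
    have e3 : 2 * (s₃ * a₃) = W * a₃ - W := by linarith
    have e4 : 2 * (W * (a₁ * a₂ * a₃)) =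
        2 * (ζ * (a₁ * a₂ * a₃)) + (2 * (s₁ * a₁)) * (a₂ * a₃) + (2 * (s₂ * a₂)) * (a₁ * a₃)
          + (2 * (s₃ * a₃)) * (a₁ * a₂) := by
      rw [htot]; ring
    rw [e1, e2, e3] at e4
    linarith
  have hp12 : 0 < a₁ * a₂ := by positivity
  have hp13 : 0 < a₁ * a₃ := by positivity
  have hp23 : 0 < a₂ * a₃ := by positivity
  have h4 : 3 * (a₂ * a₃) ≤ a₁ * a₂ * a₃ := by nlinarith
  have h5 : 3 * (a₁ * a₃) ≤ a₁ * a₂ * a₃ := by nlinarith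
  have h6 : 3 * (a₁ * a₂) ≤ a₁ * a₂ * a₃ := by nlinarith
  have h7 : a₂ * a₃ + a₁ * a₃ + a₁ * a₂ ≤ a₁ * a₂ * a₃ := by linarith
  have h8 : W * (a₂ * a₃ + a₁ * a₃ + a₁ * a₂) ≤ W * (a₁ * a₂ * a₃) := by nlinarith
  have h9 : 0 < ζ * (a₁ * a₂ * a₃) := by positivity
  linarith

/-- a class has at least a quarter of the elements -/
theorem four_mul_ge {W a s e : ℕ} (ha : 2 ≤ a) (he : e = 1 ∨ e = 2)
    (hs : e * (s * a) + W = W * a) : W ≤ 4 * s := by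
  have h1 : W * a ≤ (4 * s) * a := by
    rcases he with rfl | rfl <;> nlinarith
  exact Nat.le_of_mul_le_mul_right h1 (by omega)

/-- a class with `e = 1` has at least half of the elements -/
theorem two_mul_ge {W a s : ℕ} (ha : 2 ≤ a)
    (hs : 1 * (s * a) + W = W * a) : W ≤ 2 * s := by
  have h1 : W * a ≤ (2 * s) * a := by nlinarith
  exact Nat.le_of_mul_le_mul_right h1 (by omega)

end Cfsg.Agent.Lib.Helper74.ZassNum
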