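import Mathlib
import Cfsg.Agent.Lib.Helper11.ZassDefs
import Cfsg.Agent.Lib.Helper16.ClassEq2
import Cfsg.Agent.Lib.Helper74.ZassKleinNum

set_option autoImplicit false

/-!
# Klein's list from the class equation (keystone K-S0690-5 for helper11's S0690)

Abstract core: `G` finite, `Z` a central subgroup, commuting transitive outside `Z` (`ClassEq.CT Z`), with the class data
`ClassData Z` (the statement of `class_data0`) and `|G|` even → `|Z| = 2`.  Then `G` is abelian, or dihedral-like, or has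
order 24, 48 or 120 with the explicit centralizer data.
-/

namespace Cfsg.Agent.Lib.Helper74.Zass

open Cfsg.Agent.Lib.Helper16
open Classical

section Abstract

variable {G : Type*} [Group G] [Fintype G] {Z : Subgroup G}

/-- the statement of `class_data0` for `(G, Z)` -/
def ClassData (Z : Subgroup G) : Prop :=
  ∀ g : G, g ∉ Z → ∃ a c : ℕ, 2 ≤ a ∧
    Nat.card (Subgroup.centralizer ({g} : Set G)) = Nat.card Z * a ∧
    c + Nat.card Z = Nat.card Z * a ∧
    (Nat.card (ClassEq.Nm g) = Nat.card Z * a ∨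
      Nat.card (ClassEq.Nm g) = 2 * (Nat.card Z * a)) ∧
    (ClassEq.sat Z g).card * Nat.card (ClassEq.Nm g) = Nat.card G * c ∧
    (∀ l : G, l ∈ ClassEq.Nm g → l * g * l⁻¹ = g ∨ l * g * l⁻¹ = g⁻¹)

/-- abstract form of `KleinData` -/
def KleinDataG (Z : Subgroup G) (m : ℕ) : Prop :=
  ∀ h : G, h ∉ Z →
    (Nat.card (Subgroup.centralizer ({h} : Set G)) = 4 ∨
      Nat.card (Subgroup.centralizer ({h} : Set G)) = 6 ∨
      Nat.card (Subgroup.centralizer ({h} : Set G)) = 2 * m) ∧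
    Nat.card (ClassEq.Nm h) = 2 * Nat.card (Subgroup.centralizer ({h} : Set G)) ∧
    (∀ l : G, l ∈ ClassEq.Nm h → l * h * l⁻¹ = h ∨ l * h * l⁻¹ = h⁻¹) ∧
    ∀ h' : G, h' ∉ Z →
      Nat.card (Subgroup.centralizer ({h'} : Set G)) = Nat.card (Subgroup.centralizer ({h} : Set G)) →
      h' ∈ ClassEq.sat Z h

omit [Fintype G] in
theorem card_centralizer_conj (l h : G) :
    Nat.card (Subgroup.centralizer ({l * h * l⁻¹} : Set G)) =
      Nat.card (Subgroup.centralizer ({h} : Set G)) := by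
  apply Nat.card_congr
  refine ⟨fun x => ⟨l⁻¹ * x.1 * l, ?_⟩, fun y => ⟨l * y.1 * l⁻¹, ?_⟩, ?_, ?_⟩
  · have hx := Subgroup.mem_centralizer_singleton_iff.mp x.2
    rw [Subgroup.mem_centralizer_singleton_iff]
    have e1 : l⁻¹ * x.1 * l * h = l⁻¹ * (x.1 * (l * h * l⁻¹)) * l := by group
    have e2 : h * (l⁻¹ * x.1 * l) = l⁻¹ * ((l * h * l⁻¹) * x.1) * l := by group
    rw [e1, e2, hx]
  · have hy := Subgroup.mem_centralizer_singleton_iff.mp y.2
    rw [Subgroup.mem_centralizer_singleton_iff]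
    have e1 : l * y.1 * l⁻¹ * (l * h * l⁻¹) = l * (y.1 * h) * l⁻¹ := by group
    have e2 : l * h * l⁻¹ * (l * y.1 * l⁻¹) = l * (h * y.1) * l⁻¹ := by group
    rw [e1, e2, hy]
  · intro x
    apply Subtype.ext
    simp only
    group
  · intro y
    apply Subtype.ext
    simp only
    group

theorem card_centralizer_of_mem_sat (hct : ClassEq.CT Z) {g h : G} (hg : g ∉ Z)
    (hh : h ∈ ClassEq.sat Z g) :
    Nat.card (Subgroup.centralizer ({h} : Set G)) = Nat.card (Subgroup.centralizer ({g} : Set G)) := by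
  obtain ⟨l, hl⟩ := ClassEq.mem_sat.mp hh
  rw [← card_centralizer_conj l h, ClassEq.centralizer_eq_of_mem hct hg hl]

theorem card_total_one (hct : ClassEq.CT Z) {g₁ : G}
    (hall : ∀ y : G, y ∉ Z → y ∈ ClassEq.sat Z g₁) :
    Fintype.card G = Nat.card Z + (ClassEq.sat Z g₁).card := by
  have hZ : Nat.card Z = (Finset.univ.filter (fun h : G => h ∈ Z)).card := by
    rw [Nat.card_eq_fintype_card, ← Finset.card_univ]
    apply Finset.card_bij (fun (z : Z) _ => (z : G))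
    · intro z _; simp
    · intro a _ b _ hab; exact Subtype.ext hab
    · intro h hh
      simp only [Finset.mem_filter, Finset.mem_univ, true_and] at hh
      exact ⟨⟨h, hh⟩, Finset.mem_univ _, rfl⟩
  have hd1 : Disjoint (Finset.univ.filter (fun h : G => h ∈ Z)) (ClassEq.sat Z g₁) := by
    rw [Finset.disjoint_left]
    intro y hy hy'
    simp only [Finset.mem_filter, Finset.mem_univ, true_and] at hy
    exact ClassEq.not_mem_of_mem_sat hct hy' hy
  rw [hZ, ← Finset.card_union_of_disjoint hd1, ← Finset.card_univ]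
  congr 1
  ext y
  simp only [Finset.mem_univ, Finset.mem_union, Finset.mem_filter, true_and, true_iff]
  by_cases h1 : y ∈ Z
  · exact Or.inl h1
  · exact Or.inr (hall y h1)

/-- the numerical record of a class -/
theorem rec_of_data (hcd : ClassData Z) {g : G} (hg : g ∉ Z) :
    ∃ a e : ℕ, 2 ≤ a ∧ (e = 1 ∨ e = 2) ∧
      Nat.card (Subgroup.centralizer ({g} : Set G)) = Nat.card Z * a ∧
      Nat.card (ClassEq.Nm g) = e * (Nat.card Z * a) ∧
      e * ((ClassEq.sat Z g).card * a) + Nat.card G = Nat.card G * a := by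
  obtain ⟨a, c, ha, hC, hc, hN, hs, -⟩ := hcd g hg
  have hζ : 0 < Nat.card Z := Nat.card_pos
  rcases hN with hN | hN
  · refine ⟨a, 1, ha, Or.inl rfl, hC, by rw [hN, one_mul], ?_⟩
    rw [hN] at hs
    apply Nat.eq_of_mul_eq_mul_left hζ
    zify at hs hc ⊢
    linear_combination hs + (Nat.card G : ℤ) * hc
  · refine ⟨a, 2, ha, Or.inr rfl, hC, hN, ?_⟩
    rw [hN] at hs
    apply Nat.eq_of_mul_eq_mul_left hζ
    zify at hs hc ⊢
    linear_combination hs + (Nat.card G : ℤ) * hc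

theorem mem_sat_of_both (hct : ClassEq.CT Z) {g h h' : G} (hg : g ∉ Z) (hh : h ∉ Z)
    (h1 : h ∈ ClassEq.sat Z g) (h2 : h' ∈ ClassEq.sat Z g) : h' ∈ ClassEq.sat Z h := by
  rw [ClassEq.sat_eq_of_mem hct hh hg (ClassEq.self_mem_sat hh) h1]
  exact h2

/-- the alternative "dihedral": the centralizer of `g` has index two -/
theorem alt1_of (hct : ClassEq.CT Z) {g : G} (hg : g ∉ Z)
    (hN : Nat.card (ClassEq.Nm g) = Nat.card G)
    (cover : ∀ h : G, h ∉ Z → h ∈ ClassEq.sat Z g ∨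
      Nat.card (Subgroup.centralizer ({h} : Set G)) = 2 * Nat.card Z) :
    ∀ h : G, h ∉ Z → h ∈ Subgroup.centralizer ({g} : Set G) ∨
      Nat.card (Subgroup.centralizer ({h} : Set G)) = 2 * Nat.card Z := by
  have htop : ClassEq.Nm g = ⊤ := Subgroup.eq_top_of_card_eq _ hN
  intro h hh
  rcases cover h hh with h1 | h1
  · left
    obtain ⟨l, hl⟩ := ClassEq.mem_sat.mp h1
    have hl2 : l * h * l⁻¹ ∈ Subgroup.centralizer ({g} : Set G) :=
      Subgroup.mem_centralizer_singleton_iff.mpr (ClassEq.mem_cls.mp hl).2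
    have hlN : l⁻¹ ∈ ClassEq.Nm g := by rw [htop]; exact Subgroup.mem_top _
    have := (Subgroup.mem_normalizer_iff.mp hlN (l * h * l⁻¹)).mp hl2
    have e : l⁻¹ * (l * h * l⁻¹) * l⁻¹⁻¹ = h := by group
    rw [e] at this
    exact this
  · exact Or.inr h1

/-- Klein data from three classes with pairwise different centralizer orders -/
theorem kleinData_of (hct : ClassEq.CT Z) (hcd : ClassData Z) {m : ℕ} {g₁ g₂ g₃ : G}
    (hg₁ : g₁ ∉ Z) (hg₂ : g₂ ∉ Z) (hg₃ : g₃ ∉ Z)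
    (cover : ∀ h : G, h ∉ Z → h ∈ ClassEq.sat Z g₁ ∨ h ∈ ClassEq.sat Z g₂ ∨ h ∈ ClassEq.sat Z g₃)
    (hζ : Nat.card Z = 2)
    {a₁ a₂ a₃ : ℕ}
    (hC₁ : Nat.card (Subgroup.centralizer ({g₁} : Set G)) = Nat.card Z * a₁)
    (hC₂ : Nat.card (Subgroup.centralizer ({g₂} : Set G)) = Nat.card Z * a₂)
    (hC₃ : Nat.card (Subgroup.centralizer ({g₃} : Set G)) = Nat.card Z * a₃)
    (hs₁ : 2 * ((ClassEq.sat Z g₁).card * a₁) + Nat.card G = Nat.card G * a₁)
    (hs₂ : 2 * ((ClassEq.sat Z g₂).card * a₂) + Nat.card G = Nat.card G * a₂)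
    (hs₃ : 2 * ((ClassEq.sat Z g₃).card * a₃) + Nat.card G = Nat.card G * a₃)
    (hm₁ : a₁ = 2 ∨ a₁ = 3 ∨ a₁ = m) (hm₂ : a₂ = 2 ∨ a₂ = 3 ∨ a₂ = m)
    (hm₃ : a₃ = 2 ∨ a₃ = 3 ∨ a₃ = m)
    (h12 : a₁ ≠ a₂) (h13 : a₁ ≠ a₃) (h23 : a₂ ≠ a₃) : KleinDataG Z m := by
  -- the data of an element in the class of a representative
  have main : ∀ (g : G) (a : ℕ), g ∉ Z →
      Nat.card (Subgroup.centralizer ({g} : Set G)) = Nat.card Z * a →
      2 * ((ClassEq.sat Z g).card * a) + Nat.card G = Nat.card G * a →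
      (a = 2 ∨ a = 3 ∨ a = m) → ∀ h : G, h ∉ Z → h ∈ ClassEq.sat Z g →
      (Nat.card (Subgroup.centralizer ({h} : Set G)) = 4 ∨
        Nat.card (Subgroup.centralizer ({h} : Set G)) = 6 ∨
        Nat.card (Subgroup.centralizer ({h} : Set G)) = 2 * m) ∧
      Nat.card (ClassEq.Nm h) = 2 * Nat.card (Subgroup.centralizer ({h} : Set G)) ∧
      (∀ l : G, l ∈ ClassEq.Nm h → l * h * l⁻¹ = h ∨ l * h * l⁻¹ = h⁻¹) := by
    intro g a hg hC hs hm h hh hmem
    have hCh := card_centralizer_of_mem_sat hct hg hmem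
    refine ⟨?_, ?_, ?_⟩
    · rw [hCh, hC, hζ]
      rcases hm with rfl | rfl | rfl
      · left; rfl
      · right; left; rfl
      · right; right; rfl
    · obtain ⟨a', e', ha', he', hC', hN', hs'⟩ := rec_of_data hcd hh
      have haa : a' = a := by
        have : Nat.card Z * a' = Nat.card Z * a := by rw [← hC', ← hC, hCh]
        exact Nat.eq_of_mul_eq_mul_left (by rw [hζ]; norm_num) this
      subst haa
      have hsat : ClassEq.sat Z h = ClassEq.sat Z g :=
        ClassEq.sat_eq_of_mem hct hh hg (ClassEq.self_mem_sat hh) hmem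
      rw [hsat] at hs'
      have hspos : 0 < (ClassEq.sat Z g).card := Finset.card_pos.mpr ⟨h, hmem⟩
      have he2 : e' = 2 := by
        have h1 : e' * ((ClassEq.sat Z g).card * a') = 2 * ((ClassEq.sat Z g).card * a') := by
          omega
        exact Nat.eq_of_mul_eq_mul_right (by positivity) h1
      rw [hN', he2, hC']
    · obtain ⟨_, _, _, _, _, _, _, hinv⟩ := hcd h hh
      exact hinv
  intro h hh
  have hcase : ∃ (g : G) (a : ℕ), g ∉ Z ∧
      Nat.card (Subgroup.centralizer ({g} : Set G)) = Nat.card Z * a ∧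
      2 * ((ClassEq.sat Z g).card * a) + Nat.card G = Nat.card G * a ∧
      (a = 2 ∨ a = 3 ∨ a = m) ∧ h ∈ ClassEq.sat Z g ∧
      ∀ h' : G, h' ∉ Z →
        Nat.card (Subgroup.centralizer ({h'} : Set G)) = Nat.card (Subgroup.centralizer ({g} : Set G)) →
        h' ∈ ClassEq.sat Z g := by
    have hne : ∀ {a b : ℕ}, a ≠ b → Nat.card Z * a ≠ Nat.card Z * b := by
      intro a b hab e
      exact hab (Nat.eq_of_mul_eq_mul_left (by rw [hζ]; norm_num) e)
    rcases cover h hh with h1 | h1 | h1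
    · refine ⟨g₁, a₁, hg₁, hC₁, hs₁, hm₁, h1, ?_⟩
      intro h' hh' heq
      rcases cover h' hh' with h2 | h2 | h2
      · exact h2
      · exfalso
        rw [card_centralizer_of_mem_sat hct hg₂ h2, hC₂, hC₁] at heq
        exact hne h12.symm heq
      · exfalso
        rw [card_centralizer_of_mem_sat hct hg₃ h2, hC₃, hC₁] at heq
        exact hne h13.symm heq
    · refine ⟨g₂, a₂, hg₂, hC₂, hs₂, hm₂, h1, ?_⟩
      intro h' hh' heq
      rcases cover h' hh' with h2 | h2 | h2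
      · exfalso
        rw [card_centralizer_of_mem_sat hct hg₁ h2, hC₁, hC₂] at heq
        exact hne h12 heq
      · exact h2
      · exfalso
        rw [card_centralizer_of_mem_sat hct hg₃ h2, hC₃, hC₂] at heq
        exact hne h23.symm heq
    · refine ⟨g₃, a₃, hg₃, hC₃, hs₃, hm₃, h1, ?_⟩
      intro h' hh' heq
      rcases cover h' hh' with h2 | h2 | h2
      · exfalso
        rw [card_centralizer_of_mem_sat hct hg₁ h2, hC₁, hC₃] at heq
        exact hne h13 heq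
      · exfalso
        rw [card_centralizer_of_mem_sat hct hg₂ h2, hC₂, hC₃] at heq
        exact hne h23 heq
      · exact h2
  obtain ⟨g, a, hg, hC, hs, hm, hmem, hsame⟩ := hcase
  obtain ⟨m1, m2, m3⟩ := main g a hg hC hs hm h hh hmem
  refine ⟨m1, m2, m3, ?_⟩
  intro h' hh' heq
  rw [card_centralizer_of_mem_sat hct hg hmem] at heq
  exact mem_sat_of_both hct hg hh hmem (hsame h' hh' heq)

/-- the conclusion of `klein_cases` for `(G, Z)` -/
def KleinConcl (Z : Subgroup G) : Prop :=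
  (∃ g : G, g ∉ Z ∧ 2 * Nat.card (Subgroup.centralizer ({g} : Set G)) = Nat.card G ∧
    ∀ h : G, h ∉ Z → h ∈ Subgroup.centralizer ({g} : Set G) ∨
      Nat.card (Subgroup.centralizer ({h} : Set G)) = 2 * Nat.card Z) ∨
  (Nat.card G = 24 ∧ ∀ h : G, h ∉ Z →
    Nat.card (Subgroup.centralizer ({h} : Set G)) = 4 ∨
    Nat.card (Subgroup.centralizer ({h} : Set G)) = 6) ∨
  (Nat.card G = 48 ∧ Nat.card Z = 2 ∧ KleinDataG Z 4) ∨
  (Nat.card G = 120 ∧ Nat.card Z = 2 ∧ KleinDataG Z 5)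

omit [Fintype G] in
/-- `|G| = k ζ` with `k` even forces `ζ = 2` -/
theorem zeta_two (hev : Even (Nat.card G) → Nat.card Z = 2) {k : ℕ} (hk : Even k)
    (hW : Nat.card G = k * Nat.card Z) : Nat.card Z = 2 := by
  apply hev
  rw [hW]
  exact hk.mul_right _

set_option maxHeartbeats 1600000 in
/-- Klein's list, abstract form -/
theorem klein_abstract (hct : ClassEq.CT Z) (hcd : ClassData Z)
    (hev : Even (Nat.card G) → Nat.card Z = 2) (hna : ∃ a b : G, a * b ≠ b * a) :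
    KleinConcl Z := by
  obtain ⟨x, y₀, hxy⟩ := hna
  have hx : x ∉ Z := fun hx => hxy (hct.central x hx y₀)
  have hζ1 : 1 ≤ Nat.card Z := Nat.card_pos
  have hW1 : 1 ≤ Nat.card G := Nat.card_pos
  have hWF : Fintype.card G = Nat.card G := Nat.card_eq_fintype_card.symm
  -- Lagrange for the normalizers
  have hlag : ∀ g : G, Nat.card (ClassEq.Nm g) ≤ Nat.card G := fun g =>
    Nat.le_of_dvd hW1 (Subgroup.card_subgroup_dvd_card _)
  obtain ⟨a₁, e₁, ha₁, he₁, hC₁, hN₁, hs₁⟩ := rec_of_data hcd hx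
  have hq₁ := ZassNum.four_mul_ge ha₁ he₁ hs₁
  by_cases hall1 : ∀ y : G, y ∉ Z → y ∈ ClassEq.sat Z x
  · -- one class
    exfalso
    have htot := card_total_one hct hall1
    rw [hWF] at htot
    rcases he₁ with rfl | rfl
    · have h1 : (Nat.card G : ℤ) = (Nat.card Z : ℤ) * a₁ :=
        ZassNum.one_e1 (W := (Nat.card G : ℤ)) (ζ := (Nat.card Z : ℤ)) (a := (a₁ : ℤ))
          (s := ((ClassEq.sat Z x).card : ℤ))
          (by exact_mod_cast ha₁) (by exact_mod_cast hs₁) (by exact_mod_cast htot)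
      have h2 : Nat.card (Subgroup.centralizer ({x} : Set G)) = Nat.card G := by
        rw [hC₁]; exact_mod_cast h1.symm
      have htop : Subgroup.centralizer ({x} : Set G) = ⊤ := Subgroup.eq_top_of_card_eq _ h2
      have hcomm : ∀ w : G, w * x = x * w := by
        intro w
        have : w ∈ Subgroup.centralizer ({x} : Set G) := by rw [htop]; exact Subgroup.mem_top _
        exact Subgroup.mem_centralizer_singleton_iff.mp this
      exact hxy (hct.trans x x y₀ hx rfl (hcomm y₀).symm)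
    · have hL := hlag x
      rw [hN₁] at hL
      exact ZassNum.one_e2 (W := (Nat.card G : ℤ)) (ζ := (Nat.card Z : ℤ)) (a := (a₁ : ℤ))
        (s := ((ClassEq.sat Z x).card : ℤ))
        (by exact_mod_cast hζ1) (by exact_mod_cast ha₁) (by exact_mod_cast hL)
        (by exact_mod_cast hs₁) (by exact_mod_cast htot)
  push Not at hall1
  obtain ⟨g₂, hg₂, h12⟩ := hall1
  obtain ⟨a₂, e₂, ha₂, he₂, hC₂, hN₂, hs₂⟩ := rec_of_data hcd hg₂
  have hq₂ := ZassNum.four_mul_ge ha₂ he₂ hs₂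
  have htot := ClassEq.card_total hct hx hg₂ h12
  rw [hWF] at htot
  by_cases hrest : ClassEq.rest Z x g₂ = ∅
  · -- two classes
    rw [hrest, Finset.card_empty, add_zero] at htot
    have cover : ∀ h : G, h ∉ Z → h ∈ ClassEq.sat Z x ∨ h ∈ ClassEq.sat Z g₂ := by
      intro h hh
      by_contra hcon
      push Not at hcon
      have : h ∈ ClassEq.rest Z x g₂ := ClassEq.mem_rest.mpr ⟨hh, hcon.1, hcon.2⟩
      rw [hrest] at this
      exact absurd this (Finset.notMem_empty _)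
    -- the (1,2) case, in both orders
    have case12 : ∀ (u v : G) (au av : ℕ), u ∉ Z → v ∉ Z → 2 ≤ au → 2 ≤ av →
        Nat.card (Subgroup.centralizer ({u} : Set G)) = Nat.card Z * au →
        Nat.card (Subgroup.centralizer ({v} : Set G)) = Nat.card Z * av →
        Nat.card (ClassEq.Nm v) = 2 * (Nat.card Z * av) →
        1 * ((ClassEq.sat Z u).card * au) + Nat.card G = Nat.card G * au →
        2 * ((ClassEq.sat Z v).card * av) + Nat.card G = Nat.card G * av →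
        Nat.card G = Nat.card Z + (ClassEq.sat Z u).card + (ClassEq.sat Z v).card →
        (∀ h : G, h ∉ Z → h ∈ ClassEq.sat Z u ∨ h ∈ ClassEq.sat Z v) → KleinConcl Z := by
      intro u v au av hu hv hau hav hCu hCv hNv hsu hsv htot' cov
      have hnum := ZassNum.two_12 (W := (Nat.card G : ℤ)) (ζ := (Nat.card Z : ℤ)) (a₁ := (au : ℤ))
        (a₂ := (av : ℤ)) (s₁ := ((ClassEq.sat Z u).card : ℤ)) (s₂ := ((ClassEq.sat Z v).card : ℤ))
        (by exact_mod_cast hζ1) (by exact_mod_cast hW1) (by exact_mod_cast hau)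
        (by exact_mod_cast hav) (by exact_mod_cast hsu) (by exact_mod_cast hsv)
        (by exact_mod_cast htot')
      rcases hnum with ⟨h1, h2⟩ | ⟨h1, h2, h3⟩
      · have hau2 : au = 2 := by exact_mod_cast h1
        have hWv : Nat.card G = 2 * (Nat.card Z * av) := by exact_mod_cast h2
        left
        refine ⟨v, hv, by rw [hCv, hWv], ?_⟩
        apply alt1_of hct hv (by rw [hNv, hWv])
        intro h hh
        rcases cov h hh with h4 | h4
        · right
          rw [card_centralizer_of_mem_sat hct hu h4, hCu, hau2, mul_comm]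
        · exact Or.inl h4
      · have hau3 : au = 3 := by exact_mod_cast h1
        have hav2 : av = 2 := by exact_mod_cast h2
        have hW12 : Nat.card G = 12 * Nat.card Z := by exact_mod_cast h3
        have hζ2 : Nat.card Z = 2 := zeta_two hev (by decide) hW12
        right; left
        refine ⟨by rw [hW12, hζ2], ?_⟩
        intro h hh
        rcases cov h hh with h4 | h4
        · right
          rw [card_centralizer_of_mem_sat hct hu h4, hCu, hau3, hζ2]
        · left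
          rw [card_centralizer_of_mem_sat hct hv h4, hCv, hav2, hζ2]
    rcases he₁ with rfl | rfl <;> rcases he₂ with rfl | rfl
    · exfalso
      exact ZassNum.two_11 (W := (Nat.card G : ℤ)) (ζ := (Nat.card Z : ℤ)) (a₁ := (a₁ : ℤ))
        (a₂ := (a₂ : ℤ)) (s₁ := ((ClassEq.sat Z x).card : ℤ)) (s₂ := ((ClassEq.sat Z g₂).card : ℤ))
        (by exact_mod_cast hζ1) (by exact_mod_cast hW1) (by exact_mod_cast ha₁)
        (by exact_mod_cast ha₂) (by exact_mod_cast hs₁) (by exact_mod_cast hs₂)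
        (by exact_mod_cast htot)
    · exact case12 x g₂ a₁ a₂ hx hg₂ ha₁ ha₂ hC₁ hC₂ hN₂ hs₁ hs₂ htot cover
    · exact case12 g₂ x a₂ a₁ hg₂ hx ha₂ ha₁ hC₂ hC₁ hN₁ hs₂ hs₁ (by omega)
        (fun h hh => (cover h hh).symm)
    · exfalso
      have hL₁ := hlag x
      have hL₂ := hlag g₂
      rw [hN₁] at hL₁
      rw [hN₂] at hL₂
      exact ZassNum.two_22 (W := (Nat.card G : ℤ)) (ζ := (Nat.card Z : ℤ)) (a₁ := (a₁ : ℤ))
        (a₂ := (a₂ : ℤ)) (s₁ := ((ClassEq.sat Z x).card : ℤ)) (s₂ := ((ClassEq.sat Z g₂).card : ℤ))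
        (by exact_mod_cast hζ1) (by exact_mod_cast ha₁) (by exact_mod_cast ha₂)
        (by exact_mod_cast hL₁) (by exact_mod_cast hL₂) (by exact_mod_cast hs₁)
        (by exact_mod_cast hs₂) (by exact_mod_cast htot)
  obtain ⟨g₃, hg₃⟩ := Finset.nonempty_iff_ne_empty.mpr hrest
  have hg₃Z := (ClassEq.mem_rest.mp hg₃).1
  obtain ⟨a₃, e₃, ha₃, he₃, hC₃, hN₃, hs₃⟩ := rec_of_data hcd hg₃Z
  have hq₃ := ZassNum.four_mul_ge ha₃ he₃ hs₃
  by_cases hall3 : ∀ g' ∈ ClassEq.rest Z x g₂, g' ∈ ClassEq.sat Z g₃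
  · -- three classes
    have hRS := ClassEq.rest_eq_sat hct hx hg₂ hg₃ hall3
    rw [hRS] at htot
    have cover : ∀ h : G, h ∉ Z →
        h ∈ ClassEq.sat Z x ∨ h ∈ ClassEq.sat Z g₂ ∨ h ∈ ClassEq.sat Z g₃ := by
      intro h hh
      by_contra hcon
      push Not at hcon
      have : h ∈ ClassEq.rest Z x g₂ := ClassEq.mem_rest.mpr ⟨hh, hcon.1, hcon.2.1⟩
      exact hcon.2.2 (hall3 h this)
    have he₁' : e₁ = 2 := by
      rcases he₁ with rfl | rfl
      · exfalso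
        have := ZassNum.two_mul_ge ha₁ hs₁
        omega
      · rfl
    have he₂' : e₂ = 2 := by
      rcases he₂ with rfl | rfl
      · exfalso
        have := ZassNum.two_mul_ge ha₂ hs₂
        omega
      · rfl
    have he₃' : e₃ = 2 := by
      rcases he₃ with rfl | rfl
      · exfalso
        have := ZassNum.two_mul_ge ha₃ hs₃
        omega
      · rfl
    subst he₁' he₂' he₃'
    have hnum := ZassNum.three (W := (Nat.card G : ℤ)) (ζ := (Nat.card Z : ℤ)) (a₁ := (a₁ : ℤ))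
      (a₂ := (a₂ : ℤ)) (a₃ := (a₃ : ℤ)) (s₁ := ((ClassEq.sat Z x).card : ℤ))
      (s₂ := ((ClassEq.sat Z g₂).card : ℤ)) (s₃ := ((ClassEq.sat Z g₃).card : ℤ))
      (by exact_mod_cast hζ1) (by exact_mod_cast hW1) (by exact_mod_cast ha₁)
      (by exact_mod_cast ha₂) (by exact_mod_cast ha₃) (by exact_mod_cast hs₁)
      (by exact_mod_cast hs₂) (by exact_mod_cast hs₃) (by exact_mod_cast htot)
    have hnumN : (a₂ = 2 ∧ a₃ = 2 ∧ Nat.card G = 2 * (Nat.card Z * a₁)) ∨
        (a₁ = 2 ∧ a₃ = 2 ∧ Nat.card G = 2 * (Nat.card Z * a₂)) ∨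
        (a₁ = 2 ∧ a₂ = 2 ∧ Nat.card G = 2 * (Nat.card Z * a₃)) ∨
        (Nat.card G = 12 * Nat.card Z ∧ (a₁ = 2 ∨ a₁ = 3) ∧ (a₂ = 2 ∨ a₂ = 3) ∧ (a₃ = 2 ∨ a₃ = 3)) ∨
        (Nat.card G = 24 * Nat.card Z ∧ (a₁ = 2 ∨ a₁ = 3 ∨ a₁ = 4) ∧ (a₂ = 2 ∨ a₂ = 3 ∨ a₂ = 4) ∧
          (a₃ = 2 ∨ a₃ = 3 ∨ a₃ = 4) ∧ a₁ ≠ a₂ ∧ a₁ ≠ a₃ ∧ a₂ ≠ a₃) ∨
        (Nat.card G = 60 * Nat.card Z ∧ (a₁ = 2 ∨ a₁ = 3 ∨ a₁ = 5) ∧ (a₂ = 2 ∨ a₂ = 3 ∨ a₂ = 5) ∧
          (a₃ = 2 ∨ a₃ = 3 ∨ a₃ = 5) ∧ a₁ ≠ a₂ ∧ a₁ ≠ a₃ ∧ a₂ ≠ a₃) := by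
      unfold ZassNum.Sym3 at hnum
      exact_mod_cast hnum
    -- the dihedral alternative with special class `v`
    have caseA : ∀ (v u w : G) (av : ℕ), v ∉ Z → u ∉ Z → w ∉ Z →
        Nat.card (Subgroup.centralizer ({v} : Set G)) = Nat.card Z * av →
        Nat.card (ClassEq.Nm v) = 2 * (Nat.card Z * av) →
        Nat.card (Subgroup.centralizer ({u} : Set G)) = Nat.card Z * 2 →
        Nat.card (Subgroup.centralizer ({w} : Set G)) = Nat.card Z * 2 →
        Nat.card G = 2 * (Nat.card Z * av) →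
        (∀ h : G, h ∉ Z → h ∈ ClassEq.sat Z v ∨ h ∈ ClassEq.sat Z u ∨ h ∈ ClassEq.sat Z w) →
        KleinConcl Z := by
      intro v u w av hv hu hw hCv hNv hCu hCw hWv cov
      left
      refine ⟨v, hv, by rw [hCv, hWv], ?_⟩
      apply alt1_of hct hv (by rw [hNv, hWv])
      intro h hh
      rcases cov h hh with h4 | h4 | h4
      · exact Or.inl h4
      · right
        rw [card_centralizer_of_mem_sat hct hu h4, hCu, mul_comm]
      · right
        rw [card_centralizer_of_mem_sat hct hw h4, hCw, mul_comm]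
    rcases hnumN with ⟨h2, h3, hWv⟩ | ⟨h1, h3, hWv⟩ | ⟨h1, h2, hWv⟩ | ⟨hW12, hm₁, hm₂, hm₃⟩ |
      ⟨hW24, hm₁, hm₂, hm₃, d12, d13, d23⟩ | ⟨hW60, hm₁, hm₂, hm₃, d12, d13, d23⟩
    · exact caseA x g₂ g₃ a₁ hx hg₂ hg₃Z hC₁ hN₁ (by rw [hC₂, h2]) (by rw [hC₃, h3]) hWv cover
    · exact caseA g₂ x g₃ a₂ hg₂ hx hg₃Z hC₂ hN₂ (by rw [hC₁, h1]) (by rw [hC₃, h3]) hWv
        (fun h hh => by rcases cover h hh with h4 | h4 | h4 <;> tauto)
    · exact caseA g₃ x g₂ a₃ hg₃Z hx hg₂ hC₃ hN₃ (by rw [hC₁, h1]) (by rw [hC₂, h2]) hWv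
        (fun h hh => by rcases cover h hh with h4 | h4 | h4 <;> tauto)
    · have hζ2 : Nat.card Z = 2 := zeta_two hev (by decide) hW12
      right; left
      refine ⟨by rw [hW12, hζ2], ?_⟩
      intro h hh
      rcases cover h hh with h4 | h4 | h4
      · rw [card_centralizer_of_mem_sat hct hx h4, hC₁, hζ2]
        rcases hm₁ with rfl | rfl
        · left; rfl
        · right; rfl
      · rw [card_centralizer_of_mem_sat hct hg₂ h4, hC₂, hζ2]
        rcases hm₂ with rfl | rfl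
        · left; rfl
        · right; rfl
      · rw [card_centralizer_of_mem_sat hct hg₃Z h4, hC₃, hζ2]
        rcases hm₃ with rfl | rfl
        · left; rfl
        · right; rfl
    · have hζ2 : Nat.card Z = 2 := zeta_two hev (by decide) hW24
      right; right; left
      refine ⟨by rw [hW24, hζ2], hζ2, ?_⟩
      exact kleinData_of hct hcd hx hg₂ hg₃Z cover hζ2 hC₁ hC₂ hC₃ hs₁ hs₂ hs₃ hm₁ hm₂ hm₃ d12 d13 d23
    · have hζ2 : Nat.card Z = 2 := zeta_two hev (by decide) hW60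
      right; right; right
      refine ⟨by rw [hW60, hζ2], hζ2, ?_⟩
      exact kleinData_of hct hcd hx hg₂ hg₃Z cover hζ2 hC₁ hC₂ hC₃ hs₁ hs₂ hs₃ hm₁ hm₂ hm₃ d12 d13 d23
  · -- four classes: impossible
    exfalso
    push Not at hall3
    obtain ⟨g₄, hg₄, h34⟩ := hall3
    have hg₄Z := (ClassEq.mem_rest.mp hg₄).1
    obtain ⟨a₄, e₄, ha₄, he₄, hC₄, hN₄, hs₄⟩ := rec_of_data hcd hg₄Z
    have hq₄ := ZassNum.four_mul_ge ha₄ he₄ hs₄
    have h5 := ClassEq.two_sat_le hct hx hg₂ hg₃ hg₄ h34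
    omega

end Abstract

/-! ### the `SL₂` form -/

section Klein
variable {K : Type*} [Field K]

local notation "SL2" => Matrix.SpecialLinearGroup (Fin 2) K

/-- the class data of the binary octahedral (`m = 4`) and binary icosahedral (`m = 5`) groups -/
def KleinData (L : Subgroup SL2) [Fintype L] (m : ℕ) : Prop :=
  ∀ h : L, h ∉ SL2Q.ZL L →
    (Nat.card (Subgroup.centralizer ({h} : Set L)) = 4 ∨
      Nat.card (Subgroup.centralizer ({h} : Set L)) = 6 ∨
      Nat.card (Subgroup.centralizer ({h} : Set L)) = 2 * m) ∧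
    Nat.card (ClassEq.Nm h) = 2 * Nat.card (Subgroup.centralizer ({h} : Set L)) ∧
    (∀ l : L, l ∈ ClassEq.Nm h → l * h * l⁻¹ = h ∨ l * h * l⁻¹ = h⁻¹) ∧
    ∀ h' : L, h' ∉ SL2Q.ZL L →
      Nat.card (Subgroup.centralizer ({h'} : Set L)) = Nat.card (Subgroup.centralizer ({h} : Set L)) →
      h' ∈ ClassEq.sat (SL2Q.ZL L) h

/-- K-S0690-5 with the two facts of K-S0690-4 as hypotheses (any field) -/
theorem klein_cases_of (L : Subgroup SL2) [Fintype L]
    (hcd : ∀ g : L, g ∉ SL2Q.ZL L → ∃ a c : ℕ, 2 ≤ a ∧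
      Nat.card (Subgroup.centralizer ({g} : Set L)) = Nat.card (SL2Q.ZL L) * a ∧
      c + Nat.card (SL2Q.ZL L) = Nat.card (SL2Q.ZL L) * a ∧
      (Nat.card (ClassEq.Nm g) = Nat.card (SL2Q.ZL L) * a ∨
        Nat.card (ClassEq.Nm g) = 2 * (Nat.card (SL2Q.ZL L) * a)) ∧
      (ClassEq.sat (SL2Q.ZL L) g).card * Nat.card (ClassEq.Nm g) = Nat.card L * c ∧
      (∀ l : L, l ∈ ClassEq.Nm g → l * g * l⁻¹ = g ∨ l * g * l⁻¹ = g⁻¹))
    (hev : Even (Nat.card L) → Nat.card (SL2Q.ZL L) = 2)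
    (hna : ∃ a b : L, a * b ≠ b * a) :
    (∃ g : L, g ∉ SL2Q.ZL L ∧ 2 * Nat.card (Subgroup.centralizer ({g} : Set L)) = Nat.card L ∧
      ∀ h : L, h ∉ SL2Q.ZL L → h ∈ Subgroup.centralizer ({g} : Set L) ∨
        Nat.card (Subgroup.centralizer ({h} : Set L)) = 2 * Nat.card (SL2Q.ZL L)) ∨
    (Nat.card L = 24 ∧ ∀ h : L, h ∉ SL2Q.ZL L →
      Nat.card (Subgroup.centralizer ({h} : Set L)) = 4 ∨
      Nat.card (Subgroup.centralizer ({h} : Set L)) = 6) ∨
    (Nat.card L = 48 ∧ Nat.card (SL2Q.ZL L) = 2 ∧ KleinData L 4) ∨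
    (Nat.card L = 120 ∧ Nat.card (SL2Q.ZL L) = 2 ∧ KleinData L 5) :=
  klein_abstract (SL2Q.ct_L L) hcd hev hna

end Klein

end Cfsg.Agent.Lib.Helper74.Zass
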