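import Mathlib
import Cfsg.Agent.Lib.Helper11.ZassDefs
import Cfsg.Agent.Lib.Helper16.ClassEq2
import Cfsg.Agent.Lib.Helper30.ZassClass
import Cfsg.Agent.Lib.Helper74.ZassKlein

set_option autoImplicit false

/-!
# Keystone K-S0690-5 `klein_cases`, exact signature (char 0), on helper30's K-S0690-4
-/

namespace Cfsg.Agent.Lib.Helper74.Zass

open Cfsg.Agent.Lib.Helper16
open Classical

section Klein
variable {K : Type*} [Field K] [CharZero K]

local notation "SL2" => Matrix.SpecialLinearGroup (Fin 2) K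

/-- K-S0690-5 (id 69005), exact signature -/
theorem klein_cases (L : Subgroup SL2) [Fintype L] (hna : ∃ a b : L, a * b ≠ b * a) :
    (∃ g : L, g ∉ SL2Q.ZL L ∧ 2 * Nat.card (Subgroup.centralizer ({g} : Set L)) = Nat.card L ∧
      ∀ h : L, h ∉ SL2Q.ZL L → h ∈ Subgroup.centralizer ({g} : Set L) ∨
        Nat.card (Subgroup.centralizer ({h} : Set L)) = 2 * Nat.card (SL2Q.ZL L)) ∨
    (Nat.card L = 24 ∧ ∀ h : L, h ∉ SL2Q.ZL L →
      Nat.card (Subgroup.centralizer ({h} : Set L)) = 4 ∨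
      Nat.card (Subgroup.centralizer ({h} : Set L)) = 6) ∨
    (Nat.card L = 48 ∧ Nat.card (SL2Q.ZL L) = 2 ∧ KleinData L 4) ∨
    (Nat.card L = 120 ∧ Nat.card (SL2Q.ZL L) = 2 ∧ KleinData L 5) :=
  klein_cases_of L (fun g hg => Cfsg.Agent.Lib.Helper30.Zass.class_data0 L g hg)
    (Cfsg.Agent.Lib.Helper30.Zass.card_ZL_of_even0 L) hna

end Klein

end Cfsg.Agent.Lib.Helper74.Zass
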