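import Mathlib
import Cfsg.Agent.Lib.Helper49.StSpDefs

set_option autoImplicit false

/-! K-StSp-R1 (keystone 254501, pack for S2545, architect helper49): the positive root elements of
`Sp_{2m}(F)` are upper triangular; value at `0`. -/

namespace Cfsg.Agent.Lib.Helper74.StSp

open Matrix Cfsg.Agent.Lib.Helper49.StSp

variable {m : ℕ} {F : Type*} [Field F]

theorem transvection_apply_of_ne (i j a b : Fin m) (t : F) (hab : a ≠ b) (hij : ¬ (i = a ∧ j = b)) :
    Matrix.transvection i j t a b = 0 := by
  unfold Matrix.transvection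
  rw [Matrix.add_apply, Matrix.one_apply_ne hab, zero_add, Matrix.single_apply, if_neg hij]

theorem xS_mem_B (i j : Fin m) (hij : i < j) (t : F) :
    xS m F i j (ne_of_lt hij) t ∈ Bsub m F := by
  rw [mem_Bsub_iff]
  rintro (a | a) (b | b) hab
  · show Matrix.transvection i j t a b = 0
    simp only [pos] at hab
    apply transvection_apply_of_ne
    · intro h; rw [h] at hab; exact lt_irrefl _ hab
    · rintro ⟨rfl, rfl⟩
      exact absurd hab (not_lt.2 (le_of_lt hij))
  · rfl
  · rfl
  · show Matrix.transvection j i (-t) a b = 0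
    simp only [pos] at hab
    have ha := a.2
    have hb := b.2
    apply transvection_apply_of_ne
    · intro h; rw [h] at hab; exact lt_irrefl _ hab
    · rintro ⟨rfl, rfl⟩
      have : (i : ℕ) < (j : ℕ) := hij
      omega

theorem xL_mem_B (k : Fin m) (t : F) : xL m F k t ∈ Bsub m F := by
  rw [mem_Bsub_iff]
  rintro (a | a) (b | b) hab
  · show (1 : Matrix (Fin m) (Fin m) F) a b = 0
    simp only [pos] at hab
    apply Matrix.one_apply_ne
    intro h; rw [h] at hab; exact lt_irrefl _ hab
  · exfalso
    simp only [pos] at hab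
    have ha := a.2
    have hb := b.2
    omega
  · rfl
  · show (1 : Matrix (Fin m) (Fin m) F) a b = 0
    simp only [pos] at hab
    apply Matrix.one_apply_ne
    intro h; rw [h] at hab; exact lt_irrefl _ hab

theorem xS_zero (i j : Fin m) (hij : i ≠ j) : xS m F i j hij 0 = 1 := by
  apply Subtype.ext
  show xShortMat m F i j 0 = 1
  unfold xShortMat
  rw [neg_zero, Matrix.transvection_zero, Matrix.transvection_zero, Matrix.fromBlocks_one]

theorem xL_zero (k : Fin m) : xL m F k 0 = 1 := by
  apply Subtype.ext
  show xLongMat m F k 0 = 1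
  unfold xLongMat
  rw [Pi.single_zero]
  have : (Matrix.diagonal (0 : Fin m → F)) = 0 := Matrix.diagonal_zero
  rw [this, Matrix.fromBlocks_one]

end Cfsg.Agent.Lib.Helper74.StSp
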