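import Mathlib

set_option autoImplicit false

namespace Cfsg.Agent.Lib.Helper74

/-- Decomposition of a nonzero natural number into its `π`-part and `π'`-part. -/
theorem exists_pi_decomp (π : Set ℕ) (n : ℕ) (hn : n ≠ 0) :
    ∃ A B : ℕ, A * B = n ∧ Nat.Coprime A B ∧ (∀ p : ℕ, p.Prime → p ∣ A → p ∈ π) ∧
      (∀ p : ℕ, p.Prime → p ∣ B → p ∉ π) := by
  classical
  induction n using Nat.recOnPosPrimePosCoprime with
  | zero => exact absurd rfl hn
  | one =>
    refine ⟨1, 1, rfl, Nat.coprime_one_left 1, ?_, ?_⟩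
    · intro p hp hd
      exact absurd (Nat.dvd_one.mp hd) hp.ne_one
    · intro p hp hd
      exact absurd (Nat.dvd_one.mp hd) hp.ne_one
  | prime_pow p k hp hk =>
    by_cases hpπ : p ∈ π
    · refine ⟨p ^ k, 1, mul_one _, Nat.coprime_one_right _, ?_, ?_⟩
      · intro q hq hd
        have := (Nat.prime_dvd_prime_iff_eq hq hp).mp (hq.dvd_of_dvd_pow hd)
        rw [this]; exact hpπ
      · intro q hq hd
        exact absurd (Nat.dvd_one.mp hd) hq.ne_one
    · refine ⟨1, p ^ k, one_mul _, Nat.coprime_one_left _, ?_, ?_⟩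
      · intro q hq hd
        exact absurd (Nat.dvd_one.mp hd) hq.ne_one
      · intro q hq hd
        have := (Nat.prime_dvd_prime_iff_eq hq hp).mp (hq.dvd_of_dvd_pow hd)
        rw [this]; exact hpπ
  | coprime a b ha hb hab iha ihb =>
    obtain ⟨A1, B1, h1, hc1, hA1, hB1⟩ := iha (by omega)
    obtain ⟨A2, B2, h2, hc2, hA2, hB2⟩ := ihb (by omega)
    have hA1a : A1 ∣ a := Dvd.intro _ h1
    have hB1a : B1 ∣ a := Dvd.intro_left _ h1
    have hA2b : A2 ∣ b := Dvd.intro _ h2
    have hB2b : B2 ∣ b := Dvd.intro_left _ h2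
    refine ⟨A1 * A2, B1 * B2, ?_, ?_, ?_, ?_⟩
    · rw [← h1, ← h2]; ring
    · apply Nat.Coprime.mul_left
      · apply Nat.Coprime.mul_right hc1
        exact (hab.coprime_dvd_left hA1a).coprime_dvd_right hB2b
      · apply Nat.Coprime.mul_right _ hc2
        exact ((hab.symm).coprime_dvd_left hA2b).coprime_dvd_right hB1a
    · intro p hp hd
      rcases (Nat.Prime.dvd_mul hp).mp hd with h | h
      · exact hA1 p hp h
      · exact hA2 p hp h
    · intro p hp hd
      rcases (Nat.Prime.dvd_mul hp).mp hd with h | h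
      · exact hB1 p hp h
      · exact hB2 p hp h

/-- `π`-elements. -/
def IsPiElt {X : Type*} [Monoid X] (π : Set ℕ) (x : X) : Prop :=
  ∀ q : ℕ, q.Prime → q ∣ orderOf x → q ∈ π

theorem isPiElt_conj {X : Type*} [Group X] (π : Set ℕ) (x g : X) (hx : IsPiElt π x) :
    IsPiElt π (g * x * g⁻¹) := by
  intro q hq hd
  apply hx q hq
  have : orderOf (g * x * g⁻¹) = orderOf x := by
    have := orderOf_injective (MulAut.conj g).toMonoidHom (MulAut.conj g).injective x
    simpa using this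
  rwa [this] at hd

theorem isPiElt_map {X Y : Type*} [Group X] [Group Y] (π : Set ℕ) (f : X →* Y) (x : X)
    (hx : IsPiElt π x) : IsPiElt π (f x) := by
  intro q hq hd
  exact hx q hq (hd.trans (orderOf_map_dvd f x))

/-- Exponents projecting onto the `π`-part and the `π'`-part. -/
theorem exists_pi_exponents (π : Set ℕ) (X : Type*) [Group X] [Finite X] :
    ∃ e e' : ℕ, (∀ n : X, IsPiElt π (n ^ e)) ∧ (∀ n : X, n ^ e * n ^ e' = n) ∧
      (∀ x : X, IsPiElt π x → x ^ e = x) ∧ (∀ n : X, (n ^ e') ^ e = 1) := by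
  obtain ⟨A, B, hAB, hcop, hA, hB⟩ := exists_pi_decomp π (Nat.card X) Nat.card_pos.ne'
  obtain ⟨e, he1, he0⟩ := Nat.chineseRemainder hcop 1 0
  obtain ⟨e', he'0, he'1⟩ := Nat.chineseRemainder hcop 0 1
  have hBe : B ∣ e := (Nat.modEq_zero_iff_dvd).mp he0
  have hAe' : A ∣ e' := (Nat.modEq_zero_iff_dvd).mp he'0
  have hpowcard : ∀ n : X, n ^ (A * B) = 1 := fun n => by rw [hAB]; exact pow_card_eq_one'
  refine ⟨e, e', ?_, ?_, ?_, ?_⟩
  · intro n q hq hd
    apply hA q hq
    refine hd.trans (orderOf_dvd_of_pow_eq_one ?_)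
    obtain ⟨t, rfl⟩ := hBe
    rw [← pow_mul, show B * t * A = (A * B) * t by ring, pow_mul, hpowcard, one_pow]
  · intro n
    have h1 : e + e' ≡ 1 [MOD A] := by
      have := Nat.ModEq.add he1 he'0
      simpa using this
    have h2 : e + e' ≡ 1 [MOD B] := by
      have := Nat.ModEq.add he0 he'1
      simpa using this
    have h3 : e + e' ≡ 1 [MOD A * B] := (Nat.modEq_and_modEq_iff_modEq_mul hcop).mp ⟨h1, h2⟩
    have h4 : e + e' ≡ 1 [MOD orderOf n] :=
      Nat.ModEq.of_dvd (orderOf_dvd_of_pow_eq_one (hpowcard n)) h3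
    rw [← pow_add, ← pow_one n, ← pow_mul, one_mul]
    exact pow_eq_pow_iff_modEq.mpr h4
  · intro x hx
    have hcopx : Nat.Coprime (orderOf x) B := by
      apply Nat.coprime_of_dvd
      intro q hq h1 h2
      exact hB q hq h2 (hx q hq h1)
    have hdvd : orderOf x ∣ A :=
      hcopx.dvd_of_dvd_mul_right (orderOf_dvd_of_pow_eq_one (hpowcard x))
    have h4 : e ≡ 1 [MOD orderOf x] := Nat.ModEq.of_dvd hdvd he1
    have := pow_eq_pow_iff_modEq.mpr h4
    rwa [pow_one] at this
  · intro n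
    obtain ⟨t, rfl⟩ := hAe'
    obtain ⟨s, rfl⟩ := hBe
    rw [← pow_mul, show A * t * (B * s) = (A * B) * (t * s) by ring, pow_mul, hpowcard, one_pow]

end Cfsg.Agent.Lib.Helper74
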