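import Mathlib
import Cfsg.Agent.Lib.Helper15.BG1379Defs
import Cfsg.Agent.Lib.Helper97.BG1366O
import Cfsg.Agent.Lib.Helper29.BG144D
import Cfsg.Agent.Lib.Helper13.BG12B
import Cfsg.Agent.Lib.Helper55.Basic
import Cfsg.Agent.S1350

set_option autoImplicit false
set_option linter.unusedVariables false

/-! K-1379-V3 (keystone 137903, architect helper15, pack for S1379): with `Supp L x0 N`, an element `g` of
`C_G(x0)` of order prime to `σ(N)` is `C_G(x0)`-conjugate into `L`.  Parallel hand by helper74. -/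

namespace Cfsg.Agent.Lib.Helper74.BG1379

open Cfsg Subgroup Cfsg.Agent.Lib.Helper11.BG14D Cfsg.Agent.Lib.Helper11.BG144
  Cfsg.Agent.Lib.Helper15.BG1379

variable {G : Type*} [Group G] [Finite G]

/-- LEAF V3 (137903) -/
theorem exists_conj_mem_of_coprime (hG : IsMinSimpleOddOrder G) {L N : Subgroup G} {x0 g : G}
    (hL : IsCoatom L) (hx0 : x0 ∈ sigmaCore L) (hx01 : x0 ≠ 1) (hS : Supp L x0 N)
    (hg : g ∈ centralizer ({x0} : Set G))
    (hcop : ∀ q : ℕ, q.Prime → q ∣ orderOf g → q ∉ sigma N) :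
    ∃ c ∈ centralizer ({x0} : Set G), c * g * c⁻¹ ∈ L := by
  have hCN : centralizer ({x0} : Set G) ≤ N := hS.cent_le
  have hdisj : (L ⊓ centralizer ({x0} : Set G)) ⊓ (sigmaCore N ⊓ centralizer ({x0} : Set G)) = ⊥ := by
    rw [eq_bot_iff, ← hS.inf_bot]
    exact le_inf (inf_le_right.trans inf_le_left) (inf_le_left.trans inf_le_left)
  have hcompl : IsComplIn (L ⊓ centralizer ({x0} : Set G)) (sigmaCore N ⊓ centralizer ({x0} : Set G))
      (centralizer ({x0} : Set G)) := ⟨inf_le_right, inf_le_right, hdisj, hS.cent_split⟩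
  have hHall : IsPiHallOf (sigma N) (sigmaCore N) N := (Cfsg.Agent.S1350.result hG N hS.coatom).1
  have hQ : IsPiHallOf {q | q.Prime ∧ q ∉ sigma N} (L ⊓ centralizer ({x0} : Set G))
      (centralizer ({x0} : Set G)) := by
    refine ⟨inf_le_right, ?_, ?_⟩
    · intro p hp hpd
      refine ⟨hp, ?_⟩
      have h1 : Nat.card ↥(L ⊓ centralizer ({x0} : Set G)) ∣ Nat.card ↥(L ⊓ N) :=
        Subgroup.card_dvd_of_le (le_inf inf_le_left (inf_le_right.trans hCN))
      exact Cfsg.Agent.Lib.Helper13.BG12.complIn_prime_not_mem_sigma hHall hS.compl p hp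
        (hpd.trans h1)
    · intro p hp hpπ hpd
      rw [Cfsg.Agent.Lib.Helper29.BG144.relIndex_eq_card_right hcompl] at hpd
      have h2 : Nat.card ↥(sigmaCore N ⊓ centralizer ({x0} : Set G)) ∣ Nat.card ↥(sigmaCore N) :=
        Subgroup.card_dvd_of_le inf_le_left
      exact hpπ.2 (hHall.2.1 p hp (hpd.trans h2))
  have hCtop : centralizer ({x0} : Set G) ≠ ⊤ := by
    intro h
    apply hS.coatom.1
    rw [eq_top_iff, ← h]
    exact hCN
  have hsolv : Group.IsSolvable ↥(centralizer ({x0} : Set G)) := hG.2.2.2 _ hCtop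
  have hA : ∀ p : ℕ, p.Prime → p ∣ Nat.card (zpowers g) → p ∈ {q | q.Prime ∧ q ∉ sigma N} := by
    intro p hp hpd
    rw [Nat.card_zpowers] at hpd
    exact ⟨hp, hcop p hp hpd⟩
  obtain ⟨m, hmC, hle⟩ :=
    Cfsg.Agent.Lib.Helper97.BG1366.exists_cj_ge_of_hall hsolv hQ (zpowers_le.2 hg) hA
  have h3 : m⁻¹ * g * m ∈ L ⊓ centralizer ({x0} : Set G) :=
    Cfsg.Agent.Lib.Helper55.mem_cj.1 (hle (mem_zpowers g))
  refine ⟨m⁻¹, inv_mem hmC, ?_⟩
  rw [inv_inv]
  exact h3.1

end Cfsg.Agent.Lib.Helper74.BG1379
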