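import Mathlib
import Cfsg.Agent.Lib.Helper15.BG1379Defs
import Cfsg.Agent.Lib.Helper97.BG1366O
import Cfsg.Agent.Lib.Helper71.BG11a
import Cfsg.Agent.Lib.Helper55.Basic
import Cfsg.Agent.S1430

set_option autoImplicit false

/-! K-1379-V9 (keystone 137909, architect helper15, pack for S1379): a `κ`-configuration `g = x r` in `M`
has an `M`-conjugate in `Ẑ = K K* - (K ∪ K*)`.  Parallel hand by helper74. -/

namespace Cfsg.Agent.Lib.Helper74.BG1379

open Cfsg Subgroup Cfsg.Agent.Lib.Helper11.BG14D Cfsg.Agent.Lib.Helper15.BG1379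

variable {G : Type*} [Group G] [Finite G]

/-- LEAF V9 (137909) -/
theorem zhat_of_kap (hG : IsMinSimpleOddOrder G) {M K : Subgroup G} (hM : IsCoatom M)
    (hK : IsPiHallOf (kappa M) K M) (hK1 : K ≠ ⊥) {g : G} (h : KapCfg M g) :
    ∃ m ∈ M, m * g * m⁻¹ ∈ Zhat M K := by
  obtain ⟨x, r, hg, hx, hx1, hrM, hr1, hc, hκ⟩ := h
  have hsolv : Group.IsSolvable M := hG.2.2.2 M hM.1
  have hA : ∀ p : ℕ, p.Prime → p ∣ Nat.card (zpowers r) → p ∈ kappa M := by
    intro p hp hpd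
    rw [Nat.card_zpowers] at hpd
    exact hκ p hp hpd
  obtain ⟨m', hm'M, hle⟩ :=
    Cfsg.Agent.Lib.Helper97.BG1366.exists_cj_ge_of_hall hsolv hK (zpowers_le.2 hrM) hA
  have hr' : m'⁻¹ * r * m' ∈ K := Cfsg.Agent.Lib.Helper55.mem_cj.1 (hle (mem_zpowers r))
  refine ⟨m'⁻¹, M.inv_mem hm'M, ?_⟩
  rw [inv_inv]
  have hgx : m'⁻¹ * g * m' = (m'⁻¹ * x * m') * (m'⁻¹ * r * m') := by rw [hg]; group
  have hx'σ : m'⁻¹ * x * m' ∈ sigmaCore M := by
    have hn := Cfsg.Agent.Lib.Helper71.BG11.le_normalizer_sigmaCore M (M.inv_mem hm'M)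
    rw [mem_normalizer_iff] at hn
    have := (hn x).1 hx
    rwa [inv_inv] at this
  have hx'1 : m'⁻¹ * x * m' ≠ 1 := by
    intro h1
    apply hx1
    have : x = m' * (m'⁻¹ * x * m') * m'⁻¹ := by group
    rw [this, h1]; group
  have hr'1 : m'⁻¹ * r * m' ≠ 1 := by
    intro h1
    apply hr1
    have : r = m' * (m'⁻¹ * r * m') * m'⁻¹ := by group
    rw [this, h1]; group
  have hc' : (m'⁻¹ * r * m') * (m'⁻¹ * x * m') = (m'⁻¹ * x * m') * (m'⁻¹ * r * m') := by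
    have e1 : (m'⁻¹ * r * m') * (m'⁻¹ * x * m') = m'⁻¹ * (r * x) * m' := by group
    have e2 : (m'⁻¹ * x * m') * (m'⁻¹ * r * m') = m'⁻¹ * (x * r) * m' := by group
    rw [e1, e2, hc]
  have htriv : ∀ z : G, z ∈ K → z ∈ sigmaCore M → z = 1 := by
    intro z hzK hzσ
    by_contra hz1
    have ho : orderOf z ≠ 1 := fun h => hz1 (orderOf_eq_one_iff.1 h)
    obtain ⟨q, hq, hqd⟩ := Nat.exists_prime_and_dvd ho
    have h1 : q ∣ Nat.card K := by
      have : orderOf (⟨z, hzK⟩ : K) ∣ Nat.card K := orderOf_dvd_natCard _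
      rw [← Subgroup.orderOf_coe] at this
      exact hqd.trans this
    have h2 : q ∣ Nat.card (sigmaCore M) := by
      have : orderOf (⟨z, hzσ⟩ : sigmaCore M) ∣ Nat.card (sigmaCore M) := orderOf_dvd_natCard _
      rw [← Subgroup.orderOf_coe] at this
      exact hqd.trans this
    have h3 : q ∈ kappa M := hK.2.1 q hq h1
    exact h3.2.2.1 (Cfsg.Agent.Lib.Helper71.BG11.sigmaCore_pi hG hM hq h2)
  have hx'Ks : m'⁻¹ * x * m' ∈ Ks M K := by
    show m'⁻¹ * x * m' ∈ sigmaCore M ⊓ centralizer (K : Set G)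
    rw [← (Cfsg.Agent.S1430.result hG M hM K hK hK1).1 (m'⁻¹ * r * m') hr' hr'1]
    exact mem_inf.2 ⟨hx'σ, mem_centralizer_singleton_iff.2 hc'.symm⟩
  rw [hgx]
  refine ⟨?_, ?_⟩
  · exact mul_mem ((le_sup_right : Ks M K ≤ K ⊔ Ks M K) hx'Ks)
      ((le_sup_left : K ≤ K ⊔ Ks M K) hr')
  · rintro (hK' | hKs')
    · have h1 : m'⁻¹ * x * m' ∈ K := by
        have := K.mul_mem hK' (K.inv_mem hr')
        rwa [mul_inv_cancel_right] at this
      exact hx'1 (htriv _ h1 hx'σ)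
    · have h1 : m'⁻¹ * r * m' ∈ Ks M K := by
        have := (Ks M K).mul_mem ((Ks M K).inv_mem hx'Ks) hKs'
        rwa [inv_mul_cancel_left] at this
      exact hr'1 (htriv _ hr' h1.1)

end Cfsg.Agent.Lib.Helper74.BG1379
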