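import Mathlib
import Cfsg.Agent.Lib.Helper15.BG147Defs
import Cfsg.Agent.Lib.Helper15.BG142Final
import Cfsg.Agent.S1404

set_option autoImplicit false

/-! K-147C-C10 (keystone 147110, architect helper15): two maximal subgroups over `N_G(X)` are equal.
Parallel hand by helper74. -/

namespace Cfsg.Agent.Lib.Helper74.BG147

open Cfsg Cfsg.Agent.Lib.Helper55 Cfsg.Agent.Lib.Helper31.BG134 Cfsg.Agent.Lib.Helper15.BG139
  Cfsg.Agent.Lib.Helper15.BG142 Cfsg.Agent.Lib.Helper15.BG147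

variable {G : Type*} [Group G] [Finite G]

/-- LEAF C10 (147110) -/
theorem home_unique (hG : IsMinSimpleOddOrder G) {M K X : Subgroup G} (hM : IsCoatom M)
    (hK : IsPiHallOf (kappa M) K M) (hK1 : K ≠ ⊥) (hXK : X ≤ K) (hXp : (Nat.card X).Prime)
    {H H' : Subgroup G} (hH : IsCoatom H) (hNH : Subgroup.normalizer (X : Set G) ≤ H)
    (hH' : IsCoatom H') (hNH' : Subgroup.normalizer (X : Set G) ≤ H') : H = H' := by
  obtain ⟨E, ks⟩ := exists_ks hG hM hK hK1
  have hKM : K ≤ M := hK.1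
  have hXM : X ≤ M := hXK.trans hKM
  have hCP : CP M X ≠ ⊥ := by
    intro h
    apply ks.hKs
    rw [eq_bot_iff, ← h]
    exact inf_le_inf_left _ (Subgroup.centralizer_le hXK)
  have hpH : Nat.card X ∈ sigma H :=
    htx' hG M X H (Nat.card X) hM hXM rfl (ks.h13 X hXK hXp) hCP hH hNH
  have hpH' : Nat.card X ∈ sigma H' :=
    htx' hG M X H' (Nat.card X) hM hXM rfl (ks.h13 X hXK hXp) hCP hH' hNH'
  obtain ⟨g, hg⟩ : ∃ g : G, cj g H = H' := by
    by_contra hcon
    push Not at hcon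
    exact hsp hG H H' hH hH' hcon (Nat.card X) hpH hpH'
  have hXH : X ≤ H := Subgroup.le_normalizer.trans hNH
  have hXH' : X ≤ H' := Subgroup.le_normalizer.trans hNH'
  have h1 : cj g⁻¹ X ≤ H := by
    rw [← le_cj_iff, hg]
    exact hXH'
  have : Fact (Nat.card X).Prime := ⟨hXp⟩
  have hXpg : IsPGroup (Nat.card X) X := IsPGroup.of_card (n := 1) (pow_one _).symm
  have hX1 : X ≠ ⊥ := by
    intro h
    rw [h, Subgroup.card_bot] at hXp
    exact Nat.not_prime_one hXp
  obtain ⟨m, hm, cc, hcc, hgm⟩ :=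
    (Cfsg.Agent.S1404.result hG H hH (Nat.card X) hpH X hXpg hX1 hXH).1 g⁻¹ h1
  have hginv : g⁻¹ ∈ H := by
    rw [hgm]
    exact H.mul_mem hm (hNH (Subgroup.centralizer_le_normalizer _ hcc))
  have hgH : g ∈ H := by
    have := H.inv_mem hginv
    rwa [inv_inv] at this
  rw [← hg, cj_eq_self_of_mem hgH]

end Cfsg.Agent.Lib.Helper74.BG147
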