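import Mathlib
import Cfsg.Agent.Lib.Helper15.BG147Defs

set_option autoImplicit false

/-! K-147C-C4 (keystone 147104, architect helper15): `M ⊓ H = K ⊔ K*` in the local closure lemma of BG 14.7. -/

namespace Cfsg.Agent.Lib.Helper74.BG147

open Cfsg Cfsg.Agent.Lib.Helper55 Cfsg.Agent.Lib.Helper31.BG134 Cfsg.Agent.Lib.Helper15.BG139
  Cfsg.Agent.Lib.Helper15.BG142 Cfsg.Agent.Lib.Helper15.BG147

variable {G : Type*} [Group G] [Finite G]

/-- LEAF C4 (147104) -/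
theorem inf_eq {M K X H : Subgroup G} (c : CL M K X H) (c1 : CL1 M K X H)
    (hD : sigmaCore H ⊓ M ≤ K) : M ⊓ H = K ⊔ KStar M K := by
  obtain ⟨E, ks⟩ := exists_ks c.hG c.hM c.hK c.hK1
  have hKM : K ≤ M := c.hK.1
  have hXM : X ≤ M := c.hXK.trans hKM
  apply le_antisymm
  · intro g hg
    obtain ⟨hgM, hgH⟩ := Subgroup.mem_inf.1 hg
    -- `g` normalises `D = H_σ ⊓ M`
    have h1 : cj g (sigmaCore H ⊓ M) = sigmaCore H ⊓ M := by
      rw [cj_inf, cj_eq_self_iff.2 (Cfsg.Agent.Lib.Helper71.BG11.le_normalizer_sigmaCore H hgH),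
        cj_eq_self_of_mem hgM]
    have h2 : cj g X ≤ K := by
      refine le_trans ?_ hD
      rw [← h1]
      exact cj_mono (le_inf c1.hXσ hXM)
    have h3 : cj g X = X := ks.huniq X (cj g X) c.hXK h2 c.hXp (card_cj g X)
    have h4 : g ∈ M ⊓ Subgroup.normalizer (X : Set G) :=
      Subgroup.mem_inf.2 ⟨hgM, cj_eq_self_iff.1 h3⟩
    rw [ks.hN X c.hXK c.hXp] at h4
    exact h4
  · apply le_inf
    · apply sup_le hKM
      exact inf_le_left.trans (Cfsg.Agent.Lib.Helper71.BG11.sigmaCore_le M)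
    · exact c1.hZH

end Cfsg.Agent.Lib.Helper74.BG147
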