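import Mathlib
import Cfsg.Agent.Lib.Helper15.BG147Defs
import Cfsg.Agent.Lib.Helper15.BG142Final
import Cfsg.Agent.Lib.Helper54.BG134A3a
import Cfsg.Agent.Lib.Helper12.CNMaxSub

set_option autoImplicit false

/-! K-147C-C9 (keystone 147109, architect helper15): the Hall `κ(H)`-subgroup `KH ⊇ R0` in the local closure
lemma of BG 14.7.  Parallel hand by helper74. -/

namespace Cfsg.Agent.Lib.Helper74.BG147

open Cfsg Cfsg.Agent.Lib.Helper55 Cfsg.Agent.Lib.Helper31.BG134 Cfsg.Agent.Lib.Helper15.BG139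
  Cfsg.Agent.Lib.Helper15.BG142 Cfsg.Agent.Lib.Helper15.BG147

variable {G : Type*} [Group G] [Finite G]

/-- a nontrivial subgroup contains an element of prime order -/
theorem exists_prime_order_mem {S : Subgroup G} (hS : S ≠ ⊥) :
    ∃ y ∈ S, (orderOf y).Prime := by
  have h1 : Nat.card S ≠ 1 := by
    intro h
    exact hS (Subgroup.card_eq_one.1 h)
  obtain ⟨p, hp, hpd⟩ := Nat.exists_prime_and_dvd h1
  have : Fact p.Prime := ⟨hp⟩
  obtain ⟨x, hx⟩ := exists_prime_orderOf_dvd_card' p hpd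
  refine ⟨(x : G), x.2, ?_⟩
  rw [Subgroup.orderOf_coe, hx]
  exact hp

/-- LEAF C9 (147109) -/
theorem exists_KH_of_R0 {M K X H R0 : Subgroup G} (c : CL M K X H) (c1 : CL1 M K X H)
    (hD : sigmaCore H ⊓ M ≤ K) (hZ : M ⊓ H = K ⊔ KStar M K)
    (hR0Z : R0 ≤ K ⊔ KStar M K) (hsup : (K ⊓ sigmaCore H) ⊔ R0 = K ⊔ KStar M K)
    (hKsR : KStar M K ≤ R0) (hR0κ : ∀ r : ℕ, r.Prime → r ∣ Nat.card R0 → r ∈ kappa H) :
    ∃ KH : Subgroup G, IsPiHallOf (kappa H) KH H ∧ KStar M K ≤ KH ∧ KH ≤ K ⊔ KStar M K ∧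
      KStar H KH = K ⊓ sigmaCore H ∧ KH ⊔ KStar H KH = K ⊔ KStar M K := by
  have hG := c.hG
  have hsolvH : Group.IsSolvable H := hG.2.2.2 H c.hH.1
  have hR0H : R0 ≤ H := hR0Z.trans c1.hZH
  obtain ⟨KH, hKH, hR0KH⟩ :=
    Cfsg.Agent.Lib.Helper54.BG134.exists_isPiHallOf_ge hsolvH (kappa H) hR0H hR0κ
  have hKsKH : KStar M K ≤ KH := hKsR.trans hR0KH
  have hKH1 : KH ≠ ⊥ := by
    intro h
    apply c1.hKs
    rw [h] at hKsKH
    exact le_bot_iff.1 hKsKH
  obtain ⟨E', ks'⟩ := exists_ks hG c.hH hKH hKH1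
  obtain ⟨E, ks⟩ := exists_ks hG c.hM c.hK c.hK1
  have hKM : K ≤ M := c.hK.1
  have hXM : X ≤ M := c.hXK.trans hKM
  have hKsM : KStar M K ≤ M := inf_le_left.trans (Cfsg.Agent.Lib.Helper71.BG11.sigmaCore_le M)
  -- `y ∈ K*` of prime order, `Y = ⟨y⟩`
  obtain ⟨y, hyKs, hyp⟩ := exists_prime_order_mem c1.hKs
  have hy1 : y ≠ 1 := by
    intro h
    rw [h, orderOf_one] at hyp
    exact Nat.not_prime_one hyp
  have hYle : Subgroup.zpowers y ≤ KStar M K := (Subgroup.zpowers_le).2 hyKs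
  have hYp : (Nat.card (Subgroup.zpowers y)).Prime := by rw [Nat.card_zpowers]; exact hyp
  have hyKH : y ∈ KH := hKsKH hyKs
  -- `N(Y) ≤ M`
  have hNYM : Subgroup.normalizer ((Subgroup.zpowers y : Subgroup G) : Set G) ≤ M := by
    have hY1 : Subgroup.zpowers y ≠ ⊥ := by
      intro h
      exact hy1 (Subgroup.zpowers_eq_bot.1 h)
    have hYtop : Subgroup.zpowers y ≠ ⊤ := by
      intro h
      apply c.hM.1
      rw [eq_top_iff, ← h]
      exact hYle.trans hKsM
    obtain ⟨L, hL, hNL⟩ :=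
      Cfsg.Agent.Lib.Helper12.CNMaxSub.exists_coatom_normalizer_le hG hY1 hYtop
    have hYCP : Subgroup.zpowers y ≤ CP M X := by
      refine hYle.trans ?_
      exact inf_le_inf_left _ (Subgroup.centralizer_le c.hXK)
    have hLM := ha hG M X (Subgroup.zpowers y) (Nat.card X) c.hM hXM rfl
      (ks.h13 X c.hXK c.hXp) hYCP hYp L hL hNL
    rw [hLM] at hNL
    exact hNL
  -- commuting with `y` puts you into `N(Y)`
  have hcomm_norm : ∀ x : G, x * y = y * x →
      x ∈ Subgroup.normalizer ((Subgroup.zpowers y : Subgroup G) : Set G) := by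
    intro x hx
    rw [Subgroup.mem_normalizer_iff]
    intro h
    have key : ∀ h ∈ Subgroup.zpowers y, x * h * x⁻¹ = h := by
      intro h hh
      obtain ⟨k, rfl⟩ := Subgroup.mem_zpowers_iff.1 hh
      have : Commute x (y ^ k) := (show Commute x y from hx).zpow_right k
      rw [this.eq, mul_inv_cancel_right]
    constructor
    · intro hh
      rw [key h hh]; exact hh
    · intro hh
      have h2 : x⁻¹ * (x * h * x⁻¹) * x = h := by group
      have h3 : x⁻¹ * (x * h * x⁻¹) * x⁻¹⁻¹ = x * h * x⁻¹ := by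
        have hx' : x⁻¹ * y = y * x⁻¹ := by
          have : Commute x⁻¹ y := (show Commute x y from hx).inv_left
          exact this.eq
        obtain ⟨k, hk⟩ := Subgroup.mem_zpowers_iff.1 hh
        have : Commute x⁻¹ (y ^ k) := (show Commute x⁻¹ y from hx').zpow_right k
        rw [← hk, this.eq, mul_inv_cancel_right]
      rw [inv_inv] at h3
      rw [← h2, h3]
      exact hh
  -- `KStar H KH = K ⊓ H_σ`
  have hKS : KStar H KH = K ⊓ sigmaCore H := by
    apply le_antisymm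
    · intro x hx
      obtain ⟨hxσ, hxc⟩ := Subgroup.mem_inf.1 hx
      have hxy : x * y = y * x := ((Subgroup.mem_centralizer_iff.1 hxc) y hyKH).symm
      have hxM : x ∈ M := hNYM (hcomm_norm x hxy)
      exact Subgroup.mem_inf.2 ⟨hD (Subgroup.mem_inf.2 ⟨hxσ, hxM⟩), hxσ⟩
    · intro x hx
      obtain ⟨hxK, hxσ⟩ := Subgroup.mem_inf.1 hx
      rw [← ks'.hpa y hyKH hy1]
      refine Subgroup.mem_inf.2 ⟨hxσ, ?_⟩
      have hxc := c1.hcomm (Subgroup.mem_inf.2 ⟨hxσ, hKM hxK⟩)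
      rw [Subgroup.mem_centralizer_iff]
      intro h hh
      rw [Set.mem_singleton_iff] at hh
      rw [hh]
      exact (Subgroup.mem_centralizer_iff.1 hxc) y hyKs
  -- `KH ⊔ KStar H KH = Z`
  have hYKH : Subgroup.zpowers y ≤ KH := (Subgroup.zpowers_le).2 hyKH
  have hN := ks'.hN (Subgroup.zpowers y) hYKH hYp
  have hle : KH ⊔ KStar H KH ≤ K ⊔ KStar M K := by
    rw [← hN, ← hZ]
    exact le_inf (inf_le_right.trans hNYM) inf_le_left
  have hge : K ⊔ KStar M K ≤ KH ⊔ KStar H KH := by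
    rw [← hsup, hKS]
    exact sup_le le_sup_right (hR0KH.trans le_sup_left)
  exact ⟨KH, hKH, hKsKH, le_sup_left.trans hle, hKS, le_antisymm hle hge⟩

end Cfsg.Agent.Lib.Helper74.BG147
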