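import Cfsg.Agent.Lib.Helper74.BGFrobF0b

set_option autoImplicit false

namespace Cfsg.Agent.Lib.Helper74.BGFrobF

open Subgroup

/-- a `p`-element killed by a power coprime to `p` is trivial. -/
theorem eq_one_of_pgroup_pow {G : Type*} [Group G] {p : ℕ} [Fact p.Prime] (A : Subgroup G)
    (hA : IsPGroup p A) (n : ℕ) (hn : n.Coprime p) (c : G) (hc : c ∈ A) (h : c ^ n = 1) : c = 1 := by
  obtain ⟨k, hk⟩ := hA ⟨c, hc⟩
  have hk' : c ^ (p ^ k) = 1 := by
    have := congrArg (fun x : ↥A => (x : G)) hk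
    simpa using this
  have h1 : orderOf c ∣ n := orderOf_dvd_of_pow_eq_one h
  have h2 : orderOf c ∣ p ^ k := orderOf_dvd_of_pow_eq_one hk'
  have h3 : orderOf c ∣ Nat.gcd n (p ^ k) := Nat.dvd_gcd h1 h2
  have h4 : Nat.gcd n (p ^ k) = 1 := Nat.Coprime.pow_right k hn
  rw [h4] at h3
  exact orderOf_eq_one_iff.mp (Nat.dvd_one.mp h3)

/-- Fitting-type fact: `A` abelian `p`-group normalized by the `p'`-group `X`: `C_A(X) ∩ [A,X] = 1`. -/
theorem cent_inf_comm_eq_bot {G : Type*} [Group G] [Finite G] {p : ℕ} [Fact p.Prime] (A X : Subgroup G)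
    (hA : IsPGroup p A) (hAab : ∀ a ∈ A, ∀ b ∈ A, a * b = b * a)
    (hXA : X ≤ normalizer (A : Set G)) (hXp : (Nat.card X).Coprime p) :
    A ⊓ centralizer (X : Set G) ⊓ ⁅A, X⁆ = ⊥ := by
  classical
  haveI : Fintype X := Fintype.ofFinite X
  letI : CommGroup ↥A :=
    { (inferInstance : Group ↥A) with
      mul_comm := fun a b => Subtype.ext (hAab a a.2 b b.2) }
  -- conjugation of `A` by elements of `X`
  let cj : X → ↥A → ↥A := fun x a =>
    ⟨(x : G) * (a : G) * (x : G)⁻¹, (Subgroup.mem_normalizer_iff.mp (hXA x.2) _).mp a.2⟩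
  have cj_mul : ∀ x a b, cj x (a * b) = cj x a * cj x b := by
    intro x a b; apply Subtype.ext; simp [cj]
  have cj_comp : ∀ x y a, cj x (cj y a) = cj (x * y) a := by
    intro x y a; apply Subtype.ext; simp [cj, mul_assoc]
  let θ : ↥A →* ↥A := MonoidHom.mk' (fun a => ∏ x : X, cj x a) (by
    intro a b
    simp only [cj_mul]
    exact Finset.prod_mul_distrib)
  have θ_apply : ∀ a, θ a = ∏ x : X, cj x a := fun a => rfl
  have θ_cj : ∀ (y : X) a, θ (cj y a) = θ a := by
    intro y a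
    rw [θ_apply, θ_apply]
    simp only [cj_comp]
    exact Fintype.prod_equiv (Equiv.mulRight y) _ _ (fun x => rfl)
  -- `[A,X] ≤ ker θ`
  have hcomm : ⁅A, X⁆ ≤ (θ.ker).map A.subtype := by
    rw [Subgroup.commutator_le]
    intro a ha x hx
    have hmem : (x * a⁻¹ * x⁻¹ : G) ∈ A := (Subgroup.mem_normalizer_iff.mp (hXA hx) _).mp (A.inv_mem ha)
    refine ⟨(⟨a, ha⟩ : ↥A) * cj ⟨x, hx⟩ (⟨a, ha⟩ : ↥A)⁻¹, ?_, ?_⟩
    · show θ _ = 1
      rw [map_mul, θ_cj, map_inv, mul_inv_cancel]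
    · simp [cj, commutatorElement_def, mul_assoc]
  rw [eq_bot_iff]
  intro c hc
  obtain ⟨⟨hcA, hcX⟩, hcC⟩ := hc
  rw [Subgroup.mem_bot]
  obtain ⟨c', hc'ker, hc'⟩ := hcomm hcC
  have hc'' : c' = ⟨c, hcA⟩ := Subtype.ext hc'
  subst hc''
  have hθ : θ ⟨c, hcA⟩ = 1 := hc'ker
  have hfix : ∀ x : X, cj x ⟨c, hcA⟩ = ⟨c, hcA⟩ := by
    intro x
    apply Subtype.ext
    have := Subgroup.mem_centralizer_iff.mp hcX (x : G) x.2
    simp only [cj]
    rw [this]; group
  rw [θ_apply] at hθ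
  simp only [hfix, Finset.prod_const, Finset.card_univ] at hθ
  have hpow : c ^ Nat.card X = 1 := by
    have := congrArg (fun a : ↥A => (a : G)) hθ
    simpa [Nat.card_eq_fintype_card] using this
  exact eq_one_of_pgroup_pow A hA _ hXp c hcA hpow

/-- chain property of cyclic `p`-groups: two nontrivial elements have a common nontrivial power. -/
theorem exists_common_pow {C : Type*} [Group C] [Finite C] {p : ℕ} [Fact p.Prime] (hC : IsPGroup p C) [IsCyclic C]
    (a b : C) (ha : a ≠ 1) (hb : b ≠ 1) : ∃ k l : ℕ, a ^ k = b ^ l ∧ a ^ k ≠ 1 := by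
  classical
  haveI : Fintype C := Fintype.ofFinite C
  have hp := (Fact.out : p.Prime)
  -- elements of order p as powers
  have key : ∀ c : C, c ≠ 1 → ∃ m : ℕ, orderOf (c ^ m) = p := by
    intro c hc
    obtain ⟨k, hk⟩ := (IsPGroup.iff_orderOf.mp hC) c
    have hk0 : k ≠ 0 := by
      rintro rfl
      rw [pow_zero, orderOf_eq_one_iff] at hk
      exact hc hk
    obtain ⟨j, rfl⟩ := Nat.exists_eq_succ_of_ne_zero hk0
    refine ⟨p ^ j, ?_⟩
    rw [orderOf_pow' c (pow_ne_zero j hp.ne_zero), hk, Nat.gcd_eq_right (pow_dvd_pow p (Nat.le_succ j)),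
      pow_succ, Nat.mul_div_cancel_left _ (pow_pos hp.pos j)]
  obtain ⟨m, hm⟩ := key a ha
  obtain ⟨n, hn⟩ := key b hb
  set a' := a ^ m with ha'
  set b' := b ^ n with hb'
  have hfil : (Finset.univ.filter fun x : C => x ^ p = 1).card ≤ p :=
    IsCyclic.card_pow_eq_one_le hp.pos
  -- zpowers a' sits inside the filter and has p elements
  have hsub : (Finset.univ.filter fun x : C => x ∈ zpowers a') ⊆ (Finset.univ.filter fun x : C => x ^ p = 1) := by
    intro x hx
    simp only [Finset.mem_filter, Finset.mem_univ, true_and] at hx ⊢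
    obtain ⟨k, rfl⟩ := hx
    rw [← zpow_natCast, ← zpow_mul, mul_comm, zpow_mul, zpow_natCast, ← hm, pow_orderOf_eq_one, one_zpow]
  have hcard : (Finset.univ.filter fun x : C => x ∈ zpowers a').card = p := by
    have : Fintype.card (zpowers a') = p := by
      rw [← Nat.card_eq_fintype_card, Nat.card_zpowers, hm]
    rw [← this, Fintype.card_subtype]
  have heq := Finset.eq_of_subset_of_card_le hsub (by rw [hcard]; exact hfil)
  have hb'mem : b' ∈ zpowers a' := by
    have : b' ∈ (Finset.univ.filter fun x : C => x ^ p = 1) := by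
      simp only [Finset.mem_filter, Finset.mem_univ, true_and]
      rw [← hn, pow_orderOf_eq_one]
    rw [← heq] at this
    simpa using this
  rw [← mem_powers_iff_mem_zpowers] at hb'mem
  obtain ⟨j, hj⟩ := hb'mem
  have hj : a' ^ j = b' := hj
  refine ⟨m * j, n, ?_, ?_⟩
  · rw [pow_mul]; exact hj
  · rw [pow_mul, hj]
    intro h
    have : orderOf b' = 1 := by rw [h, orderOf_one]
    rw [hn] at this
    exact hp.one_lt.ne' this

end Cfsg.Agent.Lib.Helper74.BGFrobF
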