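import Mathlib

/-!
# Minimal index of `PSL_n(q)` (S2140): common definitions

`tvM v φ` is the matrix of the transvection `x ↦ x + (φ ⬝ᵥ x) • v`, `tv v φ h` the corresponding
element of `SL ι F` (when `φ ⬝ᵥ v = 0`), `IsTv g` says `g` is a (non-identity) transvection,
`Pst v` is the stabiliser of the point `F v`, `Qst v` the group of all transvections with centre `v`
(together with `1`).  For the index type `Unit ⊕ κ` we have block matrices `blk A r` and `emb A`.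
-/

set_option autoImplicit false

namespace Cfsg.Agent.Lib.Helper74.MinIdx

open Matrix

variable {ι : Type*} [Fintype ι] [DecidableEq ι] {F : Type*} [Field F]

/-- The matrix of `x ↦ x + (φ ⬝ᵥ x) • v`. -/
def tvM (v φ : ι → F) : Matrix ι ι F := 1 + vecMulVec v φ

lemma tvM_mulVec (v φ x : ι → F) : tvM v φ *ᵥ x = x + (φ ⬝ᵥ x) • v := by
  rw [tvM, Matrix.add_mulVec, Matrix.one_mulVec, vecMulVec_mulVec]
  congr 1
  ext i
  simp [mul_comm]

lemma vecMul_tvM (v φ ψ : ι → F) : ψ ᵥ* tvM v φ = ψ + (ψ ⬝ᵥ v) • φ := by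
  rw [tvM, Matrix.vecMul_add, Matrix.vecMul_one, vecMul_vecMulVec]

lemma det_tvM (v φ : ι → F) : (tvM v φ).det = 1 + φ ⬝ᵥ v := by
  rw [tvM, vecMulVec_eq Unit, det_one_add_replicateCol_mul_replicateRow]

lemma tvM_mul_tvM (v φ ψ : ι → F) (h : φ ⬝ᵥ v = 0) :
    tvM v φ * tvM v ψ = tvM v (φ + ψ) := by
  simp only [tvM, Matrix.add_mul, Matrix.mul_add, Matrix.one_mul, Matrix.mul_one,
    vecMulVec_mul_vecMulVec, h, zero_smul]
  have h0 : vecMulVec v (0 : ι → F) = 0 := by ext i j; simp [vecMulVec_apply]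
  have h1 : vecMulVec v (φ + ψ) = vecMulVec v φ + vecMulVec v ψ := by
    ext i j; simp [vecMulVec_apply, mul_add]
  rw [h0, h1]; abel

lemma tvM_zero_right (v : ι → F) : tvM v (0 : ι → F) = 1 := by
  ext i j; simp [tvM, vecMulVec_apply]

lemma tvM_smul_left (c : F) (v φ : ι → F) : tvM (c • v) φ = tvM v (c • φ) := by
  ext i j; simp [tvM, vecMulVec_apply, mul_assoc, mul_comm, mul_left_comm]

/-- conjugating a transvection matrix -/
lemma mul_tvM_mul (A B : Matrix ι ι F) (hAB : A * B = 1) (v φ : ι → F) :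
    A * tvM v φ * B = tvM (A *ᵥ v) (φ ᵥ* B) := by
  simp only [tvM, Matrix.mul_add, Matrix.add_mul, Matrix.mul_one, hAB, mul_vecMulVec,
    vecMulVec_mul]

/-- The transvection `x ↦ x + (φ ⬝ᵥ x) • v` as an element of `SL`. -/
def tv (v φ : ι → F) (h : φ ⬝ᵥ v = 0) : SpecialLinearGroup ι F :=
  ⟨tvM v φ, by rw [det_tvM, h, add_zero]⟩

@[simp] lemma coe_tv (v φ : ι → F) (h : φ ⬝ᵥ v = 0) :
    ((tv v φ h : SpecialLinearGroup ι F) : Matrix ι ι F) = tvM v φ := rfl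

lemma tv_mul_tv (v φ ψ : ι → F) (h : φ ⬝ᵥ v = 0) (h' : ψ ⬝ᵥ v = 0) :
    tv v φ h * tv v ψ h' = tv v (φ + ψ) (by rw [add_dotProduct, h, h', add_zero]) := by
  apply Subtype.ext
  simp [tvM_mul_tvM v φ ψ h]

lemma tv_zero_right (v : ι → F) : tv v (0 : ι → F) (zero_dotProduct v) = 1 := by
  apply Subtype.ext
  simp [tvM_zero_right]

lemma tv_inv (v φ : ι → F) (h : φ ⬝ᵥ v = 0) :
    (tv v φ h)⁻¹ = tv v (-φ) (by rw [neg_dotProduct, h, neg_zero]) := by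
  rw [inv_eq_iff_mul_eq_one, tv_mul_tv]
  have : φ + -φ = 0 := add_neg_cancel φ
  simp only [this]
  exact tv_zero_right v

/-- conjugation of a transvection by `g ∈ SL`. -/
lemma conj_tv (g : SpecialLinearGroup ι F) (v φ : ι → F) (h : φ ⬝ᵥ v = 0)
    (h' : (φ ᵥ* ((g⁻¹ : SpecialLinearGroup ι F) : Matrix ι ι F)) ⬝ᵥ
      ((g : Matrix ι ι F) *ᵥ v) = 0) :
    g * tv v φ h * g⁻¹ = tv ((g : Matrix ι ι F) *ᵥ v)
      (φ ᵥ* ((g⁻¹ : SpecialLinearGroup ι F) : Matrix ι ι F)) h' := by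
  apply Subtype.ext
  have hAB : (g : Matrix ι ι F) * ((g⁻¹ : SpecialLinearGroup ι F) : Matrix ι ι F) = 1 := by
    rw [← Matrix.SpecialLinearGroup.coe_mul, mul_inv_cancel, Matrix.SpecialLinearGroup.coe_one]
  simp only [Matrix.SpecialLinearGroup.coe_mul, coe_tv]
  exact mul_tvM_mul _ _ hAB v φ

lemma conj_dot (g : SpecialLinearGroup ι F) (v φ : ι → F) :
    (φ ᵥ* ((g⁻¹ : SpecialLinearGroup ι F) : Matrix ι ι F)) ⬝ᵥ ((g : Matrix ι ι F) *ᵥ v)
      = φ ⬝ᵥ v := by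
  have hBA : ((g⁻¹ : SpecialLinearGroup ι F) : Matrix ι ι F) * (g : Matrix ι ι F) = 1 := by
    rw [← Matrix.SpecialLinearGroup.coe_mul, inv_mul_cancel, Matrix.SpecialLinearGroup.coe_one]
  rw [← Matrix.dotProduct_mulVec, Matrix.mulVec_mulVec, hBA, Matrix.one_mulVec]

/-- `g` is a (non-identity) transvection. -/
def IsTv (g : SpecialLinearGroup ι F) : Prop :=
  ∃ (v φ : ι → F) (h : φ ⬝ᵥ v = 0), v ≠ 0 ∧ φ ≠ 0 ∧ g = tv v φ h

/-- The stabiliser in `SL` of the point `F v`. -/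
def Pst (v : ι → F) : Subgroup (SpecialLinearGroup ι F) where
  carrier := {g | ∃ c : Fˣ, (g : Matrix ι ι F) *ᵥ v = (c : F) • v}
  one_mem' := ⟨1, by simp⟩
  mul_mem' := by
    rintro a b ⟨c, hc⟩ ⟨d, hd⟩
    refine ⟨c * d, ?_⟩
    rw [Matrix.SpecialLinearGroup.coe_mul, ← Matrix.mulVec_mulVec, hd, Matrix.mulVec_smul, hc,
      smul_smul, Units.val_mul, mul_comm]
  inv_mem' := by
    rintro a ⟨c, hc⟩
    refine ⟨c⁻¹, ?_⟩
    have hBA : ((a⁻¹ : SpecialLinearGroup ι F) : Matrix ι ι F) * (a : Matrix ι ι F) = 1 := by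
      rw [← Matrix.SpecialLinearGroup.coe_mul, inv_mul_cancel, Matrix.SpecialLinearGroup.coe_one]
    have h1 : ((a⁻¹ : SpecialLinearGroup ι F) : Matrix ι ι F) *ᵥ ((a : Matrix ι ι F) *ᵥ v) = v := by
      rw [Matrix.mulVec_mulVec, hBA, Matrix.one_mulVec]
    rw [hc, Matrix.mulVec_smul] at h1
    calc ((a⁻¹ : SpecialLinearGroup ι F) : Matrix ι ι F) *ᵥ v
        = ((c⁻¹ : Fˣ) : F) • ((c : F) • (((a⁻¹ : SpecialLinearGroup ι F) : Matrix ι ι F) *ᵥ v)) := by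
          rw [smul_smul, ← Units.val_mul, inv_mul_cancel, Units.val_one, one_smul]
      _ = ((c⁻¹ : Fˣ) : F) • v := by rw [h1]

lemma mem_Pst {v : ι → F} {g : SpecialLinearGroup ι F} :
    g ∈ Pst v ↔ ∃ c : Fˣ, (g : Matrix ι ι F) *ᵥ v = (c : F) • v := Iff.rfl

/-- The group of transvections with centre `v` (and `1`). -/
def Qst (v : ι → F) : Subgroup (SpecialLinearGroup ι F) where
  carrier := {g | ∃ (φ : ι → F) (h : φ ⬝ᵥ v = 0), g = tv v φ h}
  one_mem' := ⟨0, zero_dotProduct v, (tv_zero_right v).symm⟩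
  mul_mem' := by
    rintro a b ⟨φ, h, rfl⟩ ⟨ψ, h', rfl⟩
    exact ⟨φ + ψ, _, tv_mul_tv v φ ψ h h'⟩
  inv_mem' := by
    rintro a ⟨φ, h, rfl⟩
    exact ⟨-φ, _, tv_inv v φ h⟩

lemma mem_Qst {v : ι → F} {g : SpecialLinearGroup ι F} :
    g ∈ Qst v ↔ ∃ (φ : ι → F) (h : φ ⬝ᵥ v = 0), g = tv v φ h := Iff.rfl

lemma tv_mem_Qst (v φ : ι → F) (h : φ ⬝ᵥ v = 0) : tv v φ h ∈ Qst v := ⟨φ, h, rfl⟩

/-! ### Block form, index type `Unit ⊕ κ` -/

section Block

variable {κ : Type*} [Fintype κ] [DecidableEq κ]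

/-- The standard first basis vector of `F^(Unit ⊕ κ)`. -/
def v0 : Unit ⊕ κ → F := Sum.elim (fun _ => 1) (fun _ => 0)

/-- The block matrix `[[(det A)⁻¹, r], [0, A]]`. -/
def blkM (A : Matrix κ κ F) (r : κ → F) : Matrix (Unit ⊕ κ) (Unit ⊕ κ) F :=
  fromBlocks (Matrix.of fun _ _ => (A.det)⁻¹) (Matrix.of fun _ j => r j) 0 A

lemma det_blkM (A : Matrix κ κ F) (hA : A.det ≠ 0) (r : κ → F) : (blkM A r).det = 1 := by
  rw [blkM, det_fromBlocks_zero₂₁, det_unique, Matrix.of_apply, inv_mul_cancel₀ hA]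

/-- The element `[[(det A)⁻¹, r], [0, A]]` of `SL (Unit ⊕ κ) F`, for `A ∈ GL κ F`. -/
def blk (A : GL κ F) (r : κ → F) : SpecialLinearGroup (Unit ⊕ κ) F :=
  ⟨blkM (A : Matrix κ κ F) r, det_blkM _ ((Matrix.isUnits_det_units A).ne_zero) r⟩

@[simp] lemma coe_blk (A : GL κ F) (r : κ → F) :
    ((blk A r : SpecialLinearGroup (Unit ⊕ κ) F) : Matrix (Unit ⊕ κ) (Unit ⊕ κ) F) =
      blkM (A : Matrix κ κ F) r := rfl

/-- The transvection `x ↦ x + (φ ⬝ᵥ x) • u` as an element of `GL κ F`. -/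
noncomputable def tvGL (u φ : κ → F) (h : φ ⬝ᵥ u = 0) : GL κ F :=
  Matrix.GeneralLinearGroup.mk'' (tvM u φ) (by rw [det_tvM, h, add_zero]; exact isUnit_one)

@[simp] lemma coe_tvGL (u φ : κ → F) (h : φ ⬝ᵥ u = 0) :
    ((tvGL u φ h : GL κ F) : Matrix κ κ F) = tvM u φ := rfl

/-- The Levi embedding `A ↦ [[1, 0], [0, A]]` of `SL κ F` into `SL (Unit ⊕ κ) F`. -/
def emb : SpecialLinearGroup κ F →* SpecialLinearGroup (Unit ⊕ κ) F where
  toFun A := ⟨fromBlocks 1 0 0 (A : Matrix κ κ F), by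
    rw [det_fromBlocks_zero₂₁, det_one, one_mul, A.2]⟩
  map_one' := by
    apply Subtype.ext
    simp [fromBlocks_one]
  map_mul' A B := by
    apply Subtype.ext
    show fromBlocks 1 0 0 ((A : Matrix κ κ F) * (B : Matrix κ κ F)) =
      fromBlocks 1 0 0 (A : Matrix κ κ F) * fromBlocks 1 0 0 (B : Matrix κ κ F)
    simp only [fromBlocks_multiply, Matrix.mul_zero,
      Matrix.zero_mul, add_zero, zero_add, Matrix.one_mul]

@[simp] lemma coe_emb (A : SpecialLinearGroup κ F) :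
    ((emb A : SpecialLinearGroup (Unit ⊕ κ) F) : Matrix (Unit ⊕ κ) (Unit ⊕ κ) F) =
      fromBlocks 1 0 0 (A : Matrix κ κ F) := rfl

end Block

end Cfsg.Agent.Lib.Helper74.MinIdx
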