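import Mathlib
import Cfsg.Agent.Lib.Helper14.SpUA0

/-!
# K-OQF pack (S5977, architect helper72), keystone 597704 (K-OQF-REP), part 1: `exists_rep`

Universality of the `L`-valued norm `u ↦ (Q u, B u (θ u))` in dimension `≥ 4`
(`θ` a self-adjoint square root of a non-square `δ`).
-/

set_option autoImplicit false
set_option linter.unusedSectionVars false
set_option linter.unusedVariables false

namespace Cfsg.Agent.Lib.Helper74.OQF

open Cfsg.Agent.Lib.Helper14.SpU (LL)
open Polynomial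

variable {F : Type*} [Field F]

section Basic

variable {V : Type*} [AddCommGroup V] [Module F V]

local notation "Bp" => QuadraticMap.polar

/-- if `Q` vanishes on a submodule, so does its polar form -/
theorem rep_polar_eq_zero (Q : QuadraticForm F V) (W : Submodule F V) (h : ∀ w ∈ W, Q w = 0)
    {u v : V} (hu : u ∈ W) (hv : v ∈ W) : QuadraticMap.polar (⇑Q) u v = 0 := by
  unfold QuadraticMap.polar
  rw [h _ (W.add_mem hu hv), h _ hu, h _ hv]
  simp

theorem rep_polar_theta_theta (Q : QuadraticForm F V) (δ : F) (θ : V →ₗ[F] V)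
    (hθ : ∀ v, θ (θ v) = δ • v)
    (hsa : ∀ u v, QuadraticMap.polar (⇑Q) (θ u) v = QuadraticMap.polar (⇑Q) u (θ v)) (u v : V) :
    QuadraticMap.polar (⇑Q) (θ u) (θ v) = δ * QuadraticMap.polar (⇑Q) u v := by
  rw [hsa, hθ, QuadraticMap.polar_smul_right, smul_eq_mul]

theorem rep_polar_self (Q : QuadraticForm F V) (u : V) :
    QuadraticMap.polar (⇑Q) u u = 2 * Q u := by
  rw [QuadraticMap.polar_self]
  simp

theorem rep_Q_theta (h2 : (2 : F) ≠ 0) (Q : QuadraticForm F V) (δ : F) (θ : V →ₗ[F] V)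
    (hθ : ∀ v, θ (θ v) = δ • v)
    (hsa : ∀ u v, QuadraticMap.polar (⇑Q) (θ u) v = QuadraticMap.polar (⇑Q) u (θ v)) (u : V) :
    Q (θ u) = δ * Q u := by
  have h := rep_polar_theta_theta Q δ θ hθ hsa u u
  rw [rep_polar_self, rep_polar_self] at h
  have h3 : (2 : F) * Q (θ u) = 2 * (δ * Q u) := by rw [h]; ring
  exact mul_left_cancel₀ h2 h3

/-- the value of `Q` on `s₁ u + s₂ θ u` -/
theorem rep_plane_Q (h2 : (2 : F) ≠ 0) (Q : QuadraticForm F V) (δ : F) (θ : V →ₗ[F] V)
    (hθ : ∀ v, θ (θ v) = δ • v)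
    (hsa : ∀ u v, QuadraticMap.polar (⇑Q) (θ u) v = QuadraticMap.polar (⇑Q) u (θ v)) (u : V)
    (s₁ s₂ : F) :
    Q (s₁ • u + s₂ • θ u) =
      (s₁ ^ 2 + δ * s₂ ^ 2) * Q u + s₁ * s₂ * QuadraticMap.polar (⇑Q) u (θ u) := by
  rw [QuadraticMap.map_add Q, QuadraticMap.map_smul, QuadraticMap.map_smul,
    QuadraticMap.polar_smul_left, QuadraticMap.polar_smul_right, rep_Q_theta h2 Q δ θ hθ hsa]
  simp only [smul_eq_mul]
  ring

/-- the value of `B x (θ x)` on `x = s₁ u + s₂ θ u` -/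
theorem rep_plane_B (Q : QuadraticForm F V) (δ : F) (θ : V →ₗ[F] V)
    (hθ : ∀ v, θ (θ v) = δ • v)
    (hsa : ∀ u v, QuadraticMap.polar (⇑Q) (θ u) v = QuadraticMap.polar (⇑Q) u (θ v)) (u : V)
    (s₁ s₂ : F) :
    QuadraticMap.polar (⇑Q) (s₁ • u + s₂ • θ u) (θ (s₁ • u + s₂ • θ u)) =
      (s₁ ^ 2 + δ * s₂ ^ 2) * QuadraticMap.polar (⇑Q) u (θ u) + 4 * δ * (s₁ * s₂) * Q u := by
  rw [map_add, map_smul, map_smul, hθ]
  simp only [QuadraticMap.polar_add_left, QuadraticMap.polar_add_right,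
    QuadraticMap.polar_smul_left, QuadraticMap.polar_smul_right, smul_eq_mul]
  rw [rep_polar_theta_theta Q δ θ hθ hsa, rep_polar_self,
    QuadraticMap.polar_comm (⇑Q) (θ u) u]
  ring

end Basic

/-- K-OQF-REP (597704), part 1 (dimension `≥ 4`).  Universality of the `L`-valued norm. -/
theorem exists_rep {V : Type*} [AddCommGroup V] [Module F V] [FiniteDimensional F V] [Fintype F]
    (hodd : Odd (Fintype.card F)) (Q : QuadraticForm F V) (hQ : (QuadraticMap.polarBilin Q).Nondegenerate)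
    (δ : F) (hδ : ¬ IsSquare δ) (θ : V →ₗ[F] V) (hθ : ∀ v, θ (θ v) = δ • v)
    (hsa : ∀ u v, QuadraticMap.polar (⇑Q) (θ u) v = QuadraticMap.polar (⇑Q) u (θ v))
    (hdim : 4 ≤ Module.finrank F V) (a β : F) :
    ∃ u : V, Q u = a ∧ QuadraticMap.polar (⇑Q) u (θ u) = β := by
  classical
  -- `2 ≠ 0`
  have h2 : (2 : F) ≠ 0 := by
    intro h
    have hch : ringChar F = 2 := by
      have hd : ringChar F ∣ 2 := by
        apply ringChar.dvd
        exact_mod_cast h
      rcases (Nat.dvd_prime Nat.prime_two).mp hd with h1 | h1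
      · exact absurd h1 (CharP.ringChar_ne_one)
      · exact h1
    have := FiniteField.even_card_of_char_two hch
    rcases hodd with ⟨k, hk⟩
    omega
  have hB : ∀ u v, QuadraticMap.polarBilin Q u v = QuadraticMap.polar (⇑Q) u v := fun u v => rfl
  have hsep : ∀ x : V, (∀ y, QuadraticMap.polar (⇑Q) x y = 0) → x = 0 := by
    intro x hx
    exact hQ.1 x (fun y => by rw [hB]; exact hx y)
  -- Step 1: `u₁` with `Q u₁ ≠ 0`
  have hpos : 0 < Module.finrank F V := by omega
  obtain ⟨v₀, hv₀⟩ := Module.finrank_pos_iff_exists_ne_zero.mp hpos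
  have hex1 : ∃ u₁ : V, Q u₁ ≠ 0 := by
    by_contra hcon
    push Not at hcon
    apply hv₀
    apply hsep
    intro y
    unfold QuadraticMap.polar
    rw [hcon, hcon, hcon]; simp
  obtain ⟨u₁, hu₁⟩ := hex1
  set a₁ := Q u₁ with ha₁
  set β₁ := QuadraticMap.polar (⇑Q) u₁ (θ u₁) with hβ₁
  have hD : 4 * δ * a₁ ^ 2 - β₁ ^ 2 ≠ 0 := by
    intro h
    apply hδ
    refine ⟨β₁ / (2 * a₁), ?_⟩
    have h2a : (2 * a₁) ≠ 0 := mul_ne_zero h2 hu₁
    field_simp
    linear_combination h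
  -- Step 2: `u₂` orthogonal to `u₁`, `θ u₁` with `Q u₂ ≠ 0`
  let f : V →ₗ[F] F × F :=
    LinearMap.prod ((QuadraticMap.polarBilin Q).flip u₁) ((QuadraticMap.polarBilin Q).flip (θ u₁))
  have hf : ∀ v, v ∈ LinearMap.ker f ↔
      QuadraticMap.polar (⇑Q) v u₁ = 0 ∧ QuadraticMap.polar (⇑Q) v (θ u₁) = 0 := by
    intro v
    rw [LinearMap.mem_ker]
    show ((QuadraticMap.polarBilin Q).flip u₁ v, (QuadraticMap.polarBilin Q).flip (θ u₁) v) = 0 ↔ _
    rw [Prod.mk_eq_zero, LinearMap.flip_apply, LinearMap.flip_apply, hB, hB]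
  have hker : 2 ≤ Module.finrank F (LinearMap.ker f) := by
    have h1 := LinearMap.finrank_range_add_finrank_ker f
    have h3 : Module.finrank F (LinearMap.range f) ≤ 2 := by
      have := Submodule.finrank_le (LinearMap.range f)
      rw [Module.finrank_prod, Module.finrank_self] at this
      exact this
    omega
  have hex2 : ∃ u₂ ∈ LinearMap.ker f, Q u₂ ≠ 0 := by
    by_contra hcon
    push Not at hcon
    have hpos' : 0 < Module.finrank F (LinearMap.ker f) := by omega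
    obtain ⟨w, hw⟩ := Module.finrank_pos_iff_exists_ne_zero.mp hpos'
    apply hw
    have hw0 : (w : V) = 0 := by
      apply hsep
      intro v
      -- decompose `v`
      set b₁ := QuadraticMap.polar (⇑Q) v u₁ with hb₁
      set b₂ := QuadraticMap.polar (⇑Q) v (θ u₁) with hb₂
      set D := 4 * δ * a₁ ^ 2 - β₁ ^ 2 with hDdef
      set x := (2 * δ * a₁ * b₁ - β₁ * b₂) / D with hx
      set y := (2 * a₁ * b₂ - β₁ * b₁) / D with hy
      have hw' : v - (x • u₁ + y • θ u₁) ∈ LinearMap.ker f := by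
        rw [hf]
        constructor
        · rw [QuadraticMap.polar_sub_left, QuadraticMap.polar_add_left,
            QuadraticMap.polar_smul_left, QuadraticMap.polar_smul_left, rep_polar_self,
            QuadraticMap.polar_comm (⇑Q) (θ u₁) u₁]
          simp only [smul_eq_mul]
          rw [← hb₁, ← ha₁, ← hβ₁, hx, hy]
          field_simp
          ring
        · rw [QuadraticMap.polar_sub_left, QuadraticMap.polar_add_left,
            QuadraticMap.polar_smul_left, QuadraticMap.polar_smul_left,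
            rep_polar_theta_theta Q δ θ hθ hsa, rep_polar_self]
          simp only [smul_eq_mul]
          rw [← hb₂, ← ha₁, ← hβ₁, hx, hy]
          field_simp
          ring
      have hwk := (hf w).mp w.2
      have hv : v = (x • u₁ + y • θ u₁) + (v - (x • u₁ + y • θ u₁)) := by abel
      rw [hv, QuadraticMap.polar_add_right, QuadraticMap.polar_add_right,
        QuadraticMap.polar_smul_right, QuadraticMap.polar_smul_right, hwk.1, hwk.2,
        rep_polar_eq_zero Q (LinearMap.ker f) hcon w.2 hw']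
      simp
    exact Subtype.ext hw0
  obtain ⟨u₂, hu₂k, hu₂⟩ := hex2
  obtain ⟨h21, h21θ⟩ := (hf u₂).mp hu₂k
  set a₂ := Q u₂ with ha₂
  set β₂ := QuadraticMap.polar (⇑Q) u₂ (θ u₂) with hβ₂
  -- Step 3: the equation in `L`
  have hfact := Cfsg.Agent.Lib.Helper14.SpU.fact_of_not_isSquare δ hδ
  let c₁ : LL δ := ⟨β₁, 2 * a₁⟩
  let c₂ : LL δ := ⟨β₂, 2 * a₂⟩
  let c : LL δ := ⟨β, 2 * a⟩
  have hc₁ : c₁ ≠ 0 := by
    intro h
    have := congrArg QuadraticAlgebra.im h
    simp only [c₁, QuadraticAlgebra.im_zero] at this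
    exact (mul_ne_zero h2 hu₁) this
  have hc₂ : c₂ ≠ 0 := by
    intro h
    have := congrArg QuadraticAlgebra.im h
    simp only [c₂, QuadraticAlgebra.im_zero] at this
    exact (mul_ne_zero h2 hu₂) this
  have hf2 : degree (C c₁ * X ^ 2 - C c : (LL δ)[X]) = 2 := by
    rw [degree_sub_eq_left_of_degree_lt]
    · exact degree_C_mul_X_pow 2 hc₁
    · rw [degree_C_mul_X_pow 2 hc₁]
      exact lt_of_le_of_lt degree_C_le (by norm_num)
  have hg2 : degree (C c₂ * X ^ 2 : (LL δ)[X]) = 2 := degree_C_mul_X_pow 2 hc₂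
  have hcard : Fintype.card (LL δ) % 2 = 1 := by
    rw [Cfsg.Agent.Lib.Helper14.SpU.card_LL]
    exact Nat.odd_iff.mp hodd.pow
  obtain ⟨s, t, hst⟩ := FiniteField.exists_root_sum_quadratic hf2 hg2 hcard
  simp only [eval_sub, eval_mul, eval_C, eval_pow, eval_X] at hst
  have hre := congrArg QuadraticAlgebra.re hst
  have him := congrArg QuadraticAlgebra.im hst
  simp only [c₁, c₂, c, pow_two, QuadraticAlgebra.re_add, QuadraticAlgebra.re_sub,
    QuadraticAlgebra.re_mul, QuadraticAlgebra.im_mul, QuadraticAlgebra.im_add,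
    QuadraticAlgebra.im_sub, QuadraticAlgebra.re_zero, QuadraticAlgebra.im_zero] at hre him
  -- Step 4: the vector
  set s₁ := s.re with hs₁
  set s₂ := s.im with hs₂
  set t₁ := t.re with ht₁
  set t₂ := t.im with ht₂
  set x := s₁ • u₁ + s₂ • θ u₁ with hxdef
  set y := t₁ • u₂ + t₂ • θ u₂ with hydef
  have h12 : QuadraticMap.polar (⇑Q) u₁ u₂ = 0 := by rw [QuadraticMap.polar_comm]; exact h21
  have h1θ2 : QuadraticMap.polar (⇑Q) u₁ (θ u₂) = 0 := by
    rw [← hsa, QuadraticMap.polar_comm]; exact h21θ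
  have hθ12 : QuadraticMap.polar (⇑Q) (θ u₁) u₂ = 0 := by
    rw [QuadraticMap.polar_comm]; exact h21θ
  have hθ1θ2 : QuadraticMap.polar (⇑Q) (θ u₁) (θ u₂) = 0 := by
    rw [rep_polar_theta_theta Q δ θ hθ hsa, h12, mul_zero]
  have hθx : θ x = (δ * s₂) • u₁ + s₁ • θ u₁ := by
    rw [hxdef, map_add, map_smul, map_smul, hθ, smul_smul, add_comm, mul_comm]
  have hθy : θ y = (δ * t₂) • u₂ + t₁ • θ u₂ := by
    rw [hydef, map_add, map_smul, map_smul, hθ, smul_smul, add_comm, mul_comm]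
  have hxy : QuadraticMap.polar (⇑Q) x y = 0 := by
    rw [hxdef, hydef]
    simp only [QuadraticMap.polar_add_left, QuadraticMap.polar_add_right,
      QuadraticMap.polar_smul_left, QuadraticMap.polar_smul_right, h12, h1θ2, hθ12, hθ1θ2]
    simp
  have hxθy : QuadraticMap.polar (⇑Q) x (θ y) = 0 := by
    rw [hθy, hxdef]
    simp only [QuadraticMap.polar_add_left, QuadraticMap.polar_add_right,
      QuadraticMap.polar_smul_left, QuadraticMap.polar_smul_right, h12, h1θ2, hθ12, hθ1θ2]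
    simp
  have hyθx : QuadraticMap.polar (⇑Q) y (θ x) = 0 := by
    rw [QuadraticMap.polar_comm, hθx, hydef]
    simp only [QuadraticMap.polar_add_left, QuadraticMap.polar_add_right,
      QuadraticMap.polar_smul_left, QuadraticMap.polar_smul_right, h12, h1θ2, hθ12, hθ1θ2]
    simp
  refine ⟨x + y, ?_, ?_⟩
  · rw [QuadraticMap.map_add Q, hxy, add_zero, hxdef, hydef,
      rep_plane_Q h2 Q δ θ hθ hsa, rep_plane_Q h2 Q δ θ hθ hsa, ← ha₁, ← hβ₁, ← ha₂, ← hβ₂]
    have h3 : (2 : F) * ((s₁ ^ 2 + δ * s₂ ^ 2) * a₁ + s₁ * s₂ * β₁ +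
        ((t₁ ^ 2 + δ * t₂ ^ 2) * a₂ + t₁ * t₂ * β₂)) = 2 * a := by
      linear_combination him
    exact mul_left_cancel₀ h2 h3
  · rw [map_add, QuadraticMap.polar_add_left, QuadraticMap.polar_add_right,
      QuadraticMap.polar_add_right, hxθy, hyθx, add_zero, zero_add, hxdef, hydef,
      rep_plane_B Q δ θ hθ hsa, rep_plane_B Q δ θ hθ hsa, ← ha₁, ← hβ₁, ← ha₂, ← hβ₂]
    linear_combination hre

end Cfsg.Agent.Lib.Helper74.OQF
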