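import Mathlib
import Cfsg.Agent.Lib.Helper74.CR2Defs
import Cfsg.Agent.Lib.Helper74.ClassMultiset

/-!
# Conjugate rank two: basic facts (S4284)
-/

set_option autoImplicit false
set_option linter.unusedSectionVars false
set_option linter.unusedVariables false

namespace Cfsg.Agent.Lib.Helper74.CR2

open Subgroup

variable {G : Type*} [Group G]

/-- `p`-part / `p'`-part decomposition of an element of finite order. -/
theorem exists_pParts [Finite G] (p : ℕ) [hp : Fact p.Prime] (y : G) :
    ∃ y1 y2 : G, y1 * y2 = y ∧ Commute y1 y2 ∧ y1 ∈ zpowers y ∧ y2 ∈ zpowers y ∧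
      (∃ k : ℕ, orderOf y1 = p ^ k) ∧ (orderOf y2).Coprime p := by
  have hN : orderOf y ≠ 0 := (orderOf_pos y).ne'
  obtain ⟨k, r, hr, hNr⟩ := Nat.exists_eq_pow_mul_and_not_dvd hN p hp.out.ne_one
  have hcop : Nat.Coprime (p ^ k) r :=
    Nat.Coprime.pow_left k ((Nat.Prime.coprime_iff_not_dvd hp.out).2 hr)
  have hb := Nat.gcd_eq_gcd_ab (p ^ k) r
  rw [hcop.gcd_eq_one] at hb
  set A := Nat.gcdA (p ^ k) r
  set B := Nat.gcdB (p ^ k) r
  refine ⟨y ^ ((r : ℤ) * B), y ^ (((p ^ k : ℕ) : ℤ) * A), ?_, ?_, ?_, ?_, ?_, ?_⟩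
  · rw [← zpow_add]
    have : (r : ℤ) * B + ((p ^ k : ℕ) : ℤ) * A = 1 := by
      have hb' : (1 : ℤ) = ((p ^ k : ℕ) : ℤ) * A + (r : ℤ) * B := by exact_mod_cast hb
      rw [hb']; ring
    rw [this, zpow_one]
  · exact (Commute.refl y).zpow_zpow _ _
  · exact zpow_mem_zpowers y _
  · exact zpow_mem_zpowers y _
  · have h1 : (y ^ ((r : ℤ) * B)) ^ (p ^ k) = 1 := by
      rw [← zpow_natCast, ← zpow_mul]
      have : (r : ℤ) * B * ((p ^ k : ℕ) : ℤ) = ((orderOf y : ℕ) : ℤ) * B := by
        rw [hNr]; push_cast; ring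
      rw [this, zpow_mul, zpow_natCast, pow_orderOf_eq_one, one_zpow]
    obtain ⟨j, -, hj⟩ := (Nat.dvd_prime_pow hp.out).1 (orderOf_dvd_of_pow_eq_one h1)
    exact ⟨j, hj⟩
  · have h1 : (y ^ (((p ^ k : ℕ) : ℤ) * A)) ^ r = 1 := by
      rw [← zpow_natCast, ← zpow_mul]
      have : ((p ^ k : ℕ) : ℤ) * A * (r : ℤ) = ((orderOf y : ℕ) : ℤ) * A := by
        rw [hNr]; push_cast; ring
      rw [this, zpow_mul, zpow_natCast, pow_orderOf_eq_one, one_zpow]
    have hd : orderOf (y ^ (((p ^ k : ℕ) : ℤ) * A)) ∣ r := orderOf_dvd_of_pow_eq_one h1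
    exact Nat.Coprime.coprime_dvd_left hd ((Nat.Prime.coprime_iff_not_dvd hp.out).2 hr).symm

/-- centralizer of a product of commuting elements of coprime orders -/
theorem centralizer_mul_of_coprime {x h : G} (hc : Commute x h)
    (hcop : (orderOf x).Coprime (orderOf h)) :
    centralizer ({x * h} : Set G) = centralizer ({x} : Set G) ⊓ centralizer ({h} : Set G) := by
  apply le_antisymm
  · intro g hg
    rw [mem_centralizer_singleton_iff] at hg
    have hcg : Commute g (x * h) := hg
    obtain ⟨i, hi⟩ := exists_pow_eq_self_of_coprime hcop.symm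
    obtain ⟨j, hj⟩ := exists_pow_eq_self_of_coprime hcop
    have hx : (x * h) ^ (orderOf h * i) = x := by
      rw [hc.mul_pow, pow_mul h, pow_orderOf_eq_one, one_pow, mul_one, pow_mul, hi]
    have hh : (x * h) ^ (orderOf x * j) = h := by
      rw [hc.mul_pow, pow_mul x, pow_orderOf_eq_one, one_pow, one_mul, pow_mul, hj]
    refine Subgroup.mem_inf.2 ⟨?_, ?_⟩
    · rw [mem_centralizer_singleton_iff]
      have := hcg.pow_right (orderOf h * i)
      rw [hx] at this
      exact this.eq
    · rw [mem_centralizer_singleton_iff]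
      have := hcg.pow_right (orderOf x * j)
      rw [hh] at this
      exact this.eq
  · intro g hg
    obtain ⟨hg1, hg2⟩ := Subgroup.mem_inf.1 hg
    rw [mem_centralizer_singleton_iff] at hg1 hg2 ⊢
    have h1 : Commute g x := hg1
    have h2 : Commute g h := hg2
    exact (h1.mul_right h2).eq

theorem idx_dvd_of_le {g x : G} (h : centralizer ({g} : Set G) ≤ centralizer ({x} : Set G)) :
    (centralizer ({x} : Set G)).index ∣ (centralizer ({g} : Set G)).index :=
  Subgroup.index_dvd_of_le h

theorem eq_of_le_of_idx_eq [Finite G] {g x : G}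
    (h : centralizer ({g} : Set G) ≤ centralizer ({x} : Set G))
    (he : (centralizer ({g} : Set G)).index = (centralizer ({x} : Set G)).index) :
    centralizer ({g} : Set G) = centralizer ({x} : Set G) := by
  have h1 := Subgroup.relIndex_mul_index h
  rw [he] at h1
  have hpos : 0 < (centralizer ({x} : Set G)).index := Nat.pos_of_ne_zero Subgroup.index_ne_zero_of_finite
  have h2 : (centralizer ({g} : Set G)).relIndex (centralizer ({x} : Set G)) = 1 := by
    have : (centralizer ({g} : Set G)).relIndex (centralizer ({x} : Set G)) *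
        (centralizer ({x} : Set G)).index = 1 * (centralizer ({x} : Set G)).index := by
      rw [one_mul]; exact h1
    exact Nat.eq_of_mul_eq_mul_right hpos this
  exact le_antisymm h (Subgroup.relIndex_eq_one.1 h2)

variable [Finite G] {m n : ℕ}

theorem Hyp.idx_cases (H : Hyp G m n) (x : G) :
    (centralizer ({x} : Set G)).index = 1 ∨ (centralizer ({x} : Set G)).index = m ∨
      (centralizer ({x} : Set G)).index = m * n := by
  have : (centralizer ({x} : Set G)).index ∈ Set.range
      (fun x : G => (centralizer ({x} : Set G)).index) := ⟨x, rfl⟩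
  rw [H.h] at this
  simpa using this

theorem Hyp.exists_small (H : Hyp G m n) : ∃ y : G, (centralizer ({y} : Set G)).index = m := by
  have : m ∈ ({1, m, m * n} : Set ℕ) := by simp
  rw [← H.h] at this
  exact this

theorem Hyp.exists_big (H : Hyp G m n) : ∃ y : G, (centralizer ({y} : Set G)).index = m * n := by
  have : m * n ∈ ({1, m, m * n} : Set ℕ) := by simp
  rw [← H.h] at this
  exact this

theorem Hyp.m_pos (H : Hyp G m n) : 0 < m := by have := H.hm; omega
theorem Hyp.n_pos (H : Hyp G m n) : 0 < n := by have := H.hn; omega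

theorem Hyp.m_lt_mn (H : Hyp G m n) : m < m * n := by
  have := H.hm; have := H.hn; nlinarith

theorem Hyp.noncentral (H : Hyp G m n) {x : G} (hx : x ∉ center G) :
    (centralizer ({x} : Set G)).index = m ∨ (centralizer ({x} : Set G)).index = m * n := by
  rcases H.idx_cases x with h | h | h
  · exact absurd ((cm_idx_eq_one_iff x).1 h) hx
  · exact Or.inl h
  · exact Or.inr h

theorem Hyp.not_mem_center_of_idx (H : Hyp G m n) {x : G}
    (hx : (centralizer ({x} : Set G)).index = m ∨ (centralizer ({x} : Set G)).index = m * n) :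
    x ∉ center G := by
  intro hc
  have h1 := (cm_idx_eq_one_iff x).2 hc
  have := H.hm; have := H.m_lt_mn
  rcases hx with h | h <;> omega

theorem Hyp.m_dvd_idx (H : Hyp G m n) {x : G} (hx : x ∉ center G) :
    m ∣ (centralizer ({x} : Set G)).index := by
  rcases H.noncentral hx with h | h
  · rw [h]
  · rw [h]; exact dvd_mul_right m n

/-- if `C(g) ≤ C(x)` and `x` is big then `C(g) = C(x)` -/
theorem Hyp.eq_of_le_big (H : Hyp G m n) {g x : G}
    (h : centralizer ({g} : Set G) ≤ centralizer ({x} : Set G))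
    (hx : (centralizer ({x} : Set G)).index = m * n) :
    centralizer ({g} : Set G) = centralizer ({x} : Set G) := by
  apply eq_of_le_of_idx_eq h
  have hd := idx_dvd_of_le h
  rw [hx] at hd ⊢
  have := H.hm; have := H.hn
  rcases H.idx_cases g with h1 | h1 | h1
  · rw [h1] at hd
    have := Nat.le_of_dvd one_pos hd
    nlinarith
  · rw [h1] at hd
    have := Nat.le_of_dvd H.m_pos hd
    have := H.m_lt_mn
    omega
  · exact h1

/-- if `C(g) ≤ C(x)`, `g` small and `x` noncentral then `C(g) = C(x)` -/
theorem Hyp.eq_of_le_small (H : Hyp G m n) {g x : G}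
    (h : centralizer ({g} : Set G) ≤ centralizer ({x} : Set G))
    (hg : (centralizer ({g} : Set G)).index = m) (hx : x ∉ center G) :
    centralizer ({g} : Set G) = centralizer ({x} : Set G) := by
  apply eq_of_le_of_idx_eq h
  have hd := idx_dvd_of_le h
  rw [hg] at hd ⊢
  rcases H.noncentral hx with h1 | h1
  · exact h1.symm
  · rw [h1] at hd
    have := Nat.le_of_dvd H.m_pos hd
    have := H.m_lt_mn
    omega

/-- (F2) the `q'`-elements of the centralizer of a big `q`-element are central in it -/
theorem Hyp.le_centralizer_of_big (H : Hyp G m n) {q : ℕ} (hq : q.Prime) {x h : G}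
    (hx : ∃ k : ℕ, orderOf x = q ^ k) (hxi : (centralizer ({x} : Set G)).index = m * n)
    (hh : h ∈ centralizer ({x} : Set G)) (hcop : (orderOf h).Coprime q) :
    centralizer ({x} : Set G) ≤ centralizer ({h} : Set G) := by
  obtain ⟨k, hk⟩ := hx
  have hc : Commute x h := by
    rw [mem_centralizer_singleton_iff] at hh
    exact (Eq.symm hh : x * h = h * x)
  have hco : (orderOf x).Coprime (orderOf h) := by
    rw [hk]; exact Nat.Coprime.pow_left k hcop.symm
  have h1 := centralizer_mul_of_coprime hc hco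
  have h2 : centralizer ({x * h} : Set G) ≤ centralizer ({x} : Set G) := by
    rw [h1]; exact inf_le_left
  have h3 := H.eq_of_le_big h2 hxi
  rw [h1] at h3
  exact inf_eq_left.1 h3


section SylowFacts

variable {p : ℕ} [hp : Fact p.Prime]

theorem Hyp.factorization_idx (H : Hyp G m n) (hpm : p ∣ m) {x : G} (hx : x ∉ center G) :
    ((centralizer ({x} : Set G)).index).factorization p = m.factorization p := by
  rcases H.noncentral hx with h | h
  · rw [h]
  · rw [h, Nat.factorization_mul H.m_pos.ne' H.n_pos.ne']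
    have hpn : ¬ p ∣ n := by
      intro hpn
      have := Nat.dvd_gcd hpm hpn
      rw [H.hcop.gcd_eq_one] at this
      exact hp.out.one_lt.ne' (Nat.dvd_one.1 this)
    simp [Nat.factorization_eq_zero_of_not_dvd hpn]

theorem Hyp.one_le_factorization (H : Hyp G m n) (hpm : p ∣ m) : 1 ≤ m.factorization p :=
  (hp.out.dvd_iff_one_le_factorization H.m_pos.ne').1 hpm

theorem factorization_card_eq (x : G) :
    (Nat.card G).factorization p = (Nat.card (centralizer ({x} : Set G))).factorization p +
      ((centralizer ({x} : Set G)).index).factorization p := by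
  rw [← Subgroup.card_mul_index (centralizer ({x} : Set G)),
    Nat.factorization_mul Nat.card_pos.ne' Subgroup.index_ne_zero_of_finite]
  rfl

/-- a `p`-subgroup of the centralizer of a noncentral element -/
theorem Hyp.card_pgroup_mul_le (H : Hyp G m n) (hpm : p ∣ m) (P : Sylow p G) {x : G}
    (hx : x ∉ center G) (S : Subgroup G) (hS : IsPGroup p S)
    (hSx : S ≤ centralizer ({x} : Set G)) :
    Nat.card S * p ^ (m.factorization p) ≤ Nat.card (P : Subgroup G) := by
  obtain ⟨j, hj⟩ := IsPGroup.iff_card.1 hS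
  have h1 : Nat.card S ∣ Nat.card (centralizer ({x} : Set G)) := Subgroup.card_dvd_of_le hSx
  rw [hj] at h1
  have h2 : j ≤ (Nat.card (centralizer ({x} : Set G))).factorization p :=
    (hp.out.pow_dvd_iff_le_factorization Nat.card_pos.ne').1 h1
  have h3 := factorization_card_eq (p := p) x
  rw [H.factorization_idx hpm hx] at h3
  rw [hj, Sylow.card_eq_multiplicity, ← pow_add]
  exact Nat.pow_le_pow_right hp.out.pos (by omega)

/-- (P1) an element centralized by a Sylow `p`-subgroup, `p ∣ m`, is central -/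
theorem Hyp.mem_center_of_sylow_le (H : Hyp G m n) (hpm : p ∣ m) (P : Sylow p G) {x : G}
    (h : (P : Subgroup G) ≤ centralizer ({x} : Set G)) : x ∈ center G := by
  by_contra hx
  have h1 := H.card_pgroup_mul_le hpm P hx (P : Subgroup G) P.isPGroup' h
  have h2 : 2 ≤ p ^ (m.factorization p) := by
    calc 2 ≤ p := hp.out.two_le
      _ = p ^ 1 := (pow_one p).symm
      _ ≤ p ^ (m.factorization p) := Nat.pow_le_pow_right hp.out.pos (H.one_le_factorization hpm)
  have h3 : 0 < Nat.card (P : Subgroup G) := Nat.card_pos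
  nlinarith

/-- a Sylow `p`-subgroup of a centralizer, as a subgroup of `G` -/
theorem exists_sylow_centralizer (P : Sylow p G) (g : G) :
    ∃ S : Subgroup G, S ≤ centralizer ({g} : Set G) ∧ IsPGroup p S ∧
      Nat.card S * p ^ (((centralizer ({g} : Set G)).index).factorization p) =
        Nat.card (P : Subgroup G) ∧
      ∀ T : Subgroup G, IsPGroup p T → T ≤ centralizer ({g} : Set G) →
        Nat.card T ≤ Nat.card S := by
  obtain ⟨Q⟩ : Nonempty (Sylow p ↥(centralizer ({g} : Set G))) := inferInstance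
  have hQc : Nat.card (Q : Subgroup ↥(centralizer ({g} : Set G))) =
      p ^ (Nat.card (centralizer ({g} : Set G))).factorization p := Sylow.card_eq_multiplicity Q
  have hmapc : Nat.card ((Q : Subgroup ↥(centralizer ({g} : Set G))).map
      (centralizer ({g} : Set G)).subtype) = Nat.card (Q : Subgroup ↥(centralizer ({g} : Set G))) :=
    Subgroup.card_map_of_injective (Subgroup.subtype_injective _)
  refine ⟨(Q : Subgroup ↥(centralizer ({g} : Set G))).map (centralizer ({g} : Set G)).subtype,
    ?_, ?_, ?_, ?_⟩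
  · rintro _ ⟨y, -, rfl⟩
    exact y.2
  · exact Q.isPGroup'.map _
  · rw [hmapc, hQc, Sylow.card_eq_multiplicity, ← pow_add, factorization_card_eq (p := p) g]
  · intro T hT hTg
    obtain ⟨j, hj⟩ := IsPGroup.iff_card.1 hT
    have h1 : Nat.card T ∣ Nat.card (centralizer ({g} : Set G)) := Subgroup.card_dvd_of_le hTg
    rw [hj] at h1
    have h2 : j ≤ (Nat.card (centralizer ({g} : Set G))).factorization p :=
      (hp.out.pow_dvd_iff_le_factorization Nat.card_pos.ne').1 h1
    rw [hmapc, hQc, hj]
    exact Nat.pow_le_pow_right hp.out.pos h2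

/-- there is a noncentral `p`-element when `p ∣ m` -/
theorem Hyp.exists_noncentral_pElt (H : Hyp G m n) (hpm : p ∣ m) :
    ∃ u : G, (∃ k : ℕ, orderOf u = p ^ k) ∧ u ∉ center G := by
  by_contra hcon
  push Not at hcon
  obtain ⟨P⟩ : Nonempty (Sylow p G) := inferInstance
  obtain ⟨y, hy⟩ := H.exists_small
  have hyZ : y ∉ center G := H.not_mem_center_of_idx (Or.inl hy)
  apply hyZ
  apply H.mem_center_of_sylow_le hpm P
  intro u hu
  have huc : u ∈ center G := by
    apply hcon u
    obtain ⟨k, hk⟩ := (IsPGroup.iff_orderOf.1 P.isPGroup') ⟨u, hu⟩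
    refine ⟨k, ?_⟩
    rw [← hk, Subgroup.orderOf_mk]
  rw [mem_centralizer_singleton_iff]
  exact (Subgroup.mem_center_iff.1 huc y).symm

/-- (P4) every centralizer contains a noncentral `p`-element, `p ∣ m` -/
theorem Hyp.exists_noncentral_pElt_centralizer (H : Hyp G m n) (hpm : p ∣ m) (g : G) :
    ∃ u ∈ centralizer ({g} : Set G), (∃ k : ℕ, orderOf u = p ^ k) ∧ u ∉ center G := by
  by_contra hcon
  push Not at hcon
  obtain ⟨P⟩ : Nonempty (Sylow p G) := inferInstance
  obtain ⟨S, hSg, hSp, hScard, -⟩ := exists_sylow_centralizer P g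
  have hSZ : S ≤ center G := by
    intro u hu
    apply hcon u (hSg hu)
    obtain ⟨k, hk⟩ := (IsPGroup.iff_orderOf.1 hSp) ⟨u, hu⟩
    refine ⟨k, ?_⟩
    rw [← hk, Subgroup.orderOf_mk]
  obtain ⟨u0, hu0, hu0Z⟩ := H.exists_noncentral_pElt (p := p) hpm
  have hSn : S.Normal := by
    constructor
    intro s hs g'
    have := Subgroup.mem_center_iff.1 (hSZ hs) g'
    rw [this, mul_inv_cancel_right]
    exact hs
  have hTp : IsPGroup p (zpowers u0 ⊔ S : Subgroup G) := by
    apply IsPGroup.to_sup_of_normal_right _ hSp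
    obtain ⟨k, hk⟩ := hu0
    exact IsPGroup.of_card (by rw [Nat.card_zpowers, hk])
  have hTle : (zpowers u0 ⊔ S : Subgroup G) ≤ centralizer ({u0} : Set G) := by
    apply sup_le
    · rw [zpowers_le]
      rw [mem_centralizer_singleton_iff]
    · intro s hs
      rw [mem_centralizer_singleton_iff]
      exact (Subgroup.mem_center_iff.1 (hSZ hs) u0).symm
  have h1 := H.card_pgroup_mul_le hpm P hu0Z _ hTp hTle
  have hlt : Nat.card S < Nat.card (zpowers u0 ⊔ S : Subgroup G) := by
    have hss : (S : Set G) ⊂ ((zpowers u0 ⊔ S : Subgroup G) : Set G) := ?_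
    · have := Set.ncard_lt_ncard hss (Set.toFinite _)
      rw [← Nat.card_coe_set_eq, ← Nat.card_coe_set_eq] at this
      exact this
    rw [Set.ssubset_iff_subset_ne]
    refine ⟨fun s hs => (le_sup_right : S ≤ zpowers u0 ⊔ S) hs, fun heq => hu0Z (hSZ ?_)⟩
    have : u0 ∈ ((zpowers u0 ⊔ S : Subgroup G) : Set G) :=
      (le_sup_left : zpowers u0 ≤ zpowers u0 ⊔ S) (mem_zpowers u0)
    rw [← heq] at this
    exact this
  have hle : p ^ (((centralizer ({g} : Set G)).index).factorization p) ≤ p ^ (m.factorization p) := by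
    apply Nat.pow_le_pow_right hp.out.pos
    by_cases hgZ : g ∈ center G
    · rw [(cm_idx_eq_one_iff g).2 hgZ]; simp
    · rw [H.factorization_idx hpm hgZ]
  have hpos : 0 < p ^ (m.factorization p) := pow_pos hp.out.pos _
  nlinarith

/-- (F1) if all noncentral `p`-elements are big, the centralizer of a noncentral `p`-element
commuting with a small element `y` lies in `C(y)` -/
theorem Hyp.centralizer_le_of_small (H : Hyp G m n) (hpm : p ∣ m)
    (hbig : ∀ u : G, (∃ k : ℕ, orderOf u = p ^ k) → u ∉ center G →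
      (centralizer ({u} : Set G)).index = m * n)
    {y u : G} (hy : (centralizer ({y} : Set G)).index = m)
    (hu : ∃ k : ℕ, orderOf u = p ^ k) (huZ : u ∉ center G)
    (huy : u ∈ centralizer ({y} : Set G)) :
    centralizer ({u} : Set G) ≤ centralizer ({y} : Set G) := by
  obtain ⟨y1, y2, hy12, hc12, hy1z, hy2z, hy1p, hy2p⟩ := exists_pParts p y
  have hle1 : centralizer ({y} : Set G) ≤ centralizer ({y1} : Set G) := by
    intro g hg
    rw [mem_centralizer_singleton_iff] at hg ⊢
    obtain ⟨i, rfl⟩ := Subgroup.mem_zpowers_iff.1 hy1z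
    have : Commute g y := hg
    exact (this.zpow_right i).eq
  have hy1Z : y1 ∈ center G := by
    by_contra hcon
    have h1 := hbig y1 hy1p hcon
    have h2 := idx_dvd_of_le hle1
    rw [h1, hy] at h2
    have := Nat.le_of_dvd H.m_pos h2
    have := H.m_lt_mn
    omega
  have hCy : centralizer ({y2} : Set G) = centralizer ({y} : Set G) := by
    rw [← hy12, hc12.eq]
    exact (cm_centralizer_mul_central y2 hy1Z).symm
  have hcu2 : Commute u y2 := by
    rw [mem_centralizer_singleton_iff] at huy
    obtain ⟨i, rfl⟩ := Subgroup.mem_zpowers_iff.1 hy2z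
    have : Commute u y := huy
    exact this.zpow_right i
  rw [← hCy]
  apply H.le_centralizer_of_big hp.out hu (hbig u hu huZ)
  · rw [mem_centralizer_singleton_iff]
    exact hcu2.eq.symm
  · exact hy2p

end SylowFacts

end Cfsg.Agent.Lib.Helper74.CR2
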