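import Mathlib
import Cfsg.Prelude.Def_Solvable
import Cfsg.Agent.Lib.Helper75.ClassProd

set_option autoImplicit false

/-!
# The width-one theorem for 3-transpositions, from Glauberman's Z*-theorem

If `D` is a conjugation-invariant generating set of involutions of the finite group `G` such that
the product of any two different members has order 3, then `G = ⟨d⟩ P` with `P` a normal
3-subgroup and `D = d ^ P`.  The proof takes the conclusion of the Z*-theorem for `G` as a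
hypothesis (`WOZStar G`, the exact shape of statement S0215).
-/

namespace Cfsg.Agent.Lib.Helper74

universe u

/-- The conclusion of Glauberman's Z*-theorem for the group `G`, as a hypothesis. -/
def WOZStar (G : Type u) [Group G] : Prop :=
  ∀ (P : Sylow 2 G) (u : G), orderOf u = 2 → u ∈ P →
    (∀ g : G, g * u * g⁻¹ ∈ P → g * u * g⁻¹ = u) →
    ∃ N : Subgroup G, N.Normal ∧ Odd (Nat.card N) ∧ ∀ g : G, (u * g * u⁻¹ * g⁻¹) ∈ N

section
variable {G : Type u} [Group G]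

/-- `D` is a set of involutions, closed under conjugation, and any two distinct members have a
product whose cube is one. -/
structure WOSet (D : Set G) : Prop where
  ord : ∀ d ∈ D, orderOf d = 2
  conj : ∀ g : G, ∀ d ∈ D, g * d * g⁻¹ ∈ D
  cube : ∀ d ∈ D, ∀ e ∈ D, d ≠ e → (d * e) ^ 3 = 1

variable {D : Set G}

theorem WOSet.sq (h : WOSet D) {d : G} (hd : d ∈ D) : d * d = 1 := by
  have := pow_orderOf_eq_one d
  rw [h.ord d hd] at this
  rw [← pow_two]
  exact this

theorem WOSet.inv (h : WOSet D) {d : G} (hd : d ∈ D) : d⁻¹ = d :=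
  inv_eq_of_mul_eq_one_left (h.sq hd)

theorem WOSet.ne_one (h : WOSet D) {d : G} (hd : d ∈ D) : d ≠ 1 := by
  intro h1
  have := h.ord d hd
  rw [h1, orderOf_one] at this
  omega

theorem WOSet.conj_eq (h : WOSet D) {d e : G} (hd : d ∈ D) (he : e ∈ D) (hne : d ≠ e) :
    (d * e) * d * (d * e)⁻¹ = e := by
  have h3 := h.cube d hd e he hne
  have h6 : d * e * d * e * d * e = 1 := by
    have := h3
    rw [pow_succ, pow_succ, pow_one] at this
    simpa [mul_assoc] using this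
  rw [mul_inv_rev, h.inv he, h.inv hd]
  calc d * e * d * (e * d) = (d * e * d * e * d * e) * e⁻¹ := by group
    _ = e := by rw [h6, one_mul, h.inv he]

/-- every member of `D` is conjugate to `d` -/
theorem WOSet.exists_conj (h : WOSet D) {d e : G} (hd : d ∈ D) (he : e ∈ D) :
    ∃ g : G, e = g * d * g⁻¹ := by
  by_cases hne : d = e
  · exact ⟨1, by simp [hne]⟩
  · exact ⟨d * e, (h.conj_eq hd he hne).symm⟩

/-- a member of `D` normalizing a `p`-subgroup, `p ≠ 3`, centralizes it -/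
theorem WOSet.le_centralizer_of_mem_normalizer (h : WOSet D) {p : ℕ} [hp : Fact p.Prime]
    (hp3 : p ≠ 3) {t : G} (ht : t ∈ D) (Q : Subgroup G) (hQ : IsPGroup p Q)
    (htQ : t ∈ Subgroup.normalizer (Q : Set G)) : Q ≤ Subgroup.centralizer {t} := by
  intro x hx
  rw [Subgroup.mem_centralizer_singleton_iff]
  by_contra hne
  have heD : x⁻¹ * t * (x⁻¹)⁻¹ ∈ D := h.conj x⁻¹ t ht
  have hne' : t ≠ x⁻¹ * t * (x⁻¹)⁻¹ := by
    intro hte
    apply hne
    have h1 : x * t = x * (x⁻¹ * t * (x⁻¹)⁻¹) := by rw [← hte]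
    rw [h1]; group
  have h3 := h.cube t ht _ heD hne'
  have hmem : t * (x⁻¹ * t * (x⁻¹)⁻¹) ∈ Q := by
    have h1 : t * x⁻¹ * t⁻¹ ∈ Q := (Subgroup.mem_normalizer_iff.1 htQ x⁻¹).1 (Q.inv_mem hx)
    have h2 : t * (x⁻¹ * t * (x⁻¹)⁻¹) = (t * x⁻¹ * t⁻¹) * x := by
      rw [h.inv ht]; group
    rw [h2]; exact Q.mul_mem h1 hx
  obtain ⟨k, hk⟩ := hQ ⟨_, hmem⟩
  have hk' : (t * (x⁻¹ * t * (x⁻¹)⁻¹)) ^ (p ^ k) = 1 := by
    have := congrArg Subtype.val hk
    simpa using this
  have h1 : orderOf (t * (x⁻¹ * t * (x⁻¹)⁻¹)) ∣ 3 := orderOf_dvd_of_pow_eq_one h3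
  have h2 : orderOf (t * (x⁻¹ * t * (x⁻¹)⁻¹)) ∣ p ^ k := orderOf_dvd_of_pow_eq_one hk'
  have hcop : Nat.Coprime 3 (p ^ k) :=
    Nat.Coprime.pow_right k ((Nat.coprime_primes Nat.prime_three hp.out).2 (Ne.symm hp3))
  have h4 : orderOf (t * (x⁻¹ * t * (x⁻¹)⁻¹)) = 1 := Nat.eq_one_of_dvd_coprimes hcop h1 h2
  rw [orderOf_eq_one_iff] at h4
  apply hne'
  have h5 := eq_inv_of_mul_eq_one_right h4
  rw [h5, h.inv ht]

end

section Frattini
variable {G : Type u} [Group G]

/-- in a normal subgroup of odd order, elements of odd order of `G` whose square lies in `N`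
lie in `N` -/
theorem wo_mem_of_sq_mem (N : Subgroup G) {x : G} (hx : x * x ∈ N) (hodd : Odd (orderOf x)) :
    x ∈ N := by
  obtain ⟨j, hj⟩ := hodd
  have : x = (x * x) ^ (j + 1) := by
    rw [← sq, ← pow_mul]
    have : 2 * (j + 1) = orderOf x + 1 := by omega
    rw [this, pow_succ, pow_orderOf_eq_one, one_mul]
  rw [this]
  exact N.pow_mem hx _

/-- Frattini-type lemma: if `N` is normal of odd order, `d` is an involution and `H ⊔ N = ⊤`,
then some `N`-conjugate of `d` lies in `H`. -/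
theorem wo_exists_conj_mem [Finite G] (N : Subgroup G) [hN : N.Normal] (hodd : Odd (Nat.card N)) {d : G}
    (hdd : d * d = 1) (H : Subgroup G) (hH : H ⊔ N = ⊤) : ∃ s ∈ N, s⁻¹ * d * s ∈ H := by
  have hdinv : d⁻¹ = d := inv_eq_of_mul_eq_one_left hdd
  have hd : d ∈ H ⊔ N := by rw [hH]; trivial
  obtain ⟨a, ha, n, hn, han⟩ := Subgroup.mem_sup_of_normal_right.1 hd
  have ha' : a = d * n⁻¹ := by rw [← han]; group
  have haa : a * a ∈ N := by
    have : a * a = (d * n⁻¹ * d⁻¹) * n⁻¹ := by rw [ha', hdinv]; group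
    rw [this]
    exact N.mul_mem (hN.conj_mem _ (N.inv_mem hn) d) (N.inv_mem hn)
  have hm : Odd (orderOf (a * a)) := Odd.of_dvd_nat hodd (Subgroup.orderOf_dvd_natCard N haa)
  obtain ⟨j, hj⟩ := hm
  -- the involution `t`
  have htt : (a * (a * a) ^ j) * (a * (a * a) ^ j) = 1 := by
    have : (a * (a * a) ^ j) * (a * (a * a) ^ j) = (a * a) ^ (2 * j + 1) := by
      have e1 : a * (a * a) ^ j = a ^ (2 * j + 1) := by
        rw [← sq, ← pow_mul, ← pow_succ']
      rw [e1, ← sq, ← pow_mul, ← sq, ← pow_mul]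
      congr 1
      ring
    rw [this, ← hj, pow_orderOf_eq_one]
  have htH : a * (a * a) ^ j ∈ H := H.mul_mem ha (H.pow_mem (H.mul_mem ha ha) _)
  -- `t = d * n₁`
  have hn1 : n⁻¹ * (a * a) ^ j ∈ N := N.mul_mem (N.inv_mem hn) (N.pow_mem haa _)
  have ht : a * (a * a) ^ j = d * (n⁻¹ * (a * a) ^ j) := by rw [ha']; group
  set n₁ := n⁻¹ * (a * a) ^ j with hn1def
  rw [ht] at htt htH
  -- `d` inverts `n₁`
  have hinv : d * n₁ * d⁻¹ = n₁⁻¹ := by
    rw [hdinv]
    have : d * n₁ * d * n₁ = 1 := by rw [← htt]; group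
    calc d * n₁ * d = (d * n₁ * d * n₁) * n₁⁻¹ := by group
      _ = n₁⁻¹ := by rw [this, one_mul]
  have hk : Odd (orderOf n₁) := Odd.of_dvd_nat hodd (Subgroup.orderOf_dvd_natCard N hn1)
  obtain ⟨i, hi⟩ := hk
  refine ⟨n₁ ^ (i + 1), N.pow_mem hn1 _, ?_⟩
  have hss : n₁ ^ (i + 1) * n₁ ^ (i + 1) = n₁ := by
    rw [← pow_add]
    have : i + 1 + (i + 1) = orderOf n₁ + 1 := by omega
    rw [this, pow_succ, pow_orderOf_eq_one, one_mul]
  have hsinv : d * n₁ ^ (i + 1) * d⁻¹ = (n₁ ^ (i + 1))⁻¹ := by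
    rw [← conj_pow, hinv, inv_pow]
  have : (n₁ ^ (i + 1))⁻¹ * d * n₁ ^ (i + 1) = d * n₁ := by
    rw [← hsinv]
    calc d * n₁ ^ (i + 1) * d⁻¹ * d * n₁ ^ (i + 1) = d * (n₁ ^ (i + 1) * n₁ ^ (i + 1)) := by group
      _ = d * n₁ := by rw [hss]
  rw [this]
  exact htH

end Frattini

section Main
variable {G : Type u} [Group G] [Finite G] {D : Set G}

open Cfsg.Agent.Lib.Helper75.ClassProd in
/-- **Width-one theorem** (from the Z*-theorem).  If `D` generates `G`, is closed under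
conjugation, consists of involutions and any two different members have a product of order 3, then
`D` is the orbit of any of its members under a normal 3-subgroup. -/
theorem width_one_main (hZ : WOZStar G) (h : WOSet D) (hgen : Subgroup.closure D = ⊤)
    {d : G} (hd : d ∈ D) :
    ∃ P : Subgroup G, P.Normal ∧ IsPGroup 3 P ∧ ∀ e ∈ D, ∃ x ∈ P, e = x * d * x⁻¹ := by
  have : Fact (Nat.Prime 2) := ⟨Nat.prime_two⟩
  have : Fact (Nat.Prime 3) := ⟨Nat.prime_three⟩
  -- Sylow 2-subgroup containing d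
  have hp2 : IsPGroup 2 (Subgroup.zpowers d) := by
    apply IsPGroup.of_card (n := 1)
    rw [Nat.card_zpowers, h.ord d hd, pow_one]
  obtain ⟨S, hS⟩ := hp2.exists_le_sylow
  have hdS : d ∈ (S : Subgroup G) := hS (Subgroup.mem_zpowers d)
  -- isolation
  have hiso : ∀ g : G, g * d * g⁻¹ ∈ S → g * d * g⁻¹ = d := by
    intro g hg
    by_contra hne
    have heD := h.conj g d hd
    have h3 := h.cube d hd _ heD (Ne.symm hne)
    have hmem : d * (g * d * g⁻¹) ∈ (S : Subgroup G) := Subgroup.mul_mem _ hdS hg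
    obtain ⟨k, hk⟩ := S.isPGroup' ⟨_, hmem⟩
    have hk' : (d * (g * d * g⁻¹)) ^ (2 ^ k) = 1 := by
      have := congrArg Subtype.val hk
      simpa using this
    have h1 := orderOf_dvd_of_pow_eq_one h3
    have h2 := orderOf_dvd_of_pow_eq_one hk'
    have hcop : Nat.Coprime 3 (2 ^ k) := Nat.Coprime.pow_right k (by norm_num)
    have h4 := Nat.eq_one_of_dvd_coprimes hcop h1 h2
    rw [orderOf_eq_one_iff] at h4
    apply hne
    have h5 := eq_inv_of_mul_eq_one_right h4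
    rw [h5, h.inv hd]
  obtain ⟨N, hN, hodd, hcomm⟩ := hZ S d (h.ord d hd) hdS hiso
  have := hN
  -- d * e ∈ N
  have hDN : ∀ e ∈ D, d * e ∈ N := by
    intro e he
    by_cases hne : d = e
    · rw [← hne, h.sq hd]; exact N.one_mem
    · have := hcomm (d * e)
      have e1 : d * (d * e) * d⁻¹ * (d * e)⁻¹ = d * ((d * e) * d * (d * e)⁻¹) := by
        rw [h.inv hd]; group
      rw [e1, h.conj_eq hd he hne] at this
      exact this
  -- ⟨d⟩ N = G
  have hsup : Subgroup.zpowers d ⊔ N = ⊤ := by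
    rw [eq_top_iff, ← hgen, Subgroup.closure_le]
    intro e he
    have : e = d * (d * e) := by rw [← mul_assoc, h.sq hd, one_mul]
    rw [this]
    exact Subgroup.mul_mem _ (Subgroup.mem_sup_left (Subgroup.mem_zpowers d))
      (Subgroup.mem_sup_right (hDN e he))
  -- squares lie in N
  have hsq : ∀ x : G, x * x ∈ N := by
    intro x
    have hx : x ∈ Subgroup.zpowers d ⊔ N := by rw [hsup]; trivial
    obtain ⟨y, hy, z, hz, rfl⟩ := Subgroup.mem_sup_of_normal_right.1 hx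
    obtain ⟨i, rfl⟩ := Subgroup.mem_zpowers_iff.1 hy
    have hyy : d ^ i * d ^ i = 1 := by
      rw [← zpow_add, ← two_mul, zpow_mul, zpow_ofNat, pow_two, h.sq hd, one_zpow]
    have hyinv : (d ^ i)⁻¹ = d ^ i := inv_eq_of_mul_eq_one_left hyy
    have : d ^ i * z * (d ^ i * z) = (d ^ i * z * (d ^ i)⁻¹) * z := by
      rw [hyinv]; group
    rw [this]
    exact N.mul_mem (hN.conj_mem z hz _) hz
  -- odd primes: Sylow subgroups lie in N
  have hsyl : ∀ (p : ℕ) [Fact p.Prime], p ≠ 2 → ∀ Q : Sylow p G, (Q : Subgroup G) ≤ N := by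
    intro p hp hp2 Q x hx
    apply wo_mem_of_sq_mem N (hsq x)
    obtain ⟨k, hk⟩ := (IsPGroup.iff_orderOf.1 Q.isPGroup') ⟨x, hx⟩
    rw [Subgroup.orderOf_mk] at hk
    rw [hk]
    exact (hp.out.odd_of_ne_two hp2).pow
  have hfr : ∀ (p : ℕ) [Fact p.Prime], p ≠ 2 → ∀ Q : Sylow p G,
      ∃ s ∈ N, s⁻¹ * d * s ∈ Subgroup.normalizer ((Q : Subgroup G) : Set G) := by
    intro p hp hp2 Q
    exact wo_exists_conj_mem N hodd (h.sq hd) _ (Sylow.normalizer_sup_eq_top' Q (hsyl p hp2 Q))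
  -- index of the centralizer
  have hidx : ∀ (p : ℕ) [Fact p.Prime], p ≠ 3 → ¬ p ∣ idx d := by
    intro p hp hp3
    by_cases hp2 : p = 2
    · subst hp2
      have hle : (S : Subgroup G) ≤ Subgroup.centralizer {d} := by
        intro x hx
        rw [Subgroup.mem_centralizer_singleton_iff]
        have := hiso x (Subgroup.mul_mem _ (Subgroup.mul_mem _ hx hdS) (Subgroup.inv_mem _ hx))
        calc x * d = (x * d * x⁻¹) * x := by group
          _ = d * x := by rw [this]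
      intro hdvd
      exact S.not_dvd_index (dvd_trans hdvd (Subgroup.index_dvd_of_le hle))
    · obtain ⟨Q⟩ : Nonempty (Sylow p G) := inferInstance
      obtain ⟨s, hs, hsn⟩ := hfr p hp2 Q
      have htD : s⁻¹ * d * s ∈ D := by
        have := h.conj s⁻¹ d hd
        rwa [inv_inv] at this
      have hle := h.le_centralizer_of_mem_normalizer hp3 htD Q Q.isPGroup' hsn
      have hconj : idx d = idx (s⁻¹ * d * s) :=
        idx_eq_of_isConj (isConj_iff.2 ⟨s⁻¹, by rw [inv_inv]⟩)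
      intro hdvd
      rw [hconj] at hdvd
      exact Q.not_dvd_index (dvd_trans hdvd (Subgroup.index_dvd_of_le hle))
  have hpow : ∃ k : ℕ, idx d = 3 ^ k := by
    refine ⟨_, Nat.eq_prime_pow_of_unique_prime_dvd (Subgroup.index_ne_zero_of_finite) ?_⟩
    intro q hq hqd
    by_contra hq3
    have : Fact q.Prime := ⟨hq⟩
    exact hidx q hq3 hqd
  obtain ⟨k, hk⟩ := hpow
  -- Sylow 3
  obtain ⟨P⟩ : Nonempty (Sylow 3 G) := inferInstance
  obtain ⟨s, hs, hsn⟩ := hfr 3 (by norm_num) P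
  obtain ⟨t, ht⟩ : ∃ t, t = s⁻¹ * d * s := ⟨_, rfl⟩
  rw [← ht] at hsn
  have htD : t ∈ D := by
    have := h.conj s⁻¹ d hd
    rwa [inv_inv, ← ht] at this
  have hidxt : idx t = 3 ^ k := by
    rw [← hk]
    exact (idx_eq_of_isConj (isConj_iff.2 ⟨s⁻¹, by rw [inv_inv, ht]⟩)).symm
  have hcop : (P : Subgroup G).index.Coprime (Subgroup.centralizer {t}).index := by
    show Nat.Coprime _ (idx t)
    rw [hidxt]
    exact Nat.Coprime.pow_right k
      ((Nat.Prime.coprime_iff_not_dvd Nat.prime_three).2 P.not_dvd_index).symm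
  have hfac : ∀ g : G, ∃ x ∈ (P : Subgroup G), ∃ c ∈ Subgroup.centralizer {t}, g = x * c := by
    intro g
    obtain ⟨c, hc, x, hx, hg⟩ :=
      exists_mul_of_coprime_index (P : Subgroup G) (Subgroup.centralizer {t}) hcop g⁻¹
    refine ⟨x⁻¹, inv_mem hx, c⁻¹, inv_mem hc, ?_⟩
    rw [← mul_inv_rev, ← hg, inv_inv]
  have hDt : ∀ e ∈ D, ∃ x ∈ (P : Subgroup G), e = x * t * x⁻¹ := by
    intro e he
    obtain ⟨g, rfl⟩ := h.exists_conj htD he
    obtain ⟨x, hx, c, hc, rfl⟩ := hfac g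
    refine ⟨x, hx, ?_⟩
    rw [Subgroup.mem_centralizer_singleton_iff] at hc
    have hct : c * t * c⁻¹ = t := by rw [hc]; group
    calc x * c * t * (x * c)⁻¹ = x * (c * t * c⁻¹) * x⁻¹ := by group
      _ = x * t * x⁻¹ := by rw [hct]
  -- P normal
  have hnorm : Subgroup.normalizer ((P : Subgroup G) : Set G) = ⊤ := by
    rw [eq_top_iff, ← hgen, Subgroup.closure_le]
    intro e he
    obtain ⟨x, hx, rfl⟩ := hDt e he
    have hxn : x ∈ Subgroup.normalizer ((P : Subgroup G) : Set G) := Subgroup.le_normalizer hx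
    exact Subgroup.mul_mem _ (Subgroup.mul_mem _ hxn hsn) (Subgroup.inv_mem _ hxn)
  refine ⟨P, Subgroup.normalizer_eq_top_iff.1 hnorm, P.isPGroup', ?_⟩
  intro e he
  obtain ⟨x, hx, rfl⟩ := hDt e he
  obtain ⟨x₀, hx₀, hd0⟩ := hDt d hd
  refine ⟨x * x₀⁻¹, Subgroup.mul_mem _ hx (Subgroup.inv_mem _ hx₀), ?_⟩
  rw [hd0]; group

/-- consequence: `G = ⟨d⟩ O_3(G)` -/
theorem width_one_sup (hZ : WOZStar G) (h : WOSet D) (hgen : Subgroup.closure D = ⊤)
    {d : G} (hd : d ∈ D) : Subgroup.zpowers d ⊔ Cfsg.pCore 3 G = ⊤ := by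
  obtain ⟨P, hPn, hP3, hP⟩ := width_one_main hZ h hgen hd
  have hle : P ≤ Cfsg.pCore 3 G := le_sSup ⟨hPn, hP3⟩
  rw [eq_top_iff, ← hgen, Subgroup.closure_le]
  intro e he
  obtain ⟨x, hx, rfl⟩ := hP e he
  have hx' : x ∈ Subgroup.zpowers d ⊔ Cfsg.pCore 3 G := Subgroup.mem_sup_right (hle hx)
  exact Subgroup.mul_mem _ (Subgroup.mul_mem _ hx' (Subgroup.mem_sup_left (Subgroup.mem_zpowers d)))
    (Subgroup.inv_mem _ hx')

end Main

end Cfsg.Agent.Lib.Helper74
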