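import Mathlib
import Cfsg.Agent.Lib.Helper40.NilCovDefs

/-!
# S3894 keystones T1a, T1b, T1c (helper74): the set `F[g] = F + F g` for a `2 × 2` matrix `g`
-/

set_option autoImplicit false

namespace Cfsg.Agent.Lib.Helper74.S3894

open Matrix Cfsg.Agent.Lib.Helper40.NilCov

variable {F : Type*} [Field F]

/-- Cayley–Hamilton for `2 × 2` matrices. -/
theorem sq_eq_trace_det (g : Matrix (Fin 2) (Fin 2) F) :
    g * g = g.trace • g - g.det • (1 : Matrix (Fin 2) (Fin 2) F) := by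
  ext i j
  fin_cases i <;> fin_cases j <;>
    simp [Matrix.mul_apply, Fin.sum_univ_two, Matrix.det_fin_two, Matrix.trace_fin_two] <;> ring

/-- K-S3894-T1a.  `Kset g` is closed under multiplication (Cayley–Hamilton for `2 × 2`). -/
theorem Kset_mul (g : Matrix (Fin 2) (Fin 2) F) {x y : Matrix (Fin 2) (Fin 2) F}
    (hx : x ∈ Kset g) (hy : y ∈ Kset g) : x * y ∈ Kset g := by
  obtain ⟨a, b, rfl⟩ := hx
  obtain ⟨a', b', rfl⟩ := hy
  refine ⟨a * a' - b * b' * g.det, a * b' + a' * b + b * b' * g.trace, ?_⟩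
  ext i j
  fin_cases i <;> fin_cases j <;>
    simp [Matrix.mul_apply, Fin.sum_univ_two, Matrix.det_fin_two, Matrix.trace_fin_two] <;> ring

theorem one_mem_Kset (g : Matrix (Fin 2) (Fin 2) F) : (1 : Matrix (Fin 2) (Fin 2) F) ∈ Kset g :=
  ⟨1, 0, by simp⟩

theorem self_mem_Kset (g : Matrix (Fin 2) (Fin 2) F) : g ∈ Kset g :=
  ⟨0, 1, by simp⟩

theorem smul_one_mem_Kset (g : Matrix (Fin 2) (Fin 2) F) (a : F) :
    a • (1 : Matrix (Fin 2) (Fin 2) F) ∈ Kset g :=
  ⟨a, 0, by simp⟩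

/-- an element `a + b g` of `F[g]` that is not scalar has `b ≠ 0`. -/
theorem coeff_ne_zero_of_not_scalar {g : Matrix (Fin 2) (Fin 2) F} {a b : F}
    (hxF : ∀ a' : F, a • (1 : Matrix (Fin 2) (Fin 2) F) + b • g ≠
      a' • (1 : Matrix (Fin 2) (Fin 2) F)) : b ≠ 0 := by
  intro hb
  apply hxF a
  rw [hb, zero_smul, add_zero]

/-- K-S3894-T1b.  A non-scalar element of `F[g]`, `g` irreducible, is irreducible and generates `F[g]`. -/
theorem Kset_irr {g : Matrix (Fin 2) (Fin 2) F} (hg : IsIrr g) {x : Matrix (Fin 2) (Fin 2) F}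
    (hx : x ∈ Kset g) (hxF : ∀ a : F, x ≠ a • (1 : Matrix (Fin 2) (Fin 2) F)) :
    IsIrr x ∧ Kset x = Kset g := by
  obtain ⟨a, b, rfl⟩ := hx
  have hb : b ≠ 0 := coeff_ne_zero_of_not_scalar hxF
  refine ⟨?_, ?_⟩
  · intro v hv c hc
    apply hg v hv (b⁻¹ * (c - a))
    rw [Matrix.add_mulVec, Matrix.smul_mulVec, Matrix.smul_mulVec, Matrix.one_mulVec] at hc
    have h2 : b • (g *ᵥ v) = (c - a) • v := by
      rw [sub_smul, ← hc]; abel
    calc g *ᵥ v = b⁻¹ • (b • (g *ᵥ v)) := by rw [smul_smul, inv_mul_cancel₀ hb, one_smul]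
      _ = (b⁻¹ * (c - a)) • v := by rw [h2, smul_smul]
  · ext y
    constructor
    · rintro ⟨α, β, rfl⟩
      refine ⟨α + β * a, β * b, ?_⟩
      rw [smul_add, smul_smul, smul_smul, add_smul, add_assoc]
    · rintro ⟨α, β, rfl⟩
      refine ⟨α - β * b⁻¹ * a, β * b⁻¹, ?_⟩
      have h1 : β * b⁻¹ * b = β := by field_simp
      rw [smul_add, smul_smul, smul_smul, sub_smul, h1]
      abel

/-- the lower-left entry of an irreducible matrix is nonzero -/
theorem irr_apply_one_zero_ne {g : Matrix (Fin 2) (Fin 2) F} (hg : IsIrr g) : g 1 0 ≠ 0 := by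
  intro h
  apply hg (Pi.single 0 1) (by
    intro h0
    have := congrFun h0 0
    simp at this) (g 0 0)
  ext i
  fin_cases i <;> simp [Matrix.mulVec, dotProduct, Fin.sum_univ_two, h]

/-- K-S3894-T1c.  The commutant of an irreducible `g` is `F[g]` (`v, g v` is a basis). -/
theorem Kset_commutant {g : Matrix (Fin 2) (Fin 2) F} (hg : IsIrr g) (y : Matrix (Fin 2) (Fin 2) F)
    (hy : y * g = g * y) : y ∈ Kset g := by
  have hr : g 1 0 ≠ 0 := irr_apply_one_zero_ne hg
  have h00 := congrFun (congrFun hy 0) 0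
  have h01 := congrFun (congrFun hy 0) 1
  have h10 := congrFun (congrFun hy 1) 0
  have h11 := congrFun (congrFun hy 1) 1
  simp only [Matrix.mul_apply, Fin.sum_univ_two] at h00 h01 h10 h11
  refine ⟨y 0 0 - y 1 0 / g 1 0 * g 0 0, y 1 0 / g 1 0, ?_⟩
  ext i j
  fin_cases i <;> fin_cases j
  · simp
  · simp
    field_simp
    linear_combination (-1 : F) * h11
  · simp
    field_simp
  · simp
    field_simp
    linear_combination h10
 
end Cfsg.Agent.Lib.Helper74.S3894
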