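import Mathlib
import Cfsg.Agent.Lib.Helper40.NilCovDefs
import Cfsg.Agent.Lib.Helper74.S3894_T1

/-!
# S3894 keystones T5a, T5b, T6a (helper74): commuting up to a scalar with a non-scalar element of `F[g]`
-/

set_option autoImplicit false

namespace Cfsg.Agent.Lib.Helper74.S3894

open Matrix Cfsg.Agent.Lib.Helper40.NilCov

variable {F : Type*} [Field F]

theorem gl_coe_mul_inv (x : GL (Fin 2) F) :
    (x : Matrix (Fin 2) (Fin 2) F) * ((x⁻¹ : GL (Fin 2) F) : Matrix (Fin 2) (Fin 2) F) = 1 := by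
  rw [← Matrix.GeneralLinearGroup.coe_mul, mul_inv_cancel]; rfl

theorem gl_coe_inv_mul (x : GL (Fin 2) F) :
    ((x⁻¹ : GL (Fin 2) F) : Matrix (Fin 2) (Fin 2) F) * (x : Matrix (Fin 2) (Fin 2) F) = 1 := by
  rw [← Matrix.GeneralLinearGroup.coe_mul, inv_mul_cancel]; rfl

/-- if `X C = μ C X` with `C` invertible then `tr X = μ tr X`. -/
theorem trace_eq_of_scalar_commute (X C Ci : Matrix (Fin 2) (Fin 2) F) (h1 : C * Ci = 1)
    (h2 : Ci * C = 1) (μ : F) (hx : X * C = μ • (C * X)) : X.trace = μ * X.trace := by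
  have e : X = μ • (C * X * Ci) := by
    calc X = X * C * Ci := by rw [Matrix.mul_assoc, h1, Matrix.mul_one]
      _ = μ • (C * X * Ci) := by rw [hx, Matrix.smul_mul]
  have e2 : (C * X * Ci).trace = X.trace := by
    rw [Matrix.trace_mul_cycle, h2, Matrix.one_mul]
  calc X.trace = (μ • (C * X * Ci)).trace := by rw [← e]
    _ = μ * X.trace := by rw [Matrix.trace_smul, e2, smul_eq_mul]

/-- a trace-zero `2 × 2` matrix has scalar square -/
theorem sq_scalar_of_trace_zero (X : Matrix (Fin 2) (Fin 2) F) (h : X.trace = 0) :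
    X * X = (-X.det) • (1 : Matrix (Fin 2) (Fin 2) F) := by
  rw [sq_eq_trace_det, h, zero_smul, zero_sub, neg_smul]

/-- if `X C = μ C X`, `C` invertible and `X²` is not scalar then `μ = 1`. -/
theorem scalar_eq_one_of_sq_not_scalar (X C Ci : Matrix (Fin 2) (Fin 2) F) (h1 : C * Ci = 1)
    (h2 : Ci * C = 1) (μ : F) (hx : X * C = μ • (C * X))
    (hX : ∀ a : F, X * X ≠ a • (1 : Matrix (Fin 2) (Fin 2) F)) : μ = 1 := by
  by_contra hμ
  have ht := trace_eq_of_scalar_commute X C Ci h1 h2 μ hx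
  have h0 : X.trace = 0 := by
    have : (1 - μ) * X.trace = 0 := by rw [sub_mul, one_mul, ← ht, sub_self]
    rcases mul_eq_zero.mp this with h | h
    · exact absurd (sub_eq_zero.mp h).symm hμ
    · exact h
  exact hX _ (sq_scalar_of_trace_zero X h0)

/-- K-S3894-T5a.  `x c = μ c x` with `c ∈ F[g]` non-scalar ⟹ `x` normalises `F[g] = F[c]`. -/
theorem mem_normK_of_scalar_commute {g : Matrix (Fin 2) (Fin 2) F} (hg : IsIrr g)
    (c x : GL (Fin 2) F) (hc : (c : Matrix (Fin 2) (Fin 2) F) ∈ Kset g)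
    (hcF : ∀ a : F, (c : Matrix (Fin 2) (Fin 2) F) ≠ a • (1 : Matrix (Fin 2) (Fin 2) F)) (μ : F)
    (hx : (x : Matrix (Fin 2) (Fin 2) F) * (c : Matrix (Fin 2) (Fin 2) F) =
      μ • ((c : Matrix (Fin 2) (Fin 2) F) * (x : Matrix (Fin 2) (Fin 2) F))) :
    x ∈ normK (Kset g) := by
  have hK : Kset (c : Matrix (Fin 2) (Fin 2) F) = Kset g := (Kset_irr hg hc hcF).2
  set X : Matrix (Fin 2) (Fin 2) F := (x : Matrix (Fin 2) (Fin 2) F) with hXdef
  set Xi : Matrix (Fin 2) (Fin 2) F := ((x⁻¹ : GL (Fin 2) F) : Matrix (Fin 2) (Fin 2) F) with hXidef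
  set C : Matrix (Fin 2) (Fin 2) F := (c : Matrix (Fin 2) (Fin 2) F) with hCdef
  have hXXi : X * Xi = 1 := gl_coe_mul_inv x
  have hXiX : Xi * X = 1 := gl_coe_inv_mul x
  have hμ : μ ≠ 0 := by
    intro h0
    apply hcF 0
    rw [h0, zero_smul] at hx
    calc C = Xi * X * C := by rw [hXiX, Matrix.one_mul]
      _ = 0 := by rw [Matrix.mul_assoc, hx, Matrix.mul_zero]
      _ = (0 : F) • (1 : Matrix (Fin 2) (Fin 2) F) := by rw [zero_smul]
  have hconj : X * C * Xi = μ • C := by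
    rw [hx, Matrix.smul_mul, Matrix.mul_assoc, hXXi, Matrix.mul_one]
  have hconj' : Xi * C * X = μ⁻¹ • C := by
    have : C * X = μ⁻¹ • (X * C) := by
      rw [hx, smul_smul, inv_mul_cancel₀ hμ, one_smul]
    rw [Matrix.mul_assoc, this, Matrix.mul_smul, ← Matrix.mul_assoc, hXiX, Matrix.one_mul]
  rw [mem_normK, ← hK]
  intro y
  constructor
  · rintro ⟨α, β, rfl⟩
    refine ⟨α, β * μ, ?_⟩
    rw [Matrix.mul_add, Matrix.add_mul, Matrix.mul_smul, Matrix.smul_mul, Matrix.mul_one, hXXi,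
      Matrix.mul_smul, Matrix.smul_mul, hconj, smul_smul]
  · rintro ⟨α, β, h⟩
    refine ⟨α, β * μ⁻¹, ?_⟩
    calc y = Xi * (X * y * Xi) * X := by
          rw [Matrix.mul_assoc X y Xi, ← Matrix.mul_assoc Xi X, hXiX, Matrix.one_mul,
            Matrix.mul_assoc, hXiX, Matrix.mul_one]
      _ = Xi * (α • (1 : Matrix (Fin 2) (Fin 2) F) + β • C) * X := by rw [h]
      _ = α • (1 : Matrix (Fin 2) (Fin 2) F) + (β * μ⁻¹) • C := by
          rw [Matrix.mul_add, Matrix.add_mul, Matrix.mul_smul, Matrix.smul_mul, Matrix.mul_one,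
            hXiX, Matrix.mul_smul, Matrix.smul_mul, hconj', smul_smul]

/-- a matrix whose square is not scalar is not scalar -/
theorem not_scalar_of_sq_not_scalar {X : Matrix (Fin 2) (Fin 2) F}
    (hX : ∀ a : F, X * X ≠ a • (1 : Matrix (Fin 2) (Fin 2) F)) :
    ∀ a : F, X ≠ a • (1 : Matrix (Fin 2) (Fin 2) F) := by
  intro a h
  apply hX (a * a)
  rw [h, Matrix.smul_mul, Matrix.mul_smul, Matrix.one_mul, smul_smul]

/-- K-S3894-T5b.  `s' c = μ c s'` with `c ∈ F[g]` non-scalar, `s' ∈ F[g']` with non-scalar square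
⟹ `μ = 1` (else `tr s' = 0`), `c ∈ F[s'] = F[g']`, `F[g'] = F[c] = F[g]`. -/
theorem Kset_eq_of_scalar_commute {g g' : Matrix (Fin 2) (Fin 2) F} (hg : IsIrr g) (hg' : IsIrr g')
    (c s' : GL (Fin 2) F) (hc : (c : Matrix (Fin 2) (Fin 2) F) ∈ Kset g)
    (hcF : ∀ a : F, (c : Matrix (Fin 2) (Fin 2) F) ≠ a • (1 : Matrix (Fin 2) (Fin 2) F))
    (hs' : (s' : Matrix (Fin 2) (Fin 2) F) ∈ Kset g')
    (hs2 : ∀ a : F, (s' : Matrix (Fin 2) (Fin 2) F) * (s' : Matrix (Fin 2) (Fin 2) F) ≠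
      a • (1 : Matrix (Fin 2) (Fin 2) F)) (μ : F)
    (hx : (s' : Matrix (Fin 2) (Fin 2) F) * (c : Matrix (Fin 2) (Fin 2) F) =
      μ • ((c : Matrix (Fin 2) (Fin 2) F) * (s' : Matrix (Fin 2) (Fin 2) F))) :
    Kset g' = Kset g := by
  have hμ : μ = 1 := scalar_eq_one_of_sq_not_scalar _ _ _ (gl_coe_mul_inv c) (gl_coe_inv_mul c) μ hx hs2
  rw [hμ, one_smul] at hx
  have hsF := not_scalar_of_sq_not_scalar hs2
  obtain ⟨hsirr, hsK⟩ := Kset_irr hg' hs' hsF
  have hcs : (c : Matrix (Fin 2) (Fin 2) F) ∈ Kset g' := by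
    rw [← hsK]
    exact Kset_commutant hsirr _ hx.symm
  rw [← (Kset_irr hg' hcs hcF).2, (Kset_irr hg hc hcF).2]

/-- K-S3894-T6a.  The split element `t = diag(a, a⁻¹)`, `a⁴ ≠ 1`, does not commute up to a scalar with a
non-scalar `c ∈ F[g]`. -/
theorem diag_not_scalar_commute {g : Matrix (Fin 2) (Fin 2) F} (hg : IsIrr g)
    (c t : GL (Fin 2) F) (hc : (c : Matrix (Fin 2) (Fin 2) F) ∈ Kset g)
    (hcF : ∀ a : F, (c : Matrix (Fin 2) (Fin 2) F) ≠ a • (1 : Matrix (Fin 2) (Fin 2) F))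
    (a : F) (ha : a ≠ 0) (ht : (t : Matrix (Fin 2) (Fin 2) F) = Matrix.diagonal ![a, a⁻¹])
    (ha4 : a * a * (a * a) ≠ 1) (μ : F)
    (hx : (t : Matrix (Fin 2) (Fin 2) F) * (c : Matrix (Fin 2) (Fin 2) F) =
      μ • ((c : Matrix (Fin 2) (Fin 2) F) * (t : Matrix (Fin 2) (Fin 2) F))) : False := by
  have htr := trace_eq_of_scalar_commute _ _ _ (gl_coe_mul_inv c) (gl_coe_inv_mul c) μ hx
  have htrv : (t : Matrix (Fin 2) (Fin 2) F).trace = a + a⁻¹ := by
    rw [ht, Matrix.trace_fin_two]; simp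
  by_cases hμ : μ = 1
  · rw [hμ, one_smul] at hx
    obtain ⟨hcirr, hcK⟩ := Kset_irr hg hc hcF
    have htK : (t : Matrix (Fin 2) (Fin 2) F) ∈ Kset (c : Matrix (Fin 2) (Fin 2) F) :=
      Kset_commutant hcirr _ hx
    by_cases hsc : ∃ b : F, (t : Matrix (Fin 2) (Fin 2) F) = b • (1 : Matrix (Fin 2) (Fin 2) F)
    · obtain ⟨b, hb⟩ := hsc
      rw [ht] at hb
      have h00 := congrFun (congrFun hb 0) 0
      have h11 := congrFun (congrFun hb 1) 1
      simp at h00 h11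
      apply ha4
      have h1 : a * a = 1 := by
        have h2 : a = a⁻¹ := h00.trans h11.symm
        calc a * a = a * a⁻¹ := congrArg (fun z => a * z) h2
          _ = 1 := mul_inv_cancel₀ ha
      rw [h1, one_mul]
    · have hsc' : ∀ b : F, (t : Matrix (Fin 2) (Fin 2) F) ≠ b • (1 : Matrix (Fin 2) (Fin 2) F) :=
        fun b hb => hsc ⟨b, hb⟩
      have hirr := (Kset_irr hcirr htK hsc').1
      apply hirr (Pi.single 0 1) (by
        intro h0
        have := congrFun h0 0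
        simp at this) a
      rw [ht]
      ext i
      fin_cases i <;> simp [Matrix.mulVec, dotProduct, Fin.sum_univ_two]
  · have h0 : (t : Matrix (Fin 2) (Fin 2) F).trace = 0 := by
      have : (1 - μ) * (t : Matrix (Fin 2) (Fin 2) F).trace = 0 := by
        rw [sub_mul, one_mul, ← htr, sub_self]
      rcases mul_eq_zero.mp this with h | h
      · exact absurd (sub_eq_zero.mp h).symm hμ
      · exact h
    rw [htrv] at h0
    apply ha4
    have h1 : a * a = -1 := by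
      have : a * (a + a⁻¹) = 0 := by rw [h0, mul_zero]
      rw [mul_add, mul_inv_cancel₀ ha] at this
      exact eq_neg_of_add_eq_zero_left this
    rw [h1]; ring

end Cfsg.Agent.Lib.Helper74.S3894
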