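import Mathlib
import Cfsg.Agent.Lib.Helper41.SchmidtPLDefs
import Cfsg.Agent.Lib.Helper14.MinNonNilp

/-!
# S4394 pack (architect helper41), keystone 439401 (K-SPL-SA1): `exists_opData`
-/

set_option autoImplicit false
set_option linter.unusedSectionVars false
set_option linter.unusedVariables false

namespace Cfsg.Agent.Lib.Helper74.SPL

open Cfsg Cfsg.Agent.Lib.Helper41.SchmidtPL
open scoped commutatorElement

/-- the product set `P0 K0` as a subgroup, when `K0` normalizes `P0` -/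
def prodSub {X : Type*} [Group X] (P0 K0 : Subgroup X)
    (hn : ∀ k ∈ K0, ∀ x ∈ P0, k * x * k⁻¹ ∈ P0) : Subgroup X where
  carrier := {g | ∃ x ∈ P0, ∃ k ∈ K0, g = x * k}
  one_mem' := ⟨1, P0.one_mem, 1, K0.one_mem, (mul_one 1).symm⟩
  mul_mem' := by
    rintro a b ⟨x, hx, k, hk, rfl⟩ ⟨x', hx', k', hk', rfl⟩
    refine ⟨x * (k * x' * k⁻¹), P0.mul_mem hx (hn k hk x' hx'), k * k', K0.mul_mem hk hk', ?_⟩
    group
  inv_mem' := by
    rintro a ⟨x, hx, k, hk, rfl⟩
    refine ⟨k⁻¹ * x⁻¹ * k⁻¹⁻¹, hn k⁻¹ (K0.inv_mem hk) x⁻¹ (P0.inv_mem hx), k⁻¹, K0.inv_mem hk, ?_⟩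
    group

theorem sup_le_prodSub {X : Type*} [Group X] (P0 K0 : Subgroup X)
    (hn : ∀ k ∈ K0, ∀ x ∈ P0, k * x * k⁻¹ ∈ P0) : P0 ⊔ K0 ≤ prodSub P0 K0 hn := by
  apply sup_le
  · intro x hx
    exact ⟨x, hx, 1, K0.one_mem, (mul_one x).symm⟩
  · intro k hk
    exact ⟨1, P0.one_mem, k, hk, (one_mul k).symm⟩

theorem exists_opData {X : Type*} [Group X] [Finite X] (p : ℕ) [Fact p.Prime]
    (hX : Cfsg.IsMinimalNonNilpotent X) (P : Sylow p X) (hPn : (P : Subgroup X).Normal)
    (hP1 : (P : Subgroup X) ≠ ⊥) :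
    ∃ (r : ℕ) (K : Subgroup X), OpData p r (P : Subgroup X) K := by
  classical
  obtain ⟨hnil, hsub⟩ := hX
  have hpd : p ∣ Nat.card X := by
    by_contra hnd
    apply hP1
    have hc : Nat.card (P : Subgroup X) = 1 := by
      obtain ⟨n, hn⟩ := P.2.exists_card_eq
      rcases Nat.eq_zero_or_pos n with h0 | hpos
      · rw [hn, h0, pow_zero]
      · exfalso
        apply hnd
        have h1 : p ∣ Nat.card (P : Subgroup X) := by
          rw [hn]; exact dvd_pow_self p hpos.ne'
        exact h1.trans (Subgroup.card_subgroup_dvd_card _)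
    exact Subgroup.card_eq_one.mp hc
  obtain ⟨K, hK, hKc, r, hrp, hrq, hrK⟩ :=
    Cfsg.Agent.Lib.Helper14.minNonNilp_structure hnil hsub hpd P hPn
  have hdisj : (P : Subgroup X) ⊓ K = ⊥ := disjoint_iff.mp hK.disjoint
  have htop : (P : Subgroup X) ⊔ K = ⊤ := hK.sup_eq_top
  have hfr : Fact r.Prime := ⟨hrp⟩
  refine ⟨r, K, ?_⟩
  refine
    { hP := P.2
      hK := hrK
      hr := hrp
      hrp := hrq
      norm := fun k _ x hx => hPn.conj_mem x hx k
      nontriv := ?_
      sub := ?_ }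
  · -- otherwise `X = P × K` is nilpotent
    by_contra hcon
    push Not at hcon
    apply hnil
    let f : ↥(P : Subgroup X) × ↥K →* X :=
      MonoidHom.noncommCoprod (P : Subgroup X).subtype K.subtype
        (fun a h => (hcon h.1 h.2 a.1 a.2).symm)
    have hf : Function.Surjective f := by
      intro g
      have hmem : g ∈ (P : Subgroup X) ⊔ K := by rw [htop]; trivial
      rw [← SetLike.mem_coe, Subgroup.normal_mul] at hmem
      obtain ⟨a, ha, h, hh, hah⟩ := hmem
      refine ⟨(⟨a, ha⟩, ⟨h, hh⟩), ?_⟩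
      show (P : Subgroup X).subtype ⟨a, ha⟩ * K.subtype ⟨h, hh⟩ = g
      exact hah
    have hn1 : Group.IsNilpotent (P : Subgroup X) := P.2.isNilpotent
    have hn2 : Group.IsNilpotent K := hrK.isNilpotent
    exact Group.nilpotent_of_surjective f hf
  · intro P0 K0 hP0 hK0 hn hne k hk x hx
    have hYne : P0 ⊔ K0 ≠ ⊤ := by
      intro htop0
      have hall : ∀ g : X, ∃ x ∈ P0, ∃ k ∈ K0, g = x * k := by
        intro g
        have hg : g ∈ P0 ⊔ K0 := by rw [htop0]; trivial
        exact sup_le_prodSub P0 K0 hn hg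
      have hPP0 : (P : Subgroup X) ≤ P0 := by
        intro g hg
        obtain ⟨x, hx, k, hk, rfl⟩ := hall g
        have hkP : k ∈ (P : Subgroup X) := by
          have : k = x⁻¹ * (x * k) := by group
          rw [this]
          exact (P : Subgroup X).mul_mem ((P : Subgroup X).inv_mem (hP0 hx)) hg
        have hk1 : k ∈ (P : Subgroup X) ⊓ K := ⟨hkP, hK0 hk⟩
        rw [hdisj, Subgroup.mem_bot] at hk1
        rw [hk1, mul_one]
        exact hx
      have hKK0 : K ≤ K0 := by
        intro g hg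
        obtain ⟨x, hx, k, hk, rfl⟩ := hall g
        have hxK : x ∈ K := by
          have : x = (x * k) * k⁻¹ := by group
          rw [this]
          exact K.mul_mem hg (K.inv_mem (hK0 hk))
        have hx1 : x ∈ (P : Subgroup X) ⊓ K := ⟨hP0 hx, hxK⟩
        rw [hdisj, Subgroup.mem_bot] at hx1
        rw [hx1, one_mul]
        exact hk
      rcases hne with h | h
      · exact h (le_antisymm hP0 hPP0)
      · exact h (le_antisymm hK0 hKK0)
    have hY : Group.IsNilpotent ↥(P0 ⊔ K0) := hsub _ hYne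
    have hcent := Cfsg.Agent.Lib.Helper14.le_centralizer_of_nilpotent_of_pgroups (q := p) (r := r)
      (Ne.symm hrq) hY le_sup_left le_sup_right (P.2.to_le hP0) (hrK.to_le hK0)
    have := (Subgroup.mem_centralizer_iff.mp (hcent hk)) x hx
    exact this.symm

end Cfsg.Agent.Lib.Helper74.SPL
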