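import Mathlib
import Cfsg.Agent.Lib.Helper74.MinIdxDefs
import Cfsg.Agent.Lib.Helper18.MinIdxK6
import Cfsg.Agent.Lib.Helper26.MinIdxK5
import Cfsg.Agent.Lib.Helper26.MinIdxK7
import Cfsg.Agent.Lib.Helper28.MinIdxK13
import Cfsg.Agent.Lib.Helper28.MinIdxK14
import Cfsg.Agent.Lib.Helper28.MinIdxK15
import Cfsg.Agent.Lib.Helper28.MinIdxK16
import Cfsg.Agent.Lib.Helper30.MinIdxK2
import Cfsg.Agent.Lib.Helper39.MinIdxK20
import Cfsg.Agent.Lib.Helper48.MinIdxK8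
import Cfsg.Agent.Lib.Helper53.MinIdxK3
import Cfsg.Agent.Lib.Helper53.MinIdxK4
import Cfsg.Agent.Lib.Helper59.MinIdxK12
import Cfsg.Agent.Lib.Helper59.MinIdxK19
import Cfsg.Agent.Lib.Helper81.MinIdxK1

/-!
# S2140 hub of LEAF keystones.  Each keystone is proved by citing the delivered theorem of its taker.
-/

set_option autoImplicit false

namespace Cfsg.Agent.Lib.Helper74.MinIdxHub

open Matrix Cfsg.Agent.Lib.Helper74.MinIdx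

/-! ## Abstract group-action keystones -/

/-- K1 (Burnside bound). -/
theorem K1_burnside {G : Type*} [Group G] [Finite G] (Q H : Subgroup G)
    (hconj : ∀ x ∈ Q, ∀ y ∈ Q, x ≠ 1 → y ≠ 1 → ∃ g : G, g * x * g⁻¹ = y)
    (hgen : Subgroup.normalClosure (Q : Set G) = ⊤) (hH : H ≠ ⊤) :
    Nat.card Q ≤ H.index ∧
      (H.index < 2 * Nat.card Q → ∀ x ∈ Q, x ≠ 1 →
        Nat.card (MulAction.fixedBy (G ⧸ H) x) + Nat.card Q = H.index) :=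
  Cfsg.Agent.Lib.Helper81.MinIdx.K1_burnside Q H hconj hgen hH

/-- K2 (a 2-transitive action of larger degree forces transitivity). -/
theorem K2_transitive {G : Type*} [Group G] [Finite G] (P H : Subgroup G)
    (h2 : ∀ g x : G, g ∉ P → x ∉ P → ∃ a ∈ P, ∃ b ∈ P, x = a * g * b)
    (hlt : H.index < P.index) : ∀ g : G, ∃ a ∈ P, ∃ h ∈ H, g = a * h :=
  Cfsg.Agent.Lib.Helper30.MinIdx.K2_transitive P H h2 hlt

/-- K3 (each maximal subgroup of `Q` contains the stabiliser of exactly one `Q`-orbit). -/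
theorem K3_star {G : Type*} [Group G] [Finite G] (Q H M₀ : Subgroup G)
    (hQc : ∀ x ∈ Q, ∀ y ∈ Q, x * y = y * x)
    (hfix : ∀ x ∈ Q, x ≠ 1 →
      Nat.card (MulAction.fixedBy (G ⧸ H) x) + Nat.card Q = H.index)
    (hM : M₀ ≤ Q) (hidx : (M₀.relIndex Q).Prime)
    (a : G) (h1 : ∀ t ∈ Q, t ∈ H → t ∈ M₀) (h2 : ∀ t ∈ Q, a⁻¹ * t * a ∈ H → t ∈ M₀) :
    ∃ t ∈ Q, t⁻¹ * a ∈ H :=
  Cfsg.Agent.Lib.Helper53.MinIdx.K3_star Q H M₀ hQc hfix hM hidx a h1 h2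

/-- K4 (orbit equation `d = s₀ (d - |Q| + 1)`, written without subtraction). -/
theorem K4_orbits {G : Type*} [Group G] [Finite G] (Q P H : Subgroup G) (hQP : Q ≤ P)
    (hnorm : ∀ a ∈ P, ∀ t ∈ Q, a * t * a⁻¹ ∈ Q)
    (htrans : ∀ g : G, ∃ a ∈ P, ∃ h ∈ H, g = a * h)
    (hfix : ∀ x ∈ Q, x ≠ 1 →
      Nat.card (MulAction.fixedBy (G ⧸ H) x) + Nat.card Q = H.index) :
    H.index + H.relIndex Q * Nat.card Q = H.relIndex Q * (H.index + 1) :=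
  Cfsg.Agent.Lib.Helper53.MinIdx.K4_orbits Q P H hQP hnorm htrans hfix

/-! ## Linear keystones, general index type -/

section General

variable {ι : Type*} [Fintype ι] [DecidableEq ι] {F : Type*} [Field F]

/-- K5: all transvections are conjugate in `SL_n`, `n ≥ 3`. -/
theorem K5_conj (hn : 3 ≤ Fintype.card ι) (g g' : SpecialLinearGroup ι F)
    (hg : IsTv g) (hg' : IsTv g') : ∃ x : SpecialLinearGroup ι F, x * g * x⁻¹ = g' :=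
  Cfsg.Agent.Lib.Helper26.MinIdx.K5_conj hn g g' hg hg'

/-- K6a -/
theorem K6_card_Qst [Fintype F] (v : ι → F) (hv : v ≠ 0) :
    Nat.card (Qst v) = Fintype.card F ^ (Fintype.card ι - 1) :=
  Cfsg.Agent.Lib.Helper18.MinIdx.K6_card_Qst v hv

/-- K6b -/
theorem K6_comm (v : ι → F) : ∀ x ∈ Qst v, ∀ y ∈ Qst v, x * y = y * x :=
  Cfsg.Agent.Lib.Helper18.MinIdx.K6_comm v

/-- K6c -/
theorem K6_isTv (v : ι → F) (hv : v ≠ 0) : ∀ x ∈ Qst v, x ≠ 1 → IsTv x :=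
  Cfsg.Agent.Lib.Helper18.MinIdx.K6_isTv v hv

/-- K6d -/
theorem K6_normal (v : ι → F) : ∀ a ∈ Pst v, ∀ t ∈ Qst v, a * t * a⁻¹ ∈ Qst v :=
  Cfsg.Agent.Lib.Helper18.MinIdx.K6_normal v

/-- K6e -/
theorem K6_le (v : ι → F) : Qst v ≤ Pst v :=
  Cfsg.Agent.Lib.Helper18.MinIdx.K6_le v

/-- K6f: a transvection `tv w φ` lies in `Qst v` iff ... (injectivity of `φ ↦ tv v φ`). -/
theorem K6_tv_inj (v : ι → F) (hv : v ≠ 0) (φ ψ : ι → F) (h : φ ⬝ᵥ v = 0) (h' : ψ ⬝ᵥ v = 0)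
    (he : tv v φ h = tv v ψ h') : φ = ψ :=
  Cfsg.Agent.Lib.Helper18.MinIdx.K6_tv_inj v hv φ ψ h h' he

/-- K7a: `SL_n` (`n ≥ 2`) is transitive on non-zero vectors. -/
theorem K7_exists_map (hn : 2 ≤ Fintype.card ι) (v w : ι → F) (hv : v ≠ 0) (hw : w ≠ 0) :
    ∃ g : SpecialLinearGroup ι F, (g : Matrix ι ι F) *ᵥ v = w :=
  Cfsg.Agent.Lib.Helper26.MinIdx.K7_exists_map hn v w hv hw

/-- K7b: `SL_n` is 2-transitive on points (double coset form). -/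
theorem K7_double_coset (hn : 2 ≤ Fintype.card ι) (v : ι → F) (hv : v ≠ 0)
    (g x : SpecialLinearGroup ι F) (hg : g ∉ Pst v) (hx : x ∉ Pst v) :
    ∃ a ∈ Pst v, ∃ b ∈ Pst v, x = a * g * b :=
  Cfsg.Agent.Lib.Helper26.MinIdx.K7_double_coset hn v hv g x hg hx

/-- K8: the number of points. -/
theorem K8_index_Pst [Fintype F] (hn : 2 ≤ Fintype.card ι) (v : ι → F) (hv : v ≠ 0) :
    (Pst v).index = (Fintype.card F ^ Fintype.card ι - 1) / (Fintype.card F - 1) :=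
  Cfsg.Agent.Lib.Helper48.MinIdx.K8_index_Pst hn v hv

/-- K19: in case (B) the transvections of `H` with centre `v` form an `F`-hyperplane. -/
theorem K19_hyperplane [Fintype F] (v : ι → F) (hv : v ≠ 0)
    (H : Subgroup (SpecialLinearGroup ι F))
    (hidx : H.relIndex (Qst v) = Fintype.card F)
    (hstar : ∀ M₀ : Subgroup (SpecialLinearGroup ι F), M₀ ≤ Qst v →
      (M₀.relIndex (Qst v)).Prime → ∀ a ∈ Pst v,
      (∀ t ∈ Qst v, t ∈ H → t ∈ M₀) → (∀ t ∈ Qst v, a⁻¹ * t * a ∈ H → t ∈ M₀) →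
      ∃ t ∈ Qst v, t⁻¹ * a ∈ H) :
    ∃ u : ι → F, u ∉ Submodule.span F {v} ∧
      ∀ (φ : ι → F) (h : φ ⬝ᵥ v = 0), tv v φ h ∈ H ↔ φ ⬝ᵥ u = 0 :=
  Cfsg.Agent.Lib.Helper59.MinIdx.K19_hyperplane v hv H hidx hstar

/-- K20: there is no `H`-invariant "line system". -/
theorem K20_no_line_system [Fintype F] (hn : 3 ≤ Fintype.card ι)
    (H : Subgroup (SpecialLinearGroup ι F))
    (htrans : ∀ v w : ι → F, v ≠ 0 → w ≠ 0 →
      ∃ h ∈ H, ∃ c : F, (h : Matrix ι ι F) *ᵥ v = c • w)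
    (u : (ι → F) → (ι → F))
    (hu : ∀ v, v ≠ 0 → u v ∉ Submodule.span F {v})
    (hH : ∀ v, v ≠ 0 → ∀ (φ : ι → F) (h : φ ⬝ᵥ v = 0), tv v φ h ∈ H ↔ φ ⬝ᵥ u v = 0) :
    False :=
  Cfsg.Agent.Lib.Helper39.MinIdx.K20_no_line_system hn H htrans u hu hH

end General

/-! ## Block keystones, index type `Unit ⊕ κ` -/

section Block

variable {κ : Type*} [Fintype κ] [DecidableEq κ] {F : Type*} [Field F]

/-- K12: a covering subgroup without transvections gives a cocycle. -/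
theorem K12_cocycle (K : Subgroup (SpecialLinearGroup (Unit ⊕ κ) F))
    (hK : ∀ A : GL κ F, ∃ r : κ → F, blk A r ∈ K) (hno : ∀ g ∈ K, ¬ IsTv g) :
    ∃ r : GL κ F → κ → F, (∀ A, blk A (r A) ∈ K) ∧
      ∀ A B : GL κ F, r (A * B) =
        ((A : Matrix κ κ F).det)⁻¹ • r B + r A ᵥ* (B : Matrix κ κ F) :=
  Cfsg.Agent.Lib.Helper59.MinIdx.K12_cocycle K hK hno

/-- K13 (A1): `m ≥ 4`. -/
theorem K13_A1 (hκ : 4 ≤ Fintype.card κ) (r : GL κ F → κ → F)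
    (hr : ∀ A B : GL κ F, r (A * B) =
      ((A : Matrix κ κ F).det)⁻¹ • r B + r A ᵥ* (B : Matrix κ κ F)) :
    ∃ (u φ : κ → F) (h : φ ⬝ᵥ u = 0) (c : F), u ≠ 0 ∧ φ ≠ 0 ∧ r (tvGL u φ h) = c • φ :=
  Cfsg.Agent.Lib.Helper28.MinIdx.K13_A1 hκ r hr

/-- K14 (A2): `m = 3`, `q ≥ 4`. -/
theorem K14_A2 [Fintype F] (hκ : Fintype.card κ = 3) (hq : 4 ≤ Fintype.card F)
    (r : GL κ F → κ → F)
    (hr : ∀ A B : GL κ F, r (A * B) =
      ((A : Matrix κ κ F).det)⁻¹ • r B + r A ᵥ* (B : Matrix κ κ F)) :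
    ∃ (u φ : κ → F) (h : φ ⬝ᵥ u = 0) (c : F), u ≠ 0 ∧ φ ≠ 0 ∧ r (tvGL u φ h) = c • φ :=
  Cfsg.Agent.Lib.Helper28.MinIdx.K14_A2 hκ hq r hr

/-- K15 (A3): `m = 3`, `q = 3`. -/
theorem K15_A3 [Fintype F] (hκ : Fintype.card κ = 3) (hq : Fintype.card F = 3)
    (r : GL κ F → κ → F)
    (hr : ∀ A B : GL κ F, r (A * B) =
      ((A : Matrix κ κ F).det)⁻¹ • r B + r A ᵥ* (B : Matrix κ κ F)) :
    ∃ (u φ : κ → F) (h : φ ⬝ᵥ u = 0) (c : F), u ≠ 0 ∧ φ ≠ 0 ∧ r (tvGL u φ h) = c • φ :=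
  Cfsg.Agent.Lib.Helper28.MinIdx.K15_A3 hκ hq r hr

/-- K16 (A4): `m = 2`. -/
theorem K16_A4 (hκ : Fintype.card κ = 2) (r : GL κ F → κ → F)
    (hr : ∀ A B : GL κ F, r (A * B) =
      ((A : Matrix κ κ F).det)⁻¹ • r B + r A ᵥ* (B : Matrix κ κ F)) :
    ∃ (u φ : κ → F) (h : φ ⬝ᵥ u = 0) (c : F), u ≠ 0 ∧ φ ≠ 0 ∧ r (tvGL u φ h) = c • φ :=
  Cfsg.Agent.Lib.Helper28.MinIdx.K16_A4 hκ r hr

end Block

end Cfsg.Agent.Lib.Helper74.MinIdxHub
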