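import Mathlib

/-! Keystone 596510 K-SUB-10 (S5965 pack, architect helper49): pure arithmetic on `|SL_n(q₀)|`
and `|SL_n(q₀^k)|`. -/

set_option autoImplicit false

namespace Cfsg.Agent.Lib.Helper74.SUB

/-- copy of `Helper02.SLO.prod_gl_factor'` (kept local so that this file imports only Mathlib) -/
theorem prod_gl_factor_sub (q d : ℕ) :
    ∏ i : Fin d, (q ^ d - q ^ (i : ℕ)) =
      (∏ i ∈ Finset.range d, q ^ i) * ∏ i ∈ Finset.range d, (q ^ (i + 1) - 1) := by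
  rw [Fin.prod_univ_eq_prod_range (fun i => q ^ d - q ^ i) d,
    ← Finset.prod_range_reflect (fun i => q ^ (i + 1) - 1) d, ← Finset.prod_mul_distrib]
  apply Finset.prod_congr rfl
  intro i hi
  rw [Finset.mem_range] at hi
  have h0 : d - 1 - i + 1 = d - i := by omega
  rw [h0, Nat.mul_sub, mul_one, ← pow_add]
  congr 2
  omega

theorem geom_mul_sub (x k : ℕ) (hx : 1 ≤ x) :
    (∑ l ∈ Finset.range k, x ^ l) * (x - 1) = x ^ k - 1 := by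
  have h := geom_sum_mul_add (x - 1) k
  rw [Nat.sub_add_cancel hx] at h
  omega

/-- the cofactor `c_m = (q₀^(mk) - 1)/(q₀^m - 1)` is prime to `r` when `k ∤ ord_r(q₀)` -/
theorem not_dvd_cofactor (q₀ k r m : ℕ) (hq : 1 ≤ q₀) (hk : k.Prime) (hr : r.Prime) (hrk : r ≠ k)
    (hnk : ¬ k ∣ orderOf ((q₀ : ℕ) : ZMod r)) :
    ¬ r ∣ ∑ l ∈ Finset.range k, (q₀ ^ m) ^ l := by
  intro hdvd
  have : Fact r.Prime := ⟨hr⟩
  have hx : 1 ≤ q₀ ^ m := Nat.one_le_pow _ _ hq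
  have h1 : r ∣ (q₀ ^ m) ^ k - 1 := by
    rw [← geom_mul_sub (q₀ ^ m) k hx]
    exact Dvd.dvd.mul_right hdvd _
  have h2 : ((q₀ : ℕ) : ZMod r) ^ (m * k) = 1 := by
    have := (ZMod.natCast_eq_zero_iff ((q₀ ^ m) ^ k - 1) r).mpr h1
    rw [Nat.cast_sub (Nat.one_le_pow _ _ hx)] at this
    push_cast at this
    rw [pow_mul]
    exact sub_eq_zero.mp this
  have h3 : orderOf ((q₀ : ℕ) : ZMod r) ∣ m * k := orderOf_dvd_of_pow_eq_one h2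
  have hcop : Nat.Coprime (orderOf ((q₀ : ℕ) : ZMod r)) k :=
    ((Nat.Prime.coprime_iff_not_dvd hk).mpr hnk).symm
  have h4 : orderOf ((q₀ : ℕ) : ZMod r) ∣ m := hcop.dvd_of_dvd_mul_right h3
  have h5 : ((q₀ : ℕ) : ZMod r) ^ m = 1 := orderOf_dvd_iff_pow_eq_one.mp h4
  have h6 : ((∑ l ∈ Finset.range k, (q₀ ^ m) ^ l : ℕ) : ZMod r) = (k : ZMod r) := by
    push_cast
    rw [h5]
    simp
  have h7 : ((k : ℕ) : ZMod r) = 0 := by
    rw [← h6]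
    exact (ZMod.natCast_eq_zero_iff _ r).mpr hdvd
  have h8 : r ∣ k := (ZMod.natCast_eq_zero_iff k r).mp h7
  exact hrk ((Nat.prime_dvd_prime_iff_eq hr hk).mp h8)

/-- the key identity `A * S = A' * S₀ * C'` -/
theorem key_identity (q₀ k n S₀ S : ℕ) (hq₀ : 2 ≤ q₀) (hk : 1 ≤ k) (hn : 1 ≤ n)
    (hS₀ : (q₀ - 1) * S₀ = ∏ j : Fin n, (q₀ ^ n - q₀ ^ (j : ℕ)))
    (hS : (q₀ ^ k - 1) * S = ∏ j : Fin n, ((q₀ ^ k) ^ n - (q₀ ^ k) ^ (j : ℕ))) :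
    (∏ i ∈ Finset.range n, q₀ ^ i) * S =
      (∏ i ∈ Finset.range n, (q₀ ^ k) ^ i) * S₀ *
        ∏ i ∈ Finset.range (n - 1), ∑ l ∈ Finset.range k, (q₀ ^ (i + 2)) ^ l := by
  obtain ⟨n, rfl⟩ : ∃ n', n = n' + 1 := ⟨n - 1, by omega⟩
  rw [prod_gl_factor_sub] at hS₀ hS
  have hq1 : 1 ≤ q₀ := by omega
  -- factor each term
  have hfac : ∀ i : ℕ, (q₀ ^ k) ^ (i + 1) - 1 =
      (∑ l ∈ Finset.range k, (q₀ ^ (i + 1)) ^ l) * (q₀ ^ (i + 1) - 1) := by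
    intro i
    rw [geom_mul_sub _ _ (Nat.one_le_pow _ _ hq1), ← pow_mul, ← pow_mul, mul_comm]
  have hB : ∏ i ∈ Finset.range (n + 1), ((q₀ ^ k) ^ (i + 1) - 1) =
      (∏ i ∈ Finset.range (n + 1), ∑ l ∈ Finset.range k, (q₀ ^ (i + 1)) ^ l) *
        ∏ i ∈ Finset.range (n + 1), (q₀ ^ (i + 1) - 1) := by
    rw [← Finset.prod_mul_distrib]
    exact Finset.prod_congr rfl (fun i _ => hfac i)
  have hC : ∏ i ∈ Finset.range (n + 1), ∑ l ∈ Finset.range k, (q₀ ^ (i + 1)) ^ l =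
      (∏ i ∈ Finset.range n, ∑ l ∈ Finset.range k, (q₀ ^ (i + 2)) ^ l) *
        ∑ l ∈ Finset.range k, (q₀ ^ 1) ^ l := by
    rw [Finset.prod_range_succ']
  have hc1 : q₀ ^ k - 1 = (∑ l ∈ Finset.range k, (q₀ ^ 1) ^ l) * (q₀ - 1) := by
    have := geom_mul_sub (q₀ ^ 1) k (by simpa using hq1)
    simpa using this.symm
  have hc1pos : 0 < ∑ l ∈ Finset.range k, (q₀ ^ 1) ^ l := by
    apply Finset.sum_pos
    · intro l _
      positivity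
    · exact ⟨0, Finset.mem_range.mpr (by omega)⟩
  have hq0pos : 0 < q₀ - 1 := by omega
  rw [hB, hC, hc1] at hS
  simp only [Nat.add_sub_cancel]
  set A := ∏ i ∈ Finset.range (n + 1), q₀ ^ i with hA
  set A' := ∏ i ∈ Finset.range (n + 1), (q₀ ^ k) ^ i with hA'
  set B := ∏ i ∈ Finset.range (n + 1), (q₀ ^ (i + 1) - 1) with hBdef
  set C' := ∏ i ∈ Finset.range n, ∑ l ∈ Finset.range k, (q₀ ^ (i + 2)) ^ l with hC'
  set c1 := ∑ l ∈ Finset.range k, (q₀ ^ 1) ^ l with hc1def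
  -- hS : c1 * (q₀ - 1) * S = A' * (C' * c1 * B) ; hS₀ : (q₀ - 1) * S₀ = A * B
  have h1 : (c1 * (q₀ - 1)) * (A * S) = (c1 * (q₀ - 1)) * (A' * S₀ * C') := by
    calc (c1 * (q₀ - 1)) * (A * S) = A * (c1 * (q₀ - 1) * S) := by ring
      _ = A * (A' * (C' * c1 * B)) := by rw [hS]
      _ = A' * C' * c1 * (A * B) := by ring
      _ = A' * C' * c1 * ((q₀ - 1) * S₀) := by rw [hS₀]
      _ = (c1 * (q₀ - 1)) * (A' * S₀ * C') := by ring
  exact Nat.eq_of_mul_eq_mul_left (Nat.mul_pos hc1pos hq0pos) h1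

theorem arith_sub (q₀ k r n I S₀ S : ℕ) (hq₀ : 2 ≤ q₀) (hk : k.Prime) (hr : r.Prime) (hr2 : r ≠ 2)
    (hrk : r ≠ k) (hrq : ¬ r ∣ q₀) (hn : 2 ≤ n)
    (hS₀ : (q₀ - 1) * S₀ = ∏ j : Fin n, (q₀ ^ n - q₀ ^ (j : ℕ)))
    (hS : (q₀ ^ k - 1) * S = ∏ j : Fin n, ((q₀ ^ k) ^ n - (q₀ ^ k) ^ (j : ℕ)))
    (hI : r ∣ I) (hdvd : I * S₀ ∣ S) :
    k ∣ orderOf ((q₀ : ℕ) : ZMod r) ∧ (n = 2 → k = 2 → ¬ r ∣ q₀ + 1) := by
  have hq1 : 1 ≤ q₀ := by omega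
  have hkey := key_identity q₀ k n S₀ S hq₀ hk.one_le (by omega) hS₀ hS
  -- S₀ is positive
  have hS₀pos : 0 < S₀ := by
    rcases Nat.eq_zero_or_pos S₀ with h | h
    · exfalso
      rw [h, mul_zero] at hS₀
      have hpos : 0 < ∏ j : Fin n, (q₀ ^ n - q₀ ^ (j : ℕ)) := by
        apply Finset.prod_pos
        intro j _
        have : q₀ ^ (j : ℕ) < q₀ ^ n := Nat.pow_lt_pow_right (by omega) j.2
        omega
      omega
    · exact h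
  have hApos : 0 < ∏ i ∈ Finset.range n, q₀ ^ i := by
    apply Finset.prod_pos
    intro i _
    positivity
  -- r divides A' * C'
  have hrdvd : r ∣ (∏ i ∈ Finset.range n, (q₀ ^ k) ^ i) *
      ∏ i ∈ Finset.range (n - 1), ∑ l ∈ Finset.range k, (q₀ ^ (i + 2)) ^ l := by
    obtain ⟨e, he⟩ := hdvd
    rw [he] at hkey
    have h2 : S₀ * ((∏ i ∈ Finset.range n, q₀ ^ i) * I * e) =
        S₀ * ((∏ i ∈ Finset.range n, (q₀ ^ k) ^ i) *
          ∏ i ∈ Finset.range (n - 1), ∑ l ∈ Finset.range k, (q₀ ^ (i + 2)) ^ l) := by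
      calc S₀ * ((∏ i ∈ Finset.range n, q₀ ^ i) * I * e)
          = (∏ i ∈ Finset.range n, q₀ ^ i) * (I * S₀ * e) := by ring
        _ = _ := hkey
        _ = _ := by ring
    have h3 := Nat.eq_of_mul_eq_mul_left hS₀pos h2
    rw [← h3]
    exact Dvd.dvd.mul_right (Dvd.dvd.mul_left hI _) _
  have hnotA' : ¬ r ∣ ∏ i ∈ Finset.range n, (q₀ ^ k) ^ i := by
    intro h
    obtain ⟨i, _, hi⟩ := (Prime.dvd_finsetProd_iff hr.prime _).mp h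
    exact hrq (hr.dvd_of_dvd_pow (hr.dvd_of_dvd_pow hi))
  have hrC : r ∣ ∏ i ∈ Finset.range (n - 1), ∑ l ∈ Finset.range k, (q₀ ^ (i + 2)) ^ l := by
    rcases (Nat.Prime.dvd_mul hr).mp hrdvd with h | h
    · exact absurd h hnotA'
    · exact h
  refine ⟨?_, ?_⟩
  · by_contra hnk
    obtain ⟨i, _, hi⟩ := (Prime.dvd_finsetProd_iff hr.prime _).mp hrC
    exact not_dvd_cofactor q₀ k r (i + 2) hq1 hk hr hrk hnk hi
  · rintro rfl rfl hq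
    have h1 : r ∣ 1 + q₀ ^ 2 := by
      simpa [Finset.prod_range_succ, Finset.sum_range_succ] using hrC
    have h2 : r ∣ (q₀ + 1) * (q₀ - 1) := Dvd.dvd.mul_right hq _
    have h3 : (q₀ + 1) * (q₀ - 1) + 2 = 1 + q₀ ^ 2 := by
      obtain ⟨m, rfl⟩ : ∃ m, q₀ = m + 1 := ⟨q₀ - 1, by omega⟩
      simp only [Nat.add_sub_cancel]
      ring
    have h4 : r ∣ 2 := by
      rw [← h3] at h1
      exact (Nat.dvd_add_right h2).mp h1
    exact hr2 ((Nat.prime_dvd_prime_iff_eq hr Nat.prime_two).mp h4)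

end Cfsg.Agent.Lib.Helper74.SUB
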