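import Mathlib

/-!
# Siegel (Eichler) transformations of a quadratic form on `ι → F`   (helper74)

For a quadratic form `Q` on `ι → F`, a vector `u` with `Q u = 0` and `z` with `polar Q z u = 0` the map
`sieg Q u z : v ↦ v + polar Q v u • z - (polar Q v z + Q z * polar Q v u) • u` is an isometry with inverse
`sieg Q u (-z)`.  `siegM Q u z` is its matrix.
-/

set_option autoImplicit false
set_option linter.unusedSectionVars false

namespace Cfsg.Agent.Lib.Helper74.Siegel

open Matrix QuadraticMap

variable {F : Type*} [Field F] {ι : Type} [Fintype ι] [DecidableEq ι]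

/-- the Siegel transformation as a linear map -/
noncomputable def sieg (Q : QuadraticForm F (ι → F)) (u z : ι → F) : (ι → F) →ₗ[F] (ι → F) :=
  LinearMap.id + ((polarBilin Q).flip u).smulRight z
    - ((polarBilin Q).flip z + Q z • (polarBilin Q).flip u).smulRight u

theorem sieg_apply (Q : QuadraticForm F (ι → F)) (u z v : ι → F) :
    sieg Q u z v = v + polar Q v u • z - (polar Q v z + Q z * polar Q v u) • u := by
  simp only [sieg, LinearMap.sub_apply, LinearMap.add_apply, LinearMap.id_coe, id_eq,
    LinearMap.smulRight_apply, LinearMap.flip_apply, polarBilin_apply_apply, LinearMap.smul_apply,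
    smul_eq_mul]

/-- the form is preserved -/
theorem sieg_isometry (Q : QuadraticForm F (ι → F)) (u z : ι → F) (hu : Q u = 0)
    (hzu : polar Q z u = 0) (v : ι → F) : Q (sieg Q u z v) = Q v := by
  rw [sieg_apply, sub_eq_add_neg, ← neg_smul, QuadraticMap.map_add (⇑Q), QuadraticMap.map_add (⇑Q),
    QuadraticMap.map_smul, QuadraticMap.map_smul, hu]
  simp only [polar_add_left, polar_smul_left, polar_smul_right, hzu, smul_eq_mul]
  ring

theorem polar_sieg_left (Q : QuadraticForm F (ι → F)) (u z : ι → F) (hu : Q u = 0)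
    (hzu : polar Q z u = 0) (v : ι → F) : polar Q (sieg Q u z v) u = polar Q v u := by
  rw [sieg_apply, sub_eq_add_neg, ← neg_smul, polar_add_left, polar_add_left, polar_smul_left,
    polar_smul_left, hzu, polar_self, hu]
  simp only [smul_eq_mul, nsmul_eq_mul]
  ring

/-- `sieg Q u (-z)` is the inverse of `sieg Q u z` -/
theorem sieg_neg_comp (Q : QuadraticForm F (ι → F)) (u z : ι → F) (hu : Q u = 0)
    (hzu : polar Q z u = 0) : sieg Q u (-z) ∘ₗ sieg Q u z = LinearMap.id := by
  apply LinearMap.ext
  intro v
  have huz : polar Q u z = 0 := by rw [polar_comm]; exact hzu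
  rw [LinearMap.comp_apply, LinearMap.id_apply, sieg_apply Q u (-z), polar_sieg_left Q u z hu hzu,
    QuadraticMap.map_neg, polar_neg_right]
  have h1 : polar Q (sieg Q u z v) z = polar Q v z + 2 * Q z * polar Q v u := by
    rw [sieg_apply, sub_eq_add_neg, ← neg_smul, polar_add_left, polar_add_left, polar_smul_left,
      polar_smul_left, huz, polar_self]
    simp only [smul_eq_mul, nsmul_eq_mul]
    push_cast
    ring
  rw [h1, sieg_apply]
  ext x
  simp only [Pi.add_apply, Pi.sub_apply, Pi.smul_apply, Pi.neg_apply, smul_eq_mul]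
  ring

/-- the matrix of the Siegel transformation -/
noncomputable def siegM (Q : QuadraticForm F (ι → F)) (u z : ι → F) : Matrix ι ι F :=
  LinearMap.toMatrix' (sieg Q u z)

theorem siegM_mulVec (Q : QuadraticForm F (ι → F)) (u z v : ι → F) :
    siegM Q u z *ᵥ v = v + polar Q v u • z - (polar Q v z + Q z * polar Q v u) • u := by
  rw [siegM, LinearMap.toMatrix'_mulVec, sieg_apply]

theorem siegM_neg_mul (Q : QuadraticForm F (ι → F)) (u z : ι → F) (hu : Q u = 0)
    (hzu : polar Q z u = 0) : siegM Q u (-z) * siegM Q u z = 1 := by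
  rw [siegM, siegM, ← LinearMap.toMatrix'_comp, sieg_neg_comp Q u z hu hzu, LinearMap.toMatrix'_id]

theorem siegM_mul_neg (Q : QuadraticForm F (ι → F)) (u z : ι → F) (hu : Q u = 0)
    (hzu : polar Q z u = 0) : siegM Q u z * siegM Q u (-z) = 1 := by
  have h := siegM_neg_mul Q u (-z) hu (by rw [polar_neg_left, hzu, neg_zero])
  rwa [neg_neg] at h

theorem siegM_isometry (Q : QuadraticForm F (ι → F)) (u z : ι → F) (hu : Q u = 0)
    (hzu : polar Q z u = 0) (v : ι → F) : Q (siegM Q u z *ᵥ v) = Q v := by
  rw [siegM, LinearMap.toMatrix'_mulVec]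
  exact sieg_isometry Q u z hu hzu v

/-- entries -/
theorem siegM_apply (Q : QuadraticForm F (ι → F)) (u z : ι → F) (x y : ι) :
    siegM Q u z x y = (1 : Matrix ι ι F) x y + polar Q (Pi.single y 1) u * z x
      - (polar Q (Pi.single y 1) z + Q z * polar Q (Pi.single y 1) u) * u x := by
  rw [siegM, LinearMap.toMatrix'_apply, sieg_apply]
  simp only [Pi.add_apply, Pi.sub_apply, Pi.smul_apply, smul_eq_mul, Matrix.one_apply,
    Pi.single_apply]

end Cfsg.Agent.Lib.Helper74.Siegel
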