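import Mathlib
import Cfsg.Agent.Lib.Helper49.StOpDefs
import Cfsg.Agent.Lib.Helper50.StdForms
import Cfsg.Agent.Lib.Helper74.SiegelQF

/-!
# K-StOp (S2548): the flag elimination for `O⁺_{2m}(F)` by Siegel transformations  (helper74)

Port of `Lib/Helper74/StOC5a.lean` to the index set `OI m = Fin m ⊕ Fin m`, every characteristic.
`g ∈ FlagStab j`, `j + 2 ≤ m` ⟹ some `h ∈ B ⊔ B⁻` has `h g ∈ FlagStab (j+1)`; `FlagStab m ⊆ B`.
-/

set_option autoImplicit false
set_option linter.unusedSectionVars false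
set_option linter.unusedVariables false

namespace Cfsg.Agent.Lib.Helper74.StOp

open Matrix QuadraticMap Cfsg Cfsg.Agent.Lib.Helper49.StOp Cfsg.Agent.Lib.Helper74.Siegel

variable {m : ℕ} {F : Type*} [Field F]

/-- the form as a `QuadraticForm` -/
noncomputable abbrev qf (m : ℕ) (F : Type*) [Field F] : QuadraticForm F (OI m → F) :=
  Cfsg.Agent.Lib.Helper50.QPlus m F

theorem qf_apply (v : OI m → F) : qf m F v = ∑ i : Fin m, v (eI i) * v (fI i) := rfl

theorem qf_mulVec (g : OG m F) (u : OI m → F) : qf m F (mat g *ᵥ u) = qf m F u :=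
  quad_mulVec g u

theorem bf_apply (u v : OI m → F) :
    polar (qf m F) u v = ∑ i : Fin m, (u (eI i) * v (fI i) + u (fI i) * v (eI i)) := by
  unfold polar
  rw [qf_apply, qf_apply, qf_apply]
  simp only [Pi.add_apply]
  have h : ∑ i : Fin m, (u (eI i) + v (eI i)) * (u (fI i) + v (fI i)) =
      ∑ i : Fin m, u (eI i) * u (fI i) + ∑ i : Fin m, v (eI i) * v (fI i)
        + ∑ i : Fin m, (u (eI i) * v (fI i) + u (fI i) * v (eI i)) := by
    rw [← Finset.sum_add_distrib, ← Finset.sum_add_distrib]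
    refine Finset.sum_congr rfl (fun i _ => ?_)
    ring
  rw [h]
  ring

theorem polar_mulVec (g : OG m F) (u v : OI m → F) :
    polar (qf m F) (mat g *ᵥ u) (mat g *ᵥ v) = polar (qf m F) u v := by
  unfold polar
  rw [← Matrix.mulVec_add, qf_mulVec, qf_mulVec, qf_mulVec]

@[simp] theorem pos_eI (i : Fin m) : pos m (eI i) = i.val := rfl
@[simp] theorem pos_fI (i : Fin m) : pos m (fI i) = 2 * m - 1 - i.val := rfl

theorem bf_single_e (v : OI m → F) (k : Fin m) :
    polar (qf m F) v (Pi.single (eI k) 1) = v (fI k) := by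
  classical
  rw [bf_apply, Finset.sum_eq_single k]
  · rw [Pi.single_eq_of_ne (by simp), Pi.single_eq_same]
    ring
  · intro i _ hi
    rw [Pi.single_eq_of_ne (by simp), Pi.single_eq_of_ne (by simpa using hi), mul_zero, mul_zero,
      add_zero]
  · intro h
    exact absurd (Finset.mem_univ _) h

theorem bf_single_f (v : OI m → F) (k : Fin m) :
    polar (qf m F) v (Pi.single (fI k) 1) = v (eI k) := by
  classical
  rw [bf_apply, Finset.sum_eq_single k]
  · rw [Pi.single_eq_same, Pi.single_eq_of_ne (by simp)]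
    ring
  · intro i _ hi
    rw [Pi.single_eq_of_ne (by simpa using hi), Pi.single_eq_of_ne (by simp), mul_zero, mul_zero,
      add_zero]
  · intro h
    exact absurd (Finset.mem_univ _) h

theorem bf_single (v : OI m → F) (y : OI m) :
    polar (qf m F) v (Pi.single y 1) = v (dualE m y) := by
  rcases y with y | y
  · exact bf_single_e v y
  · exact bf_single_f v y

theorem qf_single (y : OI m) : qf m F (Pi.single y 1) = 0 := by
  classical
  rw [qf_apply]
  apply Finset.sum_eq_zero
  intro i _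
  rcases y with y | y
  · rw [Pi.single_eq_of_ne (show fI i ≠ (Sum.inl y : OI m) by simp), mul_zero]
  · rw [Pi.single_eq_of_ne (show eI i ≠ (Sum.inr y : OI m) by simp), zero_mul]

/-! ### the window and the Siegel elements -/

/-- `x` lies strictly between `e_j` and `f_j` -/
def Win (m j : ℕ) (x : OI m) : Prop := j < pos m x ∧ pos m x < 2 * m - 1 - j

theorem win_dual (j : ℕ) (x : OI m) : Win m j (dualE m x) ↔ Win m j x := by
  unfold Win
  rw [pos_dualE]
  have := pos_lt m x
  omega

/-- zero pattern of a Siegel element -/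
theorem siegel_entry (j : ℕ) (c : OI m) (z : OI m → F)
    (hz0 : ∀ x, ¬ Win m j x → z x = 0) (x y : OI m)
    (c1 : y = dualE m c → ¬ Win m j x) (c2 : x = c → y ≠ dualE m c ∧ ¬ Win m j y) :
    siegM (qf m F) (Pi.single c 1) z x y = (1 : Matrix (OI m) (OI m) F) x y := by
  classical
  rw [siegM_apply, bf_single (Pi.single y 1) c, polar_comm _ (Pi.single y 1) z, bf_single z y]
  by_cases hx : x = c
  · obtain ⟨h3, h4⟩ := c2 hx
    rw [hz0 _ (fun h => h4 ((win_dual j y).1 h)), Pi.single_eq_of_ne (Ne.symm h3)]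
    ring
  · rw [Pi.single_eq_of_ne hx]
    by_cases hy : y = dualE m c
    · rw [hz0 x (c1 hy)]
      ring
    · rw [Pi.single_eq_of_ne (Ne.symm hy)]
      ring

/-- the group element -/
theorem exists_siegel (j : ℕ) (c : OI m) (hcw : ¬ Win m j c)
    (z : OI m → F) (hz0 : ∀ x, ¬ Win m j x → z x = 0) :
    ∃ h : OG m F, mat h = siegM (qf m F) (Pi.single c 1) z ∧
      ∀ v : OI m → F, mat h *ᵥ v = v + v (dualE m c) • z
        - (polar (qf m F) v z + qf m F z * v (dualE m c)) • Pi.single c 1 := by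
  classical
  have hu : qf m F (Pi.single c 1) = 0 := qf_single c
  have hzu : polar (qf m F) z (Pi.single c 1) = 0 := by
    rw [bf_single]
    exact hz0 _ (fun h => hcw ((win_dual j c).1 h))
  obtain ⟨h, hh⟩ := exists_of_isometry (siegM (qf m F) (Pi.single c 1) z)
    (siegM (qf m F) (Pi.single c 1) (-z)) (siegM_mul_neg _ _ _ hu hzu) (siegM_neg_mul _ _ _ hu hzu)
    (fun v => siegM_isometry (qf m F) _ _ hu hzu v)
  refine ⟨h, hh, fun v => ?_⟩
  rw [hh, siegM_mulVec, bf_single]

/-- upper Siegel elements -/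
theorem exists_upper (j : ℕ) (hj : j < m) (z : OI m → F) (hz0 : ∀ x, ¬ Win m j x → z x = 0) :
    ∃ h : OG m F, h ∈ Bsub m F ∧
      (∀ x y : OI m, pos m y < j → mat h x y = (1 : Matrix (OI m) (OI m) F) x y) ∧
      ∀ v : OI m → F, mat h *ᵥ v = v + v (fI ⟨j, hj⟩) • z
        - (polar (qf m F) v z + qf m F z * v (fI ⟨j, hj⟩)) • Pi.single (eI ⟨j, hj⟩) 1 := by
  have hcw : ¬ Win m j (eI ⟨j, hj⟩ : OI m) := by
    unfold Win
    rw [pos_eI]
    simp
  obtain ⟨h, hh, hact⟩ := exists_siegel j (eI ⟨j, hj⟩) hcw z hz0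
  refine ⟨h, ?_, ?_, hact⟩
  · rw [mem_Bsub_iff]
    intro x y hxy
    rw [hh, siegel_entry j _ z hz0, Matrix.one_apply_ne]
    · intro h'
      rw [h'] at hxy
      exact lt_irrefl _ hxy
    · intro hy
      rw [hy, dualE_eI, pos_fI] at hxy
      unfold Win
      simp only at hxy
      omega
    · intro hx
      rw [hx, pos_eI] at hxy
      simp only at hxy
      refine ⟨?_, ?_⟩
      · intro hy
        rw [hy, dualE_eI, pos_fI] at hxy
        simp only at hxy
        omega
      · unfold Win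
        omega
  · intro x y hy
    rw [hh]
    apply siegel_entry j _ z hz0
    · intro h'
      rw [h', dualE_eI, pos_fI] at hy
      simp only at hy
      omega
    · intro _
      refine ⟨?_, ?_⟩
      · intro h'
        rw [h', dualE_eI, pos_fI] at hy
        simp only at hy
        omega
      · unfold Win
        omega

/-- lower Siegel elements -/
theorem exists_lower (j : ℕ) (hj : j < m) (z : OI m → F) (hz0 : ∀ x, ¬ Win m j x → z x = 0) :
    ∃ h : OG m F, h ∈ Bminus m F ∧
      (∀ x y : OI m, pos m y < j → mat h x y = (1 : Matrix (OI m) (OI m) F) x y) ∧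
      ∀ v : OI m → F, mat h *ᵥ v = v + v (eI ⟨j, hj⟩) • z
        - (polar (qf m F) v z + qf m F z * v (eI ⟨j, hj⟩)) • Pi.single (fI ⟨j, hj⟩) 1 := by
  have hcw : ¬ Win m j (fI ⟨j, hj⟩ : OI m) := by
    unfold Win
    rw [pos_fI]
    simp
  obtain ⟨h, hh, hact⟩ := exists_siegel j (fI ⟨j, hj⟩) hcw z hz0
  refine ⟨h, ?_, ?_, hact⟩
  · rw [mem_Bminus_iff]
    intro x y hxy
    rw [hh, siegel_entry j _ z hz0, Matrix.one_apply_ne]
    · intro h'
      rw [h'] at hxy
      exact lt_irrefl _ hxy
    · intro hy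
      rw [hy, dualE_fI, pos_eI] at hxy
      unfold Win
      simp only at hxy
      omega
    · intro hx
      rw [hx, pos_fI] at hxy
      simp only at hxy
      have := pos_lt m y
      refine ⟨?_, ?_⟩
      · intro hy
        rw [hy, dualE_fI, pos_eI] at hxy
        simp only at hxy
        omega
      · unfold Win
        omega
  · intro x y hy
    rw [hh]
    apply siegel_entry j _ z hz0
    · intro h'
      rw [h', dualE_fI, pos_eI] at hy
      simp only at hy
      omega
    · intro _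
      refine ⟨?_, ?_⟩
      · intro h'
        rw [h', dualE_fI, pos_eI] at hy
        simp only at hy
        omega
      · unfold Win
        omega

/-! ### coordinates via the polar form -/

theorem coord_eq_polar (v : OI m → F) (x : OI m) :
    v x = polar (qf m F) v (Pi.single (dualE m x) 1) := by
  rw [bf_single, dualE_dualE]

theorem mat_apply_col (g : OG m F) (x y : OI m) : mat g x y = (mat g *ᵥ Pi.single y 1) x := by
  classical
  rw [Matrix.mulVec_single_one]
  rfl

/-- entries of `g` in terms of those of `g⁻¹` -/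
theorem mat_apply_eq_inv (g : OG m F) (x y : OI m) :
    mat g x y = mat g⁻¹ (dualE m y) (dualE m x) := by
  classical
  rw [mat_apply_col g x y, coord_eq_polar (mat g *ᵥ Pi.single y 1) x]
  have h1 := polar_mulVec g (Pi.single y 1) (mat g⁻¹ *ᵥ Pi.single (dualE m x) 1)
  rw [Matrix.mulVec_mulVec, mat_mul_mat_inv, Matrix.one_mulVec] at h1
  rw [h1, polar_comm, bf_single, ← mat_apply_col]

/-! ### flags -/

theorem mem_flag_iff (j : ℕ) (g : OG m F) :
    g ∈ FlagStab m F j ↔ g ∈ triSub m F (fun x : OI m => min (pos m x) j) := by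
  constructor
  · intro h
    show (mat g).BlockTriangular (fun x : OI m => min (pos m x) j)
    intro x y hxy
    have hxy' : min (pos m y) j < min (pos m x) j := hxy
    have h2 : pos m y < j ∧ pos m y < pos m x := by
      simp only [lt_min_iff, min_lt_iff] at hxy'
      omega
    exact h x y h2.1 h2.2
  · intro h
    have h' : (mat g).BlockTriangular (fun x : OI m => min (pos m x) j) := h
    show ∀ x y : OI m, pos m y < j → pos m y < pos m x → mat g x y = 0
    intro x y hy hxy
    apply h'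
    show min (pos m y) j < min (pos m x) j
    simp only [lt_min_iff, min_lt_iff]
    omega

theorem flag_mul (j : ℕ) (g h : OG m F) (hg : g ∈ FlagStab m F j) (hh : h ∈ FlagStab m F j) :
    h * g ∈ FlagStab m F j :=
  (mem_flag_iff j _).2 (Subgroup.mul_mem _ ((mem_flag_iff j h).1 hh) ((mem_flag_iff j g).1 hg))

theorem flag_inv (j : ℕ) (g : OG m F) (hg : g ∈ FlagStab m F j) : g⁻¹ ∈ FlagStab m F j :=
  (mem_flag_iff j _).2 (Subgroup.inv_mem _ ((mem_flag_iff j g).1 hg))

theorem flag_of_fix (j : ℕ) (h : OG m F)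
    (hfix : ∀ x y : OI m, pos m y < j → mat h x y = (1 : Matrix (OI m) (OI m) F) x y) :
    h ∈ FlagStab m F j := by
  show ∀ x y : OI m, pos m y < j → pos m y < pos m x → mat h x y = 0
  intro x y hy hxy
  rw [hfix x y hy, Matrix.one_apply_ne]
  intro h'
  rw [h'] at hxy
  exact lt_irrefl _ hxy

/-- `FlagStab m ⊆ B` -/
theorem flagStab_full_subset_B_core (g : OG m F) (hg : g ∈ FlagStab m F m) : g ∈ Bsub m F := by
  have hginv := flag_inv m g hg
  rw [mem_Bsub_iff]
  intro x y hxy
  by_cases hy : pos m y < m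
  · exact hg x y hy hxy
  · have hpx := pos_lt m x
    have hpy := pos_lt m y
    rw [mat_apply_eq_inv g x y]
    apply hginv
    · rw [pos_dualE]
      omega
    · rw [pos_dualE, pos_dualE]
      omega

theorem finish (j : ℕ) (hj : j < m) (g h : OG m F) (hg : g ∈ FlagStab m F j)
    (hh : h ∈ FlagStab m F j)
    (hkill : ∀ x, j < pos m x → (mat h *ᵥ (mat g *ᵥ Pi.single (eI ⟨j, hj⟩) 1)) x = 0) :
    h * g ∈ FlagStab m F (j + 1) := by
  have hhg := flag_mul j g h hg hh
  show ∀ x y : OI m, pos m y < j + 1 → pos m y < pos m x → mat (h * g) x y = 0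
  intro x y hy hxy
  by_cases hyj : pos m y < j
  · exact hhg x y hyj hxy
  · have hy' : y = eI ⟨j, hj⟩ := by
      apply pos_injective m
      show pos m y = j
      omega
    rw [hy'] at hxy ⊢
    rw [pos_eI] at hxy
    have := hkill x hxy
    rw [Matrix.mulVec_mulVec, ← mat_mul, ← mat_apply_col] at this
    exact this

/-! ### step A: `w (e_j) ≠ 0` -/

theorem stepA (j : ℕ) (hj : j < m) (w : OI m → F)
    (hW1 : ∀ x, 2 * m - 1 - j < pos m x → w x = 0) (hW2 : qf m F w = 0)
    (hwj : w (eI ⟨j, hj⟩) ≠ 0) :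
    ∃ h : OG m F, h ∈ Bminus m F ∧
      (∀ x y : OI m, pos m y < j → mat h x y = (1 : Matrix (OI m) (OI m) F) x y) ∧
      ∀ x, j < pos m x → (mat h *ᵥ w) x = 0 := by
  classical
  obtain ⟨w0, hw0⟩ : ∃ w0 : OI m → F, w0 = fun x => if Win m j x then w x else 0 := ⟨_, rfl⟩
  have hw0_in : ∀ x, Win m j x → w0 x = w x := by
    intro x h
    rw [hw0]
    exact if_pos h
  have hw0_out : ∀ x, ¬ Win m j x → w0 x = 0 := by
    intro x h
    rw [hw0]
    exact if_neg h
  obtain ⟨N, hN⟩ : ∃ N : F, N = qf m F w0 := ⟨_, rfl⟩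
  obtain ⟨A, hA⟩ : ∃ A : F, A = w (eI ⟨j, hj⟩) := ⟨_, rfl⟩
  obtain ⟨R, hR⟩ : ∃ R : F, R = w (fI ⟨j, hj⟩) := ⟨_, rfl⟩
  have hwin_e : ∀ i : Fin m, j < i.val → Win m j (eI i) := by
    intro i hi
    unfold Win
    rw [pos_eI]
    have := i.2
    omega
  have hwin_f : ∀ i : Fin m, j < i.val → Win m j (fI i) := by
    intro i hi
    unfold Win
    rw [pos_fI]
    have := i.2
    omega
  have hnwin_e : ∀ i : Fin m, i.val ≤ j → ¬ Win m j (eI i) := by
    intro i hi
    unfold Win
    rw [pos_eI]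
    omega
  have hnwin_f : ∀ i : Fin m, i.val ≤ j → ¬ Win m j (fI i) := by
    intro i hi
    unfold Win
    rw [pos_fI]
    omega
  -- (I1)
  have hI1 : qf m F w = A * R + N := by
    rw [hN, qf_apply, qf_apply]
    have hpt : ∀ i : Fin m, w (eI i) * w (fI i) =
        w0 (eI i) * w0 (fI i) + (if i = ⟨j, hj⟩ then A * R else 0) := by
      intro i
      rcases lt_trichotomy i.val j with h | h | h
      · have h1 : w (fI i) = 0 := hW1 _ (by rw [pos_fI]; have := i.2; omega)
        rw [h1, mul_zero, hw0_out _ (hnwin_e i (le_of_lt h)), zero_mul,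
          if_neg (fun h' => by rw [h'] at h; exact lt_irrefl _ h), add_zero]
      · have hi : i = ⟨j, hj⟩ := Fin.ext h
        rw [if_pos hi, hw0_out _ (hnwin_e i (le_of_eq h)), zero_mul, zero_add, hi, ← hA, ← hR]
      · rw [hw0_in _ (hwin_e i h), hw0_in _ (hwin_f i h),
          if_neg (fun h' => by rw [h'] at h; exact lt_irrefl _ h), add_zero]
    rw [Finset.sum_congr rfl (fun i _ => hpt i), Finset.sum_add_distrib]
    simp only [Finset.sum_ite_eq', Finset.mem_univ, if_true]
    ring
  -- (I2)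
  have hI2 : polar (qf m F) w w0 = 2 * N := by
    rw [hN, bf_apply, qf_apply]
    have hpt : ∀ i : Fin m, w (eI i) * w0 (fI i) + w (fI i) * w0 (eI i) =
        2 * (w0 (eI i) * w0 (fI i)) := by
      intro i
      by_cases h : j < i.val
      · rw [hw0_in _ (hwin_e i h), hw0_in _ (hwin_f i h)]
        ring
      · have h' : i.val ≤ j := Nat.le_of_not_lt h
        rw [hw0_out _ (hnwin_e i h'), hw0_out _ (hnwin_f i h')]
        ring
    rw [Finset.sum_congr rfl (fun i _ => hpt i), ← Finset.mul_sum]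
  have hiso : A * R + N = 0 := by rw [← hI1, hW2]
  have hA0 : A ≠ 0 := by rw [hA]; exact hwj
  obtain ⟨c, hc⟩ : ∃ c : F, c = -A⁻¹ := ⟨_, rfl⟩
  have hz0 : ∀ x, ¬ Win m j x → (c • w0) x = 0 := by
    intro x hx
    rw [Pi.smul_apply, hw0_out x hx, smul_zero]
  obtain ⟨h, hB, hfix, hact⟩ := exists_lower j hj (c • w0) hz0
  refine ⟨h, hB, hfix, ?_⟩
  intro x hx
  rw [hact, polar_smul_right, hI2, QuadraticMap.map_smul, ← hN, ← hA]
  simp only [Pi.add_apply, Pi.sub_apply, Pi.smul_apply, smul_eq_mul]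
  rcases lt_trichotomy (pos m x) (2 * m - 1 - j) with h' | h' | h'
  · have hxw : Win m j x := ⟨hx, h'⟩
    have hxne : x ≠ fI ⟨j, hj⟩ := by
      intro h''
      rw [h'', pos_fI] at h'
      exact lt_irrefl _ h'
    rw [hw0_in x hxw, Pi.single_eq_of_ne hxne, mul_zero, sub_zero, hc]
    field_simp
    ring
  · have hxe : x = fI ⟨j, hj⟩ := by
      apply pos_injective m
      rw [pos_fI]
      exact h'
    rw [hxe, hw0_out _ (hnwin_f ⟨j, hj⟩ (le_refl _)), Pi.single_eq_same, ← hR, hc]
    field_simp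
    linear_combination hiso
  · have hxne : x ≠ fI ⟨j, hj⟩ := by
      intro h''
      rw [h'', pos_fI] at h'
      exact lt_irrefl _ h'
    rw [hW1 x h', hw0_out x (fun hh => by unfold Win at hh; omega), Pi.single_eq_of_ne hxne]
    ring

/-! ### step B: `w (e_j) = 0`, some higher coordinate is nonzero -/

theorem stepB_aux (j : ℕ) (hj : j < m) (w : OI m → F)
    (hW1 : ∀ x, 2 * m - 1 - j < pos m x → w x = 0) (hwj : w (eI ⟨j, hj⟩) = 0) (z : OI m → F)
    (hz0 : ∀ x, ¬ Win m j x → z x = 0)
    (hne : polar (qf m F) w z + qf m F z * w (fI ⟨j, hj⟩) ≠ 0) :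
    ∃ h : OG m F, h ∈ Bsub m F ∧
      (∀ x y : OI m, pos m y < j → mat h x y = (1 : Matrix (OI m) (OI m) F) x y) ∧
      (∀ x, 2 * m - 1 - j < pos m x → (mat h *ᵥ w) x = 0) ∧ (mat h *ᵥ w) (eI ⟨j, hj⟩) ≠ 0 := by
  classical
  obtain ⟨h, hB, hfix, hact⟩ := exists_upper j hj z hz0
  refine ⟨h, hB, hfix, ?_, ?_⟩
  · intro x hx
    rw [hact]
    simp only [Pi.add_apply, Pi.sub_apply, Pi.smul_apply, smul_eq_mul]
    have hxne : x ≠ eI ⟨j, hj⟩ := by
      intro h''
      rw [h'', pos_eI] at hx
      simp only at hx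
      omega
    rw [hW1 x hx, hz0 x (fun hh => by unfold Win at hh; omega), Pi.single_eq_of_ne hxne]
    ring
  · rw [hact]
    simp only [Pi.add_apply, Pi.sub_apply, Pi.smul_apply, smul_eq_mul]
    rw [hwj, hz0 _ (fun hh => by unfold Win at hh; rw [pos_eI] at hh; simp only at hh; omega),
      Pi.single_eq_same, mul_zero, zero_add, zero_sub, mul_one]
    exact neg_ne_zero.mpr hne

/-- a vector of the hyperbolic plane `⟨e_k, f_k⟩` -/
def hvec (k : Fin m) (s t : F) : OI m → F := s • Pi.single (eI k) 1 + t • Pi.single (fI k) 1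

theorem hvec_e (k : Fin m) (s t : F) : (hvec k s t : OI m → F) (eI k) = s := by
  classical
  unfold hvec
  simp

theorem hvec_f (k : Fin m) (s t : F) : (hvec k s t : OI m → F) (fI k) = t := by
  classical
  unfold hvec
  simp

theorem hvec_of_ne (k : Fin m) (s t : F) (x : OI m) (h0 : x ≠ eI k) (h1 : x ≠ fI k) :
    (hvec k s t : OI m → F) x = 0 := by
  classical
  unfold hvec
  simp [Pi.single_eq_of_ne h0, Pi.single_eq_of_ne h1]

theorem qf_hvec (k : Fin m) (s t : F) : qf m F (hvec k s t) = s * t := by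
  classical
  rw [qf_apply, Finset.sum_eq_single k]
  · rw [hvec_e, hvec_f]
  · intro i _ hi
    rw [hvec_of_ne k s t (eI i) (by simpa using hi) (by simp), zero_mul]
  · intro h
    exact absurd (Finset.mem_univ _) h

theorem polar_hvec (w : OI m → F) (k : Fin m) (s t : F) :
    polar (qf m F) w (hvec k s t) = s * w (fI k) + t * w (eI k) := by
  unfold hvec
  rw [polar_add_right, polar_smul_right, polar_smul_right, bf_single_e, bf_single_f]
  simp only [smul_eq_mul]

theorem stepB (j : ℕ) (hj : j + 2 ≤ m) (w : OI m → F)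
    (hW1 : ∀ x, 2 * m - 1 - j < pos m x → w x = 0)
    (hwj : w (eI ⟨j, by omega⟩) = 0) (hex : ∃ x, j < pos m x ∧ w x ≠ 0) :
    ∃ h : OG m F, h ∈ Bsub m F ∧
      (∀ x y : OI m, pos m y < j → mat h x y = (1 : Matrix (OI m) (OI m) F) x y) ∧
      (∀ x, 2 * m - 1 - j < pos m x → (mat h *ᵥ w) x = 0) ∧
      (mat h *ᵥ w) (eI ⟨j, by omega⟩) ≠ 0 := by
  classical
  have hj' : j < m := by omega
  by_cases hwr : w (fI ⟨j, hj'⟩) = 0
  · obtain ⟨x, hx, hwx⟩ := hex
    have hxw : Win m j x := by
      refine ⟨hx, ?_⟩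
      rcases lt_trichotomy (pos m x) (2 * m - 1 - j) with h' | h' | h'
      · exact h'
      · exfalso
        have hxe : x = fI ⟨j, hj'⟩ := by
          apply pos_injective m
          rw [pos_fI]
          exact h'
        rw [hxe] at hwx
        exact hwx hwr
      · exact absurd (hW1 x h') hwx
    apply stepB_aux j hj' w hW1 hwj (Pi.single (dualE m x) 1)
    · intro y hy
      apply Pi.single_eq_of_ne
      intro h'
      rw [h'] at hy
      exact hy ((win_dual j x).2 hxw)
    · rw [hwr, mul_zero, add_zero, bf_single, dualE_dualE]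
      exact hwx
  · -- `R ≠ 0`: use the hyperbolic plane `⟨e_{j+1}, f_{j+1}⟩`
    obtain ⟨k, hk⟩ : ∃ k : Fin m, k = ⟨j + 1, by omega⟩ := ⟨_, rfl⟩
    have hkv : k.val = j + 1 := by rw [hk]
    have hsupp : ∀ s t : F, ∀ x, ¬ Win m j x → (hvec k s t : OI m → F) x = 0 := by
      intro s t x hx
      apply hvec_of_ne
      · intro h'
        apply hx
        rw [h']
        unfold Win
        rw [pos_eI]
        omega
      · intro h'
        apply hx
        rw [h']
        unfold Win
        rw [pos_fI]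
        omega
    by_cases h1 : w (fI k) = 0
    · by_cases h2 : w (eI k) = 0
      · apply stepB_aux j hj' w hW1 hwj (hvec k 1 1) (hsupp 1 1)
        rw [polar_hvec, qf_hvec, h1, h2]
        simpa using hwr
      · apply stepB_aux j hj' w hW1 hwj (hvec k 0 1) (hsupp 0 1)
        rw [polar_hvec, qf_hvec, h1]
        simpa using h2
    · apply stepB_aux j hj' w hW1 hwj (hvec k 1 0) (hsupp 1 0)
      rw [polar_hvec, qf_hvec]
      simpa using h1

/-! ### the elimination step -/

theorem flagStab_step_core (j : ℕ) (hj : j + 2 ≤ m) (g : OG m F) (hg : g ∈ FlagStab m F j) :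
    ∃ h ∈ Bsub m F ⊔ Bminus m F, h * g ∈ FlagStab m F (j + 1) := by
  classical
  have hj' : j < m := by omega
  obtain ⟨w, hw⟩ : ∃ w : OI m → F, w = mat g *ᵥ Pi.single (eI ⟨j, hj'⟩) 1 := ⟨_, rfl⟩
  have hginv := flag_inv j g hg
  have hW1 : ∀ x, 2 * m - 1 - j < pos m x → w x = 0 := by
    intro x hx
    have hpx := pos_lt m x
    rw [hw, ← mat_apply_col, mat_apply_eq_inv g x _, dualE_eI]
    apply hginv
    · rw [pos_dualE]
      omega
    · rw [pos_dualE, pos_fI]
      simp only
      omega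
  have hW2 : qf m F w = 0 := by
    rw [hw, qf_mulVec]
    exact qf_single _
  by_cases hall : ∀ x, j < pos m x → w x = 0
  · refine ⟨1, Subgroup.one_mem _, ?_⟩
    apply finish j hj' g 1 hg (flag_of_fix j 1 (fun x y _ => by rw [mat_one]))
    intro x hx
    rw [mat_one, Matrix.one_mulVec, ← hw]
    exact hall x hx
  · push Not at hall
    by_cases hwj : w (eI ⟨j, hj'⟩) = 0
    · obtain ⟨h1, h1B, h1fix, h1W1, h1ne⟩ := stepB j hj w hW1 hwj hall
      have h1W2 : qf m F (mat h1 *ᵥ w) = 0 := by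
        rw [qf_mulVec, hW2]
      obtain ⟨h2', h2B, h2fix, h2kill⟩ := stepA j hj' (mat h1 *ᵥ w) h1W1 h1W2 h1ne
      refine ⟨h2' * h1, Subgroup.mul_mem _ ((le_sup_right : Bminus m F ≤ _) h2B)
        ((le_sup_left : Bsub m F ≤ _) h1B), ?_⟩
      have hfl : h2' * h1 ∈ FlagStab m F j :=
        flag_mul j h1 h2' (flag_of_fix j h1 h1fix) (flag_of_fix j h2' h2fix)
      apply finish j hj' g (h2' * h1) hg hfl
      intro x hx
      have := h2kill x hx
      rw [Matrix.mulVec_mulVec, ← mat_mul, hw] at this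
      exact this
    · obtain ⟨h2', h2B, h2fix, h2kill⟩ := stepA j hj' w hW1 hW2 hwj
      refine ⟨h2', (le_sup_right : Bminus m F ≤ _) h2B, ?_⟩
      apply finish j hj' g h2' hg (flag_of_fix j h2' h2fix)
      intro x hx
      have := h2kill x hx
      rw [hw] at this
      exact this

end Cfsg.Agent.Lib.Helper74.StOp
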