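import Cfsg.Agent.Lib.Helper49.StOpDefs
import Cfsg.Agent.Lib.Helper74.StOpFlag

/-!
# K-StOp-C5a1 (254822) `flagStab_step` and K-StOp-C5a0 (254821) `flagStab_full_subset_B`, exact signatures
(pack for S2548, architect helper49).  The proofs are in `Lib/Helper74/StOpFlag.lean` (flags + Siegel elements).
-/

set_option autoImplicit false
set_option linter.unusedSectionVars false
set_option linter.unusedVariables false

namespace Cfsg.Agent.Lib.Helper74.StOp

open Cfsg Cfsg.Agent.Lib.Helper49.StOp

variable {m : ℕ} {F : Type*} [Field F]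

theorem flagStab_full_subset_B : FlagStab m F m ⊆ (Bsub m F : Set (OG m F)) :=
  fun g hg => flagStab_full_subset_B_core g hg

theorem flagStab_step (j : ℕ) (hj : j + 2 ≤ m) (g : OG m F) (hg : g ∈ FlagStab m F j) :
    ∃ h ∈ Bsub m F ⊔ Bminus m F, h * g ∈ FlagStab m F (j + 1) :=
  flagStab_step_core j hj g hg

end Cfsg.Agent.Lib.Helper74.StOp
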