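import Mathlib
import Cfsg.Agent.Lib.Helper74.FCDefs
import Cfsg.Agent.Lib.Helper62.SL25Pres

set_option autoImplicit false

/-!
# Small facts about `SL(2,5)` used in S3359 (helper74)
-/

namespace Cfsg.Agent.Lib.Helper74.FC

open Matrix

local instance fact_prime_five' : Fact (Nat.Prime 5) := ⟨by norm_num⟩

theorem card_sl25 : Nat.card SL25 = 120 := Cfsg.Agent.Lib.Helper62.SL25Pres.card_SL25

/-- the centre of `SL(2,5)` has at most two elements. -/
theorem card_center_sl25_le : Nat.card (Subgroup.center SL25) ≤ 2 := by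
  have e := Matrix.SpecialLinearGroup.center_equiv_rootsOfUnity' (n := Fin 2) (R := ZMod 5) 0
  rw [Nat.card_congr e.toEquiv]
  have := card_rootsOfUnity (ZMod 5) (Fintype.card (Fin 2))
  simpa using this

def I5m : Matrix (Fin 2) (Fin 2) (ZMod 5) := !![0, -1; 1, 0]
def I5 : SL25 := ⟨I5m, by decide⟩

theorem exists_order_four : ∃ i : SL25, i ^ 2 ≠ 1 ∧ i ^ 4 = 1 := by
  refine ⟨I5, ?_, ?_⟩
  · intro h
    have := congrArg Subtype.val h
    revert this
    decide
  · apply Subtype.ext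
    decide

theorem exists_order_three : ∃ a : SL25, a ≠ 1 ∧ a ^ 3 = 1 := by
  refine ⟨Cfsg.Agent.Lib.Helper62.SL25Pres.X5, ?_, Cfsg.Agent.Lib.Helper62.SL25Pres.X5_pow⟩
  intro h
  have := congrArg Subtype.val h
  revert this
  decide

theorem exists_order_five : ∃ b : SL25, b ≠ 1 ∧ b ^ 5 = 1 :=
  ⟨Cfsg.Agent.Lib.Helper62.SL25Pres.Y5, Cfsg.Agent.Lib.Helper62.SL25Pres.Y5_ne,
    Cfsg.Agent.Lib.Helper62.SL25Pres.Y5_pow⟩

end Cfsg.Agent.Lib.Helper74.FC
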