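import Mathlib
import Cfsg.Agent.Lib.Helper74.FCDefs
import Cfsg.Agent.Lib.Helper74.FCSL25
import Cfsg.Agent.Lib.Helper74.FCHub

set_option autoImplicit false

/-!
# S3359: structure of non-solvable Frobenius complements (assembly, helper74)
-/

universe u

namespace Cfsg.Agent.Lib.Helper74.FC

open Cfsg.Agent.Lib.Helper74.FCHub

section

variable {G : Type u} [Group G] [Finite G]

/-- an element with `t * t = 1` in a group with `FpfAct` is `1` or the given involution. -/
theorem eq_one_or_eq_of_sq (hact : FpfAct G) (z : G) (hz : z * z = 1) (hz1 : z ≠ 1) (t : G)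
    (ht : t * t = 1) : t = 1 ∨ t = z := by
  by_cases h : t = 1
  · exact Or.inl h
  · exact Or.inr (unique_involution hact t z ht h hz hz1)

theorem centralizer_normal (S : Subgroup G) [hS : S.Normal] :
    (Subgroup.centralizer (S : Set G)).Normal := by
  constructor
  intro c hc g
  rw [Subgroup.mem_centralizer_iff] at hc ⊢
  intro s hs
  have hs' : g⁻¹ * s * g ∈ S := by
    have := hS.conj_mem s hs g⁻¹
    simpa using this
  have h1 := hc (g⁻¹ * s * g) hs'
  calc s * (g * c * g⁻¹) = g * ((g⁻¹ * s * g) * c) * g⁻¹ := by group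
    _ = g * (c * (g⁻¹ * s * g)) * g⁻¹ := by rw [h1]
    _ = g * c * g⁻¹ * s := by group

/-- `S ⊓ C_G(S)` has at most two elements when `S ≃* SL25`. -/
theorem card_inf_centralizer_le (S : Subgroup G) (e : S ≃* SL25) :
    Nat.card ↥(S ⊓ Subgroup.centralizer (S : Set G)) ≤ 2 := by
  classical
  let f : ↥(S ⊓ Subgroup.centralizer (S : Set G)) → Subgroup.center SL25 := fun x =>
    ⟨e ⟨x.1, x.2.1⟩, by
      rw [Subgroup.mem_center_iff]
      intro y
      obtain ⟨s, rfl⟩ := e.surjective y
      rw [← map_mul, ← map_mul]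
      congr 1
      apply Subtype.ext
      have := (Subgroup.mem_centralizer_iff.mp x.2.2) s.1 s.2
      simpa using this⟩
  have hf : Function.Injective f := by
    intro x y hxy
    have h1 : e ⟨x.1, x.2.1⟩ = e ⟨y.1, y.2.1⟩ := congrArg Subtype.val hxy
    have h2 := e.injective h1
    apply Subtype.ext
    exact congrArg (Subtype.val : S → G) h2
  exact le_trans (Nat.card_le_card_of_injective f hf) card_center_sl25_le

end

/-- S3359 modulo S0690 (`Z690`). -/
theorem main (hZ : Z690) {G : Type u} [Group G] [Finite G] (hns : ¬ Group.IsSolvable G)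
    (hFC : IsFC G) :
    ∃ G₀ : Subgroup G, G₀.Normal ∧ (G₀.index = 1 ∨ G₀.index = 2) ∧
      ∃ S M : Subgroup G, S ⊔ M = G₀ ∧ S ⊓ M = ⊥ ∧ (∀ s ∈ S, ∀ x ∈ M, s * x = x * s) ∧
        Nonempty (S ≃* SL25) ∧
        (∀ (p : ℕ) [Fact p.Prime] (P : Sylow p M), IsCyclic P) ∧ (Nat.card M).Coprime 30 := by
  classical
  have hsub : ∀ D : Subgroup G, D ≠ ⊥ → IsFC D := fun D hD => isFC_subgroup hFC D hD
  have hact : FpfAct G := exists_fpf_action hFC
  obtain ⟨S, hSn, hS1, hSperf⟩ := exists_perfect_normal hns
  have := hSn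
  haveI : Nontrivial S := (Subgroup.nontrivial_iff_ne_bot S).mpr hS1
  have hactS : FpfAct S := exists_fpf_action (hsub S hS1)
  obtain ⟨e⟩ := sl25_of_perfect hZ hactS hSperf
  -- the involution
  obtain ⟨i₀, hi₀2, hi₀4⟩ := exists_order_four
  set i : G := ((e.symm i₀ : S) : G) with hi
  have hiS : i ∈ S := (e.symm i₀).2
  have hi2 : i ^ 2 ≠ 1 := by
    intro h
    apply hi₀2
    have h1 : (e.symm i₀) ^ 2 = 1 := by
      apply Subtype.ext
      simpa using h
    have := congrArg e h1
    simpa using this
  have hi4 : i ^ 4 = 1 := by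
    have h1 : (e.symm i₀) ^ 4 = 1 := by
      rw [← map_pow, hi₀4, map_one]
    have := congrArg (Subtype.val : S → G) h1
    simpa using this
  set z : G := i * i with hzdef
  have hz1 : z ≠ 1 := by
    intro h
    apply hi2
    rw [pow_two]
    exact h
  have hzz : z * z = 1 := by
    rw [hzdef]
    calc i * i * (i * i) = i ^ 2 * i ^ 2 := by rw [pow_two]
      _ = i ^ 4 := by rw [← pow_add]
      _ = 1 := hi4
  have hzS : z ∈ S := S.mul_mem hiS hiS
  have hzcen : ∀ g : G, z * g = g * z := by
    intro g
    have h1 : (g * z * g⁻¹) * (g * z * g⁻¹) = 1 := by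
      calc (g * z * g⁻¹) * (g * z * g⁻¹) = g * (z * z) * g⁻¹ := by group
        _ = 1 := by rw [hzz]; group
    have h2 : g * z * g⁻¹ ≠ 1 := by
      intro h
      apply hz1
      calc z = g⁻¹ * (g * z * g⁻¹) * g := by group
        _ = 1 := by rw [h]; group
    have h3 := unique_involution hact (g * z * g⁻¹) z h1 h2 hzz hz1
    calc z * g = (g * z * g⁻¹) * g := by rw [h3]
      _ = g * z := by group
  set C : Subgroup G := Subgroup.centralizer (S : Set G) with hC
  haveI hCn : C.Normal := centralizer_normal S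
  have hzC : z ∈ C := by
    rw [hC, Subgroup.mem_centralizer_iff]
    intro s _
    exact (hzcen s).symm
  -- S ⊓ C = {1, z}
  have hcard2 : Nat.card ↥(S ⊓ C) ≤ 2 := card_inf_centralizer_le S e
  have hSC : ∀ x ∈ S ⊓ C, x = 1 ∨ x = z := by
    intro x hx
    by_contra hcon
    push Not at hcon
    have h3 : 3 ≤ Nat.card ↥(S ⊓ C) := by
      let f : Fin 3 → ↥(S ⊓ C) := ![⟨1, (S ⊓ C).one_mem⟩, ⟨z, ⟨hzS, hzC⟩⟩, ⟨x, hx⟩]
      have hf : Function.Injective f := by
        intro a b hab
        fin_cases a <;> fin_cases b <;> simp [f, Subtype.ext_iff] at hab ⊢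
        · exact absurd hab.symm hz1
        · exact absurd hab.symm hcon.1
        · exact absurd hab hz1
        · exact absurd hab.symm hcon.2
        · exact absurd hab hcon.1
        · exact absurd hab hcon.2
      have := Nat.card_le_card_of_injective f hf
      simpa using this
    omega
  -- index of G₀ := S ⊔ C
  have hidx : C.index ≤ 120 := index_centralizer_le S e card_mulAut_sl25_le
  set G₀ : Subgroup G := S ⊔ C with hG₀
  have hG₀n : G₀.Normal := Subgroup.sup_normal S C
  have hrel : 60 ≤ C.relIndex G₀ := by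
    have h1 : C.relIndex G₀ = C.relIndex S := by
      rw [hG₀]
      exact Subgroup.relIndex_sup_right S C
    have h2 : C.relIndex S = (C ⊓ S).relIndex S := (Subgroup.inf_relIndex_right C S).symm
    have h3 : (C ⊓ S).relIndex S * Nat.card ↥(C ⊓ S) = Nat.card S := by
      have := ((C ⊓ S).subgroupOf S).card_mul_index
      rw [Nat.card_congr (Subgroup.subgroupOfEquivOfLe (inf_le_right : C ⊓ S ≤ S)).toEquiv] at this
      rw [mul_comm]
      exact this
    have h4 : Nat.card S = 120 := by
      rw [Nat.card_congr e.toEquiv]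
      exact card_sl25
    have h5 : Nat.card ↥(C ⊓ S) ≤ 2 := by
      rw [inf_comm]
      exact hcard2
    rw [h1, h2]
    rw [h4] at h3
    by_contra hlt
    push Not at hlt
    have : (C ⊓ S).relIndex S * Nat.card ↥(C ⊓ S) ≤ 59 * 2 := Nat.mul_le_mul (by omega) h5
    omega
  have hG₀idx : G₀.index = 1 ∨ G₀.index = 2 := by
    have h1 : C.relIndex G₀ * G₀.index = C.index := Subgroup.relIndex_mul_index le_sup_right
    have h0 : G₀.index ≠ 0 := Subgroup.index_ne_zero_of_finite
    have h2 : 60 * G₀.index ≤ 120 := by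
      calc 60 * G₀.index ≤ C.relIndex G₀ * G₀.index := Nat.mul_le_mul_right _ hrel
        _ = C.index := h1
        _ ≤ 120 := hidx
    omega
  -- 2-elements of C
  have h2C : ∀ t ∈ C, t ^ 4 = 1 → t = 1 ∨ t = z := by
    intro t htC ht4
    have hu : (t * t) * (t * t) = 1 := by
      calc (t * t) * (t * t) = t ^ 2 * t ^ 2 := by rw [pow_two]
        _ = t ^ 4 := by rw [← pow_add]
        _ = 1 := ht4
    rcases eq_one_or_eq_of_sq hact z hzz hz1 (t * t) hu with h | h
    · exact eq_one_or_eq_of_sq hact z hzz hz1 t h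
    · exfalso
      have hti : i * t = t * i := by
        have := (Subgroup.mem_centralizer_iff.mp htC) i hiS
        exact this
      have hw : (i * t) * (i * t) = 1 := by
        calc (i * t) * (i * t) = i * (t * i) * t := by group
          _ = i * (i * t) * t := by rw [hti]
          _ = (i * i) * (t * t) := by group
          _ = z * z := by rw [h]
          _ = 1 := hzz
      have hwS : i * t ∈ S := by
        rcases eq_one_or_eq_of_sq hact z hzz hz1 (i * t) hw with h' | h'
        · rw [h']; exact S.one_mem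
        · rw [h']; exact hzS
      have htS : t ∈ S := by
        have : t = i⁻¹ * (i * t) := by group
        rw [this]
        exact S.mul_mem (S.inv_mem hiS) hwS
      rcases hSC t ⟨htS, htC⟩ with h' | h'
      · rw [h', one_mul] at h
        exact hz1 h.symm
      · rw [h', hzz] at h
        exact hz1 h.symm
  obtain ⟨M, hMn, hMC, hModd, hzM, hCM⟩ :=
    exists_odd_complement C z hzC hzz hz1 (fun c _ => hzcen c) h2C
  have hSM : S ⊓ M = ⊥ := by
    rw [eq_bot_iff]
    intro x hx
    rw [Subgroup.mem_bot]
    rcases hSC x ⟨hx.1, hMC hx.2⟩ with h | h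
    · exact h
    · exfalso
      apply hzM
      rw [← h]
      exact hx.2
  have hsup : S ⊔ M = G₀ := by
    apply le_antisymm
    · exact sup_le le_sup_left (le_trans hMC le_sup_right)
    · rw [hG₀]
      apply sup_le le_sup_left
      intro c hc
      rcases hCM c hc with h | h
      · exact (le_sup_right : M ≤ S ⊔ M) h
      · have : c = z⁻¹ * (z * c) := by group
        rw [this]
        exact (S ⊔ M).mul_mem ((le_sup_left : S ≤ S ⊔ M) (S.inv_mem hzS))
          ((le_sup_right : M ≤ S ⊔ M) h)
  have hcomm : ∀ s ∈ S, ∀ x ∈ M, s * x = x * s := by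
    intro s hs x hx
    exact (Subgroup.mem_centralizer_iff.mp (hMC hx)) s hs
  refine ⟨G₀, hG₀n, hG₀idx, S, M, hsup, hSM, hcomm, ⟨e⟩, ?_, ?_⟩
  · intro p hp P
    by_cases hp2 : p = 2
    · subst hp2
      have h1 : Nat.card P = 1 := by
        obtain ⟨k, hk⟩ := IsPGroup.iff_card.mp P.isPGroup'
        have hdvd : Nat.card P ∣ Nat.card M := Subgroup.card_subgroup_dvd_card (P : Subgroup M)
        rcases Nat.eq_zero_or_pos k with rfl | hkpos
        · simpa using hk
        · exfalso
          have h2 : 2 ∣ Nat.card P := by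
            rw [hk]
            exact dvd_pow_self 2 (by omega)
          have h3 : 2 ∣ Nat.card M := dvd_trans h2 hdvd
          rcases hModd with ⟨m, hm⟩
          omega
      haveI : Subsingleton P := (Nat.card_eq_one_iff_unique.mp h1).1
      exact isCyclic_of_subsingleton
    · exact sylow_cyclic_of_ne_two hsub M p hp2 P
  · -- coprime to 30
    have hq : ∀ q : ℕ, q.Prime → (∃ a₀ : SL25, a₀ ≠ 1 ∧ a₀ ^ q = 1) → ¬ q ∣ Nat.card M := by
      intro q hqp ⟨a₀, ha₀1, ha₀q⟩ hdvd
      haveI : Fact q.Prime := ⟨hqp⟩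
      obtain ⟨x, hx⟩ := exists_prime_orderOf_dvd_card' (G := M) q hdvd
      set a : G := ((e.symm a₀ : S) : G) with ha
      have haS : a ∈ S := (e.symm a₀).2
      have ha1 : a ≠ 1 := by
        intro h
        apply ha₀1
        have h1 : e.symm a₀ = 1 := Subtype.ext (by rw [Subgroup.coe_one]; exact h)
        have := congrArg e h1
        simpa using this
      have haq : a ^ q = 1 := by
        have h1 : (e.symm a₀) ^ q = 1 := by
          rw [← map_pow, ha₀q, map_one]
        have := congrArg (Subtype.val : S → G) h1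
        simpa using this
      have hxq : (x : G) ^ q = 1 := by
        have h1 : x ^ q = 1 := by
          rw [← hx]
          exact pow_orderOf_eq_one x
        have := congrArg (Subtype.val : M → G) h1
        simpa using this
      have hx1 : (x : G) ≠ 1 := by
        intro h
        have h1 : x = 1 := Subtype.ext (by simpa using h)
        rw [h1, orderOf_one] at hx
        exact hqp.one_lt.ne hx
      have hax : a * (x : G) = (x : G) * a := hcomm a haS x x.2
      have hmem := mem_zpowers_of_commute hsub q hqp a (x : G) haq hxq ha1 hax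
      have hxS : (x : G) ∈ S := by
        have : Subgroup.zpowers a ≤ S := by
          rw [Subgroup.zpowers_le]
          exact haS
        exact this hmem
      have : (x : G) ∈ S ⊓ M := ⟨hxS, x.2⟩
      rw [hSM, Subgroup.mem_bot] at this
      exact hx1 this
    have h2 : ¬ 2 ∣ Nat.card M := by
      rcases hModd with ⟨m, hm⟩
      omega
    have h3 : ¬ 3 ∣ Nat.card M := hq 3 (by norm_num) exists_order_three
    have h5 : ¬ 5 ∣ Nat.card M := hq 5 (by norm_num) exists_order_five
    have c2 : Nat.Coprime (Nat.card M) 2 :=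
      ((Nat.Prime.coprime_iff_not_dvd (by norm_num)).mpr h2).symm
    have c3 : Nat.Coprime (Nat.card M) 3 :=
      ((Nat.Prime.coprime_iff_not_dvd (by norm_num)).mpr h3).symm
    have c5 : Nat.Coprime (Nat.card M) 5 :=
      ((Nat.Prime.coprime_iff_not_dvd (by norm_num)).mpr h5).symm
    have : (30 : ℕ) = 2 * (3 * 5) := by norm_num
    rw [this]
    exact Nat.Coprime.mul_right c2 (Nat.Coprime.mul_right c3 c5)

end Cfsg.Agent.Lib.Helper74.FC
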