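import Mathlib
import Cfsg.Agent.Lib.Helper53.StOmDefs
import Cfsg.Agent.Lib.Helper50.StdForms
import Cfsg.Agent.Lib.Helper74.SiegelQF

/-!
# K-StOm (S2549): the flag elimination for `O⁻_{2m+2}(F)` by Siegel transformations  (helper74)

Port of `Lib/Helper74/StOC5a.lean` to the index set `MI m = (Fin m ⊕ Fin m) ⊕ Fin 2`, every
characteristic; the binary form `s² + a s t + b t²` is assumed anisotropic.
`g ∈ FlagStab j`, `j < m` ⟹ some `h ∈ B ⊔ B⁻` has `h g ∈ FlagStab (j+1)`; `FlagStab m ⊆ B`;
`B ⊔ B⁻ = ⊤`.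
-/

set_option autoImplicit false
set_option linter.unusedSectionVars false
set_option linter.unusedVariables false

namespace Cfsg.Agent.Lib.Helper74.StOm

open Matrix QuadraticMap Cfsg Cfsg.Agent.Lib.Helper53.StOm Cfsg.Agent.Lib.Helper74.Siegel

variable {m : ℕ} {F : Type*} [Field F] {a b : F}

/-- the form as a `QuadraticForm` -/
noncomputable abbrev qf (m : ℕ) (F : Type*) [Field F] (a b : F) : QuadraticForm F (MI m → F) :=
  Cfsg.Agent.Lib.Helper50.QMinus m F a b

theorem qf_apply (v : MI m → F) :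
    qf m F a b v = (∑ i : Fin m, v (eI i) * v (fI i))
      + (v (zI 0) ^ 2 + a * v (zI 0) * v (zI 1) + b * v (zI 1) ^ 2) := rfl

theorem qf_mulVec (g : OG m F a b) (u : MI m → F) : qf m F a b (mat g *ᵥ u) = qf m F a b u :=
  quad_mulVec g u

theorem bf_apply (u v : MI m → F) :
    polar (qf m F a b) u v =
      ∑ i : Fin m, (u (eI i) * v (fI i) + u (fI i) * v (eI i))
        + (2 * u (zI 0) * v (zI 0) + a * (u (zI 0) * v (zI 1) + u (zI 1) * v (zI 0))
          + 2 * b * u (zI 1) * v (zI 1)) := by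
  unfold polar
  rw [qf_apply, qf_apply, qf_apply]
  simp only [Pi.add_apply]
  have h : ∑ i : Fin m, (u (eI i) + v (eI i)) * (u (fI i) + v (fI i)) =
      ∑ i : Fin m, u (eI i) * u (fI i) + ∑ i : Fin m, v (eI i) * v (fI i)
        + ∑ i : Fin m, (u (eI i) * v (fI i) + u (fI i) * v (eI i)) := by
    rw [← Finset.sum_add_distrib, ← Finset.sum_add_distrib]
    refine Finset.sum_congr rfl (fun i _ => ?_)
    ring
  rw [h]
  ring

theorem polar_mulVec (g : OG m F a b) (u v : MI m → F) :
    polar (qf m F a b) (mat g *ᵥ u) (mat g *ᵥ v) = polar (qf m F a b) u v := by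
  unfold polar
  rw [← Matrix.mulVec_add, qf_mulVec, qf_mulVec, qf_mulVec]

theorem pos_le (x : MI m) : pos m x ≤ 2 * m := by
  rcases x with (x | x) | x
  · show x.val ≤ 2 * m
    have := x.2
    omega
  · show 2 * m - x.val ≤ 2 * m
    omega
  · show m ≤ 2 * m
    omega

/-- `x` is one of the two anisotropic coordinates -/
theorem pos_eq_m_iff' (x : MI m) : pos m x = m ↔ ∃ k : Fin 2, x = zI k := by
  rcases x with (x | x) | x
  · constructor
    · intro h
      have := x.2
      simp only [pos] at h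
      omega
    · rintro ⟨k, hk⟩
      cases hk
  · constructor
    · intro h
      have := x.2
      simp only [pos] at h
      omega
    · rintro ⟨k, hk⟩
      cases hk
  · exact ⟨fun _ => ⟨x, rfl⟩, fun _ => rfl⟩

theorem bf_single_e (v : MI m → F) (k : Fin m) :
    polar (qf m F a b) v (Pi.single (eI k) 1) = v (fI k) := by
  classical
  rw [bf_apply, Pi.single_eq_of_ne (by simp), Pi.single_eq_of_ne (by simp),
    Finset.sum_eq_single k]
  · rw [Pi.single_eq_of_ne (by simp), Pi.single_eq_same]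
    ring
  · intro i _ hi
    rw [Pi.single_eq_of_ne (by simp), Pi.single_eq_of_ne (by simpa using hi), mul_zero, mul_zero,
      add_zero]
  · intro h
    exact absurd (Finset.mem_univ _) h

theorem bf_single_f (v : MI m → F) (k : Fin m) :
    polar (qf m F a b) v (Pi.single (fI k) 1) = v (eI k) := by
  classical
  rw [bf_apply, Pi.single_eq_of_ne (by simp), Pi.single_eq_of_ne (by simp),
    Finset.sum_eq_single k]
  · rw [Pi.single_eq_same, Pi.single_eq_of_ne (by simp)]
    ring
  · intro i _ hi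
    rw [Pi.single_eq_of_ne (by simpa using hi), Pi.single_eq_of_ne (by simp), mul_zero, mul_zero,
      add_zero]
  · intro h
    exact absurd (Finset.mem_univ _) h

theorem bf_single_z0 (v : MI m → F) :
    polar (qf m F a b) v (Pi.single (zI 0) 1) = 2 * v (zI 0) + a * v (zI 1) := by
  classical
  rw [bf_apply, Pi.single_eq_same, Pi.single_eq_of_ne (by simp)]
  have : ∑ i : Fin m, (v (eI i) * (Pi.single (zI 0 : MI m) (1 : F) : MI m → F) (fI i)
      + v (fI i) * (Pi.single (zI 0 : MI m) (1 : F) : MI m → F) (eI i)) = 0 := by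
    apply Finset.sum_eq_zero
    intro i _
    rw [Pi.single_eq_of_ne (by simp), Pi.single_eq_of_ne (by simp), mul_zero, mul_zero, add_zero]
  rw [this]
  ring

theorem bf_single_z1 (v : MI m → F) :
    polar (qf m F a b) v (Pi.single (zI 1) 1) = a * v (zI 0) + 2 * b * v (zI 1) := by
  classical
  rw [bf_apply, Pi.single_eq_same, Pi.single_eq_of_ne (by simp)]
  have : ∑ i : Fin m, (v (eI i) * (Pi.single (zI 1 : MI m) (1 : F) : MI m → F) (fI i)
      + v (fI i) * (Pi.single (zI 1 : MI m) (1 : F) : MI m → F) (eI i)) = 0 := by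
    apply Finset.sum_eq_zero
    intro i _
    rw [Pi.single_eq_of_ne (by simp), Pi.single_eq_of_ne (by simp), mul_zero, mul_zero, add_zero]
  rw [this]
  ring

/-- polar form with a basis vector which is not one of the `z`'s -/
theorem bf_single (v : MI m → F) (y : MI m) (hy : pos m y ≠ m) :
    polar (qf m F a b) v (Pi.single y 1) = v (dualE m y) := by
  rcases y with (y | y) | y
  · exact bf_single_e v y
  · exact bf_single_f v y
  · exact absurd rfl hy

/-- the polar form with a basis vector vanishes if the dual coordinates vanish -/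
theorem bf_single_eq_zero (v : MI m → F) (y : MI m)
    (h : ∀ x, pos m x = 2 * m - pos m y → v x = 0) :
    polar (qf m F a b) v (Pi.single y 1) = 0 := by
  rcases y with (y | y) | y
  · rw [bf_single_e]
    apply h
    rw [pos_fI, pos_eI]
  · rw [bf_single_f]
    apply h
    rw [pos_fI, pos_eI]
    have := y.2
    omega
  · have h0 : v (zI 0) = 0 := h _ (by rw [pos_zI, pos_zI]; omega)
    have h1 : v (zI 1) = 0 := h _ (by rw [pos_zI, pos_zI]; omega)
    have hy : y = 0 ∨ y = 1 := by
      rcases y with ⟨y, hy⟩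
      interval_cases y
      · left; rfl
      · right; rfl
    rcases hy with rfl | rfl
    · show polar (qf m F a b) v (Pi.single (zI 0) 1) = 0
      rw [bf_single_z0, h0, h1]
      ring
    · show polar (qf m F a b) v (Pi.single (zI 1) 1) = 0
      rw [bf_single_z1, h0, h1]
      ring

theorem qf_single (y : MI m) (hy : pos m y ≠ m) : qf m F a b (Pi.single y 1) = 0 := by
  classical
  rw [qf_apply]
  have hz : ∀ k : Fin 2, (Pi.single y (1 : F) : MI m → F) (zI k) = 0 := by
    intro k
    apply Pi.single_eq_of_ne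
    intro h
    rw [← h] at hy
    exact hy rfl
  rw [hz 0, hz 1]
  have : ∑ i : Fin m, (Pi.single y (1 : F) : MI m → F) (eI i)
      * (Pi.single y (1 : F) : MI m → F) (fI i) = 0 := by
    apply Finset.sum_eq_zero
    intro i _
    rcases y with (y | y) | y
    · rw [Pi.single_eq_of_ne (show fI i ≠ (Sum.inl (Sum.inl y) : MI m) by simp), mul_zero]
    · rw [Pi.single_eq_of_ne (show eI i ≠ (Sum.inl (Sum.inr y) : MI m) by simp), zero_mul]
    · exact absurd rfl hy
  rw [this]
  ring

/-! ### the window and the Siegel elements -/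

/-- `x` lies strictly between `e_j` and `f_j` -/
def Win (m j : ℕ) (x : MI m) : Prop := j < pos m x ∧ pos m x < 2 * m - j

theorem win_dual (j : ℕ) (x : MI m) : Win m j (dualE m x) ↔ Win m j x := by
  unfold Win
  rw [pos_dualE]
  have := pos_le x
  omega

theorem win_of_pos_eq (j : ℕ) (hj : j < m) (x : MI m) (hx : pos m x = m) : Win m j x := by
  unfold Win
  omega

theorem win_zI (j : ℕ) (hj : j < m) (k : Fin 2) : Win m j (zI k : MI m) :=
  win_of_pos_eq j hj _ (pos_zI m k)

/-- if `z` is supported in the window and `y` is not in the window then `polar z e_y = 0` -/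
theorem bf_single_of_not_win (j : ℕ) (hj : j < m) (z : MI m → F)
    (hz0 : ∀ x, ¬ Win m j x → z x = 0) (y : MI m) (hy : ¬ Win m j y) :
    polar (qf m F a b) z (Pi.single y 1) = 0 := by
  apply bf_single_eq_zero
  intro x hx
  apply hz0
  intro hw
  apply hy
  unfold Win at hw ⊢
  have := pos_le y
  omega

/-- zero pattern of a Siegel element -/
theorem siegel_entry (j : ℕ) (hj : j < m) (c : MI m) (hc : pos m c ≠ m) (z : MI m → F)
    (hz0 : ∀ x, ¬ Win m j x → z x = 0) (x y : MI m)
    (c1 : y = dualE m c → ¬ Win m j x) (c2 : x = c → y ≠ dualE m c ∧ ¬ Win m j y) :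
    siegM (qf m F a b) (Pi.single c 1) z x y = (1 : Matrix (MI m) (MI m) F) x y := by
  classical
  rw [siegM_apply, bf_single (Pi.single y 1) c hc, polar_comm _ (Pi.single y 1) z]
  by_cases hx : x = c
  · obtain ⟨h3, h4⟩ := c2 hx
    rw [bf_single_of_not_win j hj z hz0 y h4, Pi.single_eq_of_ne (Ne.symm h3)]
    ring
  · rw [Pi.single_eq_of_ne hx]
    by_cases hy : y = dualE m c
    · rw [hz0 x (c1 hy)]
      ring
    · rw [Pi.single_eq_of_ne (Ne.symm hy)]
      ring

/-- the group element -/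
theorem exists_siegel (j : ℕ) (hj : j < m) (c : MI m) (hc : pos m c ≠ m) (hcw : ¬ Win m j c)
    (z : MI m → F) (hz0 : ∀ x, ¬ Win m j x → z x = 0) :
    ∃ h : OG m F a b, mat h = siegM (qf m F a b) (Pi.single c 1) z ∧
      ∀ v : MI m → F, mat h *ᵥ v = v + v (dualE m c) • z
        - (polar (qf m F a b) v z + qf m F a b z * v (dualE m c)) • Pi.single c 1 := by
  classical
  have hu : qf m F a b (Pi.single c 1) = 0 := qf_single c hc
  have hzu : polar (qf m F a b) z (Pi.single c 1) = 0 := bf_single_of_not_win j hj z hz0 c hcw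
  obtain ⟨h, hh⟩ := exists_of_isometry (a := a) (b := b) (siegM (qf m F a b) (Pi.single c 1) z)
    (siegM (qf m F a b) (Pi.single c 1) (-z)) (siegM_mul_neg _ _ _ hu hzu)
    (siegM_neg_mul _ _ _ hu hzu) (fun v => siegM_isometry (qf m F a b) _ _ hu hzu v)
  refine ⟨h, hh, fun v => ?_⟩
  rw [hh, siegM_mulVec, bf_single v c hc]

/-- upper Siegel elements -/
theorem exists_upper (j : ℕ) (hj : j < m) (z : MI m → F) (hz0 : ∀ x, ¬ Win m j x → z x = 0) :
    ∃ h : OG m F a b, h ∈ Bsub m F a b ∧
      (∀ x y : MI m, pos m y < j → mat h x y = (1 : Matrix (MI m) (MI m) F) x y) ∧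
      ∀ v : MI m → F, mat h *ᵥ v = v + v (fI ⟨j, hj⟩) • z
        - (polar (qf m F a b) v z + qf m F a b z * v (fI ⟨j, hj⟩)) • Pi.single (eI ⟨j, hj⟩) 1 := by
  have hc : pos m (eI ⟨j, hj⟩ : MI m) ≠ m := by
    rw [pos_eI]
    simp only
    omega
  have hcw : ¬ Win m j (eI ⟨j, hj⟩ : MI m) := by
    unfold Win
    rw [pos_eI]
    simp
  obtain ⟨h, hh, hact⟩ := exists_siegel (a := a) (b := b) j hj (eI ⟨j, hj⟩) hc hcw z hz0
  refine ⟨h, ?_, ?_, hact⟩
  · rw [mem_Bsub_iff]
    intro x y hxy
    rw [hh, siegel_entry j hj _ hc z hz0, Matrix.one_apply_ne]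
    · intro h'
      rw [h'] at hxy
      exact lt_irrefl _ hxy
    · intro hy
      rw [hy, dualE_eI, pos_fI] at hxy
      unfold Win
      simp only at hxy
      omega
    · intro hx
      rw [hx, pos_eI] at hxy
      simp only at hxy
      refine ⟨?_, ?_⟩
      · intro hy
        rw [hy, dualE_eI, pos_fI] at hxy
        simp only at hxy
        omega
      · unfold Win
        omega
  · intro x y hy
    rw [hh]
    apply siegel_entry j hj _ hc z hz0
    · intro h'
      rw [h', dualE_eI, pos_fI] at hy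
      simp only at hy
      omega
    · intro _
      refine ⟨?_, ?_⟩
      · intro h'
        rw [h', dualE_eI, pos_fI] at hy
        simp only at hy
        omega
      · unfold Win
        omega

/-- lower Siegel elements -/
theorem exists_lower (j : ℕ) (hj : j < m) (z : MI m → F) (hz0 : ∀ x, ¬ Win m j x → z x = 0) :
    ∃ h : OG m F a b, h ∈ Bminus m F a b ∧
      (∀ x y : MI m, pos m y < j → mat h x y = (1 : Matrix (MI m) (MI m) F) x y) ∧
      ∀ v : MI m → F, mat h *ᵥ v = v + v (eI ⟨j, hj⟩) • z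
        - (polar (qf m F a b) v z + qf m F a b z * v (eI ⟨j, hj⟩)) • Pi.single (fI ⟨j, hj⟩) 1 := by
  have hc : pos m (fI ⟨j, hj⟩ : MI m) ≠ m := by
    rw [pos_fI]
    simp only
    omega
  have hcw : ¬ Win m j (fI ⟨j, hj⟩ : MI m) := by
    unfold Win
    rw [pos_fI]
    simp
  obtain ⟨h, hh, hact⟩ := exists_siegel (a := a) (b := b) j hj (fI ⟨j, hj⟩) hc hcw z hz0
  refine ⟨h, ?_, ?_, hact⟩
  · rw [mem_Bminus_iff]
    intro x y hxy
    rw [hh, siegel_entry j hj _ hc z hz0, Matrix.one_apply_ne]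
    · intro h'
      rw [h'] at hxy
      exact lt_irrefl _ hxy
    · intro hy
      rw [hy, dualE_fI, pos_eI] at hxy
      unfold Win
      simp only at hxy
      omega
    · intro hx
      rw [hx, pos_fI] at hxy
      simp only at hxy
      have := pos_le y
      refine ⟨?_, ?_⟩
      · intro hy
        rw [hy, dualE_fI, pos_eI] at hxy
        simp only at hxy
        omega
      · unfold Win
        omega
  · intro x y hy
    rw [hh]
    apply siegel_entry j hj _ hc z hz0
    · intro h'
      rw [h', dualE_fI, pos_eI] at hy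
      simp only at hy
      omega
    · intro _
      refine ⟨?_, ?_⟩
      · intro h'
        rw [h', dualE_fI, pos_eI] at hy
        simp only at hy
        omega
      · unfold Win
        omega

/-! ### coordinates via the polar form -/

theorem pos_dualE_ne (x : MI m) (hx : pos m x ≠ m) : pos m (dualE m x) ≠ m := by
  rw [pos_dualE]
  have := pos_le x
  omega

theorem coord_eq_polar (v : MI m → F) (x : MI m) (hx : pos m x ≠ m) :
    v x = polar (qf m F a b) v (Pi.single (dualE m x) 1) := by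
  rw [bf_single v _ (pos_dualE_ne x hx), dualE_dualE]

theorem mat_apply_col (g : OG m F a b) (x y : MI m) :
    mat g x y = (mat g *ᵥ Pi.single y 1) x := by
  classical
  rw [Matrix.mulVec_single_one]
  rfl

/-- an entry of `g` vanishes if suitable entries of `g⁻¹` vanish -/
theorem mat_eq_zero_of_inv (g : OG m F a b) (x y : MI m) (hx : pos m x ≠ m)
    (h : ∀ x', pos m x' = 2 * m - pos m y → mat g⁻¹ x' (dualE m x) = 0) : mat g x y = 0 := by
  classical
  rw [mat_apply_col g x y, coord_eq_polar (a := a) (b := b) (mat g *ᵥ Pi.single y 1) x hx]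
  have h1 := polar_mulVec g (Pi.single y 1) (mat g⁻¹ *ᵥ Pi.single (dualE m x) 1)
  rw [Matrix.mulVec_mulVec, mat_mul_mat_inv, Matrix.one_mulVec] at h1
  rw [h1, polar_comm]
  apply bf_single_eq_zero
  intro x' hx'
  rw [← mat_apply_col]
  exact h x' hx'

theorem eq_eI_of_pos_lt (y : MI m) (hy : pos m y < m) : ∃ i : Fin m, y = eI i ∧ i.val = pos m y := by
  rcases y with (y | y) | y
  · exact ⟨y, rfl, rfl⟩
  · exfalso
    have := y.2
    simp only [pos] at hy
    omega
  · exfalso
    simp only [pos] at hy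
    omega

/-! ### flags -/

theorem mem_flag_iff (j : ℕ) (hj : j ≤ m) (g : OG m F a b) :
    g ∈ FlagStab m F a b j ↔ g ∈ triSub m F a b (fun x : MI m => min (pos m x) j) := by
  constructor
  · intro h
    show (mat g).BlockTriangular (fun x : MI m => min (pos m x) j)
    intro x y hxy
    have hxy' : min (pos m y) j < min (pos m x) j := hxy
    have h2 : pos m y < j ∧ pos m y < pos m x := by
      simp only [lt_min_iff, min_lt_iff] at hxy'
      omega
    obtain ⟨i, hi, hiv⟩ := eq_eI_of_pos_lt y (by omega)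
    rw [hi]
    exact h i (by omega) x (by omega)
  · intro h
    have h' : (mat g).BlockTriangular (fun x : MI m => min (pos m x) j) := h
    show ∀ i : Fin m, i.val < j → ∀ x : MI m, i.val < pos m x → mat g x (eI i) = 0
    intro i hi x hx
    apply h'
    show min (pos m (eI i)) j < min (pos m x) j
    rw [pos_eI]
    simp only [lt_min_iff, min_lt_iff]
    omega

theorem flag_mul (j : ℕ) (hj : j ≤ m) (g h : OG m F a b) (hg : g ∈ FlagStab m F a b j)
    (hh : h ∈ FlagStab m F a b j) : h * g ∈ FlagStab m F a b j :=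
  (mem_flag_iff j hj _).2
    (Subgroup.mul_mem _ ((mem_flag_iff j hj h).1 hh) ((mem_flag_iff j hj g).1 hg))

theorem flag_inv (j : ℕ) (hj : j ≤ m) (g : OG m F a b) (hg : g ∈ FlagStab m F a b j) :
    g⁻¹ ∈ FlagStab m F a b j :=
  (mem_flag_iff j hj _).2 (Subgroup.inv_mem _ ((mem_flag_iff j hj g).1 hg))

theorem flag_of_fix (j : ℕ) (h : OG m F a b)
    (hfix : ∀ x y : MI m, pos m y < j → mat h x y = (1 : Matrix (MI m) (MI m) F) x y) :
    h ∈ FlagStab m F a b j := by
  show ∀ i : Fin m, i.val < j → ∀ x : MI m, i.val < pos m x → mat h x (eI i) = 0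
  intro i hi x hx
  rw [hfix x (eI i) (by rw [pos_eI]; exact hi), Matrix.one_apply_ne]
  intro h'
  rw [h', pos_eI] at hx
  exact lt_irrefl _ hx

/-- `FlagStab m ⊆ B` -/
theorem flagStab_top_subset_B_core (g : OG m F a b) (hg : g ∈ FlagStab m F a b m) :
    g ∈ Bsub m F a b := by
  have hginv := flag_inv m le_rfl g hg
  rw [mem_Bsub_iff]
  intro x y hxy
  by_cases hy : pos m y < m
  · obtain ⟨i, hi, hiv⟩ := eq_eI_of_pos_lt y hy
    rw [hi]
    exact hg i (by omega) x (by omega)
  · have hpx := pos_le x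
    have hpy := pos_le y
    apply mat_eq_zero_of_inv g x y (by omega)
    intro x' hx'
    obtain ⟨l, hl, hlv⟩ := eq_eI_of_pos_lt (dualE m x) (by rw [pos_dualE]; omega)
    rw [hl]
    apply hginv l l.2 x'
    rw [hlv, pos_dualE, hx']
    omega

theorem finish (j : ℕ) (hj : j < m) (g h : OG m F a b) (hg : g ∈ FlagStab m F a b j)
    (hh : h ∈ FlagStab m F a b j)
    (hkill : ∀ x, j < pos m x → (mat h *ᵥ (mat g *ᵥ Pi.single (eI ⟨j, hj⟩) 1)) x = 0) :
    h * g ∈ FlagStab m F a b (j + 1) := by
  have hhg := flag_mul j (le_of_lt hj) g h hg hh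
  show ∀ i : Fin m, i.val < j + 1 → ∀ x : MI m, i.val < pos m x → mat (h * g) x (eI i) = 0
  intro i hi x hx
  by_cases hij : i.val < j
  · exact hhg i hij x hx
  · have hij' : i = ⟨j, hj⟩ := Fin.ext (by simp only; omega)
    rw [hij'] at hx ⊢
    have := hkill x hx
    rw [Matrix.mulVec_mulVec, ← mat_mul, ← mat_apply_col] at this
    exact this

/-! ### step A: `w (e_j) ≠ 0` -/

theorem stepA (j : ℕ) (hj : j < m) (w : MI m → F)
    (hW1 : ∀ x, 2 * m - j < pos m x → w x = 0) (hW2 : qf m F a b w = 0)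
    (hwj : w (eI ⟨j, hj⟩) ≠ 0) :
    ∃ h : OG m F a b, h ∈ Bminus m F a b ∧
      (∀ x y : MI m, pos m y < j → mat h x y = (1 : Matrix (MI m) (MI m) F) x y) ∧
      ∀ x, j < pos m x → (mat h *ᵥ w) x = 0 := by
  classical
  obtain ⟨w0, hw0⟩ : ∃ w0 : MI m → F, w0 = fun x => if Win m j x then w x else 0 := ⟨_, rfl⟩
  have hw0_in : ∀ x, Win m j x → w0 x = w x := by
    intro x h
    rw [hw0]
    exact if_pos h
  have hw0_out : ∀ x, ¬ Win m j x → w0 x = 0 := by
    intro x h
    rw [hw0]
    exact if_neg h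
  obtain ⟨N, hN⟩ : ∃ N : F, N = qf m F a b w0 := ⟨_, rfl⟩
  obtain ⟨A, hA⟩ : ∃ A : F, A = w (eI ⟨j, hj⟩) := ⟨_, rfl⟩
  obtain ⟨R, hR⟩ : ∃ R : F, R = w (fI ⟨j, hj⟩) := ⟨_, rfl⟩
  have hwin_e : ∀ i : Fin m, j < i.val → Win m j (eI i) := by
    intro i hi
    unfold Win
    rw [pos_eI]
    have := i.2
    omega
  have hwin_f : ∀ i : Fin m, j < i.val → Win m j (fI i) := by
    intro i hi
    unfold Win
    rw [pos_fI]
    have := i.2
    omega
  have hnwin_e : ∀ i : Fin m, i.val ≤ j → ¬ Win m j (eI i) := by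
    intro i hi
    unfold Win
    rw [pos_eI]
    omega
  have hnwin_f : ∀ i : Fin m, i.val ≤ j → ¬ Win m j (fI i) := by
    intro i hi
    unfold Win
    rw [pos_fI]
    omega
  -- (I1)
  have hI1 : qf m F a b w = A * R + N := by
    rw [hN, qf_apply, qf_apply, hw0_in _ (win_zI j hj 0), hw0_in _ (win_zI j hj 1)]
    have hpt : ∀ i : Fin m, w (eI i) * w (fI i) =
        w0 (eI i) * w0 (fI i) + (if i = ⟨j, hj⟩ then A * R else 0) := by
      intro i
      rcases lt_trichotomy i.val j with h | h | h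
      · have h1 : w (fI i) = 0 := hW1 _ (by rw [pos_fI]; have := i.2; omega)
        rw [h1, mul_zero, hw0_out _ (hnwin_e i (le_of_lt h)), zero_mul,
          if_neg (fun h' => by rw [h'] at h; exact lt_irrefl _ h), add_zero]
      · have hi : i = ⟨j, hj⟩ := Fin.ext h
        rw [if_pos hi, hw0_out _ (hnwin_e i (le_of_eq h)), zero_mul, zero_add, hi, ← hA, ← hR]
      · rw [hw0_in _ (hwin_e i h), hw0_in _ (hwin_f i h),
          if_neg (fun h' => by rw [h'] at h; exact lt_irrefl _ h), add_zero]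
    rw [Finset.sum_congr rfl (fun i _ => hpt i), Finset.sum_add_distrib]
    simp only [Finset.sum_ite_eq', Finset.mem_univ, if_true]
    ring
  -- (I2)
  have hI2 : polar (qf m F a b) w w0 = 2 * N := by
    rw [hN, bf_apply, qf_apply, hw0_in _ (win_zI j hj 0), hw0_in _ (win_zI j hj 1)]
    have hpt : ∀ i : Fin m, w (eI i) * w0 (fI i) + w (fI i) * w0 (eI i) =
        2 * (w0 (eI i) * w0 (fI i)) := by
      intro i
      by_cases h : j < i.val
      · rw [hw0_in _ (hwin_e i h), hw0_in _ (hwin_f i h)]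
        ring
      · have h' : i.val ≤ j := Nat.le_of_not_lt h
        rw [hw0_out _ (hnwin_e i h'), hw0_out _ (hnwin_f i h')]
        ring
    rw [Finset.sum_congr rfl (fun i _ => hpt i), ← Finset.mul_sum]
    ring
  have hiso : A * R + N = 0 := by rw [← hI1, hW2]
  have hA0 : A ≠ 0 := by rw [hA]; exact hwj
  obtain ⟨c, hc⟩ : ∃ c : F, c = -A⁻¹ := ⟨_, rfl⟩
  have hz0 : ∀ x, ¬ Win m j x → (c • w0) x = 0 := by
    intro x hx
    rw [Pi.smul_apply, hw0_out x hx, smul_zero]
  obtain ⟨h, hB, hfix, hact⟩ := exists_lower (a := a) (b := b) j hj (c • w0) hz0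
  refine ⟨h, hB, hfix, ?_⟩
  intro x hx
  rw [hact, polar_smul_right, hI2, QuadraticMap.map_smul, ← hN, ← hA]
  simp only [Pi.add_apply, Pi.sub_apply, Pi.smul_apply, smul_eq_mul]
  rcases lt_trichotomy (pos m x) (2 * m - j) with h' | h' | h'
  · have hxw : Win m j x := ⟨hx, h'⟩
    have hxne : x ≠ fI ⟨j, hj⟩ := by
      intro h''
      rw [h'', pos_fI] at h'
      exact lt_irrefl _ h'
    rw [hw0_in x hxw, Pi.single_eq_of_ne hxne, mul_zero, sub_zero, hc]
    field_simp
    ring
  · have hxe : x = fI ⟨j, hj⟩ := by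
      rcases pos_eq_imp m x (fI ⟨j, hj⟩) (by rw [pos_fI]; exact h') with h'' | ⟨h1, _⟩
      · exact h''
      · omega
    rw [hxe, hw0_out _ (hnwin_f ⟨j, hj⟩ (le_refl _)), Pi.single_eq_same, ← hR, hc]
    field_simp
    linear_combination hiso
  · have hxne : x ≠ fI ⟨j, hj⟩ := by
      intro h''
      rw [h'', pos_fI] at h'
      exact lt_irrefl _ h'
    rw [hW1 x h', hw0_out x (fun hh => by unfold Win at hh; omega), Pi.single_eq_of_ne hxne]
    ring

/-! ### step B: `w (e_j) = 0`, some higher coordinate is nonzero -/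

theorem stepB_aux (j : ℕ) (hj : j < m) (w : MI m → F)
    (hW1 : ∀ x, 2 * m - j < pos m x → w x = 0) (hwj : w (eI ⟨j, hj⟩) = 0) (z : MI m → F)
    (hz0 : ∀ x, ¬ Win m j x → z x = 0)
    (hne : polar (qf m F a b) w z + qf m F a b z * w (fI ⟨j, hj⟩) ≠ 0) :
    ∃ h : OG m F a b, h ∈ Bsub m F a b ∧
      (∀ x y : MI m, pos m y < j → mat h x y = (1 : Matrix (MI m) (MI m) F) x y) ∧
      (∀ x, 2 * m - j < pos m x → (mat h *ᵥ w) x = 0) ∧ (mat h *ᵥ w) (eI ⟨j, hj⟩) ≠ 0 := by
  classical
  obtain ⟨h, hB, hfix, hact⟩ := exists_upper (a := a) (b := b) j hj z hz0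
  refine ⟨h, hB, hfix, ?_, ?_⟩
  · intro x hx
    rw [hact]
    simp only [Pi.add_apply, Pi.sub_apply, Pi.smul_apply, smul_eq_mul]
    have hxne : x ≠ eI ⟨j, hj⟩ := by
      intro h''
      rw [h'', pos_eI] at hx
      simp only at hx
      omega
    rw [hW1 x hx, hz0 x (fun hh => by unfold Win at hh; omega), Pi.single_eq_of_ne hxne]
    ring
  · rw [hact]
    simp only [Pi.add_apply, Pi.sub_apply, Pi.smul_apply, smul_eq_mul]
    rw [hwj, hz0 _ (fun hh => by unfold Win at hh; rw [pos_eI] at hh; simp only at hh; omega),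
      Pi.single_eq_same, mul_zero, zero_add, zero_sub, mul_one]
    exact neg_ne_zero.mpr hne

/-- a vector of the anisotropic plane -/
def zvec (s t : F) : MI m → F := s • Pi.single (zI 0) 1 + t • Pi.single (zI 1) 1

theorem zvec_zI0 (s t : F) : (zvec s t : MI m → F) (zI 0) = s := by
  classical
  unfold zvec
  simp

theorem zvec_zI1 (s t : F) : (zvec s t : MI m → F) (zI 1) = t := by
  classical
  unfold zvec
  simp

theorem zvec_of_ne (s t : F) (x : MI m) (hx : pos m x ≠ m) : (zvec s t : MI m → F) x = 0 := by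
  classical
  unfold zvec
  have h0 : x ≠ zI 0 := fun h => hx (h ▸ rfl)
  have h1 : x ≠ zI 1 := fun h => hx (h ▸ rfl)
  simp [Pi.single_eq_of_ne h0, Pi.single_eq_of_ne h1]

theorem qf_zvec (s t : F) : qf m F a b (zvec s t) = phi a b s t := by
  rw [qf_apply, zvec_zI0, zvec_zI1]
  have : ∑ i : Fin m, (zvec s t : MI m → F) (eI i) * (zvec s t : MI m → F) (fI i) = 0 := by
    apply Finset.sum_eq_zero
    intro i _
    rw [zvec_of_ne s t (eI i) (by rw [pos_eI]; have := i.2; omega), zero_mul]
  rw [this, zero_add]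
  rfl

theorem polar_zvec (w : MI m → F) (s t : F) :
    polar (qf m F a b) w (zvec s t) =
      s * (2 * w (zI 0) + a * w (zI 1)) + t * (a * w (zI 0) + 2 * b * w (zI 1)) := by
  unfold zvec
  rw [polar_add_right, polar_smul_right, polar_smul_right, bf_single_z0, bf_single_z1]
  simp only [smul_eq_mul]

theorem stepB (hanis : ∀ s t : F, phi a b s t = 0 → s = 0 ∧ t = 0) (j : ℕ) (hj : j < m)
    (w : MI m → F) (hW1 : ∀ x, 2 * m - j < pos m x → w x = 0) (hW2 : qf m F a b w = 0)
    (hwj : w (eI ⟨j, hj⟩) = 0) (hex : ∃ x, j < pos m x ∧ w x ≠ 0) :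
    ∃ h : OG m F a b, h ∈ Bsub m F a b ∧
      (∀ x y : MI m, pos m y < j → mat h x y = (1 : Matrix (MI m) (MI m) F) x y) ∧
      (∀ x, 2 * m - j < pos m x → (mat h *ᵥ w) x = 0) ∧ (mat h *ᵥ w) (eI ⟨j, hj⟩) ≠ 0 := by
  classical
  by_cases hwr : w (fI ⟨j, hj⟩) = 0
  · -- some window coordinate off the anisotropic plane is nonzero
    by_cases hnz : ∃ x, Win m j x ∧ pos m x ≠ m ∧ w x ≠ 0
    · obtain ⟨x, hxw, hxm, hwx⟩ := hnz
      apply stepB_aux j hj w hW1 hwj (Pi.single (dualE m x) 1)
      · intro y hy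
        apply Pi.single_eq_of_ne
        intro h'
        rw [h'] at hy
        exact hy ((win_dual j x).2 hxw)
      · rw [hwr, mul_zero, add_zero, bf_single w _ (pos_dualE_ne x hxm), dualE_dualE]
        exact hwx
    · exfalso
      push Not at hnz
      -- then `Q w = φ(w z_0, w z_1)`
      have hq : qf m F a b w = phi a b (w (zI 0)) (w (zI 1)) := by
        rw [qf_apply]
        have : ∑ i : Fin m, w (eI i) * w (fI i) = 0 := by
          apply Finset.sum_eq_zero
          intro i _
          rcases lt_trichotomy i.val j with h | h | h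
          · have h1 : w (fI i) = 0 := hW1 _ (by rw [pos_fI]; have := i.2; omega)
            rw [h1, mul_zero]
          · have hi : i = ⟨j, hj⟩ := Fin.ext h
            rw [hi, hwj, zero_mul]
          · have h1 : w (eI i) = 0 := by
              apply hnz
              · unfold Win
                rw [pos_eI]
                have := i.2
                omega
              · rw [pos_eI]
                have := i.2
                omega
            rw [h1, zero_mul]
        rw [this, zero_add]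
        rfl
      rw [hW2] at hq
      obtain ⟨h0, h1⟩ := hanis _ _ hq.symm
      obtain ⟨x, hx, hwx⟩ := hex
      have hxw : Win m j x := by
        refine ⟨hx, ?_⟩
        rcases lt_trichotomy (pos m x) (2 * m - j) with h' | h' | h'
        · exact h'
        · exfalso
          have hxe : x = fI ⟨j, hj⟩ := by
            rcases pos_eq_imp m x (fI ⟨j, hj⟩) (by rw [pos_fI]; exact h') with h'' | ⟨h1, _⟩
            · exact h''
            · omega
          rw [hxe] at hwx
          exact hwx hwr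
        · exact absurd (hW1 x h') hwx
      by_cases hxm : pos m x = m
      · obtain ⟨k, hk⟩ := (pos_eq_m_iff' x).1 hxm
        have hk' : k = 0 ∨ k = 1 := by
          rcases k with ⟨k, hk2⟩
          interval_cases k
          · left; rfl
          · right; rfl
        rcases hk' with rfl | rfl
        · rw [hk] at hwx
          exact hwx h0
        · rw [hk] at hwx
          exact hwx h1
      · exact hwx (hnz x hxw hxm)
  · -- `R ≠ 0`: a vector of the plane in the kernel of `polar w`
    obtain ⟨l0, hl0⟩ : ∃ l0 : F, l0 = 2 * w (zI 0) + a * w (zI 1) := ⟨_, rfl⟩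
    obtain ⟨l1, hl1⟩ : ∃ l1 : F, l1 = a * w (zI 0) + 2 * b * w (zI 1) := ⟨_, rfl⟩
    have hsupp : ∀ s t : F, ∀ x, ¬ Win m j x → (zvec s t : MI m → F) x = 0 := by
      intro s t x hx
      apply zvec_of_ne
      intro h'
      exact hx (win_of_pos_eq j hj x h')
    by_cases hl : l0 = 0 ∧ l1 = 0
    · apply stepB_aux j hj w hW1 hwj (zvec 1 0) (hsupp 1 0)
      rw [polar_zvec, ← hl0, ← hl1, hl.1, hl.2, qf_zvec]
      intro h0
      have h3 : phi a b (1 : F) 0 = 0 := by
        have h5 : phi a b (1 : F) 0 * w (fI ⟨j, hj⟩) = 0 := by linear_combination h0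
        rcases mul_eq_zero.mp h5 with h4 | h4
        · exact h4
        · exact absurd h4 hwr
      exact one_ne_zero (hanis _ _ h3).1
    · apply stepB_aux j hj w hW1 hwj (zvec l1 (-l0)) (hsupp _ _)
      rw [polar_zvec, ← hl0, ← hl1, qf_zvec]
      intro h0
      have h3 : phi a b l1 (-l0) = 0 := by
        have h5 : phi a b l1 (-l0) * w (fI ⟨j, hj⟩) = 0 := by linear_combination h0
        rcases mul_eq_zero.mp h5 with h4 | h4
        · exact h4
        · exact absurd h4 hwr
      obtain ⟨h6, h7⟩ := hanis _ _ h3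
      exact hl ⟨neg_eq_zero.mp h7, h6⟩

/-! ### the elimination step and the generation -/

theorem flagStab_step_core (hanis : ∀ s t : F, phi a b s t = 0 → s = 0 ∧ t = 0) (j : ℕ) (hj : j < m)
    (g : OG m F a b) (hg : g ∈ FlagStab m F a b j) :
    ∃ h ∈ Bsub m F a b ⊔ Bminus m F a b, h * g ∈ FlagStab m F a b (j + 1) := by
  classical
  obtain ⟨w, hw⟩ : ∃ w : MI m → F, w = mat g *ᵥ Pi.single (eI ⟨j, hj⟩) 1 := ⟨_, rfl⟩
  have hginv := flag_inv j (le_of_lt hj) g hg
  have hW1 : ∀ x, 2 * m - j < pos m x → w x = 0 := by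
    intro x hx
    have hpx := pos_le x
    rw [hw, ← mat_apply_col]
    apply mat_eq_zero_of_inv g x _ (by omega)
    intro x' hx'
    obtain ⟨l, hl, hlv⟩ := eq_eI_of_pos_lt (dualE m x) (by rw [pos_dualE]; omega)
    rw [hl]
    apply hginv l (by rw [hlv, pos_dualE]; omega) x'
    rw [hlv, pos_dualE, hx', pos_eI]
    simp only
    omega
  have hW2 : qf m F a b w = 0 := by
    rw [hw, qf_mulVec]
    exact qf_single _ (by rw [pos_eI]; simp only; omega)
  by_cases hall : ∀ x, j < pos m x → w x = 0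
  · refine ⟨1, Subgroup.one_mem _, ?_⟩
    apply finish j hj g 1 hg (flag_of_fix j 1 (fun x y _ => by rw [mat_one]))
    intro x hx
    rw [mat_one, Matrix.one_mulVec, ← hw]
    exact hall x hx
  · push Not at hall
    by_cases hwj : w (eI ⟨j, hj⟩) = 0
    · obtain ⟨h1, h1B, h1fix, h1W1, h1ne⟩ := stepB hanis j hj w hW1 hW2 hwj hall
      have h1W2 : qf m F a b (mat h1 *ᵥ w) = 0 := by
        rw [qf_mulVec, hW2]
      obtain ⟨h2', h2B, h2fix, h2kill⟩ := stepA j hj (mat h1 *ᵥ w) h1W1 h1W2 h1ne
      refine ⟨h2' * h1, Subgroup.mul_mem _ ((le_sup_right : Bminus m F a b ≤ _) h2B)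
        ((le_sup_left : Bsub m F a b ≤ _) h1B), ?_⟩
      have hfl : h2' * h1 ∈ FlagStab m F a b j :=
        flag_mul j (le_of_lt hj) h1 h2' (flag_of_fix j h1 h1fix) (flag_of_fix j h2' h2fix)
      apply finish j hj g (h2' * h1) hg hfl
      intro x hx
      have := h2kill x hx
      rw [Matrix.mulVec_mulVec, ← mat_mul, hw] at this
      exact this
    · obtain ⟨h2', h2B, h2fix, h2kill⟩ := stepA j hj w hW1 hW2 hwj
      refine ⟨h2', (le_sup_right : Bminus m F a b ≤ _) h2B, ?_⟩
      apply finish j hj g h2' hg (flag_of_fix j h2' h2fix)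
      intro x hx
      have := h2kill x hx
      rw [hw] at this
      exact this

theorem exists_flag (hanis : ∀ s t : F, phi a b s t = 0 → s = 0 ∧ t = 0) (g : OG m F a b) :
    ∀ j : ℕ, j ≤ m → ∃ h ∈ Bsub m F a b ⊔ Bminus m F a b, h * g ∈ FlagStab m F a b j := by
  intro j
  induction j with
  | zero =>
    intro _
    refine ⟨1, Subgroup.one_mem _, ?_⟩
    show ∀ i : Fin m, i.val < 0 → ∀ x : MI m, i.val < pos m x → mat (1 * g) x (eI i) = 0
    intro i hi
    exact absurd hi (Nat.not_lt_zero _)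
  | succ j ih =>
    intro hj
    obtain ⟨h, hh, hf⟩ := ih (by omega)
    obtain ⟨h', hh', hf'⟩ := flagStab_step_core hanis j (by omega) (h * g) hf
    refine ⟨h' * h, Subgroup.mul_mem _ hh' hh, ?_⟩
    rw [mul_assoc]
    exact hf'

theorem B_sup_Bminus (hanis : ∀ s t : F, phi a b s t = 0 → s = 0 ∧ t = 0) :
    Bsub m F a b ⊔ Bminus m F a b = ⊤ := by
  rw [eq_top_iff]
  intro g _
  obtain ⟨h, hh, hf⟩ := exists_flag hanis g m le_rfl
  have hB : h * g ∈ Bsub m F a b ⊔ Bminus m F a b :=
    (le_sup_left : Bsub m F a b ≤ _) (flagStab_top_subset_B_core _ hf)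
  have : g = h⁻¹ * (h * g) := by group
  rw [this]
  exact Subgroup.mul_mem _ (Subgroup.inv_mem _ hh) hB

end Cfsg.Agent.Lib.Helper74.StOm
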