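import Cfsg.Agent.Lib.Helper53.StOmDefs
import Cfsg.Agent.Lib.Helper74.StOmFlag

/-!
# K-StOm-C5a1 (254919) `flagStab_step` and K-StOm-C5a0 (254918) `flagStab_top_subset_B`, exact signatures
(pack for S2549, architect helper53).  The proofs are in `Lib/Helper74/StOmFlag.lean` (flags + Siegel elements).
-/

set_option autoImplicit false
set_option linter.unusedSectionVars false
set_option linter.unusedVariables false

namespace Cfsg.Agent.Lib.Helper74.StOm

open Cfsg Cfsg.Agent.Lib.Helper53.StOm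

variable {m : ℕ} {F : Type*} [Field F] {a b : F}

theorem flagStab_top_subset_B :
    FlagStab m F a b m ⊆ (Bsub m F a b : Set (OG m F a b)) :=
  fun g hg => flagStab_top_subset_B_core g hg

theorem flagStab_step (hab : ∀ z₁ z₂ : F, z₁ ^ 2 + a * z₁ * z₂ + b * z₂ ^ 2 = 0 → z₁ = 0 ∧ z₂ = 0)
    (j : ℕ) (hj : j < m) (g : OG m F a b) (hg : g ∈ FlagStab m F a b j) :
    ∃ h ∈ Bsub m F a b ⊔ Bminus m F a b, h * g ∈ FlagStab m F a b (j + 1) :=
  flagStab_step_core (fun s t h => hab s t h) j hj g hg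

end Cfsg.Agent.Lib.Helper74.StOm
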