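import Mathlib
import Cfsg.Agent.Lib.Helper56.NSE3Defs

set_option autoImplicit false

/-!
# K-NSE3 (S3996) leaf L08 `hyp_of_ncard` (parallel hand, helper74)
-/

namespace Cfsg.Agent.Lib.Helper74.NSE3

open Cfsg.Agent.S3995 (s)
open Cfsg.Agent.Lib.Helper56.NSE3 (Hyp)

variable {G : Type*} [Group G] [Finite G]

/-- L08 from the statement's hypothesis to `Hyp`. -/
theorem hyp_of_ncard
    (h : (((fun m : ℕ => Nat.card {g : G // orderOf g = m}) '' Set.range (orderOf : G → ℕ))).ncard = 3) :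
    ∃ μ ν : ℕ, Hyp G μ ν := by
  set S : Set ℕ := (fun m : ℕ => Nat.card {g : G // orderOf g = m}) '' Set.range (orderOf : G → ℕ)
    with hS
  have hmem : ∀ k, s G k ≠ 0 → s G k ∈ S := by
    intro k hk
    obtain ⟨g, hg⟩ := (Cfsg.Agent.S3995.s_ne_zero_iff k).mp hk
    exact ⟨k, ⟨g, hg⟩, rfl⟩
  obtain ⟨a, b, c, _, _, _, hSe⟩ := Set.ncard_eq_three.mp h
  have hcases : ∀ x ∈ S, x = a ∨ x = b ∨ x = c := by
    intro x hx
    rw [hSe] at hx
    simpa using hx
  have h1 : (1 : ℕ) ∈ S := by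
    have h := hmem 1 (by rw [Cfsg.Agent.S3995.s_one]; exact one_ne_zero)
    rwa [Cfsg.Agent.S3995.s_one] at h
  rcases hcases 1 h1 with h1a | h1b | h1c
  · refine ⟨b, c, fun k => ?_⟩
    by_cases hk : s G k = 0
    · exact Or.inl hk
    · rcases hcases _ (hmem k hk) with h' | h' | h'
      · exact Or.inr (Or.inl (by rw [h', h1a]))
      · exact Or.inr (Or.inr (Or.inl h'))
      · exact Or.inr (Or.inr (Or.inr h'))
  · refine ⟨a, c, fun k => ?_⟩
    by_cases hk : s G k = 0
    · exact Or.inl hk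
    · rcases hcases _ (hmem k hk) with h' | h' | h'
      · exact Or.inr (Or.inr (Or.inl h'))
      · exact Or.inr (Or.inl (by rw [h', h1b]))
      · exact Or.inr (Or.inr (Or.inr h'))
  · refine ⟨a, b, fun k => ?_⟩
    by_cases hk : s G k = 0
    · exact Or.inl hk
    · rcases hcases _ (hmem k hk) with h' | h' | h'
      · exact Or.inr (Or.inr (Or.inl h'))
      · exact Or.inr (Or.inr (Or.inr h'))
      · exact Or.inr (Or.inl (by rw [h', h1c]))

end Cfsg.Agent.Lib.Helper74.NSE3
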