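import Mathlib
import Cfsg.Agent.S0040

/-!
# Tools for "equal order pairs" `(G, N)`

* `mem_normal_sylow`: elements of `p`-power order lie in a normal Sylow `p`-subgroup.
* `exists_pPart`: the `p`-part of a normal nilpotent subgroup, as a normal `p`-subgroup of the
  whole group.
* `exists_pow_prime_pow_order`: an element outside a normal subgroup has a power outside it of
  prime power order.
* `exists_prime_ne_dvd`: a number that is not a prime power has a prime divisor different from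
  any given number.
* `cyclic_or_quaternion_of_fpf`: a form of `S0040` without the complement hypothesis.
-/

set_option autoImplicit false

namespace Cfsg.Agent.Lib.Helper74

open scoped Pointwise

/-- an element of `p`-power order lies in a normal Sylow `p`-subgroup -/
theorem mem_normal_sylow {G : Type*} [Group G] [Finite G] {p : ℕ} [Fact p.Prime] (P : Sylow p G)
    (hP : (P : Subgroup G).Normal) (x : G) (k : ℕ) (hx : orderOf x = p ^ k) :
    x ∈ (P : Subgroup G) := by
  have hz : IsPGroup p (Subgroup.zpowers x) := by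
    apply IsPGroup.of_card (n := k)
    rw [Nat.card_zpowers, hx]
  obtain ⟨Q, hQ⟩ := hz.exists_le_sylow
  have := Sylow.unique_of_normal P hP
  have hQP : Q = P := Subsingleton.elim _ _
  rw [← hQP]
  exact hQ (Subgroup.mem_zpowers x)

/-- For a normal nilpotent subgroup `M` of a finite group, the `p`-part of `M`: a normal
`p`-subgroup of `G` inside `M` containing all elements of `M` of `p`-power order. -/
theorem exists_pPart {G : Type*} [Group G] [Finite G] (M : Subgroup G) [hMn : M.Normal]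
    (hM : Group.IsNilpotent M) (p : ℕ) [Fact p.Prime] :
    ∃ Mp : Subgroup G, Mp.Normal ∧ Mp ≤ M ∧ IsPGroup p Mp ∧
      (∀ x ∈ M, ∀ k : ℕ, orderOf x = p ^ k → x ∈ Mp) ∧ (p ∣ Nat.card M → Mp ≠ ⊥) := by
  let P : Sylow p M := default
  have htfae := (Group.isNilpotent_of_finite_tfae (G := M)).out 0 3
  have hPn : (P : Subgroup M).Normal := htfae.mp hM p inferInstance P
  have hchar : (P : Subgroup M).Characteristic := Sylow.characteristic_of_normal P hPn
  refine ⟨(P : Subgroup M).map M.subtype, ConjAct.normal_of_characteristic_of_normal,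
    Subgroup.map_subtype_le _, P.isPGroup'.map _, ?_, ?_⟩
  · intro x hx k hk
    have hk' : orderOf (⟨x, hx⟩ : M) = p ^ k := by
      rw [← hk]
      exact Subgroup.orderOf_mk x hx
    exact ⟨⟨x, hx⟩, mem_normal_sylow P hPn _ k hk', rfl⟩
  · intro hdvd
    rw [Ne, Subgroup.map_eq_bot_iff_of_injective _ M.subtype_injective]
    exact P.ne_bot_of_dvd_card hdvd

/-- an element outside a normal subgroup has a power of prime power order outside it -/
theorem exists_pow_prime_pow_order {G : Type*} [Group G] [Finite G] (N : Subgroup G) [N.Normal]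
    {y : G} (hy : y ∉ N) :
    ∃ q m k : ℕ, q.Prime ∧ y ^ m ∉ N ∧ orderOf (y ^ m) = q ^ k := by
  have h1 : (QuotientGroup.mk y : G ⧸ N) ≠ 1 := by
    rwa [Ne, QuotientGroup.eq_one_iff]
  have h2 : orderOf (QuotientGroup.mk y : G ⧸ N) ≠ 1 := by
    rwa [Ne, orderOf_eq_one_iff]
  obtain ⟨q, hq, hqd⟩ := Nat.exists_prime_and_dvd h2
  have h3 : orderOf (QuotientGroup.mk y : G ⧸ N) ∣ orderOf y :=
    orderOf_map_dvd (QuotientGroup.mk' N) y
  obtain ⟨k, m, hqm, hkm⟩ :=
    Nat.exists_eq_pow_mul_and_not_dvd (orderOf_pos y).ne' q hq.ne_one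
  have hm0 : m ≠ 0 := by
    rintro rfl
    exact hqm (dvd_zero q)
  refine ⟨q, m, k, hq, ?_, ?_⟩
  · intro hmem
    have h4 : (QuotientGroup.mk y : G ⧸ N) ^ m = 1 := by
      rw [← QuotientGroup.mk_pow, QuotientGroup.eq_one_iff]
      exact hmem
    exact hqm (hqd.trans (orderOf_dvd_of_pow_eq_one h4))
  · rw [orderOf_pow_of_dvd hm0 ⟨q ^ k, by rw [hkm, mul_comm]⟩, hkm,
      Nat.mul_div_cancel _ (Nat.pos_of_ne_zero hm0)]

/-- a number that is not a prime power has a prime divisor different from `q` -/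
theorem exists_prime_ne_dvd {n : ℕ} (hn0 : n ≠ 0) (hn1 : n ≠ 1) (hnpp : ¬ IsPrimePow n) (q : ℕ) :
    ∃ p : ℕ, p.Prime ∧ p ≠ q ∧ p ∣ n := by
  by_contra h
  have h' : ∀ {d : ℕ}, d.Prime → d ∣ n → d = q := by
    intro d hd hdn
    by_contra hne
    exact h ⟨d, hd, hne, hdn⟩
  obtain ⟨r, hr, hrn⟩ := Nat.exists_prime_and_dvd hn1
  have hq : q.Prime := h' hr hrn ▸ hr
  have hpow := Nat.eq_prime_pow_of_unique_prime_dvd hn0 h'
  apply hnpp
  rw [isPrimePow_nat_iff]
  refine ⟨q, n.primeFactorsList.length, hq, ?_, hpow.symm⟩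
  rcases Nat.eq_zero_or_pos n.primeFactorsList.length with h0 | h0
  · rw [h0, pow_zero] at hpow
    exact absurd hpow hn1
  · exact h0

/-- the order of an element of a `p`-subgroup is a power of `p` -/
theorem orderOf_eq_prime_pow_of_mem {G : Type*} [Group G] {p : ℕ} [hp : Fact p.Prime]
    {H : Subgroup G} (hH : IsPGroup p H) {x : G} (hx : x ∈ H) : ∃ j : ℕ, orderOf x = p ^ j := by
  obtain ⟨k, hk⟩ := hH ⟨x, hx⟩
  have hk' : x ^ p ^ k = 1 := by
    have := congrArg Subtype.val hk
    simpa using this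
  obtain ⟨j, -, hj⟩ := (Nat.dvd_prime_pow hp.out).mp (orderOf_dvd_of_pow_eq_one hk')
  exact ⟨j, hj⟩

/-- A form of `S0040` without the complement hypothesis: a `q`-subgroup acting fixed point freely
on a nontrivial normal `p`-subgroup, `p ≠ q`, is cyclic or generalized quaternion. -/
theorem cyclic_or_quaternion_of_fpf {Γ : Type*} [Group Γ] [Finite Γ] (K H : Subgroup Γ) [K.Normal]
    (hK : K ≠ ⊥) (p q : ℕ) [Fact p.Prime] [Fact q.Prime] (hpq : p ≠ q) (hKp : IsPGroup p K)
    (hHq : IsPGroup q H)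
    (hfpf : ∀ h ∈ H, h ≠ 1 → K ⊓ Subgroup.centralizer {h} = ⊥) :
    IsCyclic H ∨ ∃ n : ℕ, Nonempty (H ≃* QuaternionGroup (2 ^ n)) := by
  set T : Subgroup Γ := K ⊔ H with hT
  have hKT : K ≤ T := le_sup_left
  have hHT : H ≤ T := le_sup_right
  set K₂ : Subgroup T := K.subgroupOf T with hK₂
  set H₂ : Subgroup T := H.subgroupOf T with hH₂
  have hK₂p : IsPGroup p K₂ := hKp.comap_subtype
  have hH₂q : IsPGroup q H₂ := hHq.comap_subtype
  have hdisj : Disjoint K₂ H₂ := IsPGroup.disjoint_of_ne p q hpq K₂ H₂ hK₂p hH₂q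
  have hsup : K₂ ⊔ H₂ = ⊤ := by
    rw [hK₂, hH₂, ← Subgroup.subgroupOf_sup hKT hHT]
    exact Subgroup.subgroupOf_self _
  have hmul : (K₂ : Set T) * (H₂ : Set T) = Set.univ := by
    rw [← Subgroup.normal_mul, hsup]
    rfl
  have hc : Subgroup.IsComplement' K₂ H₂ :=
    Subgroup.isComplement'_of_disjoint_and_mul_eq_univ hdisj hmul
  have hK₂ne : K₂ ≠ ⊥ := by
    intro h
    rw [hK₂, Subgroup.subgroupOf_eq_bot] at h
    exact hK (h.eq_bot_of_le hKT)
  have hfpf₂ : ∀ h ∈ H₂, h ≠ 1 → K₂ ⊓ Subgroup.centralizer {h} = ⊥ := by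
    intro h hh hh1
    rw [eq_bot_iff]
    intro x hx
    have hxK : (x : Γ) ∈ K := hx.1
    have hxc : x ∈ Subgroup.centralizer ({h} : Set T) := hx.2
    have hcomm : x * h = h * x := Subgroup.mem_centralizer_singleton_iff.mp hxc
    have hmem : (x : Γ) ∈ K ⊓ Subgroup.centralizer {(h : Γ)} := by
      refine ⟨hxK, ?_⟩
      apply Subgroup.mem_centralizer_singleton_iff.mpr
      have := congrArg Subtype.val hcomm
      simpa using this
    have hh1' : (h : Γ) ≠ 1 := fun h0 => hh1 (Subtype.ext h0)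
    rw [hfpf (h : Γ) hh hh1', Subgroup.mem_bot] at hmem
    rw [Subgroup.mem_bot]
    exact Subtype.ext hmem
  obtain ⟨P, hP⟩ := (hH₂q.to_subgroup (⊤ : Subgroup H₂)).exists_le_sylow
  have hPtop : (P : Subgroup H₂) = ⊤ := top_le_iff.mp hP
  have e : (P : Subgroup H₂) ≃* H :=
    ((MulEquiv.subgroupCongr hPtop).trans Subgroup.topEquiv).trans
      (Subgroup.subgroupOfEquivOfLe hHT)
  rcases Cfsg.Agent.S0040.result K₂ H₂ hc hK₂ne hfpf₂ q P with hcyc | ⟨n, ⟨f⟩⟩
  · left
    exact e.isCyclic.mp hcyc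
  · right
    exact ⟨n, ⟨e.symm.trans f⟩⟩

end Cfsg.Agent.Lib.Helper74
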