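import Mathlib

/-!
# K-OQF pack (S5977, architect helper72), keystone 597708 (K-OQF-FRa): `exists_eigen_frame`

Eigen-frame of an isometric involution of determinant `1` in characteristic `≠ 2`: an orthogonal
basis of eigenvectors, grouped in pairs with a common eigenvalue.
-/

set_option autoImplicit false
set_option linter.unusedSectionVars false
set_option linter.unusedVariables false

namespace Cfsg.Agent.Lib.Helper74.OQF

variable {F : Type*} [Field F]

section Eig

variable {V : Type*} [AddCommGroup V] [Module F V]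

/-- the `+1`-eigenspace -/
def eigP (x : V →ₗ[F] V) : Submodule F V := LinearMap.ker (x - 1)

/-- the `-1`-eigenspace -/
def eigM (x : V →ₗ[F] V) : Submodule F V := LinearMap.ker (x + 1)

theorem mem_eigP {x : V →ₗ[F] V} {v : V} : v ∈ eigP x ↔ x v = v := by
  unfold eigP
  rw [LinearMap.mem_ker, LinearMap.sub_apply, Module.End.one_apply, sub_eq_zero]

theorem mem_eigM {x : V →ₗ[F] V} {v : V} : v ∈ eigM x ↔ x v = -v := by
  unfold eigM
  rw [LinearMap.mem_ker, LinearMap.add_apply, Module.End.one_apply, add_eq_zero_iff_eq_neg]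

theorem isCompl_eig (h2 : (2 : F) ≠ 0) {x : V →ₗ[F] V} (hx2 : ∀ v, x (x v) = v) :
    IsCompl (eigP x) (eigM x) := by
  constructor
  · rw [Submodule.disjoint_def]
    intro v hp hm
    rw [mem_eigP] at hp
    rw [mem_eigM] at hm
    have h1 : v = -v := by rw [← hm]; exact hp.symm
    have h3 : (2 : F) • v = 0 := by
      rw [two_smul]
      nth_rewrite 1 [h1]
      exact neg_add_cancel v
    exact (smul_eq_zero.mp h3).resolve_left h2
  · rw [codisjoint_iff, eq_top_iff]
    intro v _
    rw [Submodule.mem_sup]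
    refine ⟨(2 : F)⁻¹ • (v + x v), ?_, (2 : F)⁻¹ • (v - x v), ?_, ?_⟩
    · rw [mem_eigP, map_smul, map_add, hx2, add_comm]
    · rw [mem_eigM, map_smul, map_sub, hx2, ← smul_neg, neg_sub]
    · rw [← smul_add]
      have h3 : v + x v + (v - x v) = (2 : F) • v := by
        rw [two_smul]; abel
      rw [h3, smul_smul, inv_mul_cancel₀ h2, one_smul]

theorem polar_map_map {Q : QuadraticForm F V} {x : V →ₗ[F] V} (hxQ : ∀ v, Q (x v) = Q v)
    (u w : V) : QuadraticMap.polar (⇑Q) (x u) (x w) = QuadraticMap.polar (⇑Q) u w := by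
  unfold QuadraticMap.polar
  rw [← map_add, hxQ, hxQ, hxQ]

theorem polar_eig_zero (h2 : (2 : F) ≠ 0) {Q : QuadraticForm F V} {x : V →ₗ[F] V}
    (hxQ : ∀ v, Q (x v) = Q v) {u w : V} (hu : u ∈ eigP x) (hw : w ∈ eigM x) :
    QuadraticMap.polar (⇑Q) u w = 0 := by
  have h := polar_map_map hxQ u w
  rw [mem_eigP.mp hu, mem_eigM.mp hw, QuadraticMap.polar_neg_right] at h
  have h3 : (2 : F) * QuadraticMap.polar (⇑Q) u w = 0 := by
    rw [two_mul]
    nth_rewrite 1 [← h]
    exact neg_add_cancel _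
  exact (mul_eq_zero.mp h3).resolve_left h2

end Eig

/-- the core of `exists_eigen_frame`: given orthogonal bases of the two eigenspaces -/
theorem eigen_frame_core {V : Type*} [AddCommGroup V] [Module F V] [FiniteDimensional F V] (h2 : (2 : F) ≠ 0)
    (Q : QuadraticForm F V) (x : V →ₗ[F] V)
    (hxQ : ∀ v, Q (x v) = Q v) (hx2 : ∀ v, x (x v) = v) (hdet : LinearMap.det x = 1)
    (d : ℕ) (nP nM : ℕ) (hsum : nP + nM = 2 * d)
    (vP : Module.Basis (Fin nP) F (eigP x)) (vM : Module.Basis (Fin nM) F (eigM x))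
    (hvP : ∀ i j, i ≠ j → QuadraticMap.polar (⇑Q) (vP i : V) (vP j : V) = 0)
    (hvM : ∀ i j, i ≠ j → QuadraticMap.polar (⇑Q) (vM i : V) (vM j : V) = 0) :
    ∃ (b : Module.Basis (Fin d × Fin 2) F V) (ε : Fin d → F), (∀ k, ε k = 1 ∨ ε k = -1) ∧
      (∀ k i, x (b (k, i)) = ε k • b (k, i)) ∧
      ∀ p p', p ≠ p' → QuadraticMap.polar (⇑Q) (b p) (b p') = 0 := by
  classical
  have hc : IsCompl (eigP x) (eigM x) := isCompl_eig h2 hx2
  -- the combined basis
  let b₀ : Module.Basis (Fin nP ⊕ Fin nM) F V :=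
    (vP.prod vM).map (Submodule.prodEquivOfIsCompl _ _ hc)
  have hb₀l : ∀ i, b₀ (Sum.inl i) = (vP i : V) := by
    intro i
    simp [b₀]
  have hb₀r : ∀ j, b₀ (Sum.inr j) = (vM j : V) := by
    intro j
    simp [b₀]
  have hxl : ∀ i, x (b₀ (Sum.inl i)) = b₀ (Sum.inl i) := by
    intro i; rw [hb₀l]; exact mem_eigP.mp (vP i).2
  have hxr : ∀ j, x (b₀ (Sum.inr j)) = -b₀ (Sum.inr j) := by
    intro j; rw [hb₀r]; exact mem_eigM.mp (vM j).2
  -- orthogonality of the combined basis
  have horth₀ : ∀ s s', s ≠ s' → QuadraticMap.polar (⇑Q) (b₀ s) (b₀ s') = 0 := by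
    intro s s' hss
    rcases s with i | i <;> rcases s' with j | j
    · rw [hb₀l, hb₀l]
      exact hvP i j (fun h => hss (by rw [h]))
    · rw [hb₀l, hb₀r]
      exact polar_eig_zero h2 hxQ (vP i).2 (vM j).2
    · rw [hb₀r, hb₀l, QuadraticMap.polar_comm]
      exact polar_eig_zero h2 hxQ (vP j).2 (vM i).2
    · rw [hb₀r, hb₀r]
      exact hvM i j (fun h => hss (by rw [h]))
  -- the determinant
  let s : Fin nP ⊕ Fin nM → F := Sum.elim (fun _ => 1) (fun _ => -1)
  have hxs : ∀ t, x (b₀ t) = s t • b₀ t := by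
    intro t
    rcases t with i | j
    · rw [hxl]; simp [s]
    · rw [hxr]; simp [s]
  have hmat : LinearMap.toMatrix b₀ b₀ x = Matrix.diagonal s := by
    ext i j
    rw [LinearMap.toMatrix_apply, hxs, map_smul, Module.Basis.repr_self, Finsupp.smul_apply,
      Finsupp.single_apply, Matrix.diagonal_apply]
    by_cases h : j = i
    · subst h; simp
    · rw [if_neg h, if_neg (fun h' => h h'.symm)]; simp
  have hd2 : LinearMap.det x = (-1 : F) ^ nM := by
    rw [← LinearMap.det_toMatrix b₀, hmat, Matrix.det_diagonal, Fintype.prod_sum_type]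
    simp [s]
  have hdet' : (-1 : F) ^ nM = 1 := by
    rw [← hd2]; exact hdet
  have hMeven : Even nM := by
    rcases Nat.even_or_odd nM with h | h
    · exact h
    · exfalso
      rw [h.neg_one_pow] at hdet'
      apply h2
      have : (2 : F) = 1 - (-1) := by norm_num
      rw [this, hdet', sub_self]
  have hPeven : Even nP := by
    have h1 : Even (nP + nM) := by rw [hsum]; exact even_two_mul d
    exact (Nat.even_add.mp h1).mpr hMeven
  obtain ⟨a, ha⟩ := hPeven
  obtain ⟨c, hcc⟩ := hMeven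
  have hda : d = a + c := by omega
  have haP : a * 2 = nP := by omega
  have hcM : c * 2 = nM := by omega
  -- index bookkeeping
  let e1 : Fin d ≃ Fin a ⊕ Fin c := (finCongr hda).trans finSumFinEquiv.symm
  let eP : Fin a × Fin 2 ≃ Fin nP := finProdFinEquiv.trans (finCongr haP)
  let eM : Fin c × Fin 2 ≃ Fin nM := finProdFinEquiv.trans (finCongr hcM)
  let E : Fin d × Fin 2 ≃ Fin nP ⊕ Fin nM :=
    (Equiv.prodCongr e1 (Equiv.refl (Fin 2))).trans
      ((Equiv.sumProdDistrib (Fin a) (Fin c) (Fin 2)).trans (Equiv.sumCongr eP eM))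
  let b : Module.Basis (Fin d × Fin 2) F V := b₀.reindex E.symm
  have hb : ∀ p, b p = b₀ (E p) := by
    intro p
    simp [b, Module.Basis.reindex_apply]
  let ε : Fin d → F := fun k => Sum.elim (fun _ => (1 : F)) (fun _ => (-1 : F)) (e1 k)
  refine ⟨b, ε, ?_, ?_, ?_⟩
  · intro k
    rcases h : e1 k with k' | k'
    · left; simp [ε, h]
    · right; simp [ε, h]
  · intro k i
    rw [hb]
    rcases h : e1 k with k' | k'
    · have hE : E (k, i) = Sum.inl (eP (k', i)) := by
        simp [E, h]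
      have hε : ε k = 1 := by simp [ε, h]
      rw [hE, hxl, hε, one_smul]
    · have hE : E (k, i) = Sum.inr (eM (k', i)) := by
        simp [E, h]
      have hε : ε k = -1 := by simp [ε, h]
      rw [hE, hxr, hε, neg_smul, one_smul]
  · intro p p' hpp
    rw [hb, hb]
    exact horth₀ _ _ (fun h => hpp (E.injective h))

/-- K-OQF-FRa (597708).  Eigen-frame of an involution of determinant `1`. -/
theorem exists_eigen_frame {V : Type*} [AddCommGroup V] [Module F V] [FiniteDimensional F V] (h2 : (2 : F) ≠ 0)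
    (Q : QuadraticForm F V) (hQ : (QuadraticMap.polarBilin Q).Nondegenerate) (x : V →ₗ[F] V)
    (hxQ : ∀ v, Q (x v) = Q v) (hx2 : ∀ v, x (x v) = v) (hdet : LinearMap.det x = 1)
    (d : ℕ) (hd : Module.finrank F V = 2 * d) :
    ∃ (b : Module.Basis (Fin d × Fin 2) F V) (ε : Fin d → F), (∀ k, ε k = 1 ∨ ε k = -1) ∧
      (∀ k i, x (b (k, i)) = ε k • b (k, i)) ∧
      ∀ p p', p ≠ p' → QuadraticMap.polar (⇑Q) (b p) (b p') = 0 := by
  classical
  letI : Invertible (2 : F) := invertibleOfNonzero h2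
  let B : LinearMap.BilinForm F V := QuadraticMap.polarBilin Q
  have hBapp : ∀ u w, B u w = QuadraticMap.polar (⇑Q) u w := fun u w => rfl
  have hBsymm : ∀ u w, B u w = B w u := fun u w => by
    simp only [hBapp]; exact QuadraticMap.polar_comm _ _ _
  have hc : IsCompl (eigP x) (eigM x) := isCompl_eig h2 hx2
  have hsP : LinearMap.IsSymm (B.restrict (eigP x)) :=
    LinearMap.isSymm_def.mpr (fun u w => hBsymm u.1 w.1)
  have hsM : LinearMap.IsSymm (B.restrict (eigM x)) :=
    LinearMap.isSymm_def.mpr (fun u w => hBsymm u.1 w.1)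
  obtain ⟨vP, hvP⟩ := LinearMap.BilinForm.exists_orthogonal_basis hsP
  obtain ⟨vM, hvM⟩ := LinearMap.BilinForm.exists_orthogonal_basis hsM
  rw [LinearMap.isOrthoᵢ_def] at hvP hvM
  have hsum : Module.finrank F (eigP x) + Module.finrank F (eigM x) = 2 * d := by
    rw [← hd]; exact Submodule.finrank_add_eq_of_isCompl hc
  exact eigen_frame_core h2 Q x hxQ hx2 hdet d _ _ hsum vP vM
    (fun i j hij => hvP i j hij) (fun i j hij => hvM i j hij)

end Cfsg.Agent.Lib.Helper74.OQF
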