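import Mathlib
import Cfsg.Prelude.Def_JordanBlocks
import Cfsg.Agent.Lib.Helper73.UCDefs
import Cfsg.Agent.Lib.Helper73.SPCDefs

set_option autoImplicit false

/-! K-SPC-C11 (keystone 267620, pack for S2676, architect helper73): equal top blocks ⇒ congruent under the
commutant of `nilM d F`.  Hypothesis form `congRel_of_topBlock_eq_of` (statements of the leaves C1, C2, C3b,
C5, C9, C10 as hypotheses). -/

namespace Cfsg.Agent.Lib.Helper74.SPC

open Matrix Cfsg.Agent.Lib.Helper73.UC Cfsg.Agent.Lib.Helper73.SPC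

variable {F : Type*} [Field F]

section aux

variable {ι : Type*} [Fintype ι] [DecidableEq ι]

theorem transpose_pow_mul_eq (h B : Matrix ι ι F) (hs : hᵀ * B = B * h) (n : ℕ) :
    (h ^ n)ᵀ * B = B * h ^ n := by
  induction n with
  | zero => simp
  | succ n ih =>
    calc (h ^ (n + 1))ᵀ * B = (h * h ^ n)ᵀ * B := by rw [pow_succ']
      _ = (h ^ n)ᵀ * (hᵀ * B) := by rw [Matrix.transpose_mul, mul_assoc]
      _ = ((h ^ n)ᵀ * B) * h := by rw [hs, mul_assoc]
      _ = B * h ^ (n + 1) := by rw [ih, mul_assoc, ← pow_succ]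

theorem aeval_comm_and_adjoint (h N B : Matrix ι ι F) (hc : h * N = N * h) (hs : hᵀ * B = B * h)
    (Q : Polynomial F) :
    Polynomial.aeval h Q * N = N * Polynomial.aeval h Q ∧
      (Polynomial.aeval h Q)ᵀ * B = B * Polynomial.aeval h Q := by
  induction Q using Polynomial.induction_on' with
  | add p q hp hq =>
    refine ⟨?_, ?_⟩
    · rw [map_add, add_mul, mul_add, hp.1, hq.1]
    · rw [map_add, Matrix.transpose_add, add_mul, mul_add, hp.2, hq.2]
  | monomial n a =>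
    have e : Polynomial.aeval h (Polynomial.monomial n a) = a • h ^ n := by
      rw [Polynomial.aeval_monomial, Algebra.smul_def]
    rw [e]
    refine ⟨?_, ?_⟩
    · have hcn : h ^ n * N = N * h ^ n := ((show Commute h N from hc).pow_left n).eq
      rw [Matrix.smul_mul, hcn, Matrix.mul_smul]
    · rw [Matrix.transpose_smul, Matrix.smul_mul, transpose_pow_mul_eq h B hs n, Matrix.mul_smul]

end aux

/-- LEAF C11, hypothesis form. -/
theorem congRel_of_topBlock_eq_of {t : ℕ} (d : Fin t → ℕ) (hd : ∀ k, 1 ≤ d k)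
    (H1 : ∀ B : Matrix (JI d) (JI d) F,
      (Bᵀ = -B ∧ (nilM d F)ᵀ * B = -(B * nilM d F)) ↔ ∃ c ∈ AC d, shankel d c = B)
    (H2 : ∀ c : CIdx d → F, IsUnit (shankel d c).det ↔ IsUnit (topC d hd c).det)
    (H4 : ∀ c : CIdx d → F, IsUnit (topC d hd c).det ↔ ∀ i : ℕ, IsUnit (topBlock d hd c i).det)
    (H5 : ∀ (c c' : CIdx d → F) (x y : Matrix (JI d) (JI d) F), x * nilM d F = nilM d F * x →
      y * nilM d F = nilM d F * y → xᵀ * shankel d c * y = shankel d c' → ∀ i : ℕ,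
      topBlock d hd c' i =
        (Matrix.of fun l k : {k : Fin t // d k = i} => x ⟨l.1, ⟨0, hd l.1⟩⟩ ⟨k.1, ⟨0, hd k.1⟩⟩)ᵀ *
          topBlock d hd c i *
        (Matrix.of fun l k : {k : Fin t // d k = i} => y ⟨l.1, ⟨0, hd l.1⟩⟩ ⟨k.1, ⟨0, hd k.1⟩⟩))
    (H9 : ∀ h : Matrix (JI d) (JI d) F, h * nilM d F = nilM d F * h →
      (∀ l k : Fin t, d l = d k →
        h ⟨l, ⟨0, hd l⟩⟩ ⟨k, ⟨0, hd k⟩⟩ = if l = k then 1 else 0) → IsNilpotent (h - 1))
    (H10 : ∀ h : Matrix (JI d) (JI d) F, IsNilpotent (h - 1) →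
      ∃ P : Polynomial F, Polynomial.aeval h P * Polynomial.aeval h P = h)
    (c c' : CIdx d → F) (hc : c ∈ AC d) (hc' : c' ∈ AC d) (hu : IsUnit (shankel d c).det)
    (hu' : IsUnit (shankel d c').det) (htop : ∀ i, topBlock d hd c i = topBlock d hd c' i) :
    CongRel (nilM d F) (shankel d c) (shankel d c') := by
  obtain ⟨hBs, hBa⟩ := (H1 (shankel d c)).2 ⟨c, hc, rfl⟩
  obtain ⟨hB's, hB'a⟩ := (H1 (shankel d c')).2 ⟨c', hc', rfl⟩
  have hBi1 : (shankel d c)⁻¹ * shankel d c = 1 := Matrix.nonsing_inv_mul _ hu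
  have hBi2 : shankel d c * (shankel d c)⁻¹ = 1 := Matrix.mul_nonsing_inv _ hu
  -- `N B⁻¹ = - B⁻¹ Nᵀ`
  have hNBi : nilM d F * (shankel d c)⁻¹ = -((shankel d c)⁻¹ * (nilM d F)ᵀ) := by
    have e1 : (shankel d c)⁻¹ * ((nilM d F)ᵀ * shankel d c) * (shankel d c)⁻¹
        = (shankel d c)⁻¹ * (nilM d F)ᵀ := by
      rw [mul_assoc, mul_assoc, hBi2, mul_one]
    have e2 : (shankel d c)⁻¹ * (-(shankel d c * nilM d F)) * (shankel d c)⁻¹
        = -(nilM d F * (shankel d c)⁻¹) := by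
      rw [Matrix.mul_neg, Matrix.neg_mul, ← mul_assoc, hBi1, one_mul]
    rw [hBa, e2] at e1
    rw [← e1, neg_neg]
  -- `h = B⁻¹ B'`
  have hcomm : ((shankel d c)⁻¹ * shankel d c') * nilM d F =
      nilM d F * ((shankel d c)⁻¹ * shankel d c') := by
    have e1 : shankel d c' * nilM d F = -((nilM d F)ᵀ * shankel d c') := by rw [hB'a, neg_neg]
    rw [mul_assoc, e1, Matrix.mul_neg, ← mul_assoc, ← Matrix.neg_mul, ← hNBi, mul_assoc]
  have hBh : shankel d c * ((shankel d c)⁻¹ * shankel d c') = shankel d c' := by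
    rw [← mul_assoc, hBi2, one_mul]
  have e3 : ((shankel d c)⁻¹)ᵀ * shankel d c = -1 := by
    have e4 : ((shankel d c)⁻¹)ᵀ * (shankel d c)ᵀ = 1 := by
      rw [← Matrix.transpose_mul, hBi2, Matrix.transpose_one]
    rw [hBs, Matrix.mul_neg] at e4
    rw [← e4, neg_neg]
  have hhT : ((shankel d c)⁻¹ * shankel d c')ᵀ * shankel d c = shankel d c' := by
    rw [Matrix.transpose_mul, mul_assoc, e3, hB's, Matrix.mul_neg, mul_one, neg_neg]
  have hadj : ((shankel d c)⁻¹ * shankel d c')ᵀ * shankel d c =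
      shankel d c * ((shankel d c)⁻¹ * shankel d c') := by rw [hhT, hBh]
  -- the top blocks of `h` are `1`
  have htoph : ∀ l k : Fin t, d l = d k →
      ((shankel d c)⁻¹ * shankel d c') ⟨l, ⟨0, hd l⟩⟩ ⟨k, ⟨0, hd k⟩⟩ = if l = k then 1 else 0 := by
    intro l k hlk
    have h5 := H5 c c' 1 ((shankel d c)⁻¹ * shankel d c') (by rw [one_mul, mul_one]) hcomm
      (by rw [Matrix.transpose_one, one_mul]; exact hBh) (d k)
    have hτ1 : (Matrix.of fun l k : {j : Fin t // d j = d k} =>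
        (1 : Matrix (JI d) (JI d) F) ⟨l.1, ⟨0, hd l.1⟩⟩ ⟨k.1, ⟨0, hd k.1⟩⟩) = 1 := by
      ext a b
      rw [Matrix.of_apply, Matrix.one_apply, Matrix.one_apply]
      by_cases hab : a = b
      · subst hab; simp
      · rw [if_neg hab, if_neg]
        intro heq
        exact hab (Subtype.ext (congrArg Sigma.fst heq))
    rw [hτ1, Matrix.transpose_one, one_mul, ← htop (d k)] at h5
    have hT : IsUnit (topBlock d hd c (d k)).det := (H4 c).1 ((H2 c).1 hu) (d k)
    have h6 : (Matrix.of fun l k' : {j : Fin t // d j = d k} =>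
        ((shankel d c)⁻¹ * shankel d c') ⟨l.1, ⟨0, hd l.1⟩⟩ ⟨k'.1, ⟨0, hd k'.1⟩⟩) = 1 := by
      calc (Matrix.of fun l k' : {j : Fin t // d j = d k} =>
            ((shankel d c)⁻¹ * shankel d c') ⟨l.1, ⟨0, hd l.1⟩⟩ ⟨k'.1, ⟨0, hd k'.1⟩⟩)
          = ((topBlock d hd c (d k))⁻¹ * topBlock d hd c (d k)) *
              (Matrix.of fun l k' : {j : Fin t // d j = d k} =>
                ((shankel d c)⁻¹ * shankel d c') ⟨l.1, ⟨0, hd l.1⟩⟩ ⟨k'.1, ⟨0, hd k'.1⟩⟩) := by
            rw [Matrix.nonsing_inv_mul _ hT, one_mul]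
        _ = (topBlock d hd c (d k))⁻¹ * (topBlock d hd c (d k) *
              (Matrix.of fun l k' : {j : Fin t // d j = d k} =>
                ((shankel d c)⁻¹ * shankel d c') ⟨l.1, ⟨0, hd l.1⟩⟩ ⟨k'.1, ⟨0, hd k'.1⟩⟩)) := by
            rw [mul_assoc]
        _ = (topBlock d hd c (d k))⁻¹ * topBlock d hd c (d k) := by rw [← h5]
        _ = 1 := Matrix.nonsing_inv_mul _ hT
    have h8 := congrFun (congrFun h6 ⟨l, hlk⟩) ⟨k, rfl⟩
    rw [Matrix.of_apply, Matrix.one_apply] at h8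
    rw [h8]
    simp only [Subtype.mk.injEq]
  obtain ⟨P, hP⟩ := H10 _ (H9 _ hcomm htoph)
  obtain ⟨hyN, hyB⟩ := aeval_comm_and_adjoint ((shankel d c)⁻¹ * shankel d c') (nilM d F)
    (shankel d c) hcomm hadj P
  refine ⟨Polynomial.aeval ((shankel d c)⁻¹ * shankel d c') P, ?_, hyN, ?_⟩
  · have hdet : IsUnit ((shankel d c)⁻¹ * shankel d c').det := by
      rw [Matrix.det_mul]
      exact (Matrix.isUnit_nonsing_inv_det _ hu).mul hu'
    rw [← hP, Matrix.det_mul] at hdet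
    exact isUnit_of_mul_isUnit_left hdet
  · rw [hyB, mul_assoc, hP, hBh]

end Cfsg.Agent.Lib.Helper74.SPC
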