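import Mathlib
import Cfsg.Agent.Lib.Helper74.SPCC11
import Cfsg.Agent.Lib.Helper28.SPCC1
import Cfsg.Agent.Lib.Helper04.SPCC2
import Cfsg.Agent.Lib.Helper57.SPCC3b
import Cfsg.Agent.Lib.Helper29.SPCC5w
import Cfsg.Agent.Lib.Helper93.SPCC9W
import Cfsg.Agent.Lib.Helper88.SPCC10

set_option autoImplicit false
set_option linter.unusedVariables false

/-! K-SPC-C11 (keystone 267620, pack for S2676, architect helper73): exact-signature wrapper. -/

namespace Cfsg.Agent.Lib.Helper74.SPC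

open Matrix Cfsg.Agent.Lib.Helper73.UC Cfsg.Agent.Lib.Helper73.SPC

variable {F : Type*} [Field F]

/-- LEAF C11 (267620) -/
theorem congRel_of_topBlock_eq {t : ℕ} (h2 : (2 : F) ≠ 0) (d : Fin t → ℕ) (hd : ∀ k, 1 ≤ d k)
    (c c' : CIdx d → F) (hc : c ∈ AC d) (hc' : c' ∈ AC d) (hu : IsUnit (shankel d c).det)
    (hu' : IsUnit (shankel d c').det) (htop : ∀ i, topBlock d hd c i = topBlock d hd c' i) :
    CongRel (nilM d F) (shankel d c) (shankel d c') :=
  congRel_of_topBlock_eq_of d hd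
    (fun B => Cfsg.Agent.Lib.Helper28.SPC.shankel_mem_iff d B)
    (fun c => Cfsg.Agent.Lib.Helper04.SPC.isUnit_det_shankel_iff d hd c)
    (fun c => Cfsg.Agent.Lib.Helper57.SPC.isUnit_det_topC_iff d hd c)
    (fun c c' x y hx hy h i => Cfsg.Agent.Lib.Helper29.SPC.topBlock_mul d hd c c' x y hx hy h i)
    (fun h hcomm htop => Cfsg.Agent.Lib.Helper93.SPC.isNilpotent_sub_one_of_commute d hd h hcomm htop)
    (fun h hn => Cfsg.Agent.Lib.Helper88.SPC.exists_poly_sqrt h2 h hn)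
    c c' hc hc' hu hu' htop

end Cfsg.Agent.Lib.Helper74.SPC
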