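import Mathlib
import Cfsg.Agent.Lib.Helper70.AGDefs

/-!
# K-4188-A5 (keystone 418805, S4188 pack of helper70): geometry of a normal four-group
-/

set_option autoImplicit false

namespace Cfsg.Agent.Lib.Helper74.AG

open Cfsg.Agent.Lib.Helper70.AG

theorem a5_eq_one_of_sq {V : Type*} [Group V] [Finite V] (hodd : Odd (Nat.card V)) (v : V)
    (h : v ^ 2 = 1) : v = 1 := by
  have h1 : orderOf v ∣ 2 := orderOf_dvd_of_pow_eq_one h
  have h2 : orderOf v ∣ Nat.card V := orderOf_dvd_natCard v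
  have h3 : orderOf v ∣ Nat.gcd 2 (Nat.card V) := Nat.dvd_gcd h1 h2
  have h4 : Nat.gcd 2 (Nat.card V) = 1 := by
    rcases hodd with ⟨k, hk⟩
    rw [hk]
    simp
  rw [h4, Nat.dvd_one] at h3
  exact orderOf_eq_one_iff.1 h3

theorem a5_exists_sqrt {V : Type*} [Group V] [Finite V] (hodd : Odd (Nat.card V)) (v : V) :
    ∃ w : V, w ^ 2 = v := by
  rcases hodd with ⟨k, hk⟩
  refine ⟨v ^ (k + 1), ?_⟩
  rw [← pow_mul, show (k + 1) * 2 = Nat.card V + 1 by omega, pow_succ, pow_card_eq_one', one_mul]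

/-- **LEAF A5.** -/
theorem caseB_geometry {V : Type*} [CommGroup V] [Finite V] (hodd : Odd (Nat.card V))
    (Q : Subgroup (MulAut V))
    (hirr : ∀ W : Subgroup V, IsInv Q W → W = ⊥ ∨ W = ⊤)
    (z u : ↥Q) (hz1 : z ≠ 1) (hz2 : z ^ 2 = 1) (hzc : z ∈ Subgroup.center ↥Q)
    (hu1 : u ≠ 1) (hu2 : u ^ 2 = 1) (huz : u ≠ z)
    (hconj : ∀ s : ↥Q, s * u * s⁻¹ = u ∨ s * u * s⁻¹ = u * z) :
    (Subgroup.centralizer ({u} : Set ↥Q)).index = 2 ∧
    fixedSub (u : MulAut V) ⊓ fixedSub ((u * z : ↥Q) : MulAut V) = ⊥ ∧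
    fixedSub (u : MulAut V) ⊔ fixedSub ((u * z : ↥Q) : MulAut V) = ⊤ ∧
    (∀ m ∈ Subgroup.centralizer ({u} : Set ↥Q), ∀ v ∈ fixedSub (u : MulAut V),
      (m : MulAut V) v ∈ fixedSub (u : MulAut V)) ∧
    (∀ m ∈ Subgroup.centralizer ({u} : Set ↥Q), ∀ v ∈ fixedSub ((u * z : ↥Q) : MulAut V),
      (m : MulAut V) v ∈ fixedSub ((u * z : ↥Q) : MulAut V)) ∧
    Nat.card ↥(fixedSub (u : MulAut V)) = Nat.card ↥(fixedSub ((u * z : ↥Q) : MulAut V)) ∧
    fixedSub (u : MulAut V) ≠ ⊥ := by
  classical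
  -- basic facts about `z`, `u` as automorphisms
  have hZ2 : ∀ v : V, (z : MulAut V) ((z : MulAut V) v) = v := by
    intro v
    have h := congrArg (fun q : ↥Q => (q : MulAut V) v) hz2
    simp only [Subgroup.coe_one, pow_two, Subgroup.coe_mul, MulAut.mul_apply, MulAut.one_apply] at h
    exact h
  have hU2 : ∀ v : V, (u : MulAut V) ((u : MulAut V) v) = v := by
    intro v
    have h := congrArg (fun q : ↥Q => (q : MulAut V) v) hu2
    simp only [Subgroup.coe_one, pow_two, Subgroup.coe_mul, MulAut.mul_apply, MulAut.one_apply] at h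
    exact h
  have hzcomm : ∀ (q : ↥Q) (v : V), (z : MulAut V) ((q : MulAut V) v) = (q : MulAut V) ((z : MulAut V) v) := by
    intro q v
    have h := (Subgroup.mem_center_iff.1 hzc) q
    have h' := congrArg (fun q : ↥Q => (q : MulAut V) v) h
    simp only [Subgroup.coe_mul, MulAut.mul_apply] at h'
    exact h'.symm
  have ne_one_of : ∀ q : ↥Q, (∀ v : V, (q : MulAut V) v = v) → q = 1 := by
    intro q hq
    apply Subtype.ext
    apply MulEquiv.ext
    intro v
    simpa using hq v
  -- (1) `z` inverts `V`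
  have hfixZ : fixedSub (z : MulAut V) = ⊥ := by
    have hinv : IsInv Q (fixedSub (z : MulAut V)) := by
      intro q hq w hw
      rw [mem_fixedSub] at hw ⊢
      have := hzcomm ⟨q, hq⟩ w
      simp only at this
      rw [this, hw]
    rcases hirr _ hinv with h | h
    · exact h
    · exfalso
      apply hz1
      apply ne_one_of
      intro v
      have : v ∈ fixedSub (z : MulAut V) := by rw [h]; exact Subgroup.mem_top v
      exact this
  have hZ : ∀ v : V, (z : MulAut V) v = v⁻¹ := by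
    intro v
    have hmem : v * (z : MulAut V) v ∈ fixedSub (z : MulAut V) := by
      rw [mem_fixedSub, map_mul, hZ2, mul_comm]
    rw [hfixZ, Subgroup.mem_bot] at hmem
    exact (eq_inv_of_mul_eq_one_right hmem)
  -- (2) the two eigenspaces
  have huzapp : ∀ v : V, ((u * z : ↥Q) : MulAut V) v = ((u : MulAut V) v)⁻¹ := by
    intro v
    rw [Subgroup.coe_mul, MulAut.mul_apply, hZ, map_inv]
  have hmemM : ∀ v : V, v ∈ fixedSub ((u * z : ↥Q) : MulAut V) ↔ (u : MulAut V) v = v⁻¹ := by
    intro v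
    rw [mem_fixedSub, huzapp]
    constructor
    · intro h
      exact inv_eq_iff_eq_inv.1 h
    · intro h
      rw [h, inv_inv]
  have hinf : fixedSub (u : MulAut V) ⊓ fixedSub ((u * z : ↥Q) : MulAut V) = ⊥ := by
    rw [eq_bot_iff]
    intro v hv
    rw [Subgroup.mem_inf] at hv
    have h1 : (u : MulAut V) v = v := hv.1
    have h2 := (hmemM v).1 hv.2
    rw [h1] at h2
    rw [Subgroup.mem_bot]
    apply a5_eq_one_of_sq hodd
    rw [pow_two]
    nth_rewrite 1 [h2]
    exact inv_mul_cancel v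
  have hsup : fixedSub (u : MulAut V) ⊔ fixedSub ((u * z : ↥Q) : MulAut V) = ⊤ := by
    rw [eq_top_iff]
    intro v _
    obtain ⟨w, hw⟩ := a5_exists_sqrt hodd v
    have h1 : w * (u : MulAut V) w ∈ fixedSub (u : MulAut V) := by
      rw [mem_fixedSub, map_mul, hU2, mul_comm]
    have h2 : w * ((u : MulAut V) w)⁻¹ ∈ fixedSub ((u * z : ↥Q) : MulAut V) := by
      rw [hmemM, map_mul, map_inv, hU2, mul_inv_rev, inv_inv, mul_comm]
    have h3 : v = (w * (u : MulAut V) w) * (w * ((u : MulAut V) w)⁻¹) := by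
      rw [← hw, pow_two]
      rw [mul_mul_mul_comm, mul_inv_cancel, mul_one]
    rw [h3]
    exact Subgroup.mul_mem_sup h1 h2
  -- membership in the centralizer
  have hcent : ∀ s : ↥Q, s ∈ Subgroup.centralizer ({u} : Set ↥Q) ↔ s * u * s⁻¹ = u := by
    intro s
    rw [Subgroup.mem_centralizer_iff]
    constructor
    · intro h
      have := h u (Set.mem_singleton u)
      rw [← this, mul_inv_cancel_right]
    · intro h x hx
      rw [Set.mem_singleton_iff] at hx
      subst hx
      exact (mul_inv_eq_iff_eq_mul.1 h).symm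
  have hcomm_app : ∀ m ∈ Subgroup.centralizer ({u} : Set ↥Q), ∀ v : V,
      (u : MulAut V) ((m : MulAut V) v) = (m : MulAut V) ((u : MulAut V) v) := by
    intro m hm v
    have h := (Subgroup.mem_centralizer_iff.1 hm) u (Set.mem_singleton u)
    have h' := congrArg (fun q : ↥Q => (q : MulAut V) v) h
    simp only [Subgroup.coe_mul, MulAut.mul_apply] at h'
    exact h'
  -- (3)
  have hpres1 : ∀ m ∈ Subgroup.centralizer ({u} : Set ↥Q), ∀ v ∈ fixedSub (u : MulAut V),
      (m : MulAut V) v ∈ fixedSub (u : MulAut V) := by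
    intro m hm v hv
    rw [mem_fixedSub] at hv ⊢
    rw [hcomm_app m hm, hv]
  have hpres2 : ∀ m ∈ Subgroup.centralizer ({u} : Set ↥Q),
      ∀ v ∈ fixedSub ((u * z : ↥Q) : MulAut V),
      (m : MulAut V) v ∈ fixedSub ((u * z : ↥Q) : MulAut V) := by
    intro m hm v hv
    rw [hmemM] at hv ⊢
    rw [hcomm_app m hm, hv, map_inv]
  -- the two cases of `hconj` are exclusive
  have hexcl : ∀ s : ↥Q, s * u * s⁻¹ = u * z → s * u * s⁻¹ ≠ u := by
    intro s h1 h2
    apply hz1
    rw [h2] at h1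
    exact (mul_eq_left.1 h1.symm)
  -- (4) an element outside the centralizer
  have hVp : fixedSub (u : MulAut V) ≠ ⊥ := by
    intro hbot
    apply huz
    have htop : fixedSub ((u * z : ↥Q) : MulAut V) = ⊤ := by
      rw [hbot, bot_sup_eq] at hsup
      exact hsup
    apply Subtype.ext
    apply MulEquiv.ext
    intro v
    have : v ∈ fixedSub ((u * z : ↥Q) : MulAut V) := by rw [htop]; exact Subgroup.mem_top v
    rw [hZ]
    exact (hmemM v).1 this
  have hex : ∃ s₀ : ↥Q, s₀ * u * s₀⁻¹ = u * z := by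
    by_contra hno
    have hall : ∀ s : ↥Q, s * u * s⁻¹ = u := by
      intro s
      rcases hconj s with h | h
      · exact h
      · exact absurd ⟨s, h⟩ hno
    have hinv : IsInv Q (fixedSub (u : MulAut V)) := by
      intro q hq w hw
      exact hpres1 ⟨q, hq⟩ ((hcent _).2 (hall _)) w hw
    rcases hirr _ hinv with h | h
    · exact hVp h
    · apply hu1
      apply ne_one_of
      intro v
      have : v ∈ fixedSub (u : MulAut V) := by rw [h]; exact Subgroup.mem_top v
      exact this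
  obtain ⟨s₀, hs₀⟩ := hex
  -- `s₀` swaps the eigenspaces
  have hs₀app : ∀ v : V, ((u * z : ↥Q) : MulAut V) ((s₀ : MulAut V) v) =
      (s₀ : MulAut V) ((u : MulAut V) v) := by
    intro v
    have h : s₀ * u = (u * z) * s₀ := by
      rw [← hs₀]
      group
    have h' := congrArg (fun q : ↥Q => (q : MulAut V) v) h
    simp only [Subgroup.coe_mul, MulAut.mul_apply] at h'
    rw [Subgroup.coe_mul, MulAut.mul_apply]
    exact h'.symm
  have hswap1 : ∀ v ∈ fixedSub (u : MulAut V),
      (s₀ : MulAut V) v ∈ fixedSub ((u * z : ↥Q) : MulAut V) := by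
    intro v hv
    rw [mem_fixedSub] at hv ⊢
    rw [hs₀app, hv]
  have hswap2 : ∀ v ∈ fixedSub ((u * z : ↥Q) : MulAut V),
      (s₀ : MulAut V) v ∈ fixedSub (u : MulAut V) := by
    intro v hv
    have hv' := (hmemM v).1 hv
    rw [mem_fixedSub]
    -- `u (s₀ v) = ((u z)(s₀ v))⁻¹ = (s₀ (u v))⁻¹ = (s₀ v⁻¹)⁻¹ = s₀ v`
    have h1 := huzapp ((s₀ : MulAut V) v)
    rw [hs₀app, hv', map_inv] at h1
    exact (inv_injective h1).symm
  have hcard : Nat.card ↥(fixedSub (u : MulAut V)) =
      Nat.card ↥(fixedSub ((u * z : ↥Q) : MulAut V)) := by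
    apply le_antisymm
    · refine Nat.card_le_card_of_injective
        (fun v : ↥(fixedSub (u : MulAut V)) =>
          (⟨(s₀ : MulAut V) v, hswap1 v v.2⟩ : ↥(fixedSub ((u * z : ↥Q) : MulAut V)))) ?_
      intro a b hab
      have := congrArg Subtype.val hab
      simp only at this
      exact Subtype.ext ((s₀ : MulAut V).injective this)
    · refine Nat.card_le_card_of_injective
        (fun v : ↥(fixedSub ((u * z : ↥Q) : MulAut V)) =>
          (⟨(s₀ : MulAut V) v, hswap2 v v.2⟩ : ↥(fixedSub (u : MulAut V)))) ?_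
      intro a b hab
      have := congrArg Subtype.val hab
      simp only at this
      exact Subtype.ext ((s₀ : MulAut V).injective this)
  -- (5) index two
  have hidx : (Subgroup.centralizer ({u} : Set ↥Q)).index = 2 := by
    rw [Subgroup.index_eq_two_iff]
    refine ⟨s₀, fun b => ?_⟩
    have hs₀C : s₀ ∉ Subgroup.centralizer ({u} : Set ↥Q) := fun h =>
      hexcl s₀ hs₀ ((hcent s₀).1 h)
    by_cases hb : b ∈ Subgroup.centralizer ({u} : Set ↥Q)
    · right
      refine ⟨hb, ?_⟩
      intro hba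
      exact hs₀C ((Subgroup.mul_mem_cancel_left _ hb).1 hba)
    · left
      refine ⟨?_, hb⟩
      rw [hcent]
      have hb' : b * u * b⁻¹ = u * z := by
        rcases hconj b with h | h
        · exact absurd ((hcent b).2 h) hb
        · exact h
      have hzb : b * z * b⁻¹ = z := by
        have := (Subgroup.mem_center_iff.1 hzc) b
        rw [this, mul_inv_cancel_right]
      calc b * s₀ * u * (b * s₀)⁻¹ = b * (s₀ * u * s₀⁻¹) * b⁻¹ := by group
        _ = b * (u * z) * b⁻¹ := by rw [hs₀]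
        _ = (b * u * b⁻¹) * (b * z * b⁻¹) := by group
        _ = u * z * z := by rw [hb', hzb]
        _ = u := by rw [mul_assoc, ← pow_two, hz2, mul_one]
  exact ⟨hidx, hinf, hsup, hpres1, hpres2, hcard, hVp⟩

end Cfsg.Agent.Lib.Helper74.AG
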