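import Mathlib

set_option autoImplicit false

namespace Cfsg.Agent.Lib.Helper74.BGFrobF

open Subgroup

/-- F0 (hom form): Frobenius fixed-point fact.  `T` a group with an action of `Γ₀` by automorphisms,
`κ : T →* V` a hom to an abelian group (think `T → T/B`), `R` acts fixed-point-freely on `Q`,
no `R`-fixed points in `κ(T)`  ⟹  `Q` acts trivially on `κ(T)`. -/
theorem frob_hom {T V Γ₀ : Type*} [Group T] [CommGroup V] [Group Γ₀] [MulDistribMulAction Γ₀ T]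
    (κ : T →* V) (Q R : Subgroup Γ₀) [Finite Q] [Finite R]
    (hRQ : ∀ ρ ∈ R, ∀ y ∈ Q, ρ * y * ρ⁻¹ ∈ Q)
    (hfpf : ∀ ρ ∈ R, ρ ≠ 1 → ∀ y ∈ Q, ρ * y = y * ρ → y = 1)
    (hker : ∀ z ∈ Q, ∀ t : T, κ t = 1 → κ (z • t) = 1)
    (hcop : ∀ t : T, κ t ^ Nat.card Q = 1 → κ t = 1)
    (hfix : ∀ t : T, (∀ σ ∈ R, κ (σ • t) = κ t) → κ t = 1) :
    ∀ y ∈ Q, ∀ t : T, κ (y • t) = κ t := by
  classical
  haveI : Fintype Q := Fintype.ofFinite Q
  haveI : Fintype R := Fintype.ofFinite R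
  -- step 1
  have h1 : ∀ (z : Q) (t : T), ∏ ρ : R, κ (((z : Γ₀)⁻¹ * (ρ : Γ₀) * (z : Γ₀)) • t) = 1 := by
    intro z t
    set tz : T := ((Finset.univ : Finset R).toList.map
      (fun ρ : R => (((ρ : Γ₀) * (z : Γ₀)) • t))).prod with htz
    have hκ : ∀ g : Γ₀, κ (g • tz) = ∏ ρ : R, κ ((g * ((ρ : Γ₀) * (z : Γ₀))) • t) := by
      intro g
      have e : g • tz = (MulDistribMulAction.toMonoidHom T g) tz := rfl
      rw [e, htz, map_list_prod, map_list_prod, List.map_map, List.map_map, Finset.prod_map_toList]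
      refine Finset.prod_congr rfl (fun ρ _ => ?_)
      simp [mul_smul]
    have hfixed : ∀ σ ∈ R, κ (σ • tz) = κ tz := by
      intro σ hσ
      have e1 := hκ σ
      have e2 := hκ 1
      simp only [one_mul, one_smul] at e2
      rw [e1, e2]
      refine Fintype.prod_equiv (Equiv.mulLeft (⟨σ, hσ⟩ : R)) _ _ (fun ρ => ?_)
      simp [mul_assoc]
    have hz1 := hfix tz hfixed
    have hz2 := hker ((z : Γ₀)⁻¹) (Q.inv_mem z.2) tz hz1
    rw [hκ] at hz2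
    rw [← hz2]
    refine Finset.prod_congr rfl (fun ρ _ => ?_)
    simp [mul_assoc]
  -- the Q-norm
  set Nm : T → V := fun s => ∏ y : Q, κ ((y : Γ₀) • s) with hNm
  have hNm_inv : ∀ (y0 : Γ₀), y0 ∈ Q → ∀ s : T, Nm (y0 • s) = Nm s := by
    intro y0 hy0 s
    simp only [hNm]
    refine Fintype.prod_equiv (Equiv.mulRight (⟨y0, hy0⟩ : Q)) _ _ (fun y => ?_)
    simp [mul_smul]
  -- column sums
  have hcol1 : ∀ t : T, ∏ z : Q, κ (((z : Γ₀)⁻¹ * ((1 : R) : Γ₀) * (z : Γ₀)) • t) = κ t ^ Nat.card Q := by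
    intro t
    simp [Finset.prod_const, Nat.card_eq_fintype_card]
  have hcol : ∀ (ρ : R), ρ ≠ 1 → ∀ t : T,
      ∏ z : Q, κ (((z : Γ₀)⁻¹ * (ρ : Γ₀) * (z : Γ₀)) • t) = Nm ((ρ : Γ₀) • t) := by
    intro ρ hρ t
    have hρ' : (ρ : Γ₀) ≠ 1 := fun h => hρ (Subtype.ext h)
    let e : Q → Q := fun z => ⟨(z : Γ₀)⁻¹ * ((ρ : Γ₀) * (z : Γ₀) * (ρ : Γ₀)⁻¹),
      Q.mul_mem (Q.inv_mem z.2) (hRQ ρ ρ.2 z z.2)⟩
    have hinj : Function.Injective e := by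
      intro z w hzw
      have h := congrArg (fun x : Q => (x : Γ₀)) hzw
      simp only [e] at h
      -- z⁻¹ ρ z ρ⁻¹ = w⁻¹ ρ w ρ⁻¹
      have h2 : (ρ : Γ₀) * ((z : Γ₀) * (w : Γ₀)⁻¹) = ((z : Γ₀) * (w : Γ₀)⁻¹) * (ρ : Γ₀) := by
        have h3 : (z : Γ₀)⁻¹ * ((ρ : Γ₀) * (z : Γ₀)) = (w : Γ₀)⁻¹ * ((ρ : Γ₀) * (w : Γ₀)) := by
          have := congrArg (fun x => x * (ρ : Γ₀)) h
          simpa [mul_assoc] using this
        -- ρ z = z w⁻¹ ρ w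
        have h4 : (ρ : Γ₀) * (z : Γ₀) = (z : Γ₀) * ((w : Γ₀)⁻¹ * ((ρ : Γ₀) * (w : Γ₀))) := by
          rw [← h3]; group
        calc (ρ : Γ₀) * ((z : Γ₀) * (w : Γ₀)⁻¹) = ((ρ : Γ₀) * (z : Γ₀)) * (w : Γ₀)⁻¹ := by group
          _ = ((z : Γ₀) * ((w : Γ₀)⁻¹ * ((ρ : Γ₀) * (w : Γ₀)))) * (w : Γ₀)⁻¹ := by rw [h4]
          _ = ((z : Γ₀) * (w : Γ₀)⁻¹) * (ρ : Γ₀) := by group
      have h5 := hfpf ρ ρ.2 hρ' ((z : Γ₀) * (w : Γ₀)⁻¹) (Q.mul_mem z.2 (Q.inv_mem w.2)) h2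
      exact Subtype.ext (mul_inv_eq_one.mp h5)
    have hbij : Function.Bijective e := Finite.injective_iff_bijective.mp hinj
    simp only [hNm]
    rw [← Function.Bijective.prod_comp hbij (fun y : Q => κ ((y : Γ₀) • ((ρ : Γ₀) • t)))]
    refine Finset.prod_congr rfl (fun z _ => ?_)
    simp only [e]
    rw [← mul_smul]
    congr 2
    group
  -- the key identity
  set Ψ : T → V := fun t => ∏ ρ ∈ (Finset.univ : Finset R).erase 1, Nm ((ρ : Γ₀) • t) with hΨ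
  have hstar : ∀ t : T, κ t ^ Nat.card Q * Ψ t = 1 := by
    intro t
    have h2 : ∏ z : Q, ∏ ρ : R, κ (((z : Γ₀)⁻¹ * (ρ : Γ₀) * (z : Γ₀)) • t) = 1 := by
      simp [h1]
    rw [Finset.prod_comm] at h2
    rw [← Finset.mul_prod_erase Finset.univ _ (Finset.mem_univ (1 : R))] at h2
    rw [hcol1] at h2
    rw [← h2]
    congr 1
    simp only [hΨ]
    refine Finset.prod_congr rfl (fun ρ hρ => ?_)
    exact (hcol ρ (Finset.ne_of_mem_erase hρ) t).symm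
  have hΨ_inv : ∀ (y0 : Γ₀), y0 ∈ Q → ∀ t : T, Ψ (y0 • t) = Ψ t := by
    intro y0 hy0 t
    simp only [hΨ]
    refine Finset.prod_congr rfl (fun ρ _ => ?_)
    have : (ρ : Γ₀) • y0 • t = ((ρ : Γ₀) * y0 * (ρ : Γ₀)⁻¹) • ((ρ : Γ₀) • t) := by
      rw [← mul_smul, ← mul_smul]; congr 1; group
    rw [this]
    exact hNm_inv _ (hRQ ρ ρ.2 y0 hy0) _
  intro y hy t
  have e1 := hstar (y • t)
  have e2 := hstar t
  rw [hΨ_inv y hy t] at e1
  have e3 : κ (y • t) ^ Nat.card Q = κ t ^ Nat.card Q := by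
    have := e1.trans e2.symm
    exact mul_right_cancel this
  have e4 : κ ((y • t) * t⁻¹) ^ Nat.card Q = 1 := by
    rw [map_mul, map_inv, mul_pow, inv_pow, e3, mul_inv_cancel]
  have e5 := hcop _ e4
  rw [map_mul, map_inv, mul_inv_eq_one] at e5
  exact e5

end Cfsg.Agent.Lib.Helper74.BGFrobF
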