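import Cfsg.Agent.Lib.Helper74.BGFrobF0

set_option autoImplicit false

namespace Cfsg.Agent.Lib.Helper74.BGFrobF

open Subgroup

/-- F0 for subgroups of one group acting by conjugation on a section `N/B`
(`B ≤ N`, `[N,N] ≤ B`). -/
theorem frob_section {G : Type*} [Group G] [Finite G] (N B Q R : Subgroup G)
    (hBN : B ≤ N) (hNB : ∀ a ∈ N, ∀ b ∈ N, a * b * a⁻¹ * b⁻¹ ∈ B)
    (hQN : Q ≤ normalizer (N : Set G)) (hRN : R ≤ normalizer (N : Set G))
    (hQB : Q ≤ normalizer (B : Set G)) (hRB : R ≤ normalizer (B : Set G))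
    (hRQ : R ≤ normalizer (Q : Set G))
    (hfpf : ∀ ρ ∈ R, ρ ≠ 1 → ∀ y ∈ Q, ρ * y = y * ρ → y = 1)
    (hcop : ∀ t ∈ N, t ^ Nat.card Q ∈ B → t ∈ B)
    (hfix : ∀ t ∈ N, (∀ σ ∈ R, σ * t * σ⁻¹ * t⁻¹ ∈ B) → t ∈ B) :
    ∀ y ∈ Q, ∀ t ∈ N, y * t * y⁻¹ * t⁻¹ ∈ B := by
  classical
  -- B normal in N
  have hBnorm : ∀ n ∈ N, ∀ b ∈ B, n * b * n⁻¹ ∈ B := by
    intro n hn b hb
    have h := hNB n hn b (hBN hb)
    have := B.mul_mem h hb
    simpa [mul_assoc] using this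
  let B' : Subgroup ↥N := B.subgroupOf N
  haveI hB'n : B'.Normal := by
    refine ⟨fun b hb n => ?_⟩
    rw [Subgroup.mem_subgroupOf] at hb ⊢
    simpa using hBnorm n n.2 b hb
  letI : CommGroup (↥N ⧸ B') :=
    { (inferInstance : Group (↥N ⧸ B')) with
      mul_comm := by
        intro a b
        induction a using QuotientGroup.induction_on with | _ a => ?_
        induction b using QuotientGroup.induction_on with | _ b => ?_
        rw [← QuotientGroup.mk_mul, ← QuotientGroup.mk_mul, QuotientGroup.eq]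
        rw [Subgroup.mem_subgroupOf]
        have h := hNB ((b : G)⁻¹) (N.inv_mem b.2) ((a : G)⁻¹) (N.inv_mem a.2)
        have e : (((a * b)⁻¹ * (b * a) : ↥N) : G)
            = (b : G)⁻¹ * (a : G)⁻¹ * ((b : G)⁻¹)⁻¹ * ((a : G)⁻¹)⁻¹ := by
          push_cast; group
        rw [e]
        exact h }
  let κ : ↥N →* (↥N ⧸ B') := QuotientGroup.mk' B'
  have hκ1 : ∀ t : ↥N, κ t = 1 ↔ (t : G) ∈ B := by
    intro t
    show (QuotientGroup.mk' B') t = 1 ↔ _
    rw [QuotientGroup.mk'_apply, QuotientGroup.eq_one_iff, Subgroup.mem_subgroupOf]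
  let Γ₀ := ↥(normalizer (N : Set G))
  let Q₀ : Subgroup Γ₀ := Q.subgroupOf (normalizer (N : Set G))
  let R₀ : Subgroup Γ₀ := R.subgroupOf (normalizer (N : Set G))
  have hsm : ∀ (g : Γ₀) (t : ↥N), ((g • t : ↥N) : G) = (g : G) * (t : G) * (g : G)⁻¹ := fun g t => rfl
  have hcard : Nat.card Q₀ = Nat.card Q :=
    Nat.card_congr (Subgroup.subgroupOfEquivOfLe hQN).toEquiv
  have key := frob_hom (T := ↥N) (V := ↥N ⧸ B') (Γ₀ := Γ₀) κ Q₀ R₀
    (by
      intro ρ hρ y hy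
      rw [Subgroup.mem_subgroupOf] at hρ hy ⊢
      exact (Subgroup.mem_normalizer_iff.mp (hRQ hρ) (y : G)).mp hy)
    (by
      intro ρ hρ hρ1 y hy hc
      rw [Subgroup.mem_subgroupOf] at hρ hy
      have h1 : (ρ : G) ≠ 1 := fun h => hρ1 (Subtype.ext h)
      have h2 : (ρ : G) * (y : G) = (y : G) * (ρ : G) :=
        congrArg (fun x : Γ₀ => (x : G)) hc
      exact Subtype.ext (hfpf _ hρ h1 _ hy h2))
    (by
      intro z hz t ht
      rw [Subgroup.mem_subgroupOf] at hz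
      rw [hκ1] at ht ⊢
      rw [hsm]
      exact (Subgroup.mem_normalizer_iff.mp (hQB hz) _).mp ht)
    (by
      intro t ht
      rw [hcard, ← map_pow, hκ1] at ht
      rw [hκ1]
      exact hcop _ t.2 (by simpa using ht))
    (by
      intro t ht
      rw [hκ1]
      refine hfix _ t.2 (fun σ hσ => ?_)
      have hσN : σ ∈ normalizer (N : Set G) := hRN hσ
      have h := ht ⟨σ, hσN⟩ (by rw [Subgroup.mem_subgroupOf]; exact hσ)
      have h2 : κ (((⟨σ, hσN⟩ : Γ₀) • t) * t⁻¹) = 1 := by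
        rw [map_mul, map_inv, h, mul_inv_cancel]
      rw [hκ1] at h2
      simpa [hsm] using h2)
  intro y hy t ht
  have hyN : y ∈ normalizer (N : Set G) := hQN hy
  have h := key ⟨y, hyN⟩ (by rw [Subgroup.mem_subgroupOf]; exact hy) ⟨t, ht⟩
  have h2 : κ (((⟨y, hyN⟩ : Γ₀) • (⟨t, ht⟩ : ↥N)) * (⟨t, ht⟩ : ↥N)⁻¹) = 1 := by
    rw [map_mul, map_inv, h, mul_inv_cancel]
  rw [hκ1] at h2
  simpa [hsm] using h2

end Cfsg.Agent.Lib.Helper74.BGFrobF
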