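import Cfsg.Agent.Lib.Helper74.BGFrobF1

set_option autoImplicit false

namespace Cfsg.Agent.Lib.Helper74.BGFrobF

open Subgroup

/-- an element normalizing `A` and `Q` normalizes `⁅A, Q⁆`. -/
theorem mem_normalizer_commutator {G : Type*} [Group G] (A Q : Subgroup G) (g : G)
    (hA : g ∈ normalizer (A : Set G)) (hQ : g ∈ normalizer (Q : Set G)) :
    g ∈ normalizer ((⁅A, Q⁆ : Subgroup G) : Set G) := by
  rw [mem_normalizer_iff_map_conj_eq] at hA hQ ⊢
  have := Subgroup.map_commutator A Q (MulAut.conj g : G →* G)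
  rw [show Subgroup.map (↑(MulAut.conj g)) A = A from hA,
    show Subgroup.map (↑(MulAut.conj g)) Q = Q from hQ] at this
  exact this

/-- `⁅A, Q⁆ ≤ A` when `Q` normalizes `A`. -/
theorem commutator_le_of_le_normalizer {G : Type*} [Group G] (A Q : Subgroup G)
    (hQA : Q ≤ normalizer (A : Set G)) : ⁅A, Q⁆ ≤ A := by
  rw [Subgroup.commutator_le]
  intro a ha x hx
  rw [commutatorElement_def]
  have h1 : x * a⁻¹ * x⁻¹ ∈ A := (Subgroup.mem_normalizer_iff.mp (hQA hx) _).mp (A.inv_mem ha)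
  have : a * x * a⁻¹ * x⁻¹ = a * (x * a⁻¹ * x⁻¹) := by group
  rw [this]
  exact A.mul_mem ha h1

/-- F1 (one pair). -/
theorem abelian_le_centralizer {G : Type*} [Group G] [Finite G] {p : ℕ} [Fact p.Prime] (S A Q R : Subgroup G)
    (hS : IsPGroup p S) (hAS : A ≤ S) (hAab : ∀ a ∈ A, ∀ b ∈ A, a * b = b * a)
    (hQA : Q ≤ normalizer (A : Set G)) (hRA : R ≤ normalizer (A : Set G)) (hRQ : R ≤ normalizer (Q : Set G))
    (hfpf : ∀ ρ ∈ R, ρ ≠ 1 → ∀ y ∈ Q, ρ * y = y * ρ → y = 1)
    (hQp : (Nat.card Q).Coprime p)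
    (hcycR : IsCyclic ↥(S ⊓ centralizer (R : Set G)))
    (z : G) (hzS : z ∈ S) (hz1 : z ≠ 1) (hzQ : z ∈ centralizer (Q : Set G)) (hzR : z ∈ centralizer (R : Set G)) :
    A ≤ centralizer (Q : Set G) := by
  classical
  have hAp : IsPGroup p A := hS.to_le hAS
  have hfit := cent_inf_comm_eq_bot A Q hAp hAab hQA hQp
  have hA1A : ⁅A, Q⁆ ≤ A := commutator_le_of_le_normalizer A Q hQA
  have hQQ : Q ≤ normalizer (Q : Set G) := Subgroup.le_normalizer
  have hQA1 : Q ≤ normalizer ((⁅A, Q⁆ : Subgroup G) : Set G) := fun g hg =>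
    mem_normalizer_commutator A Q g (hQA hg) (hQQ hg)
  have hRA1 : R ≤ normalizer ((⁅A, Q⁆ : Subgroup G) : Set G) := fun g hg =>
    mem_normalizer_commutator A Q g (hRA hg) (hRQ hg)
  rw [← Subgroup.commutator_eq_bot_iff_le_centralizer]
  by_cases hcase : ⁅A, Q⁆ ⊓ centralizer (R : Set G) = ⊥
  · -- Frobenius fact on `⁅A,Q⁆`
    have hbotn : ∀ X : Subgroup G, X ≤ normalizer (((⊥ : Subgroup G)) : Set G) := by
      intro X g _
      rw [Subgroup.mem_normalizer_iff]
      intro h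
      simp only [Subgroup.mem_bot]
      constructor
      · rintro rfl; simp
      · intro h1
        have : g * h = g := by
          have := congrArg (fun x => x * g) h1
          simpa using this
        simpa using this
    have key := frob_section ⁅A, Q⁆ ⊥ Q R bot_le
      (by
        intro a ha b hb
        rw [Subgroup.mem_bot]
        have := hAab a (hA1A ha) b (hA1A hb)
        rw [this]; group)
      hQA1 hRA1 (hbotn Q) (hbotn R) hRQ hfpf
      (by
        intro t ht h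
        rw [Subgroup.mem_bot] at h ⊢
        exact eq_one_of_pgroup_pow A hAp _ hQp t (hA1A ht) h)
      (by
        intro t ht h
        rw [Subgroup.mem_bot]
        have htc : t ∈ centralizer (R : Set G) := by
          rw [Subgroup.mem_centralizer_iff]
          intro σ hσ
          have := h σ hσ
          rw [Subgroup.mem_bot] at this
          have h2 : σ * t * σ⁻¹ = t := by
            have := congrArg (fun x => x * t) this
            simpa using this
          have h3 := congrArg (fun x => x * σ) h2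
          simpa using h3
        have : t ∈ ⁅A, Q⁆ ⊓ centralizer (R : Set G) := ⟨ht, htc⟩
        rw [hcase] at this
        exact Subgroup.mem_bot.mp this)
    rw [eq_bot_iff]
    intro t ht
    have htQ : t ∈ centralizer (Q : Set G) := by
      rw [Subgroup.mem_centralizer_iff]
      intro y hy
      have := key y hy t ht
      rw [Subgroup.mem_bot] at this
      have h2 : y * t * y⁻¹ = t := by
        have := congrArg (fun x => x * t) this
        simpa using this
      have h3 := congrArg (fun x => x * y) h2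
      simpa using h3
    have : t ∈ A ⊓ centralizer (Q : Set G) ⊓ ⁅A, Q⁆ := ⟨⟨hA1A ht, htQ⟩, ht⟩
    rw [hfit] at this
    exact this
  · -- a nontrivial element of `⁅A,Q⁆ ∩ C(R)` meets `⟨z⟩`
    exfalso
    obtain ⟨a, ha, ha1⟩ : ∃ a ∈ ⁅A, Q⁆ ⊓ centralizer (R : Set G), a ≠ 1 := by
      by_contra hcon
      push_neg at hcon
      exact hcase (eq_bot_iff.mpr fun x hx => Subgroup.mem_bot.mpr (hcon x hx))
    have haC : a ∈ S ⊓ centralizer (R : Set G) := ⟨hAS (hA1A ha.1), ha.2⟩
    have hzC : z ∈ S ⊓ centralizer (R : Set G) := ⟨hzS, hzR⟩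
    haveI := hcycR
    have hCp : IsPGroup p ↥(S ⊓ centralizer (R : Set G)) := hS.to_le inf_le_left
    obtain ⟨k, l, hkl, hk1⟩ := exists_common_pow hCp (⟨a, haC⟩ : ↥(S ⊓ centralizer (R : Set G))) ⟨z, hzC⟩
      (fun h => ha1 (congrArg Subtype.val h)) (fun h => hz1 (congrArg Subtype.val h))
    have hkl' : a ^ k = z ^ l := by
      have := congrArg Subtype.val hkl
      simpa using this
    have hk1' : a ^ k ≠ 1 := by
      intro h
      apply hk1
      apply Subtype.ext
      simpa using h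
    have hmem : a ^ k ∈ A ⊓ centralizer (Q : Set G) ⊓ ⁅A, Q⁆ := by
      refine ⟨⟨A.pow_mem (hA1A ha.1) k, ?_⟩, Subgroup.pow_mem _ ha.1 k⟩
      rw [hkl']
      exact Subgroup.pow_mem _ hzQ l
    rw [hfit] at hmem
    exact hk1' (Subgroup.mem_bot.mp hmem)

/-- F2. -/
theorem cyclic_le_centralizer {G : Type*} [Group G] [Finite G] {p : ℕ} [Fact p.Prime] (Y R : Subgroup G)
    (hY : IsPGroup p Y) (hYc : IsCyclic ↥Y) (hRY : R ≤ normalizer (Y : Set G)) (hRp : (Nat.card R).Coprime p)
    (z : G) (hzY : z ∈ Y) (hz1 : z ≠ 1) (hzR : z ∈ centralizer (R : Set G)) :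
    Y ≤ centralizer (R : Set G) := by
  classical
  have hYab : ∀ a ∈ Y, ∀ b ∈ Y, a * b = b * a := by
    intro a ha b hb
    obtain ⟨g, hg⟩ := hYc
    obtain ⟨i, hi⟩ := hg ⟨a, ha⟩
    obtain ⟨j, hj⟩ := hg ⟨b, hb⟩
    have : (⟨a, ha⟩ : ↥Y) * ⟨b, hb⟩ = ⟨b, hb⟩ * ⟨a, ha⟩ := by
      rw [← hi, ← hj]
      simp only []
      rw [← zpow_add, ← zpow_add, add_comm]
    exact congrArg Subtype.val this
  have hfit := cent_inf_comm_eq_bot Y R hY hYab hRY hRp
  have hY1 : ⁅Y, R⁆ ≤ Y := commutator_le_of_le_normalizer Y R hRY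
  rw [← Subgroup.commutator_eq_bot_iff_le_centralizer]
  by_contra hne
  obtain ⟨b, hb, hb1⟩ : ∃ b ∈ ⁅Y, R⁆, b ≠ 1 := by
    by_contra hcon
    push_neg at hcon
    exact hne (eq_bot_iff.mpr fun x hx => Subgroup.mem_bot.mpr (hcon x hx))
  haveI := hYc
  obtain ⟨k, l, hkl, hk1⟩ := exists_common_pow hY (⟨z, hzY⟩ : ↥Y) ⟨b, hY1 hb⟩
    (fun h => hz1 (congrArg Subtype.val h)) (fun h => hb1 (congrArg Subtype.val h))
  have hkl' : z ^ k = b ^ l := by
    have := congrArg Subtype.val hkl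
    simpa using this
  have hk1' : z ^ k ≠ 1 := by
    intro h
    apply hk1
    apply Subtype.ext
    simpa using h
  have hmem : z ^ k ∈ Y ⊓ centralizer (R : Set G) ⊓ ⁅Y, R⁆ := by
    refine ⟨⟨Y.pow_mem hzY k, Subgroup.pow_mem _ hzR k⟩, ?_⟩
    rw [hkl']
    exact Subgroup.pow_mem _ hb l
  rw [hfit] at hmem
  exact hk1' (Subgroup.mem_bot.mp hmem)

end Cfsg.Agent.Lib.Helper74.BGFrobF
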