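import Cfsg.Agent.Lib.Helper74.BGFrobF2

set_option autoImplicit false

namespace Cfsg.Agent.Lib.Helper74.BGFrobF

open Subgroup

theorem mem_normalizer_inf {G : Type*} [Group G] (A B : Subgroup G) (g : G)
    (hA : g ∈ normalizer (A : Set G)) (hB : g ∈ normalizer (B : Set G)) :
    g ∈ normalizer ((A ⊓ B : Subgroup G) : Set G) := by
  rw [Subgroup.mem_normalizer_iff] at hA hB ⊢
  intro h
  rw [Subgroup.mem_inf, Subgroup.mem_inf, hA h, hB h]

theorem mem_normalizer_centralizer {G : Type*} [Group G] (Q : Subgroup G) (g : G)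
    (hQ : g ∈ normalizer (Q : Set G)) :
    g ∈ normalizer ((centralizer (Q : Set G) : Subgroup G) : Set G) := by
  have key : ∀ g : G, g ∈ normalizer (Q : Set G) → ∀ h ∈ centralizer (Q : Set G),
      g * h * g⁻¹ ∈ centralizer (Q : Set G) := by
    intro g hg h hh
    rw [Subgroup.mem_centralizer_iff] at hh ⊢
    intro q hq
    have hq' : g⁻¹ * q * g ∈ Q := by
      have := (Subgroup.mem_normalizer_iff.mp ((normalizer (Q : Set G)).inv_mem hg) q).mp hq
      simpa using this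
    have h1 := hh _ hq'
    calc q * (g * h * g⁻¹) = g * ((g⁻¹ * q * g) * h) * g⁻¹ := by group
      _ = g * (h * (g⁻¹ * q * g)) * g⁻¹ := by rw [h1]
      _ = g * h * g⁻¹ * q := by group
  rw [Subgroup.mem_normalizer_iff]
  intro h
  constructor
  · exact key g hQ h
  · intro hh
    have := key g⁻¹ ((normalizer (Q : Set G)).inv_mem hQ) _ hh
    simpa [mul_assoc] using this

theorem comm_of_isCyclic {G : Type*} [Group G] (Y : Subgroup G) (hYc : IsCyclic ↥Y) :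
    ∀ a ∈ Y, ∀ b ∈ Y, a * b = b * a := by
  intro a ha b hb
  obtain ⟨g, hg⟩ := hYc
  obtain ⟨i, hi⟩ := hg ⟨a, ha⟩
  obtain ⟨j, hj⟩ := hg ⟨b, hb⟩
  have : (⟨a, ha⟩ : ↥Y) * ⟨b, hb⟩ = ⟨b, hb⟩ * ⟨a, ha⟩ := by
    rw [← hi, ← hj]
    simp only []
    rw [← zpow_add, ← zpow_add, add_comm]
  exact congrArg Subtype.val this

/-- LEMMA F in helper31's shape (keystone 142814), modulo the nonabelian core F3-F5 (`hcore`). -/
theorem family_of_core {G : Type*} [Group G] [Finite G] {p : ℕ} [Fact p.Prime] {ι : Type*}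
    (S P₀ : Subgroup G) (Q R : ι → Subgroup G) (hS : IsPGroup p S)
    (hQp : ∀ i, ¬ p ∣ Nat.card (Q i))
    (hRc : ∀ i, (Nat.card (R i)).Prime ∧ Nat.card (R i) ≠ p)
    (hRQ : ∀ i, R i ≤ Subgroup.normalizer (Q i : Set G))
    (hfix : ∀ i, Q i ⊓ Subgroup.centralizer (R i : Set G) = ⊥)
    (hQS : ∀ i, Q i ≤ Subgroup.normalizer (S : Set G))
    (hRS : ∀ i, R i ≤ Subgroup.normalizer (S : Set G))
    (hRQs : ∀ i, R i ≤ Subgroup.normalizer ((⨆ j, Q j : Subgroup G) : Set G))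
    (hCR : ∀ i, IsCyclic ↥(S ⊓ Subgroup.centralizer (R i : Set G)))
    (hCQ : IsCyclic ↥(S ⊓ Subgroup.centralizer ((⨆ j, Q j : Subgroup G) : Set G)))
    (hP₀1 : P₀ ≠ ⊥) (hP₀S : P₀ ≤ S) (hP₀Q : ∀ i, Q i ≤ Subgroup.centralizer (P₀ : Set G))
    (hP₀R : ∀ i, R i ≤ Subgroup.centralizer (P₀ : Set G))
    (hcore : (⨆ i, (Q i ⊔ R i) : Subgroup G) ≤ normalizer (S : Set G) →
      (∀ i, (Nat.card (Q i)).Coprime p) → (∀ i, (Nat.card (R i)).Coprime p) →
      (∀ i, ∀ ρ ∈ R i, ρ ≠ 1 → ∀ y ∈ Q i, ρ * y = y * ρ → y = 1) →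
      (∀ A : Subgroup G, A ≤ S → (∀ a ∈ A, ∀ b ∈ A, a * b = b * a) →
        (⨆ i, (Q i ⊔ R i) : Subgroup G) ≤ normalizer (A : Set G) →
        A ≤ S ⊓ centralizer ((⨆ i, Q i : Subgroup G) : Set G)) →
      (∀ a ∈ S ⊓ centralizer ((⨆ i, Q i : Subgroup G) : Set G),
        ∀ b ∈ S ⊓ centralizer ((⨆ i, Q i : Subgroup G) : Set G), a * b = b * a) →
      ((⨆ i, (Q i ⊔ R i) : Subgroup G) ≤
        centralizer ((S ⊓ centralizer ((⨆ i, Q i : Subgroup G) : Set G) : Subgroup G) : Set G)) →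
      ∀ a ∈ S, ∀ b ∈ S, a * b = b * a) :
    IsCyclic S := by
  classical
  have hp := (Fact.out : p.Prime)
  set Γ : Subgroup G := ⨆ i, (Q i ⊔ R i) with hΓ
  set Qs : Subgroup G := ⨆ j, Q j with hQs
  have hQΓ : ∀ i, Q i ≤ Γ := fun i => le_trans le_sup_left (le_iSup (fun i => Q i ⊔ R i) i)
  have hRΓ : ∀ i, R i ≤ Γ := fun i => le_trans le_sup_right (le_iSup (fun i => Q i ⊔ R i) i)
  have hΓS : Γ ≤ normalizer (S : Set G) := iSup_le fun i => sup_le (hQS i) (hRS i)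
  have hQp' : ∀ i, (Nat.card (Q i)).Coprime p := fun i =>
    ((Nat.Prime.coprime_iff_not_dvd hp).mpr (hQp i)).symm
  have hRp' : ∀ i, (Nat.card (R i)).Coprime p := fun i =>
    (Nat.coprime_primes (hRc i).1 hp).mpr (hRc i).2
  -- fixed-point-freeness elementwise
  have hfpf : ∀ i, ∀ ρ ∈ R i, ρ ≠ 1 → ∀ y ∈ Q i, ρ * y = y * ρ → y = 1 := by
    intro i ρ hρ hρ1 y hy hc
    haveI : Fact (Nat.card ↥(R i)).Prime := ⟨(hRc i).1⟩
    have hyc : y ∈ centralizer (R i : Set G) := by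
      rw [Subgroup.mem_centralizer_iff]
      intro σ hσ
      have hmem : (⟨σ, hσ⟩ : ↥(R i)) ∈ Subgroup.zpowers (⟨ρ, hρ⟩ : ↥(R i)) :=
        mem_zpowers_of_prime_card rfl (fun h => hρ1 (congrArg Subtype.val h))
      obtain ⟨k, hk⟩ := hmem
      have hk' : ρ ^ k = σ := by
        have := congrArg Subtype.val hk
        simpa using this
      rw [← hk']
      have hcomm : Commute ρ y := hc
      exact ((hcomm.zpow_left k).eq)
    have : y ∈ Q i ⊓ centralizer (R i : Set G) := ⟨hy, hyc⟩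
    rw [hfix i] at this
    exact Subgroup.mem_bot.mp this
  -- the fixed element z
  obtain ⟨z, hzP, hz1⟩ := (Subgroup.ne_bot_iff_exists_ne_one.mp hP₀1 |> fun ⟨⟨z, hz⟩, h⟩ =>
    (⟨z, hz, fun h' => h (Subtype.ext h')⟩ : ∃ z ∈ P₀, z ≠ 1))
  have hzS : z ∈ S := hP₀S hzP
  have hzQ : ∀ i, z ∈ centralizer (Q i : Set G) := fun i =>
    (Subgroup.le_centralizer_iff.mp (hP₀Q i)) hzP
  have hzR : ∀ i, z ∈ centralizer (R i : Set G) := fun i =>
    (Subgroup.le_centralizer_iff.mp (hP₀R i)) hzP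
  have hzQs : z ∈ centralizer (Qs : Set G) := by
    have : Qs ≤ centralizer (P₀ : Set G) := iSup_le hP₀Q
    exact (Subgroup.le_centralizer_iff.mp this) hzP
  have hzY : z ∈ S ⊓ centralizer (Qs : Set G) := ⟨hzS, hzQs⟩
  -- F1
  have hF1 : ∀ A : Subgroup G, A ≤ S → (∀ a ∈ A, ∀ b ∈ A, a * b = b * a) →
      Γ ≤ normalizer (A : Set G) → A ≤ S ⊓ centralizer (Qs : Set G) := by
    intro A hAS hAab hΓA
    refine le_inf hAS ?_
    rw [Subgroup.le_centralizer_iff]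
    refine iSup_le fun i => ?_
    rw [← Subgroup.le_centralizer_iff]
    exact abelian_le_centralizer S A (Q i) (R i) hS hAS hAab ((hQΓ i).trans hΓA) ((hRΓ i).trans hΓA)
      (hRQ i) (hfpf i) (hQp' i) (hCR i) z hzS hz1 (hzQ i) (hzR i)
  -- Y abelian
  have hYab := comm_of_isCyclic (S ⊓ centralizer (Qs : Set G)) hCQ
  -- F2
  have hF2 : Γ ≤ centralizer ((S ⊓ centralizer (Qs : Set G) : Subgroup G) : Set G) := by
    refine iSup_le fun i => sup_le ?_ ?_
    · rw [Subgroup.le_centralizer_iff]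
      refine le_trans inf_le_right ?_
      apply Subgroup.centralizer_le
      exact_mod_cast (le_iSup (fun j => Q j) i)
    · rw [Subgroup.le_centralizer_iff]
      refine cyclic_le_centralizer (S ⊓ centralizer (Qs : Set G)) (R i) (hS.to_le inf_le_left) hCQ ?_
        (hRp' i) z hzY hz1 (hzR i)
      intro g hg
      exact mem_normalizer_inf _ _ g (hRS i hg) (mem_normalizer_centralizer Qs g (hRQs i hg))
  have hab := hcore hΓS hQp' hRp' hfpf hF1 hYab hF2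
  have hSY : S ≤ S ⊓ centralizer (Qs : Set G) := hF1 S le_rfl hab hΓS
  have heq : S ⊓ centralizer (Qs : Set G) = S := inf_eq_left.mpr (le_trans hSY inf_le_right)
  rw [heq] at hCQ
  exact hCQ

end Cfsg.Agent.Lib.Helper74.BGFrobF
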