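import Mathlib

/-!
# K-CD3 pack (S4460), leaf 446025 K-CD3-GRP: `frobenius_structure` (Isaacs 12.3(b)), pure group theory.

`X` finite solvable non-abelian, every nontrivial normal subgroup contains `X'`, `X` not of prime power order.
Then `X = X' ⋊ Q` with `X'` an elementary abelian `r`-group, `Q` abelian of order prime to `r` acting
fixed-point-freely.  Route (no coprime-action theory): `V = X'` abelian of exponent `r`; `P ⊇ V` a normal Sylow
`r`-subgroup, `Q` a complement (Schur-Zassenhaus); `V ≤ Z(P)`; `Q`-invariant subgroups of `V` are normal;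
`C_Q(V) = 1`; `C_V(t) = 1` for `1 ≠ t ∈ Q`; `p ↦ [t,p]` maps `P` to `V` and is bijective on `V`, so
`P = C_P(t) V` with `C_P(t)` normal, hence trivial: `P = V`.
-/

set_option autoImplicit false
set_option linter.unusedVariables false

namespace Cfsg.Agent.Lib.Helper74.CD3

universe u

section
variable {X : Type u} [Group X]


theorem grp_comm_mem (g h : X) : g * h * g⁻¹ * h⁻¹ ∈ commutator X := by
  have := Subgroup.commutator_mem_commutator (Subgroup.mem_top g) (Subgroup.mem_top h)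
  rw [commutatorElement_def] at this
  exact this

/-- a subgroup containing the commutator subgroup is normal -/
theorem grp_normal_of_le (P : Subgroup X) (h : commutator X ≤ P) : P.Normal := by
  constructor
  intro n hn g
  have h1 : g * n * g⁻¹ * n⁻¹ ∈ P := h (grp_comm_mem g n)
  have h2 := P.mul_mem h1 hn
  simpa using h2

/-- `X'` is nontrivial for a nonabelian group -/
theorem grp_comm_ne_bot (hnab : ∃ a b : X, a * b ≠ b * a) : commutator X ≠ ⊥ := by
  obtain ⟨a, b, hab⟩ := hnab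
  intro h
  have h1 := grp_comm_mem a b
  rw [h, Subgroup.mem_bot] at h1
  apply hab
  calc a * b = (a * b * a⁻¹ * b⁻¹) * (b * a) := by group
    _ = b * a := by rw [h1, one_mul]

/-- `X'` is abelian when it is the unique minimal normal subgroup of a solvable group -/
theorem grp_comm_abelian [Finite X] (hsolv : Group.IsSolvable X)
    (hnab : ∃ a b : X, a * b ≠ b * a)
    (hmin : ∀ L : Subgroup X, L.Normal → L ≠ ⊥ → commutator X ≤ L) :
    ∀ a ∈ commutator X, ∀ b ∈ commutator X, a * b = b * a := by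
  have hVne := grp_comm_ne_bot hnab
  set V := commutator X with hV
  have hD2n : (⁅V, V⁆ : Subgroup X).Normal := Subgroup.commutator_normal V V
  have hD2le : ⁅V, V⁆ ≤ V := Subgroup.commutator_le_right V V
  have hD2 : (⁅V, V⁆ : Subgroup X) = ⊥ := by
    by_contra hne
    have hle := hmin _ hD2n hne
    have heq : (⁅V, V⁆ : Subgroup X) = V := le_antisymm hD2le hle
    have hall : ∀ n : ℕ, derivedSeries X (n + 1) = V := by
      intro n
      induction n with
      | zero => rw [zero_add, derivedSeries_one]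
      | succ n ih => rw [derivedSeries_succ, ih, heq]
    obtain ⟨n, hn⟩ := (Group.isSolvable_def X).1 hsolv
    rcases n with _ | n
    · rw [derivedSeries_zero] at hn
      have h1 : V ≤ ⊤ := le_top
      rw [hn] at h1
      exact hVne (le_bot_iff.1 h1)
    · rw [hall n] at hn
      exact hVne hn
  intro a ha b hb
  have h1 := Subgroup.commutator_mem_commutator ha hb
  rw [hD2, Subgroup.mem_bot, commutatorElement_def] at h1
  calc a * b = (a * b * a⁻¹ * b⁻¹) * (b * a) := by group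
    _ = b * a := by rw [h1, one_mul]



/-- the elements of order dividing `r` in an abelian normal subgroup -/
def grpOmega (V : Subgroup X) (hab : ∀ a ∈ V, ∀ b ∈ V, a * b = b * a) (r : ℕ) : Subgroup X where
  carrier := {v | v ∈ V ∧ v ^ r = 1}
  one_mem' := ⟨V.one_mem, one_pow r⟩
  mul_mem' := by
    rintro a b ⟨ha, har⟩ ⟨hb, hbr⟩
    refine ⟨V.mul_mem ha hb, ?_⟩
    have hc : Commute a b := hab a ha b hb
    rw [hc.mul_pow, har, hbr, one_mul]
  inv_mem' := by
    rintro a ⟨ha, har⟩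
    exact ⟨V.inv_mem ha, by rw [inv_pow, har, inv_one]⟩

theorem grpOmega_normal (V : Subgroup X) [hVn : V.Normal]
    (hab : ∀ a ∈ V, ∀ b ∈ V, a * b = b * a) (r : ℕ) : (grpOmega V hab r).Normal := by
  constructor
  rintro n ⟨hn, hnr⟩ g
  exact ⟨hVn.conj_mem n hn g, by rw [conj_pow, hnr, mul_one, mul_inv_cancel]⟩

theorem grp_exponent [Finite X] (hnab : commutator X ≠ ⊥)
    (hmin : ∀ L : Subgroup X, L.Normal → L ≠ ⊥ → commutator X ≤ L)
    (hab : ∀ a ∈ commutator X, ∀ b ∈ commutator X, a * b = b * a) :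
    ∃ r : ℕ, r.Prime ∧ ∀ v ∈ commutator X, v ^ r = 1 := by
  have hcard : Nat.card (commutator X) ≠ 1 := by
    intro h
    exact hnab ((Subgroup.card_eq_one).1 h)
  obtain ⟨r, hr, hdvd⟩ := Nat.exists_prime_and_dvd hcard
  have : Fact r.Prime := ⟨hr⟩
  obtain ⟨x, hx⟩ := exists_prime_orderOf_dvd_card' r hdvd
  have hΩn := grpOmega_normal (commutator X) hab r
  have hΩne : grpOmega (commutator X) hab r ≠ ⊥ := by
    intro h
    have hxmem : (x : X) ∈ grpOmega (commutator X) hab r := by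
      refine ⟨x.2, ?_⟩
      have : x ^ r = 1 := by rw [← hx]; exact pow_orderOf_eq_one x
      have := congrArg Subtype.val this
      simpa using this
    rw [h, Subgroup.mem_bot] at hxmem
    have hx1 : x = 1 := Subtype.ext hxmem
    rw [hx1, orderOf_one] at hx
    exact hr.one_lt.ne hx
  have hle := hmin _ hΩn hΩne
  exact ⟨r, hr, fun v hv => (hle hv).2⟩



/-- `a b = b a` from a trivial commutator -/
theorem grp_comm_of_eq_one {a b : X} (h : a * b * a⁻¹ * b⁻¹ = 1) : a * b = b * a := by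
  calc a * b = (a * b * a⁻¹ * b⁻¹) * (b * a) := by group
    _ = b * a := by rw [h, one_mul]

/-- (6) the complement is abelian -/
theorem grp_Q_abelian (V P Q : Subgroup X) (hVc : ∀ g h : X, g * h * g⁻¹ * h⁻¹ ∈ V) (hVP : V ≤ P)
    (hdisj : P ⊓ Q = ⊥) : ∀ a ∈ Q, ∀ b ∈ Q, a * b = b * a := by
  intro a ha b hb
  apply grp_comm_of_eq_one
  have h1 : a * b * a⁻¹ * b⁻¹ ∈ P ⊓ Q :=
    ⟨hVP (hVc a b), Q.mul_mem (Q.mul_mem (Q.mul_mem ha hb) (Q.inv_mem ha)) (Q.inv_mem hb)⟩
  rw [hdisj, Subgroup.mem_bot] at h1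
  exact h1

/-- (8) `V ≤ Z(P)` -/
theorem grp_V_central [Finite X] (V P : Subgroup X) (r : ℕ) [Fact r.Prime] [hPn : P.Normal]
    (hVne : V ≠ ⊥) (hmin : ∀ L : Subgroup X, L.Normal → L ≠ ⊥ → V ≤ L) (hVP : V ≤ P)
    (hPr : IsPGroup r P) : ∀ v ∈ V, ∀ p ∈ P, p * v = v * p := by
  have hPnt : Nontrivial P := by
    obtain ⟨v, hv⟩ := (Subgroup.ne_bot_iff_exists_ne_one).1 hVne
    refine ⟨⟨⟨v.1, hVP v.2⟩, 1, ?_⟩⟩
    intro h
    apply hv
    apply Subtype.ext
    have := congrArg (fun x : P => (x : X)) h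
    simpa using this
  have hZ := hPr.center_nontrivial
  obtain ⟨z, hz⟩ := exists_ne (1 : Subgroup.center P)
  set ZP : Subgroup X := P ⊓ Subgroup.centralizer (P : Set X) with hZP
  have hZPn : ZP.Normal := by
    constructor
    intro n hn g
    rw [hZP, Subgroup.mem_inf] at hn ⊢
    obtain ⟨hnP, hnC⟩ := hn
    refine ⟨hPn.conj_mem n hnP g, ?_⟩
    rw [Subgroup.mem_centralizer_iff] at hnC ⊢
    intro h hh
    have h1 : g⁻¹ * h * g ∈ P := by
      have := hPn.conj_mem h hh g⁻¹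
      simpa using this
    have h2 := hnC _ h1
    calc h * (g * n * g⁻¹) = g * ((g⁻¹ * h * g) * n) * g⁻¹ := by group
      _ = g * (n * (g⁻¹ * h * g)) * g⁻¹ := by rw [h2]
      _ = g * n * g⁻¹ * h := by group
  have hZPne : ZP ≠ ⊥ := by
    intro h
    have hzmem : ((z : P) : X) ∈ ZP := by
      rw [hZP, Subgroup.mem_inf]
      refine ⟨(z : P).2, ?_⟩
      rw [Subgroup.mem_centralizer_iff]
      intro h hh
      have := (Subgroup.mem_center_iff.1 z.2) ⟨h, hh⟩
      exact congrArg Subtype.val this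
    rw [h, Subgroup.mem_bot] at hzmem
    apply hz
    ext
    exact hzmem
  have hle := hmin _ hZPn hZPne
  intro v hv p hp
  have := hle hv
  rw [hZP, Subgroup.mem_inf, Subgroup.mem_centralizer_iff] at this
  exact this.2 p hp

/-- (9) a `Q`-invariant subgroup of `V` is normal -/
theorem grp_normal_of_Qinv (V P Q N : Subgroup X)
    (hcent : ∀ v ∈ V, ∀ p ∈ P, p * v = v * p)
    (hdec : ∀ g : X, ∃ p ∈ P, ∃ q ∈ Q, g = p * q) (hNV : N ≤ V)
    (hinv : ∀ q ∈ Q, ∀ n ∈ N, q * n * q⁻¹ ∈ N) : N.Normal := by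
  constructor
  intro n hn g
  obtain ⟨p, hp, q, hq, rfl⟩ := hdec g
  have h1 := hinv q hq n hn
  have h2 := hcent _ (hNV h1) p hp
  have : p * q * n * (p * q)⁻¹ = q * n * q⁻¹ := by
    calc p * q * n * (p * q)⁻¹ = (p * (q * n * q⁻¹)) * p⁻¹ := by group
      _ = (q * n * q⁻¹) * p * p⁻¹ := by rw [h2]
      _ = q * n * q⁻¹ := by group
  rw [this]
  exact h1

/-- (10) no nontrivial element of `Q` centralizes `V` -/
theorem grp_CQV [Finite X] (V P Q : Subgroup X) (r : ℕ)
    (hVc : ∀ g h : X, g * h * g⁻¹ * h⁻¹ ∈ V)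
    (hVne : V ≠ ⊥) (hmin : ∀ L : Subgroup X, L.Normal → L ≠ ⊥ → V ≤ L)
    (hexp : ∀ v ∈ V, v ^ r = 1) (hVP : V ≤ P) (hdisj : P ⊓ Q = ⊥)
    (hQr : (Nat.card Q).Coprime r) :
    ∀ t ∈ Q, (∀ v ∈ V, t * v = v * t) → t = 1 := by
  set D : Subgroup X := Q ⊓ Subgroup.centralizer (V : Set X) with hD
  -- every element of `D` is central
  have hcentral : ∀ t ∈ D, ∀ g : X, g * t * g⁻¹ = t := by
    intro t ht g
    rw [hD, Subgroup.mem_inf, Subgroup.mem_centralizer_iff] at ht
    obtain ⟨htQ, htC⟩ := ht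
    set v := g * t * g⁻¹ * t⁻¹ with hv
    have hvV : v ∈ V := hVc g t
    have hgt : g * t * g⁻¹ = v * t := by rw [hv]; group
    set n := Nat.card Q with hn
    have htn : t ^ n = 1 := by
      have h3 : (⟨t, htQ⟩ : Q) ^ Nat.card Q = 1 := pow_card_eq_one'
      have h4 := congrArg Subtype.val h3
      rw [Subgroup.coe_pow, Subgroup.coe_one] at h4
      exact h4
    have hcomm : Commute v t := htC v hvV
    have h1 : (v * t) ^ n = v ^ n := by rw [hcomm.mul_pow, htn, mul_one]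
    have h2 : (g * t * g⁻¹) ^ n = 1 := by rw [conj_pow, htn, mul_one, mul_inv_cancel]
    have hvn : v ^ n = 1 := by rw [← h1, ← hgt, h2]
    have hvr : v ^ r = 1 := hexp v hvV
    have ho1 : orderOf v ∣ n := orderOf_dvd_of_pow_eq_one hvn
    have ho2 : orderOf v ∣ r := orderOf_dvd_of_pow_eq_one hvr
    have ho : orderOf v ∣ 1 := by
      have := Nat.dvd_gcd ho1 ho2
      rwa [Nat.Coprime.gcd_eq_one hQr] at this
    have hv1 : v = 1 := orderOf_eq_one_iff.1 (Nat.dvd_one.1 ho)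
    rw [hgt, hv1, one_mul]
  have hDn : D.Normal := by
    constructor
    intro t ht g
    rw [hcentral t ht g]
    exact ht
  have hDbot : D = ⊥ := by
    by_contra hne
    have hle := hmin _ hDn hne
    apply hVne
    rw [eq_bot_iff]
    intro v hv
    have h1 : v ∈ P ⊓ Q := by
      refine ⟨hVP hv, ?_⟩
      have := hle hv
      rw [hD, Subgroup.mem_inf] at this
      exact this.1
    rwa [hdisj] at h1
  intro t htQ htC
  have : t ∈ D := by
    rw [hD, Subgroup.mem_inf, Subgroup.mem_centralizer_iff]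
    exact ⟨htQ, fun v hv => (htC v hv).symm⟩
  rw [hDbot, Subgroup.mem_bot] at this
  exact this

/-- (11) every nontrivial element of `Q` acts fixed-point-freely on `V` -/
theorem grp_fpf (V P Q : Subgroup X) [hVn : V.Normal]
    (hmin : ∀ L : Subgroup X, L.Normal → L ≠ ⊥ → V ≤ L)
    (hcent : ∀ v ∈ V, ∀ p ∈ P, p * v = v * p)
    (hdec : ∀ g : X, ∃ p ∈ P, ∃ q ∈ Q, g = p * q)
    (hQab : ∀ a ∈ Q, ∀ b ∈ Q, a * b = b * a)
    (hCQV : ∀ t ∈ Q, (∀ v ∈ V, t * v = v * t) → t = 1) :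
    ∀ t ∈ Q, t ≠ 1 → ∀ v ∈ V, t * v = v * t → v = 1 := by
  intro t htQ ht1 v hv htv
  set C : Subgroup X := V ⊓ Subgroup.centralizer ({t} : Set X) with hC
  have hmemC : ∀ w : X, w ∈ C ↔ w ∈ V ∧ t * w = w * t := by
    intro w
    rw [hC, Subgroup.mem_inf, Subgroup.mem_centralizer_iff]
    simp
  have hCn : C.Normal := by
    apply grp_normal_of_Qinv V P Q C hcent hdec
    · intro w hw
      exact ((hmemC w).1 hw).1
    · intro q hq w hw
      obtain ⟨hwV, hwt⟩ := (hmemC w).1 hw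
      refine (hmemC _).2 ⟨hVn.conj_mem w hwV q, ?_⟩
      have hqt : t * q = q * t := hQab t htQ q hq
      have hqt' : t * q⁻¹ = q⁻¹ * t := hQab t htQ q⁻¹ (Q.inv_mem hq)
      calc t * (q * w * q⁻¹) = (t * q) * w * q⁻¹ := by group
        _ = (q * t) * w * q⁻¹ := by rw [hqt]
        _ = q * (t * w) * q⁻¹ := by group
        _ = q * (w * t) * q⁻¹ := by rw [hwt]
        _ = q * w * (t * q⁻¹) := by group
        _ = q * w * (q⁻¹ * t) := by rw [hqt']
        _ = q * w * q⁻¹ * t := by group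
  have hCbot : C = ⊥ := by
    by_contra hne
    have hle := hmin _ hCn hne
    exact ht1 (hCQV t htQ (fun w hw => ((hmemC w).1 (hle hw)).2))
  have : v ∈ C := (hmemC v).2 ⟨hv, htv⟩
  rw [hCbot, Subgroup.mem_bot] at this
  exact this

theorem grp_cancel (t a b : X) (e : t * a * t⁻¹ * a⁻¹ = t * b * t⁻¹ * b⁻¹) :
    t * (b⁻¹ * a) = (b⁻¹ * a) * t := by
  have h : t * a * t⁻¹ = t * b * t⁻¹ * b⁻¹ * a := by rw [← e]; group
  calc t * (b⁻¹ * a) = (t * b * t⁻¹)⁻¹ * (t * a * t⁻¹) * t := by group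
    _ = (t * b * t⁻¹)⁻¹ * (t * b * t⁻¹ * b⁻¹ * a) * t := by rw [h]
    _ = b⁻¹ * a * t := by group

/-- (12) `P ≤ V` -/
theorem grp_P_le_V [Finite X] (V P Q : Subgroup X) [hVn : V.Normal] [hPn : P.Normal]
    (hVc : ∀ g h : X, g * h * g⁻¹ * h⁻¹ ∈ V) (hVne : V ≠ ⊥)
    (hmin : ∀ L : Subgroup X, L.Normal → L ≠ ⊥ → V ≤ L) (hVP : V ≤ P)
    (hcent : ∀ v ∈ V, ∀ p ∈ P, p * v = v * p)
    (hdec : ∀ g : X, ∃ p ∈ P, ∃ q ∈ Q, g = p * q)
    (hQab : ∀ a ∈ Q, ∀ b ∈ Q, a * b = b * a)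
    (hfpf : ∀ t ∈ Q, t ≠ 1 → ∀ v ∈ V, t * v = v * t → v = 1)
    (t : X) (htQ : t ∈ Q) (ht1 : t ≠ 1) : P ≤ V := by
  let f : V → V := fun v => ⟨t * v * t⁻¹ * (v : X)⁻¹, hVc t v⟩
  have hinj : Function.Injective f := by
    intro v w hvw
    have e : t * (v : X) * t⁻¹ * (v : X)⁻¹ = t * (w : X) * t⁻¹ * (w : X)⁻¹ :=
      congrArg Subtype.val hvw
    have h1 := grp_cancel t v w e
    have h2 : (w : X)⁻¹ * v = 1 :=
      hfpf t htQ ht1 _ (V.mul_mem (V.inv_mem w.2) v.2) h1
    apply Subtype.ext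
    calc (v : X) = w * ((w : X)⁻¹ * v) := by group
      _ = w := by rw [h2, mul_one]
  have hsurj : Function.Surjective f := Finite.injective_iff_surjective.1 hinj
  set C : Subgroup X := P ⊓ Subgroup.centralizer ({t} : Set X) with hC
  have hmemC : ∀ w : X, w ∈ C ↔ w ∈ P ∧ t * w = w * t := by
    intro w
    rw [hC, Subgroup.mem_inf, Subgroup.mem_centralizer_iff]
    simp
  have hCn : C.Normal := by
    constructor
    intro n hn g
    obtain ⟨hnP, hnt⟩ := (hmemC n).1 hn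
    obtain ⟨p, hp, q, hq, rfl⟩ := hdec g
    -- first conjugate by `q`
    have hn'P : q * n * q⁻¹ ∈ P := hPn.conj_mem n hnP q
    have hqt : t * q = q * t := hQab t htQ q hq
    have hqt' : t * q⁻¹ = q⁻¹ * t := hQab t htQ q⁻¹ (Q.inv_mem hq)
    have hn't : t * (q * n * q⁻¹) = (q * n * q⁻¹) * t := by
      calc t * (q * n * q⁻¹) = (t * q) * n * q⁻¹ := by group
        _ = (q * t) * n * q⁻¹ := by rw [hqt]
        _ = q * (t * n) * q⁻¹ := by group
        _ = q * (n * t) * q⁻¹ := by rw [hnt]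
        _ = q * n * (t * q⁻¹) := by group
        _ = q * n * (q⁻¹ * t) := by rw [hqt']
        _ = q * n * q⁻¹ * t := by group
    obtain ⟨n', hn'def⟩ : ∃ n' : X, n' = q * n * q⁻¹ := ⟨_, rfl⟩
    rw [← hn'def] at hn'P hn't
    have hconj : p * q * n * (p * q)⁻¹ = p * n' * p⁻¹ := by rw [hn'def]; group
    rw [hconj]
    have hyP : p * n' * p⁻¹ ∈ P := hPn.conj_mem n' hn'P p
    refine (hmemC _).2 ⟨hyP, ?_⟩
    obtain ⟨d, hddef⟩ : ∃ d : X, d = t * p * t⁻¹ * p⁻¹ := ⟨_, rfl⟩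
    have hdV : d ∈ V := by rw [hddef]; exact hVc t p
    have htp : t * p * t⁻¹ = d * p := by rw [hddef]; group
    have htn' : t * n' * t⁻¹ = n' := by rw [hn't]; group
    have h1 : t * (p * n' * p⁻¹) * t⁻¹ = d * (p * n' * p⁻¹) * d⁻¹ := by
      calc t * (p * n' * p⁻¹) * t⁻¹
          = (t * p * t⁻¹) * (t * n' * t⁻¹) * (t * p * t⁻¹)⁻¹ := by group
        _ = (d * p) * n' * (d * p)⁻¹ := by rw [htp, htn']
        _ = d * (p * n' * p⁻¹) * d⁻¹ := by group
    have h2 : (p * n' * p⁻¹) * d = d * (p * n' * p⁻¹) := hcent d hdV _ hyP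
    have h3 : t * (p * n' * p⁻¹) * t⁻¹ = p * n' * p⁻¹ := by
      rw [h1, ← h2]; group
    calc t * (p * n' * p⁻¹) = (t * (p * n' * p⁻¹) * t⁻¹) * t := by group
      _ = (p * n' * p⁻¹) * t := by rw [h3]
  have hCbot : C = ⊥ := by
    by_contra hne
    have hle := hmin _ hCn hne
    apply hVne
    rw [eq_bot_iff]
    intro v hv
    exact hfpf t htQ ht1 v hv ((hmemC v).1 (hle hv)).2
  intro p hp
  obtain ⟨v, hv⟩ := hsurj ⟨t * p * t⁻¹ * p⁻¹, hVc t p⟩
  have e : t * p * t⁻¹ * p⁻¹ = t * (v : X) * t⁻¹ * (v : X)⁻¹ :=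
    (congrArg Subtype.val hv).symm
  have h1 := grp_cancel t p v e
  have hc : (v : X)⁻¹ * p ∈ C :=
    (hmemC _).2 ⟨P.mul_mem (P.inv_mem (hVP v.2)) hp, h1⟩
  rw [hCbot, Subgroup.mem_bot] at hc
  have : p = v := by
    calc p = v * ((v : X)⁻¹ * p) := by group
      _ = v := by rw [hc, mul_one]
  rw [this]
  exact v.2

end

/-- 446025 K-CD3-GRP: GROUP LEMMA (Isaacs 12.3(b), pure group theory, Mathlib only). -/
theorem frobenius_structure {X : Type u} [Group X] [Finite X] (hsolv : Group.IsSolvable X)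
    (hnab : ∃ a b : X, a * b ≠ b * a)
    (hmin : ∀ L : Subgroup X, L.Normal → L ≠ ⊥ → commutator X ≤ L)
    (hnp : ∀ p : ℕ, p.Prime → ¬ IsPGroup p X) :
    ∃ (r : ℕ) (Q : Subgroup X), r.Prime ∧ IsPGroup r (commutator X) ∧
      (∀ a ∈ commutator X, ∀ b ∈ commutator X, a * b = b * a) ∧
      (∀ a ∈ Q, ∀ b ∈ Q, a * b = b * a) ∧
      commutator X ⊓ Q = ⊥ ∧ commutator X ⊔ Q = ⊤ ∧ (Nat.card Q).Coprime r ∧
      (∀ q ∈ Q, q ≠ 1 → ∀ v ∈ commutator X, q * v = v * q → v = 1) ∧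
      (∀ g : X, g ∉ commutator X → ∀ v ∈ commutator X, g * v = v * g → v = 1) ∧
      (commutator X).index = Nat.card Q ∧ 1 < Nat.card Q ∧
      ∃ a : ℕ, 0 < a ∧ Nat.card (commutator X) = r ^ a := by
  have hVne := grp_comm_ne_bot hnab
  have hab := grp_comm_abelian hsolv hnab hmin
  obtain ⟨r, hr, hexp⟩ := grp_exponent hVne hmin hab
  have : Fact r.Prime := ⟨hr⟩
  have hVp : IsPGroup r (commutator X) := by
    intro v
    refine ⟨1, ?_⟩
    apply Subtype.ext
    rw [pow_one, Subgroup.coe_pow, Subgroup.coe_one]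
    exact hexp v v.2
  obtain ⟨a, ha⟩ := IsPGroup.iff_card.1 hVp
  have ha0 : 0 < a := by
    rcases Nat.eq_zero_or_pos a with h | h
    · exfalso
      rw [h, pow_zero] at ha
      exact hVne (Subgroup.card_eq_one.1 ha)
    · exact h
  obtain ⟨P, hVP⟩ := hVp.exists_le_sylow
  have hPn : (P : Subgroup X).Normal := grp_normal_of_le _ hVP
  have hcop := P.card_coprime_index
  obtain ⟨Q, hPQ⟩ := Subgroup.exists_right_complement'_of_coprime hcop
  have hdisj : (P : Subgroup X) ⊓ Q = ⊥ := hPQ.disjoint.eq_bot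
  have hsup : (P : Subgroup X) ⊔ Q = ⊤ := hPQ.sup_eq_top
  have hdec : ∀ g : X, ∃ p ∈ (P : Subgroup X), ∃ q ∈ Q, g = p * q := by
    intro g
    obtain ⟨⟨p, q⟩, h⟩ := hPQ.2 g
    exact ⟨p.1, p.2, q.1, q.2, h.symm⟩
  have hVc : ∀ g h : X, g * h * g⁻¹ * h⁻¹ ∈ commutator X := grp_comm_mem
  have hQab := grp_Q_abelian (commutator X) (P : Subgroup X) Q hVc hVP hdisj
  have hidx : (P : Subgroup X).index = Nat.card Q := hPQ.symm.index_eq_card
  have hrP : r ∣ Nat.card (P : Subgroup X) := by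
    have h1 : Nat.card (commutator X) ∣ Nat.card (P : Subgroup X) := Subgroup.card_dvd_of_le hVP
    rw [ha] at h1
    exact dvd_trans (dvd_pow_self r (by omega)) h1
  have hQr : (Nat.card Q).Coprime r := by
    rw [← hidx]
    exact (Nat.Coprime.coprime_dvd_left hrP hcop).symm
  have hQne : Q ≠ ⊥ := by
    intro h
    rw [h, sup_bot_eq] at hsup
    apply hnp r hr
    intro g
    have hg : g ∈ (P : Subgroup X) := by rw [hsup]; exact Subgroup.mem_top g
    obtain ⟨k, hk⟩ := P.isPGroup' ⟨g, hg⟩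
    refine ⟨k, ?_⟩
    have := congrArg Subtype.val hk
    rw [Subgroup.coe_pow, Subgroup.coe_one] at this
    exact this
  have hcent := grp_V_central (commutator X) (P : Subgroup X) r hVne hmin hVP P.isPGroup'
  have hCQV := grp_CQV (commutator X) (P : Subgroup X) Q r hVc hVne hmin hexp hVP hdisj hQr
  have hfpf := grp_fpf (commutator X) (P : Subgroup X) Q hmin hcent hdec hQab hCQV
  obtain ⟨t, ht⟩ := (Subgroup.ne_bot_iff_exists_ne_one).1 hQne
  have ht1 : (t : X) ≠ 1 := by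
    intro h
    apply ht
    exact Subtype.ext h
  have hPV : (P : Subgroup X) ≤ commutator X :=
    grp_P_le_V (commutator X) (P : Subgroup X) Q hVc hVne hmin hVP hcent hdec hQab hfpf t t.2 ht1
  have hPeq : (P : Subgroup X) = commutator X := le_antisymm hPV hVP
  refine ⟨r, Q, hr, hVp, hab, hQab, ?_, ?_, hQr, hfpf, ?_, ?_, ?_, a, ha0, ha⟩
  · rw [← hPeq]; exact hdisj
  · rw [← hPeq]; exact hsup
  · intro g hg v hv hgv
    obtain ⟨p, hp, q, hq, rfl⟩ := hdec g
    have hpV : p ∈ commutator X := hPV hp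
    have hq1 : q ≠ 1 := by
      rintro rfl
      apply hg
      rw [mul_one]
      exact hpV
    apply hfpf q hq hq1 v hv
    have hpv : p * v = v * p := hab p hpV v hv
    calc q * v = p⁻¹ * (p * q * v) := by group
      _ = p⁻¹ * (v * (p * q)) := by rw [hgv]
      _ = p⁻¹ * (v * p) * q := by group
      _ = p⁻¹ * (p * v) * q := by rw [hpv]
      _ = v * q := by group
  · rw [← hPeq]; exact hidx
  · exact (Subgroup.one_lt_card_iff_ne_bot Q).2 hQne

end Cfsg.Agent.Lib.Helper74.CD3
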