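import Mathlib

set_option autoImplicit false

namespace Cfsg.Agent.Lib.Helper74

open scoped Pointwise

/-- Membership in a conjugate Sylow subgroup. -/
theorem mem_sylow_smul_iff {G : Type*} [Group G] {p : ℕ} (g : G) (P : Sylow p G) (y : G) :
    y ∈ ((g • P : Sylow p G) : Subgroup G) ↔ g⁻¹ * y * g ∈ (P : Subgroup G) := by
  rw [Sylow.coe_subgroup_smul, Subgroup.mem_pointwise_smul_iff_inv_smul_mem]
  simp [MulAut.smul_def]

/-- Every `p`-element lies in a conjugate of a given Sylow `p`-subgroup. -/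
theorem exists_conj_mem_sylow {G : Type*} [Group G] [Finite G] {p : ℕ} [Fact p.Prime]
    (P : Sylow p G) (x : G) (hx : ∃ k : ℕ, orderOf x = p ^ k) :
    ∃ g : G, g⁻¹ * x * g ∈ (P : Subgroup G) := by
  obtain ⟨k, hk⟩ := hx
  have hpg : IsPGroup p (Subgroup.zpowers x) := by
    apply IsPGroup.of_card (n := k)
    rw [Nat.card_zpowers, hk]
  obtain ⟨Q, hQ⟩ := hpg.exists_le_sylow
  obtain ⟨g, hg⟩ := MulAction.exists_smul_eq G P Q
  refine ⟨g, ?_⟩
  rw [← mem_sylow_smul_iff, hg]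
  exact hQ (Subgroup.mem_zpowers x)

end Cfsg.Agent.Lib.Helper74
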