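import Mathlib
import Cfsg.Agent.Lib.Helper74.CR2Defs
import Cfsg.Agent.Lib.Helper74.CR2Basic
import Cfsg.Agent.Lib.Helper74.EqualOrder
import Cfsg.Agent.Lib.Helper74.SylowConj

/-!
# Conjugate rank two: glue lemmas for S4284
-/

set_option autoImplicit false
set_option linter.unusedSectionVars false
set_option linter.unusedVariables false
set_option linter.style.haveILetI false

namespace Cfsg.Agent.Lib.Helper74.CR2

open Subgroup

variable {G : Type*} [Group G] [Finite G] {m n : ℕ} {p : ℕ} [hp : Fact p.Prime]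

/-- a `p`-subgroup `K` of `C` normalized by a `p`-subgroup `S` of maximal order in `C` lies in `S` -/
theorem le_of_max_card {C S K : Subgroup G} (hS : IsPGroup p S) (hK : IsPGroup p K)
    (hSC : S ≤ C) (hKC : K ≤ C) (hnorm : S ≤ normalizer (K : Set G))
    (hmax : ∀ T : Subgroup G, IsPGroup p T → T ≤ C → Nat.card T ≤ Nat.card S) : K ≤ S := by
  have hT : IsPGroup p (S ⊔ K : Subgroup G) := IsPGroup.to_sup_of_normal_right' hS hK hnorm
  have h1 := hmax _ hT (sup_le hSC hKC)
  have h2 : S = S ⊔ K := Subgroup.eq_of_le_of_card_ge le_sup_left h1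
  rw [h2]
  exact le_sup_right

theorem normal_sylow_inf_center (P : Sylow p G) : ((P : Subgroup G) ⊓ center G).Normal := by
  constructor
  intro z hz g
  have hzc := (Subgroup.mem_inf.1 hz).2
  have := Subgroup.mem_center_iff.1 hzc g
  rw [this, mul_inv_cancel_right]
  exact hz

theorem sylow_inf_center_le (P P0 : Sylow p G) :
    (P0 : Subgroup G) ⊓ center G ≤ (P : Subgroup G) ⊓ center G := by
  obtain ⟨g, rfl⟩ := MulAction.exists_smul_eq G P0 P
  intro z hz
  obtain ⟨hz1, hz2⟩ := Subgroup.mem_inf.1 hz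
  refine Subgroup.mem_inf.2 ⟨?_, hz2⟩
  rw [mem_sylow_smul_iff]
  have := Subgroup.mem_center_iff.1 hz2 g
  rw [mul_assoc, ← this, ← mul_assoc, inv_mul_cancel, one_mul]
  exact hz1

theorem sylow_inf_center_eq (P P0 : Sylow p G) :
    (P0 : Subgroup G) ⊓ center G = (P : Subgroup G) ⊓ center G :=
  le_antisymm (sylow_inf_center_le P P0) (sylow_inf_center_le P0 P)

/-- strict inclusion of `p`-groups gains a factor `p` -/
theorem card_mul_le_of_lt {K T : Subgroup G} (hT : IsPGroup p T) (hKT : K ≤ T) {x : G}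
    (hxT : x ∈ T) (hxK : x ∉ K) : p * Nat.card K ≤ Nat.card T := by
  obtain ⟨a, ha⟩ := IsPGroup.iff_card.1 hT
  have hKp : IsPGroup p K := hT.to_le hKT
  obtain ⟨b, hb⟩ := IsPGroup.iff_card.1 hKp
  have hne : K ≠ T := by
    intro h; rw [h] at hxK; exact hxK hxT
  have hlt : Nat.card K < Nat.card T := by
    by_contra hcon
    push Not at hcon
    exact hne (Subgroup.eq_of_le_of_card_ge hKT hcon)
  rw [ha, hb] at hlt ⊢
  have hba : b < a := (Nat.pow_lt_pow_iff_right hp.out.one_lt).1 hlt
  calc p * p ^ b = p ^ (b + 1) := by rw [pow_succ]; ring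
    _ ≤ p ^ a := Nat.pow_le_pow_right hp.out.pos hba

/-- lower bound: `p² |P ∩ Z| ≤ |P|` for `p ∣ m` -/
theorem Hyp.sq_mul_le_card (H : Hyp G m n) (hpm : p ∣ m) (P : Sylow p G) :
    p ^ 2 * Nat.card ((P : Subgroup G) ⊓ center G : Subgroup G) ≤ Nat.card (P : Subgroup G) := by
  obtain ⟨u0, hu0, hu0Z⟩ := H.exists_noncentral_pElt (p := p) hpm
  have hzp : IsPGroup p (zpowers u0) := by
    obtain ⟨k, hk⟩ := hu0
    exact IsPGroup.of_card (by rw [Nat.card_zpowers, hk])
  obtain ⟨P0, hP0⟩ := hzp.exists_le_sylow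
  rw [← sylow_inf_center_eq P P0]
  have hcardP : Nat.card (P : Subgroup G) = Nat.card (P0 : Subgroup G) := by
    rw [Sylow.card_eq_multiplicity, Sylow.card_eq_multiplicity]
  rw [hcardP]
  set K := (P0 : Subgroup G) ⊓ center G with hK
  haveI : K.Normal := normal_sylow_inf_center P0
  have hKp : IsPGroup p K := P0.isPGroup'.to_le inf_le_left
  have hTp : IsPGroup p (zpowers u0 ⊔ K : Subgroup G) := IsPGroup.to_sup_of_normal_right hzp hKp
  have hTle : (zpowers u0 ⊔ K : Subgroup G) ≤ centralizer ({u0} : Set G) := by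
    apply sup_le
    · rw [zpowers_le, mem_centralizer_singleton_iff]
    · intro s hs
      rw [mem_centralizer_singleton_iff]
      exact (Subgroup.mem_center_iff.1 (Subgroup.mem_inf.1 hs).2 u0).symm
  have h1 := H.card_pgroup_mul_le hpm P0 hu0Z _ hTp hTle
  have h2 : p * Nat.card K ≤ Nat.card (zpowers u0 ⊔ K : Subgroup G) :=
    card_mul_le_of_lt hTp le_sup_right
      ((le_sup_left : zpowers u0 ≤ zpowers u0 ⊔ K) (mem_zpowers u0))
      (fun h => hu0Z (Subgroup.mem_inf.1 h).2)
  have h3 : p ≤ p ^ (m.factorization p) := by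
    calc p = p ^ 1 := (pow_one p).symm
      _ ≤ p ^ (m.factorization p) := Nat.pow_le_pow_right hp.out.pos (H.one_le_factorization hpm)
  calc p ^ 2 * Nat.card K = (p * Nat.card K) * p := by ring
    _ ≤ Nat.card (zpowers u0 ⊔ K : Subgroup G) * p ^ (m.factorization p) :=
        Nat.mul_le_mul h2 h3
    _ ≤ Nat.card (P0 : Subgroup G) := h1

theorem Hyp.factorization_eq_one (H : Hyp G m n) (hpm : p ∣ m) (hp2 : ¬ p ^ 2 ∣ m) :
    m.factorization p = 1 := by
  have h1 := H.one_le_factorization hpm
  have h2 : ¬ 2 ≤ m.factorization p := by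
    intro h
    exact hp2 ((hp.out.pow_dvd_iff_le_factorization H.m_pos.ne').2 h)
  omega


/-- in case (b), every noncentral `p`-element has a noncentral `p'`-element in the centre of its
centralizer -/
theorem Hyp.exists_pprime_noncentral (H : Hyp G m n) (hpm : p ∣ m)
    (hbig : ∀ u : G, (∃ k : ℕ, orderOf u = p ^ k) → u ∉ center G →
      (centralizer ({u} : Set G)).index = m * n)
    (v : G) (hv : ∃ k : ℕ, orderOf v = p ^ k) (hvZ : v ∉ center G) :
    ∃ h ∈ centralizer ({v} : Set G), (orderOf h).Coprime p ∧ h ∉ center G ∧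
      centralizer ({v} : Set G) ≤ centralizer ({h} : Set G) := by
  by_contra hcon
  push Not at hcon
  have hvbig := hbig v hv hvZ
  -- all p'-elements of C(v) are central
  have hall : ∀ h ∈ centralizer ({v} : Set G), (orderOf h).Coprime p → h ∈ center G := by
    intro h hh hcop
    by_contra hhZ
    exact hcon h hh hcop hhZ (H.le_centralizer_of_big hp.out hv hvbig hh hcop)
  obtain ⟨y, hy⟩ := H.exists_small
  obtain ⟨y1, y2, hy12, hc12, hy1z, hy2z, hy1p, hy2p⟩ := exists_pParts p y
  have hle1 : centralizer ({y} : Set G) ≤ centralizer ({y1} : Set G) := by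
    intro g hg
    rw [mem_centralizer_singleton_iff] at hg ⊢
    obtain ⟨i, rfl⟩ := Subgroup.mem_zpowers_iff.1 hy1z
    have : Commute g y := hg
    exact (this.zpow_right i).eq
  have hy1Z : y1 ∈ center G := by
    by_contra hc
    have h1 := hbig y1 hy1p hc
    have h2 := idx_dvd_of_le hle1
    rw [h1, hy] at h2
    have := Nat.le_of_dvd H.m_pos h2
    have := H.m_lt_mn
    omega
  have hCy : centralizer ({y2} : Set G) = centralizer ({y} : Set G) := by
    rw [← hy12, hc12.eq]
    exact (cm_centralizer_mul_central y2 hy1Z).symm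
  have hy2Z : y2 ∉ center G := by
    apply H.not_mem_center_of_idx
    left
    rw [hCy]; exact hy
  obtain ⟨r, j, k, hr, hwZ, hwo⟩ := exists_pow_prime_pow_order (center G) hy2Z
  set w := y2 ^ j with hw
  have hk0 : k ≠ 0 := by
    rintro rfl
    rw [pow_zero, orderOf_eq_one_iff] at hwo
    rw [hwo] at hwZ
    exact hwZ (one_mem _)
  have hrp : r ≠ p := by
    rintro rfl
    have h1 : orderOf w ∣ orderOf y2 := orderOf_pow_dvd j
    rw [hwo] at h1
    have h2 : r ∣ orderOf y2 := dvd_trans (dvd_pow_self r hk0) h1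
    have := Nat.dvd_gcd h2 (dvd_refl r)
    rw [hy2p.gcd_eq_one] at this
    exact hr.one_lt.ne' (Nat.dvd_one.1 this)
  haveI : Fact r.Prime := ⟨hr⟩
  obtain ⟨u1, hu1c, hu1p, hu1Z⟩ := H.exists_noncentral_pElt_centralizer (p := p) hpm y2
  have hu1big := hbig u1 hu1p hu1Z
  have hwu1 : w ∈ centralizer ({u1} : Set G) := by
    rw [mem_centralizer_singleton_iff]
    rw [mem_centralizer_singleton_iff] at hu1c
    have : Commute u1 y2 := hu1c
    exact ((this.pow_right j).eq).symm
  obtain ⟨R⟩ : Nonempty (Sylow r G) := inferInstance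
  obtain ⟨Sv, hSvC, hSvp, hSvcard, -⟩ := exists_sylow_centralizer R v
  obtain ⟨S1, hS1C, hS1p, hS1card, hS1max⟩ := exists_sylow_centralizer R u1
  rw [hvbig] at hSvcard
  rw [hu1big] at hS1card
  have hcardeq : Nat.card S1 = Nat.card Sv := by
    have hpos : 0 < r ^ ((m * n).factorization r) := pow_pos hr.pos _
    have : Nat.card S1 * r ^ ((m * n).factorization r) = Nat.card Sv * r ^ ((m * n).factorization r) := by
      rw [hS1card, hSvcard]
    exact Nat.eq_of_mul_eq_mul_right hpos this
  have hSvZ : Sv ≤ center G := by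
    intro x hx
    apply hall x (hSvC hx)
    obtain ⟨i, hi⟩ := (IsPGroup.iff_orderOf.1 hSvp) ⟨x, hx⟩
    rw [Subgroup.orderOf_mk] at hi
    rw [hi]
    apply Nat.Coprime.pow_left
    exact (Nat.coprime_primes hr hp.out).2 hrp
  have hSvn : Sv.Normal := by
    constructor
    intro s hs g'
    have := Subgroup.mem_center_iff.1 (hSvZ hs) g'
    rw [this, mul_inv_cancel_right]
    exact hs
  have hzw : IsPGroup r (zpowers w) := IsPGroup.of_card (by rw [Nat.card_zpowers, hwo])
  have hTp : IsPGroup r (zpowers w ⊔ Sv : Subgroup G) := IsPGroup.to_sup_of_normal_right hzw hSvp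
  have hTle : (zpowers w ⊔ Sv : Subgroup G) ≤ centralizer ({u1} : Set G) := by
    apply sup_le
    · rw [zpowers_le]; exact hwu1
    · intro s hs
      rw [mem_centralizer_singleton_iff]
      exact (Subgroup.mem_center_iff.1 (hSvZ hs) u1).symm
  have h1 := hS1max _ hTp hTle
  have h2 : r * Nat.card Sv ≤ Nat.card (zpowers w ⊔ Sv : Subgroup G) :=
    card_mul_le_of_lt hTp le_sup_right
      ((le_sup_left : zpowers w ≤ zpowers w ⊔ Sv) (mem_zpowers w))
      (fun h => hwZ (hSvZ h))
  have h3 : 0 < Nat.card Sv := Nat.card_pos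
  have h4 := hr.two_le
  rw [hcardeq] at h1
  nlinarith


/-- in case (b) with `|P : P ∩ Z| = p²`, every element of the centralizer of a noncentral
`p`-element is central in it -/
theorem Hyp.central_in_centralizer (H : Hyp G m n) (hpm : p ∣ m) (hp2 : ¬ p ^ 2 ∣ m)
    (hbig : ∀ u : G, (∃ k : ℕ, orderOf u = p ^ k) → u ∉ center G →
      (centralizer ({u} : Set G)).index = m * n)
    (hsq : ∀ P : Sylow p G,
      Nat.card (P : Subgroup G) = p ^ 2 * Nat.card ((P : Subgroup G) ⊓ center G : Subgroup G))
    (u : G) (hu : ∃ k : ℕ, orderOf u = p ^ k) (huZ : u ∉ center G)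
    (a : G) (ha : a ∈ centralizer ({u} : Set G)) :
    centralizer ({u} : Set G) ≤ centralizer ({a} : Set G) := by
  have hubig := hbig u hu huZ
  obtain ⟨P⟩ : Nonempty (Sylow p G) := inferInstance
  obtain ⟨S, hSC, hSp, hScard, hSmax⟩ := exists_sylow_centralizer P u
  have hf1 : ((centralizer ({u} : Set G)).index).factorization p = 1 := by
    rw [H.factorization_idx hpm huZ]; exact H.factorization_eq_one hpm hp2
  rw [hf1, pow_one, hsq P] at hScard
  set K := (P : Subgroup G) ⊓ center G with hK
  have hKn : K.Normal := normal_sylow_inf_center P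
  have hKp : IsPGroup p K := P.isPGroup'.to_le inf_le_left
  have hKC : K ≤ centralizer ({u} : Set G) := by
    intro s hs
    rw [mem_centralizer_singleton_iff]
    exact (Subgroup.mem_center_iff.1 (Subgroup.mem_inf.1 hs).2 u).symm
  have hcardS : Nat.card S = p * Nat.card K := by
    have hpos : 0 < p := hp.out.pos
    have : Nat.card S * p = (p * Nat.card K) * p := by rw [hScard]; ring
    exact Nat.eq_of_mul_eq_mul_right hpos this
  -- K ≤ S and u ∈ S
  have hKS : K ≤ S := le_of_max_card hSp hKp hSC hKC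
    (fun s _ => (normalizer_eq_top_iff.2 hKn) ▸ Subgroup.mem_top s) hSmax
  have hzp : IsPGroup p (zpowers u) := by
    obtain ⟨k, hk⟩ := hu
    exact IsPGroup.of_card (by rw [Nat.card_zpowers, hk])
  have hcentS : ∀ x : G, (∀ c ∈ centralizer ({u} : Set G), c * x = x * c) →
      S ≤ normalizer ((zpowers x : Subgroup G) : Set G) := by
    intro x hx s hs
    rw [mem_normalizer_iff]
    intro t
    have hsx : s * x = x * s := hx s (hSC hs)
    have hcomm : Commute s x := hsx
    constructor
    · intro ht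
      obtain ⟨i, rfl⟩ := Subgroup.mem_zpowers_iff.1 ht
      have : s * x ^ i * s⁻¹ = x ^ i := by
        rw [(hcomm.zpow_right i).eq, mul_inv_cancel_right]
      rw [this]; exact zpow_mem_zpowers x i
    · intro ht
      obtain ⟨i, hi⟩ := Subgroup.mem_zpowers_iff.1 ht
      have : t = x ^ i := by
        have h1 : s * t * s⁻¹ = s * x ^ i * s⁻¹ := by
          rw [(hcomm.zpow_right i).eq, mul_inv_cancel_right, hi]
        have h2 := mul_right_cancel h1
        exact mul_left_cancel h2
      rw [this]; exact zpow_mem_zpowers x i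
  have huS : zpowers u ≤ S := by
    apply le_of_max_card hSp hzp hSC _ _ hSmax
    · rw [zpowers_le, mem_centralizer_singleton_iff]
    · apply hcentS u
      intro c hc
      rw [mem_centralizer_singleton_iff] at hc
      exact hc
  -- S = <u> K
  have hS0 : (zpowers u ⊔ K : Subgroup G) = S := by
    have hle : (zpowers u ⊔ K : Subgroup G) ≤ S := sup_le huS hKS
    apply Subgroup.eq_of_le_of_card_ge hle
    rw [hcardS]
    exact card_mul_le_of_lt (hSp.to_le hle) le_sup_right
      ((le_sup_left : zpowers u ≤ zpowers u ⊔ K) (mem_zpowers u))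
      (fun h => huZ (Subgroup.mem_inf.1 h).2)
  -- S is central in C(u)
  have hScent : ∀ s ∈ S, ∀ c ∈ centralizer ({u} : Set G), c * s = s * c := by
    intro s hs c hc
    rw [← hS0] at hs
    have hle : (zpowers u ⊔ K : Subgroup G) ≤ centralizer ({c} : Set G) := by
      apply sup_le
      · rw [zpowers_le, mem_centralizer_singleton_iff]
        rw [mem_centralizer_singleton_iff] at hc
        exact hc.symm
      · intro z hz
        rw [mem_centralizer_singleton_iff]
        exact (Subgroup.mem_center_iff.1 (Subgroup.mem_inf.1 hz).2 c).symm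
    have := hle hs
    rw [mem_centralizer_singleton_iff] at this
    exact this.symm
  -- decompose a
  obtain ⟨a1, a2, ha12, hc12, ha1z, ha2z, ha1p, ha2p⟩ := exists_pParts p a
  have hzle : zpowers a ≤ centralizer ({u} : Set G) := by
    rw [zpowers_le]; exact ha
  have ha1C : a1 ∈ centralizer ({u} : Set G) := hzle ha1z
  have ha2C : a2 ∈ centralizer ({u} : Set G) := hzle ha2z
  have hza1 : IsPGroup p (zpowers a1) := by
    obtain ⟨k, hk⟩ := ha1p
    exact IsPGroup.of_card (by rw [Nat.card_zpowers, hk])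
  have ha1S : a1 ∈ S := by
    have hle : zpowers a1 ≤ S := by
      apply le_of_max_card hSp hza1 hSC _ _ hSmax
      · rw [zpowers_le]; exact ha1C
      · intro s hs
        rw [mem_normalizer_iff]
        intro t
        have hcomm : Commute s a1 := (hScent s hs a1 ha1C).symm
        constructor
        · intro ht
          obtain ⟨i, rfl⟩ := Subgroup.mem_zpowers_iff.1 ht
          have : s * a1 ^ i * s⁻¹ = a1 ^ i := by
            rw [(hcomm.zpow_right i).eq, mul_inv_cancel_right]
          rw [this]; exact zpow_mem_zpowers a1 i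
        · intro ht
          obtain ⟨i, hi⟩ := Subgroup.mem_zpowers_iff.1 ht
          have : t = a1 ^ i := by
            have h1 : s * t * s⁻¹ = s * a1 ^ i * s⁻¹ := by
              rw [(hcomm.zpow_right i).eq, mul_inv_cancel_right, hi]
            have h2 := mul_right_cancel h1
            exact mul_left_cancel h2
          rw [this]; exact zpow_mem_zpowers a1 i
    exact hle (mem_zpowers a1)
  have h2 := H.le_centralizer_of_big hp.out hu hubig ha2C ha2p
  intro c hc
  rw [mem_centralizer_singleton_iff, ← ha12]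
  have hc1 : c * a1 = a1 * c := hScent a1 ha1S c hc
  have hc2 : c * a2 = a2 * c := by
    have := h2 hc
    rw [mem_centralizer_singleton_iff] at this
    exact this
  symm
  calc a1 * a2 * c = a1 * (a2 * c) := mul_assoc _ _ _
    _ = a1 * (c * a2) := by rw [hc2]
    _ = (a1 * c) * a2 := (mul_assoc _ _ _).symm
    _ = (c * a1) * a2 := by rw [hc1]
    _ = c * (a1 * a2) := mul_assoc _ _ _

/-- in case (b) with `|P : P ∩ Z| = p²`, big centralizers are abelian -/
theorem Hyp.abelian_of_big (H : Hyp G m n) (hpm : p ∣ m) (hp2 : ¬ p ^ 2 ∣ m)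
    (hbig : ∀ u : G, (∃ k : ℕ, orderOf u = p ^ k) → u ∉ center G →
      (centralizer ({u} : Set G)).index = m * n)
    (hsq : ∀ P : Sylow p G,
      Nat.card (P : Subgroup G) = p ^ 2 * Nat.card ((P : Subgroup G) ⊓ center G : Subgroup G))
    (g : G) (hg : (centralizer ({g} : Set G)).index = m * n) :
    ∀ a ∈ centralizer ({g} : Set G), ∀ b ∈ centralizer ({g} : Set G), a * b = b * a := by
  obtain ⟨u, hug, hu, huZ⟩ := H.exists_noncentral_pElt_centralizer (p := p) hpm g
  have hgu : g ∈ centralizer ({u} : Set G) := by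
    rw [mem_centralizer_singleton_iff] at hug ⊢
    exact hug.symm
  have h1 := H.central_in_centralizer hpm hp2 hbig hsq u hu huZ g hgu
  have h2 := H.eq_of_le_big h1 hg
  intro a ha b hb
  rw [← h2] at ha hb
  have := H.central_in_centralizer hpm hp2 hbig hsq u hu huZ a ha hb
  rw [mem_centralizer_singleton_iff] at this
  exact this.symm

end Cfsg.Agent.Lib.Helper74.CR2
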