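import Mathlib
import Cfsg.Agent.Lib.Helper74.CR2Defs
import Cfsg.Agent.Lib.Helper74.CR2Basic
import Cfsg.Agent.Lib.Helper74.CR2Glue
import Cfsg.Agent.Lib.Helper02.CR2C
import Cfsg.Agent.Lib.Helper81.CR2B1
import Cfsg.Agent.Lib.Helper58.CR2B3
import Cfsg.Agent.Lib.Helper46.CR2B4
import Cfsg.Agent.Lib.Helper10.CR2NotSq

/-!
# Conjugate rank two: assembly of S4284
-/

set_option autoImplicit false
set_option linter.unusedSectionVars false
set_option linter.unusedVariables false
set_option linter.style.haveILetI false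

namespace Cfsg.Agent.Lib.Helper74.CR2

open Subgroup

variable {G : Type*} [Group G] [Finite G] {m n : ℕ}

/-- case (a): a small `p`-element and a second prime `q ∣ m` -/
theorem Hyp.caseA_false (H : Hyp G m n) (p q : ℕ) [hp : Fact p.Prime] [hq : Fact q.Prime]
    (hpq : p ≠ q) (hpm : p ∣ m) (hqm : q ∣ m)
    (u : G) (hu : ∃ k : ℕ, orderOf u = p ^ k) (hidx : (centralizer ({u} : Set G)).index = m) :
    False := by
  have huZ : u ∉ center G := H.not_mem_center_of_idx (Or.inl hidx)
  obtain ⟨s, hsu, hs, hsZ⟩ := H.exists_noncentral_pElt_centralizer (p := q) hqm u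
  have h1 := Cfsg.Agent.Lib.Helper81.CR2.central_of_small H p q hpq hpm hqm u hu hidx s hsu hs
  have hus := H.eq_of_le_small h1 hidx hsZ
  have hsidx : (centralizer ({s} : Set G)).index = m := by rw [← hus]; exact hidx
  have hcop : ∀ (a b : ℕ), a.Prime → b.Prime → a ≠ b → ∀ (x : G) (k : ℕ), orderOf x = a ^ k →
      (orderOf x).Coprime b := by
    intro a b ha hb hab x k hk
    rw [hk]
    exact Nat.Coprime.pow_left k ((Nat.coprime_primes ha hb).2 hab)
  -- hypotheses of KB2
  have hVp : ∀ v : G, (∃ k : ℕ, orderOf v = p ^ k) → v ∉ center G →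
      ∃ h ∈ centralizer ({v} : Set G), (orderOf h).Coprime p ∧ h ∉ center G ∧
        centralizer ({v} : Set G) ≤ centralizer ({h} : Set G) := by
    intro v hv hvZ
    obtain ⟨h, hhv, hh, hhZ⟩ := H.exists_noncentral_pElt_centralizer (p := q) hqm v
    obtain ⟨k, hk⟩ := hh
    have hc : (orderOf h).Coprime p := hcop q p hq.out hp.out hpq.symm h k hk
    refine ⟨h, hhv, hc, hhZ, ?_⟩
    rcases H.noncentral hvZ with hi | hi
    · exact Cfsg.Agent.Lib.Helper81.CR2.central_of_small H p q hpq hpm hqm v hv hi h hhv ⟨k, hk⟩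
    · exact H.le_centralizer_of_big hp.out hv hi hhv hc
  have hVq : ∀ v : G, (∃ k : ℕ, orderOf v = q ^ k) → v ∉ center G →
      ∃ h ∈ centralizer ({v} : Set G), (orderOf h).Coprime q ∧ h ∉ center G ∧
        centralizer ({v} : Set G) ≤ centralizer ({h} : Set G) := by
    intro v hv hvZ
    obtain ⟨h, hhv, hh, hhZ⟩ := H.exists_noncentral_pElt_centralizer (p := p) hpm v
    obtain ⟨k, hk⟩ := hh
    have hc : (orderOf h).Coprime q := hcop p q hp.out hq.out hpq h k hk
    refine ⟨h, hhv, hc, hhZ, ?_⟩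
    rcases H.noncentral hvZ with hi | hi
    · exact Cfsg.Agent.Lib.Helper81.CR2.central_of_small H q p hpq.symm hqm hpm v hv hi h hhv ⟨k, hk⟩
    · exact H.le_centralizer_of_big hq.out hv hi hhv hc
  have hp2 := Cfsg.Agent.Lib.Helper10.CR2.not_sq_dvd H p hpm hVp
  have hq2 := Cfsg.Agent.Lib.Helper10.CR2.not_sq_dvd H q hqm hVq
  -- hypotheses of KB3
  have hYp : ∀ u' ∈ centralizer ({u} : Set G), (∃ k : ℕ, orderOf u' = p ^ k) → u' ∉ center G →
      centralizer ({u'} : Set G) ≤ centralizer ({u} : Set G) := by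
    intro u' hu' hu'p hu'Z
    rw [hus] at hu' ⊢
    have h2 := Cfsg.Agent.Lib.Helper81.CR2.central_of_small H q p hpq.symm hqm hpm s hs hsidx u' hu' hu'p
    rw [H.eq_of_le_small h2 hsidx hu'Z]
  have hYq : ∀ s' ∈ centralizer ({u} : Set G), (∃ k : ℕ, orderOf s' = q ^ k) → s' ∉ center G →
      centralizer ({s'} : Set G) ≤ centralizer ({u} : Set G) := by
    intro s' hs' hs'q hs'Z
    have h2 := Cfsg.Agent.Lib.Helper81.CR2.central_of_small H p q hpq hpm hqm u hu hidx s' hs' hs'q
    rw [H.eq_of_le_small h2 hidx hs'Z]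
  have hP : ∀ P : Sylow p G,
      Nat.card (P : Subgroup G) = p ^ 2 * Nat.card ((P : Subgroup G) ⊓ center G : Subgroup G) :=
    fun P => le_antisymm (Cfsg.Agent.Lib.Helper58.CR2.card_sylow_le H p hpm hp2 _ hidx hYp P) (H.sq_mul_le_card hpm P)
  have hQ : ∀ Q : Sylow q G,
      Nat.card (Q : Subgroup G) = q ^ 2 * Nat.card ((Q : Subgroup G) ⊓ center G : Subgroup G) :=
    fun Q => le_antisymm (Cfsg.Agent.Lib.Helper58.CR2.card_sylow_le H q hqm hq2 _ hidx hYq Q) (H.sq_mul_le_card hqm Q)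
  exact Cfsg.Agent.Lib.Helper46.CR2.two_primes_false H p q hpq hpm hqm hp2 hq2 hP hQ u s hu hs huZ hsZ hus

/-- facts for one prime in case (b) -/
theorem Hyp.caseB_prime (H : Hyp G m n) (p : ℕ) [hp : Fact p.Prime] (hpm : p ∣ m)
    (hbig : ∀ u : G, (∃ k : ℕ, orderOf u = p ^ k) → u ∉ center G →
      (centralizer ({u} : Set G)).index = m * n) :
    ¬ p ^ 2 ∣ m ∧ ∀ P : Sylow p G,
      Nat.card (P : Subgroup G) = p ^ 2 * Nat.card ((P : Subgroup G) ⊓ center G : Subgroup G) := by
  have hp2 := Cfsg.Agent.Lib.Helper10.CR2.not_sq_dvd H p hpm (H.exists_pprime_noncentral hpm hbig)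
  refine ⟨hp2, fun P => ?_⟩
  obtain ⟨y, hy⟩ := H.exists_small
  have hY : ∀ u ∈ centralizer ({y} : Set G), (∃ k : ℕ, orderOf u = p ^ k) → u ∉ center G →
      centralizer ({u} : Set G) ≤ centralizer ({y} : Set G) :=
    fun u huy hu huZ => H.centralizer_le_of_small hpm hbig hy hu huZ huy
  exact le_antisymm (Cfsg.Agent.Lib.Helper58.CR2.card_sylow_le H p hpm hp2 _ hy hY P) (H.sq_mul_le_card hpm P)

/-- case (b): all noncentral `p`-elements are big, for every prime `p ∣ m` -/
theorem Hyp.caseB_false (H : Hyp G m n)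
    (hB : ∀ p : ℕ, p.Prime → p ∣ m → ∀ u : G, (∃ k : ℕ, orderOf u = p ^ k) → u ∉ center G →
      (centralizer ({u} : Set G)).index = m * n) : False := by
  obtain ⟨p, hpp, hpm⟩ := Nat.exists_prime_and_dvd (by have := H.hm; omega : m ≠ 1)
  haveI hp : Fact p.Prime := ⟨hpp⟩
  obtain ⟨hp2, hsq⟩ := H.caseB_prime p hpm (hB p hpp hpm)
  by_cases hq : ∃ q : ℕ, q.Prime ∧ q ≠ p ∧ q ∣ m
  · obtain ⟨q, hqp, hqne, hqm⟩ := hq
    haveI hq' : Fact q.Prime := ⟨hqp⟩
    obtain ⟨hq2, hsqq⟩ := H.caseB_prime q hqm (hB q hqp hqm)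
    obtain ⟨u, hu, huZ⟩ := H.exists_noncentral_pElt (p := p) hpm
    obtain ⟨s, hsu, hs, hsZ⟩ := H.exists_noncentral_pElt_centralizer (p := q) hqm u
    have hsbig := hB q hqp hqm s hs hsZ
    have hab := H.abelian_of_big hpm hp2 (hB p hpp hpm) hsq u (hB p hpp hpm u hu huZ)
    have hle : centralizer ({u} : Set G) ≤ centralizer ({s} : Set G) := by
      intro c hc
      rw [mem_centralizer_singleton_iff]
      exact hab c hc s hsu
    have hus := H.eq_of_le_big hle hsbig
    exact Cfsg.Agent.Lib.Helper46.CR2.two_primes_false H p q hqne.symm hpm hqm hp2 hq2 hsq hsqq u s hu hs huZ hsZ hus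
  · push Not at hq
    have hmp : m = p := by
      have h1 : m = p ^ m.primeFactorsList.length :=
        Nat.eq_prime_pow_of_unique_prime_dvd H.m_pos.ne' (fun {d} hd hdm => by
          by_contra hne
          exact hq d hd hne hdm)
      have h2 : m.primeFactorsList.length = 1 := by
        have hl1 : m.primeFactorsList.length ≠ 0 := by
          intro h0
          rw [h0, pow_zero] at h1
          have := H.hm; omega
        have hl2 : ¬ 2 ≤ m.primeFactorsList.length := by
          intro h2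
          apply hp2
          rw [h1]
          exact pow_dvd_pow p h2
        omega
      rw [h2, pow_one] at h1
      exact h1
    exact Cfsg.Agent.Lib.Helper02.CR2.case_b_final H p hmp (hB p hpp hpm) hsq
      (H.abelian_of_big hpm hp2 (hB p hpp hpm) hsq)

/-- the main case always occurs -/
theorem Hyp.exists_main (H : Hyp G m n) :
    ∃ (p : ℕ) (_ : Fact p.Prime) (a : ℕ) (u : G), m = p ^ a ∧ (∃ k : ℕ, orderOf u = p ^ k) ∧
      (centralizer ({u} : Set G)).index = m := by
  by_contra hNM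
  by_cases hA : ∃ p : ℕ, p.Prime ∧ p ∣ m ∧ ∃ u : G, (∃ k : ℕ, orderOf u = p ^ k) ∧
      (centralizer ({u} : Set G)).index = m
  · obtain ⟨p, hpp, hpm, u, hu, hidx⟩ := hA
    haveI hp : Fact p.Prime := ⟨hpp⟩
    have hnpp : ¬ IsPrimePow m := by
      intro hpp'
      obtain ⟨r, k, hr, hk, hrk⟩ := (isPrimePow_def m).1 hpp'
      have hr' : r.Prime := Nat.prime_iff.2 hr
      have : p = r := by
        rw [← hrk] at hpm
        exact (Nat.prime_dvd_prime_iff_eq hpp hr').1 (hpp.dvd_of_dvd_pow hpm)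
      subst this
      exact hNM ⟨p, hp, k, u, hrk.symm, hu, hidx⟩
    obtain ⟨q, hqp, hqne, hqm⟩ := exists_prime_ne_dvd H.m_pos.ne'
      (by have := H.hm; omega : m ≠ 1) hnpp p
    haveI hq : Fact q.Prime := ⟨hqp⟩
    exact H.caseA_false p q hqne.symm hpm hqm u hu hidx
  · push Not at hA
    apply H.caseB_false
    intro p hpp hpm u hu huZ
    rcases H.noncentral huZ with h | h
    · exact absurd h (hA p hpp hpm u hu)
    · exact h

end Cfsg.Agent.Lib.Helper74.CR2
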