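import Mathlib

set_option autoImplicit false

namespace Cfsg.Agent.Lib.Helper74

variable {X : Type*} [Group X]

/-- Commuting pairs `(a, b)` with `a ∈ S` and `b ∈ T`. -/
def cp (S T : Set X) : Set (X × X) := {p | p.1 ∈ S ∧ p.2 ∈ T ∧ Commute p.1 p.2}

theorem mem_cp {S T : Set X} {p : X × X} :
    p ∈ cp S T ↔ p.1 ∈ S ∧ p.2 ∈ T ∧ Commute p.1 p.2 := Iff.rfl

theorem card_cp_swap (S T : Set X) : Nat.card (cp S T) = Nat.card (cp T S) := by
  apply Nat.card_congr
  exact
    { toFun := fun p => ⟨(p.1.2, p.1.1), p.2.2.1, p.2.1, p.2.2.2.symm⟩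
      invFun := fun p => ⟨(p.1.2, p.1.1), p.2.2.1, p.2.1, p.2.2.2.symm⟩
      left_inv := fun p => rfl
      right_inv := fun p => rfl }

theorem card_cp_mono [Finite X] {S S' T T' : Set X} (hS : S ⊆ S') (hT : T ⊆ T') :
    Nat.card (cp S T) ≤ Nat.card (cp S' T') :=
  Nat.card_mono (Set.toFinite _) (fun _ hp => ⟨hS hp.1, hT hp.2.1, hp.2.2⟩)

/-- Fiber decomposition in the second coordinate. -/
theorem card_cp_fiber {Q : Type*} [Fintype Q] [Finite X] (f : X → Q) (S T : Set X) :
    Nat.card (cp S T) = ∑ q : Q, Nat.card (cp S (T ∩ f ⁻¹' {q})) := by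
  rw [← Nat.card_sigma]
  apply Nat.card_congr
  exact
    { toFun := fun p => ⟨f p.1.2, ⟨p.1, p.2.1, ⟨p.2.2.1, rfl⟩, p.2.2.2⟩⟩
      invFun := fun s => ⟨s.2.1, s.2.2.1, s.2.2.2.1.1, s.2.2.2.2⟩
      left_inv := fun p => rfl
      right_inv := fun s => by
        obtain ⟨q, ⟨p, h1, ⟨h2, h3⟩, h4⟩⟩ := s
        simp only [Set.mem_preimage, Set.mem_singleton_iff] at h3
        subst h3
        rfl }

/-- Commuting pairs with second coordinate in a coset of `K` inject into those with second
coordinate in `K`. -/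
theorem card_cp_coset_le [Finite X] (K : Subgroup X) (S : Set X) (q : X ⧸ K) :
    Nat.card (cp S ((QuotientGroup.mk : X → X ⧸ K) ⁻¹' {q})) ≤ Nat.card (cp S (K : Set X)) := by
  classical
  let b1 : X → X := fun a =>
    if h : ∃ b, (QuotientGroup.mk b : X ⧸ K) = q ∧ Commute a b then h.choose else 1
  have hb1 : ∀ a b, (QuotientGroup.mk b : X ⧸ K) = q → Commute a b →
      (QuotientGroup.mk (b1 a) : X ⧸ K) = q ∧ Commute a (b1 a) := by
    intro a b hb hab
    have h : ∃ b, (QuotientGroup.mk b : X ⧸ K) = q ∧ Commute a b := ⟨b, hb, hab⟩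
    simp only [b1, dif_pos h]
    exact h.choose_spec
  have hmap : ∀ p : cp S ((QuotientGroup.mk : X → X ⧸ K) ⁻¹' {q}),
      (p.1.1, (b1 p.1.1)⁻¹ * p.1.2) ∈ cp S (K : Set X) := by
    rintro ⟨⟨a, b⟩, haS, hbq, hab⟩
    simp only [Set.mem_preimage, Set.mem_singleton_iff] at hbq
    obtain ⟨h1, h2⟩ := hb1 a b hbq hab
    refine ⟨haS, ?_, ?_⟩
    · change (b1 a)⁻¹ * b ∈ K
      rw [← QuotientGroup.eq, h1, hbq]
    · exact (h2.inv_right).mul_right hab
  refine Nat.card_le_card_of_injective (fun p => ⟨_, hmap p⟩) ?_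
  rintro ⟨⟨a, b⟩, hp⟩ ⟨⟨a', b'⟩, hp'⟩ h
  simp only [Subtype.mk.injEq, Prod.mk.injEq] at h
  obtain ⟨h1, h2⟩ := h
  subst h1
  have : b = b' := mul_left_cancel h2
  subst this
  rfl

/-- Commuting pairs with second coordinate anywhere versus in a subgroup `K`. -/
theorem card_cp_univ_le_index_mul [Finite X] (K : Subgroup X) (S : Set X) :
    Nat.card (cp S (Set.univ : Set X)) ≤ K.index * Nat.card (cp S (K : Set X)) := by
  classical
  let _ : Fintype (X ⧸ K) := Fintype.ofFinite _
  rw [card_cp_fiber (QuotientGroup.mk : X → X ⧸ K) S Set.univ]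
  calc ∑ q : X ⧸ K, Nat.card (cp S (Set.univ ∩ (QuotientGroup.mk : X → X ⧸ K) ⁻¹' {q}))
      ≤ ∑ _q : X ⧸ K, Nat.card (cp S (K : Set X)) := by
        apply Finset.sum_le_sum
        intro q _
        rw [Set.univ_inter]
        exact card_cp_coset_le K S q
    _ = K.index * Nat.card (cp S (K : Set X)) := by
        rw [Finset.sum_const, Finset.card_univ, smul_eq_mul, Subgroup.index_eq_card,
          Nat.card_eq_fintype_card (α := X ⧸ K)]

/-- Strict version: some element of `S` commutes with no element of some coset of `K`. -/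
theorem card_cp_univ_lt_index_mul [Finite X] (K : Subgroup X) (S : Set X)
    (h : ∃ a ∈ S, ∃ g : X, ∀ b : X, (QuotientGroup.mk b : X ⧸ K) = QuotientGroup.mk g →
      ¬ Commute a b) :
    Nat.card (cp S (Set.univ : Set X)) < K.index * Nat.card (cp S (K : Set X)) := by
  classical
  let _ : Fintype (X ⧸ K) := Fintype.ofFinite _
  obtain ⟨a, haS, g, hg⟩ := h
  rw [card_cp_fiber (QuotientGroup.mk : X → X ⧸ K) S Set.univ]
  calc ∑ q : X ⧸ K, Nat.card (cp S (Set.univ ∩ (QuotientGroup.mk : X → X ⧸ K) ⁻¹' {q}))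
      < ∑ _q : X ⧸ K, Nat.card (cp S (K : Set X)) := by
        apply Finset.sum_lt_sum
        · intro q _
          rw [Set.univ_inter]
          exact card_cp_coset_le K S q
        · refine ⟨QuotientGroup.mk g, Finset.mem_univ _, ?_⟩
          rw [Set.univ_inter]
          have h1 : cp S ((QuotientGroup.mk : X → X ⧸ K) ⁻¹' {QuotientGroup.mk g}) ⊆
              cp (S \ {a}) ((QuotientGroup.mk : X → X ⧸ K) ⁻¹' {QuotientGroup.mk g}) := by
            rintro ⟨a', b⟩ ⟨h1, h2, h3⟩
            refine ⟨⟨h1, ?_⟩, h2, h3⟩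
            intro ha'
            simp only [Set.mem_singleton_iff] at ha'
            subst ha'
            exact hg b h2 h3
          have h2 : cp (S \ {a}) (K : Set X) ⊂ cp S (K : Set X) := by
            refine ⟨fun p hp => ⟨hp.1.1, hp.2.1, hp.2.2⟩, ?_⟩
            intro hsub
            have : (a, (1 : X)) ∈ cp (S \ {a}) (K : Set X) :=
              hsub ⟨haS, K.one_mem, Commute.one_right a⟩
            exact this.1.2 rfl
          calc Nat.card (cp S ((QuotientGroup.mk : X → X ⧸ K) ⁻¹' {QuotientGroup.mk g}))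
              ≤ Nat.card (cp (S \ {a}) ((QuotientGroup.mk : X → X ⧸ K) ⁻¹' {QuotientGroup.mk g})) :=
                Nat.card_mono (Set.toFinite _) h1
            _ ≤ Nat.card (cp (S \ {a}) (K : Set X)) := card_cp_coset_le K _ _
            _ < Nat.card (cp S (K : Set X)) := by
                rw [Nat.card_coe_set_eq, Nat.card_coe_set_eq]
                exact Set.ncard_lt_ncard h2 (Set.toFinite _)
    _ = K.index * Nat.card (cp S (K : Set X)) := by
        rw [Finset.sum_const, Finset.card_univ, smul_eq_mul, Subgroup.index_eq_card,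
          Nat.card_eq_fintype_card (α := X ⧸ K)]

/-- Commuting pairs inside a subgroup, counted in the ambient group. -/
theorem card_cp_subgroup (K : Subgroup X) :
    Nat.card (cp (K : Set X) (K : Set X)) = Nat.card (ConjClasses K) * Nat.card K := by
  rw [← card_comm_eq_card_conjClasses_mul_card]
  apply Nat.card_congr
  exact
    { toFun := fun p => ⟨(⟨p.1.1, p.2.1⟩, ⟨p.1.2, p.2.2.1⟩), Subtype.ext p.2.2.2⟩
      invFun := fun p => ⟨(p.1.1.1, p.1.2.1), p.1.1.2, p.1.2.2, congrArg Subtype.val p.2⟩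
      left_inv := fun p => rfl
      right_inv := fun p => rfl }

theorem card_cp_univ :
    Nat.card (cp (Set.univ : Set X) (Set.univ : Set X)) = Nat.card (ConjClasses X) * Nat.card X := by
  rw [← card_comm_eq_card_conjClasses_mul_card]
  apply Nat.card_congr
  exact
    { toFun := fun p => ⟨p.1, p.2.2.2⟩
      invFun := fun p => ⟨p.1, trivial, trivial, p.2⟩
      left_inv := fun p => rfl
      right_inv := fun p => rfl }

end Cfsg.Agent.Lib.Helper74
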