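import Mathlib

set_option autoImplicit false

namespace Cfsg.Agent.Lib.Helper74

open MulAction in
/-- If the index of `K` is coprime to the length of the orbit of `a`, then `K` is transitive on
that orbit. -/
theorem exists_mem_smul_eq_of_coprime {H Ω : Type*} [Group H] [Finite H] [MulAction H Ω] (a : Ω)
    (K : Subgroup H) (hcop : Nat.Coprime (orbit H a).ncard K.index) (h : H) :
    ∃ x ∈ K, x • a = h • a := by
  set S := stabilizer H a with hSdef
  have hS : S.index = (orbit H a).ncard := index_stabilizer H a
  have h1 : S.relIndex K * K.index = (S ⊓ K).index := by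
    rw [← Subgroup.inf_relIndex_right, Subgroup.relIndex_mul_index inf_le_right]
  have h2 : S.index ∣ (S ⊓ K).index := Subgroup.index_dvd_of_le inf_le_left
  have h3 : S.index ∣ S.relIndex K := by
    rw [← h1] at h2
    exact (hS ▸ hcop).dvd_of_dvd_mul_right h2
  have key : S.subgroupOf K = stabilizer K a := by
    ext; rfl
  have h4 : S.relIndex K = (orbit K a).ncard := by
    rw [Subgroup.relIndex, key, index_stabilizer K a]
  have hsub : orbit K a ⊆ orbit H a := by
    rintro _ ⟨x, rfl⟩
    exact ⟨x.1, rfl⟩
  have hfin : (orbit H a).Finite := Set.finite_range _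
  have h5 : (orbit H a).ncard ≤ (orbit K a).ncard := by
    rw [← hS, ← h4]
    apply Nat.le_of_dvd _ h3
    rw [h4]
    exact (Set.ncard_pos (hfin.subset hsub)).mpr ⟨a, mem_orbit_self a⟩
  have h6 : orbit K a = orbit H a := Set.eq_of_subset_of_ncard_le hsub h5 hfin
  have h7 : h • a ∈ orbit K a := by
    rw [h6]; exact ⟨h, rfl⟩
  obtain ⟨x, hx⟩ := h7
  exact ⟨x.1, x.2, hx⟩

end Cfsg.Agent.Lib.Helper74
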