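import Mathlib
import Cfsg.Prelude.Def_Transfer
import Cfsg.Agent.Lib.Helper74.NPC
import Cfsg.Agent.Lib.Helper57.CyclicSylow
import Cfsg.Agent.Lib.Helper03.NormalPComplement

set_option autoImplicit false

namespace Cfsg.Agent.Lib.Helper74

open Cfsg

variable {G : Type*} [Group G] [Finite G] {p : ℕ} [hp : Fact p.Prime]

/-- generator data for a cyclic subgroup. -/
theorem exists_gen_of_isCyclic (P : Subgroup G) (hcyc : IsCyclic ↥P) :
    ∃ c ∈ P, ∀ y ∈ P, ∃ i : ℤ, c ^ i = y := by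
  obtain ⟨c, hc⟩ := hcyc.exists_generator
  refine ⟨c, c.2, ?_⟩
  intro y hy
  obtain ⟨i, hi⟩ := Subgroup.mem_zpowers_iff.mp (hc ⟨y, hy⟩)
  refine ⟨i, ?_⟩
  have := congrArg Subtype.val hi
  simpa using this

/-- Burnside transfer for a cyclic Sylow subgroup inside a subgroup `Y`, with a fixed
nontrivial element. -/
theorem hasNormalPComplement_of_cyclic_of_fixed (Y : Subgroup G) (P : Sylow p G)
    (hcyc : IsCyclic ↥(P : Subgroup G)) (hPY : (P : Subgroup G) ≤ Y) (x : G)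
    (hx : x ∈ (P : Subgroup G)) (hx1 : x ≠ 1)
    (hfix : ∀ n ∈ Y, (∀ y ∈ Y, y ∈ (P : Subgroup G) ↔ n * y * n⁻¹ ∈ (P : Subgroup G)) →
      n * x = x * n) :
    HasNormalPComplement p ↥Y := by
  have hcycY : IsCyclic ↥((P.subtype hPY : Sylow p ↥Y) : Subgroup ↥Y) := by
    rw [Sylow.coe_subtype]
    have := hcyc
    exact isCyclic_of_surjective (Subgroup.subgroupOfEquivOfLe hPY).symm (MulEquiv.surjective _)
  apply Cfsg.Agent.Lib.Helper03.hasNormalPComplement_of_normalizer_le_centralizer (P.subtype hPY)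
  apply Cfsg.Agent.Lib.Helper57.normalizer_le_centralizer_of_cyclic_of_fixed (P.subtype hPY) hcycY
    (⟨x, hPY hx⟩ : ↥Y)
  · rw [Sylow.coe_subtype, Subgroup.mem_subgroupOf]
    exact hx
  · intro h
    exact hx1 (congrArg Subtype.val h)
  · intro n hn
    rw [Subgroup.mem_centralizer_singleton_iff]
    apply Subtype.ext
    rw [Subgroup.coe_mul, Subgroup.coe_mul]
    apply hfix (n : G) n.2
    intro y hy
    rw [Subgroup.mem_normalizer_iff] at hn
    have := hn ⟨y, hy⟩
    rw [Sylow.coe_subtype, Subgroup.mem_subgroupOf, Subgroup.mem_subgroupOf] at this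
    simpa using this

/-- key computation: `H` normal, `P` cyclic Sylow not contained in `H`; an element `n = h u`
of `H P` that maps `P` into itself centralizes every `x ∈ P ∩ H` with `x ^ p = 1`. -/
theorem commute_of_mem_sup_of_normalizes (P : Sylow p G) (hcyc : IsCyclic ↥(P : Subgroup G))
    (H : Subgroup G) [hH : H.Normal] (hPH : ¬ (P : Subgroup G) ≤ H) (x : G)
    (hxP : x ∈ (P : Subgroup G)) (_hxH : x ∈ H) (hxp : x ^ p = 1)
    (n : G) (hn : n ∈ H ⊔ (P : Subgroup G))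
    (hnP : ∀ y ∈ (P : Subgroup G), n * y * n⁻¹ ∈ (P : Subgroup G)) : n * x = x * n := by
  obtain ⟨c, hcP, hgen⟩ := exists_gen_of_isCyclic (P : Subgroup G) hcyc
  obtain ⟨h, hhH, u, huP, rfl⟩ := Subgroup.mem_sup_of_normal_left.mp hn
  -- `h` maps `P` into itself
  have hhP : ∀ y ∈ (P : Subgroup G), h * y * h⁻¹ ∈ (P : Subgroup G) := by
    intro y hy
    have h1 : u⁻¹ * y * u ∈ (P : Subgroup G) :=
      (P : Subgroup G).mul_mem ((P : Subgroup G).mul_mem ((P : Subgroup G).inv_mem huP) hy) huP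
    have h2 := hnP _ h1
    have : h * u * (u⁻¹ * y * u) * (h * u)⁻¹ = h * y * h⁻¹ := by group
    rwa [this] at h2
  obtain ⟨r, hr⟩ := hgen _ (hhP c hcP)
  -- `c ^ (r - 1) ∈ H`
  have hcr : c ^ (r - 1) ∈ H := by
    have h1 : c ^ (r - 1) = h * (c * h⁻¹ * c⁻¹) := by
      rw [zpow_sub, zpow_one, hr]; group
    rw [h1]
    exact H.mul_mem hhH (hH.conj_mem _ (H.inv_mem hhH) c)
  obtain ⟨k, hk⟩ := IsPGroup.iff_card.mp P.2
  have hck : c ^ ((p : ℤ) ^ k) = 1 := by
    have h1 : (⟨c, hcP⟩ : ↥(P : Subgroup G)) ^ (p ^ k) = 1 := by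
      rw [← hk]; exact pow_card_eq_one'
    have h2 := congrArg Subtype.val h1
    simp only [Subgroup.coe_pow, Subgroup.coe_one] at h2
    have : c ^ ((p : ℤ) ^ k) = c ^ (((p ^ k : ℕ) : ℤ)) := by push_cast; rfl
    rw [this, zpow_natCast]
    exact h2
  have hdvd : (p : ℤ) ∣ r - 1 := by
    by_contra hnd
    have hcop : IsCoprime (p : ℤ) (r - 1) :=
      (Prime.irreducible (Nat.prime_iff_prime_int.mp hp.out)).coprime_iff_not_dvd.mpr hnd
    have hcop' : IsCoprime ((p : ℤ) ^ k) (r - 1) := hcop.pow_left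
    obtain ⟨a, b, hab⟩ := hcop'
    have hcH : c ∈ H := by
      have h1 : c = (c ^ ((p : ℤ) ^ k)) ^ a * (c ^ (r - 1)) ^ b := by
        rw [← zpow_mul, ← zpow_mul, ← zpow_add]
        have : (p : ℤ) ^ k * a + (r - 1) * b = 1 := by linear_combination hab
        rw [this, zpow_one]
      rw [h1, hck, one_zpow, one_mul]
      exact H.zpow_mem hcr b
    apply hPH
    intro y hy
    obtain ⟨i, rfl⟩ := hgen y hy
    exact H.zpow_mem hcH i
  obtain ⟨s, hs⟩ := hdvd
  obtain ⟨i, hi⟩ := hgen x hxP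
  obtain ⟨j, hj⟩ := hgen u huP
  have hhx : h * x * h⁻¹ = x := by
    calc h * x * h⁻¹ = (h * c * h⁻¹) ^ i := by rw [← hi, conj_zpow]
      _ = (c ^ i) ^ r := by rw [← hr, ← zpow_mul, ← zpow_mul, mul_comm]
      _ = x ^ r := by rw [hi]
      _ = x ^ (1 + (p : ℤ) * s) := by
          have : r = 1 + (p : ℤ) * s := by rw [← hs]; ring
          rw [this]
      _ = x := by
          rw [zpow_add, zpow_one, zpow_mul, zpow_natCast, hxp, one_zpow, mul_one]
  have hux : u * x = x * u := by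
    rw [← hi, ← hj]; exact zpow_mul_comm c j i
  calc h * u * x = h * (u * x) := by group
    _ = h * (x * u) := by rw [hux]
    _ = (h * x * h⁻¹) * h * u := by group
    _ = x * (h * u) := by rw [hhx]; group

end Cfsg.Agent.Lib.Helper74
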