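import Cfsg.Agent.Lib.Helper06.Hall4.Defs

/-!
# K-H4 pack (S4221, architect helper6), keystone 422123 (LEAF BWd): Brauer-Wielandt, hypothesis form
-/

set_option autoImplicit false
set_option linter.unusedSectionVars false
set_option linter.unusedVariables false
open Equiv

namespace Cfsg.Agent.Lib.Helper74.Hall4
open Cfsg.Agent.Lib.Helper06.Hall4

section BW
variable {Γ : Type*} [Group Γ] [Finite Γ]

/-- the counting core: `|X| |Y| = ∑_{w ∈ Z} |X_w| |Y_w|` when every pair `(s,t) ∈ X × Y` has a unique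
`w ∈ Z` commuting with both. -/
theorem bw_count (X Y Z : Set Γ)
    (hB : ∀ s t : Γ, s ∈ X → t ∈ Y → ∃! w : Γ, w ∈ Z ∧ w * s = s * w ∧ w * t = t * w)
    (m : ℕ)
    (hX : ∀ w ∈ Z, {s | s ∈ X ∧ w * s = s * w}.ncard = m)
    (hY : ∀ w ∈ Z, {t | t ∈ Y ∧ w * t = t * w}.ncard = m) :
    X.ncard * Y.ncard = Z.ncard * (m * m) := by
  classical
  have : Fintype Γ := Fintype.ofFinite Γ
  let W : Γ × Γ → Γ := fun p =>
    if h : p.1 ∈ X ∧ p.2 ∈ Y then (hB p.1 p.2 h.1 h.2).choose else 1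
  have hW : ∀ s t (hs : s ∈ X) (ht : t ∈ Y), W (s, t) ∈ Z ∧ W (s, t) * s = s * W (s, t) ∧
      W (s, t) * t = t * W (s, t) := by
    intro s t hs ht
    have h : (s, t).1 ∈ X ∧ (s, t).2 ∈ Y := ⟨hs, ht⟩
    simp only [W, dif_pos h]
    exact (hB s t hs ht).choose_spec.1
  have hWu : ∀ s t (hs : s ∈ X) (ht : t ∈ Y) (w : Γ), w ∈ Z → w * s = s * w → w * t = t * w →
      W (s, t) = w := by
    intro s t hs ht w hw h1 h2
    have h : (s, t).1 ∈ X ∧ (s, t).2 ∈ Y := ⟨hs, ht⟩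
    simp only [W, dif_pos h]
    exact ((hB s t hs ht).choose_spec.2 w ⟨hw, h1, h2⟩).symm
  have hcard : (X.toFinset ×ˢ Y.toFinset).card =
      ∑ w ∈ Z.toFinset, ((X.toFinset ×ˢ Y.toFinset).filter (fun p => W p = w)).card := by
    apply Finset.card_eq_sum_card_fiberwise
    intro p hp
    rw [Finset.mem_coe, Finset.mem_product, Set.mem_toFinset, Set.mem_toFinset] at hp
    rw [Finset.mem_coe, Set.mem_toFinset]
    exact (hW p.1 p.2 hp.1 hp.2).1
  have hfib : ∀ w ∈ Z.toFinset,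
      ((X.toFinset ×ˢ Y.toFinset).filter (fun p => W p = w)).card = m * m := by
    intro w hw
    rw [Set.mem_toFinset] at hw
    have heq : (X.toFinset ×ˢ Y.toFinset).filter (fun p => W p = w) =
        ({s | s ∈ X ∧ w * s = s * w}.toFinset ×ˢ {t | t ∈ Y ∧ w * t = t * w}.toFinset) := by
      ext p
      rw [Finset.mem_filter, Finset.mem_product, Finset.mem_product, Set.mem_toFinset,
        Set.mem_toFinset, Set.mem_toFinset, Set.mem_toFinset]
      constructor
      · rintro ⟨⟨hs, ht⟩, hpw⟩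
        have := hW p.1 p.2 hs ht
        rw [hpw] at this
        exact ⟨⟨hs, this.2.1⟩, ⟨ht, this.2.2⟩⟩
      · rintro ⟨⟨hs, h1⟩, ⟨ht, h2⟩⟩
        exact ⟨⟨hs, ht⟩, hWu p.1 p.2 hs ht w hw h1 h2⟩
    rw [heq, Finset.card_product, ← Set.ncard_eq_toFinset_card', ← Set.ncard_eq_toFinset_card',
      hX w hw, hY w hw]
  rw [Set.ncard_eq_toFinset_card' X, Set.ncard_eq_toFinset_card' Y, Set.ncard_eq_toFinset_card' Z,
    ← Finset.card_product, hcard, Finset.sum_congr rfl hfib, Finset.sum_const, smul_eq_mul]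

/-- LEAF BWd (422123), hypothesis form: Brauer-Wielandt from BWa (card), BWb, BWc. -/
theorem brauer_wielandt_of (H : Subgroup Γ) (hH : Odd (Nat.card H)) {x y : Γ}
    (x2 : x * x = 1) (y2 : y * y = 1) (comm : x * y = y * x)
    (hxH : ∀ g ∈ H, x * g * x⁻¹ ∈ H) (hyH : ∀ g ∈ H, y * g * y⁻¹ ∈ H)
    (hA : ∀ x' : Γ, x' * x' = 1 → (∀ g ∈ H, x' * g * x'⁻¹ ∈ H) →
      (InvCoset x' H).ncard * Nat.card (H ⊓ Subgroup.centralizer {x'} : Subgroup Γ) = Nat.card H)
    (hB : ∀ s t : Γ, s ∈ InvCoset x H → t ∈ InvCoset y H →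
      ∃! w : Γ, w ∈ InvCoset (x * y) H ∧ w * s = s * w ∧ w * t = t * w)
    (hCx : ∀ w ∈ InvCoset (x * y) H, {s | s ∈ InvCoset x H ∧ w * s = s * w}.ncard *
      Nat.card (H ⊓ Subgroup.centralizer {x, y} : Subgroup Γ) =
      Nat.card (H ⊓ Subgroup.centralizer {x * y} : Subgroup Γ))
    (hCy : ∀ w ∈ InvCoset (x * y) H, {t | t ∈ InvCoset y H ∧ w * t = t * w}.ncard *
      Nat.card (H ⊓ Subgroup.centralizer {x, y} : Subgroup Γ) =
      Nat.card (H ⊓ Subgroup.centralizer {x * y} : Subgroup Γ)) :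
    Nat.card H * Nat.card (H ⊓ Subgroup.centralizer {x, y} : Subgroup Γ) ^ 2 =
      Nat.card (H ⊓ Subgroup.centralizer {x} : Subgroup Γ) *
        Nat.card (H ⊓ Subgroup.centralizer {y} : Subgroup Γ) *
        Nat.card (H ⊓ Subgroup.centralizer {x * y} : Subgroup Γ) := by
  classical
  set h := Nat.card H with hh
  set c0 := Nat.card (H ⊓ Subgroup.centralizer {x, y} : Subgroup Γ) with hc0
  set cx := Nat.card (H ⊓ Subgroup.centralizer {x} : Subgroup Γ) with hcx
  set cy := Nat.card (H ⊓ Subgroup.centralizer {y} : Subgroup Γ) with hcy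
  set cz := Nat.card (H ⊓ Subgroup.centralizer {x * y} : Subgroup Γ) with hcz
  have hpos : 0 < h := Nat.card_pos
  have hc0pos : 0 < c0 := Nat.card_pos
  -- `x * y` is an involution normalizing `H`
  have z2 : (x * y) * (x * y) = 1 := by
    calc (x * y) * (x * y) = x * (y * x) * y := by group
      _ = x * (x * y) * y := by rw [comm]
      _ = (x * x) * (y * y) := by group
      _ = 1 := by rw [x2, y2, one_mul]
  have hzH : ∀ g ∈ H, (x * y) * g * (x * y)⁻¹ ∈ H := by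
    intro g hg
    have : (x * y) * g * (x * y)⁻¹ = x * (y * g * y⁻¹) * x⁻¹ := by group
    rw [this]
    exact hxH _ (hyH g hg)
  have eX := hA x x2 hxH
  have eY := hA y y2 hyH
  have eZ := hA (x * y) z2 hzH
  rw [← hcx] at eX
  rw [← hcy] at eY
  rw [← hcz] at eZ
  -- `c0 ∣ cz`: the common size of the `X_w`, `Y_w`
  set X := InvCoset x H with hXdef
  set Y := InvCoset y H with hYdef
  set Z := InvCoset (x * y) H with hZdef
  have hXm : ∀ w ∈ Z, {s | s ∈ X ∧ w * s = s * w}.ncard = cz / c0 := by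
    intro w hw
    have := hCx w hw
    rw [← this, Nat.mul_div_cancel _ hc0pos]
  have hYm : ∀ w ∈ Z, {t | t ∈ Y ∧ w * t = t * w}.ncard = cz / c0 := by
    intro w hw
    have := hCy w hw
    rw [← this, Nat.mul_div_cancel _ hc0pos]
  have hcount := bw_count X Y Z hB (cz / c0) hXm hYm
  -- `(cz / c0) * c0 = cz` when `Z` is nonempty; if `Z` is empty then `h = 0`, impossible
  have hZne : Z.Nonempty := by
    rw [Set.nonempty_iff_ne_empty]
    intro hZe
    rw [hZe, Set.ncard_empty, zero_mul] at eZ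
    omega
  obtain ⟨w₀, hw₀⟩ := hZne
  have hdiv : (cz / c0) * c0 = cz := by
    have := hCx w₀ hw₀
    rw [hXm w₀ hw₀] at this
    exact this
  have hXY : X.ncard * Y.ncard * c0 ^ 2 = Z.ncard * cz ^ 2 := by
    rw [hcount]
    calc Z.ncard * (cz / c0 * (cz / c0)) * c0 ^ 2 = Z.ncard * ((cz / c0 * c0) * (cz / c0 * c0)) := by
          ring
      _ = Z.ncard * cz ^ 2 := by rw [hdiv]; ring
  have hfin : h * (h * c0 ^ 2) = h * (cx * cy * cz) := by
    calc h * (h * c0 ^ 2) = (X.ncard * cx) * ((Y.ncard * cy) * c0 ^ 2) := by rw [eX, eY]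
      _ = cx * cy * (X.ncard * Y.ncard * c0 ^ 2) := by ring
      _ = cx * cy * (Z.ncard * cz ^ 2) := by rw [hXY]
      _ = (Z.ncard * cz) * (cx * cy * cz) := by ring
      _ = h * (cx * cy * cz) := by rw [eZ]
  exact Nat.eq_of_mul_eq_mul_left hpos hfin

end BW

end Cfsg.Agent.Lib.Helper74.Hall4
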