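import Cfsg.Agent.Lib.Helper06.Hall4.Defs
import Cfsg.Agent.Lib.Helper74.H4BWd
import Cfsg.Agent.Lib.Helper43.H4BWa
import Cfsg.Agent.Lib.Helper43.H4BWb
import Cfsg.Agent.Lib.Helper57.H4BWc

/-!
# K-H4 pack (S4221, architect helper6), keystone 422123 (LEAF BWd): Brauer-Wielandt, exact signature
-/

set_option autoImplicit false
set_option linter.unusedSectionVars false
set_option linter.unusedVariables false
open Equiv

namespace Cfsg.Agent.Lib.Helper74.Hall4
open Cfsg.Agent.Lib.Helper06.Hall4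

section BW
variable {Γ : Type*} [Group Γ] [Finite Γ]

/-- LEAF BWd (422123): Brauer-Wielandt. -/
theorem brauer_wielandt (H : Subgroup Γ) (hH : Odd (Nat.card H)) {x y : Γ}
    (x2 : x * x = 1) (y2 : y * y = 1) (comm : x * y = y * x)
    (hxH : ∀ g ∈ H, x * g * x⁻¹ ∈ H) (hyH : ∀ g ∈ H, y * g * y⁻¹ ∈ H) :
    Nat.card H * Nat.card (H ⊓ Subgroup.centralizer {x, y} : Subgroup Γ) ^ 2 =
      Nat.card (H ⊓ Subgroup.centralizer {x} : Subgroup Γ) *
        Nat.card (H ⊓ Subgroup.centralizer {y} : Subgroup Γ) *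
        Nat.card (H ⊓ Subgroup.centralizer {x * y} : Subgroup Γ) := by
  have hC : ∀ (H : Subgroup Γ), Odd (Nat.card H) → ∀ {x y : Γ}, x * x = 1 → y * y = 1 →
      x * y = y * x → (∀ g ∈ H, x * g * x⁻¹ ∈ H) → (∀ g ∈ H, y * g * y⁻¹ ∈ H) → ∀ {w : Γ},
      w ∈ InvCoset (x * y) H →
      {s | s ∈ InvCoset x H ∧ w * s = s * w}.ncard *
        Nat.card (H ⊓ Subgroup.centralizer {x, y} : Subgroup Γ) =
        Nat.card (H ⊓ Subgroup.centralizer {x * y} : Subgroup Γ) :=
    fun H hH _ _ x2 y2 comm hxH hyH _ hw =>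
      Cfsg.Agent.Lib.Helper57.Hall4.card_invCoset_comm_of
        (fun H hH _ x2 hxH _ hs =>
          Cfsg.Agent.Lib.Helper43.Hall4.exists_conj_of_mem_invCoset H hH x2 hxH hs)
        (fun H hH _ x2 hxH => Cfsg.Agent.Lib.Helper43.Hall4.card_invCoset H hH x2 hxH)
        H hH x2 y2 comm hxH hyH hw
  refine brauer_wielandt_of H hH x2 y2 comm hxH hyH
    (fun x' hx' hx'H => Cfsg.Agent.Lib.Helper43.Hall4.card_invCoset H hH hx' hx'H)
    (fun s t hs ht =>
      Cfsg.Agent.Lib.Helper43.Hall4.existsUnique_central H hH x2 y2 comm hxH hyH hs ht)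
    (fun w hw => hC H hH x2 y2 comm hxH hyH hw) ?_
  intro w hw
  have hw' : w ∈ InvCoset (y * x) H := by rw [← comm]; exact hw
  have := hC H hH y2 x2 comm.symm hyH hxH hw'
  rw [Set.pair_comm y x, ← comm] at this
  exact this

end BW

end Cfsg.Agent.Lib.Helper74.Hall4
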