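import Mathlib
import Cfsg.Agent.Lib.Helper74.CommPairs
import Cfsg.Agent.Lib.Helper74.ConjClass

set_option autoImplicit false

namespace Cfsg.Agent.Lib.Helper74

variable {X : Type*} [Group X]

/-- Commuting pairs whose second coordinate lies in a fixed conjugacy class: there are `|X|`. -/
theorem card_cp_univ_class [Finite X] (C : ConjClasses X) :
    Nat.card (cp (Set.univ : Set X) (ConjClasses.mk ⁻¹' {C})) = Nat.card X := by
  classical
  set T : Set X := ConjClasses.mk ⁻¹' {C} with hT
  rw [card_cp_swap]
  let _ : Fintype T := Fintype.ofFinite T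
  have hsigma : Nat.card (cp T (Set.univ : Set X)) = ∑ a : T, Nat.card {b : X // Commute a.1 b} := by
    rw [← Nat.card_sigma]
    apply Nat.card_congr
    exact
      { toFun := fun p => ⟨⟨p.1.1, p.2.1⟩, ⟨p.1.2, p.2.2.2⟩⟩
        invFun := fun s => ⟨(s.1.1, s.2.1), s.1.2, trivial, s.2.2⟩
        left_inv := fun p => rfl
        right_inv := fun s => rfl }
  have hTne : 0 < Nat.card T := by
    obtain ⟨a0, ha0⟩ := ConjClasses.exists_rep C
    exact Nat.card_pos_iff.mpr ⟨⟨⟨a0, ha0⟩⟩, inferInstance⟩
  have hterm : ∀ a : T, Nat.card {b : X // Commute a.1 b} * Nat.card T = Nat.card X := by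
    intro a
    have h1 : Nat.card {b : X // Commute a.1 b} = Nat.card (Subgroup.centralizer ({a.1} : Set X)) := by
      apply Nat.card_congr
      refine Equiv.subtypeEquivRight (fun b => ?_)
      rw [Subgroup.mem_centralizer_iff]
      constructor
      · intro h x hx
        rw [Set.mem_singleton_iff] at hx
        rw [hx]; exact h.eq
      · intro h
        exact h a.1 rfl
    have h2 : (Subgroup.centralizer ({a.1} : Set X)).index = Nat.card T := by
      rw [index_centralizer_eq_card_conj]
      apply Nat.card_congr
      refine Equiv.subtypeEquivRight (fun y => ?_)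
      have ha : ConjClasses.mk a.1 = C := a.2
      change IsConj a.1 y ↔ ConjClasses.mk y = C
      rw [← ha, ConjClasses.mk_eq_mk_iff_isConj, isConj_comm]
    rw [h1, ← h2]
    exact Subgroup.card_mul_index _
  rw [hsigma]
  have h3 : (∑ a : T, Nat.card {b : X // Commute a.1 b}) * Nat.card T = Nat.card X * Nat.card T := by
    rw [Finset.sum_mul, Finset.sum_congr rfl (fun a _ => hterm a), Finset.sum_const,
      Finset.card_univ, smul_eq_mul, Nat.card_eq_fintype_card (α := T), mul_comm]
  exact Nat.eq_of_mul_eq_mul_right hTne h3

/-- For a conjugation-invariant predicate `P`, the number of classes inside `P` times `|X|` is the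
number of commuting pairs with second coordinate in `P`. -/
theorem card_classes_mul_card [Finite X] (P : X → Prop)
    (hP : ∀ x g : X, P x → P (g * x * g⁻¹)) :
    Nat.card {C : ConjClasses X // ∀ g : X, ConjClasses.mk g = C → P g} * Nat.card X =
      Nat.card (cp (Set.univ : Set X) {x | P x}) := by
  classical
  let _ : Fintype (ConjClasses X) := Fintype.ofFinite _
  rw [card_cp_fiber (ConjClasses.mk : X → ConjClasses X) Set.univ {x | P x}]
  have hterm : ∀ C : ConjClasses X,
      Nat.card (cp (Set.univ : Set X) ({x | P x} ∩ ConjClasses.mk ⁻¹' {C})) =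
        if (∀ g : X, ConjClasses.mk g = C → P g) then Nat.card X else 0 := by
    intro C
    split_ifs with h
    · have : {x | P x} ∩ ConjClasses.mk ⁻¹' {C} = ConjClasses.mk ⁻¹' {C} := by
        ext x
        simp only [Set.mem_inter_iff, Set.mem_setOf_eq, Set.mem_preimage, Set.mem_singleton_iff]
        exact ⟨fun hx => hx.2, fun hx => ⟨h x hx, hx⟩⟩
      rw [this, card_cp_univ_class]
    · have : {x | P x} ∩ ConjClasses.mk ⁻¹' {C} = ∅ := by
        rw [Set.eq_empty_iff_forall_notMem]
        rintro x ⟨hx1, hx2⟩
        apply h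
        intro g hg
        simp only [Set.mem_preimage, Set.mem_singleton_iff] at hx2
        have hconj : IsConj x g := by
          rw [← ConjClasses.mk_eq_mk_iff_isConj, hx2, hg]
        obtain ⟨c, hc⟩ := isConj_iff.mp hconj
        rw [← hc]
        exact hP x c hx1
      rw [this]
      have : cp (Set.univ : Set X) (∅ : Set X) = ∅ := by
        rw [Set.eq_empty_iff_forall_notMem]
        rintro p ⟨-, h2, -⟩
        exact h2
      rw [this]
      simp
  rw [Finset.sum_congr rfl (fun C _ => hterm C), ← Finset.sum_filter, Finset.sum_const,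
    smul_eq_mul, Nat.card_eq_fintype_card, Fintype.card_subtype]

end Cfsg.Agent.Lib.Helper74
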