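import Mathlib
import Cfsg.Agent.Lib.Helper74.CommPairs
import Cfsg.Agent.Lib.Helper74.PiClasses

set_option autoImplicit false

namespace Cfsg.Agent.Lib.Helper74

variable {X : Type*} [Group X]

/-- splitting the second coordinate along a set `A`. -/
theorem card_cp_split_right [Finite X] (S T A : Set X) :
    Nat.card (cp S T) = Nat.card (cp S (T ∩ A)) + Nat.card (cp S (T \ A)) := by
  have hu : cp S T = cp S (T ∩ A) ∪ cp S (T \ A) := by
    ext p
    simp only [mem_cp, Set.mem_union, Set.mem_inter_iff, Set.mem_sdiff]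
    constructor
    · rintro ⟨h1, h2, h3⟩
      by_cases hA : p.2 ∈ A
      · exact Or.inl ⟨h1, ⟨h2, hA⟩, h3⟩
      · exact Or.inr ⟨h1, ⟨h2, hA⟩, h3⟩
    · rintro (⟨h1, ⟨h2, -⟩, h3⟩ | ⟨h1, ⟨h2, -⟩, h3⟩) <;> exact ⟨h1, h2, h3⟩
  have hd : Disjoint (cp S (T ∩ A)) (cp S (T \ A)) := by
    rw [Set.disjoint_left]
    rintro p ⟨-, ⟨-, hA⟩, -⟩ ⟨-, ⟨-, hA'⟩, -⟩
    exact hA' hA
  rw [Nat.card_coe_set_eq, Nat.card_coe_set_eq, Nat.card_coe_set_eq, hu,
    Set.ncard_union_eq hd (Set.toFinite _) (Set.toFinite _)]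

/-- Class numbers of a subgroup of index two: if there are fewer "split" classes than classes
outside `K`, then `K` has fewer classes than `X`. -/
theorem card_conjClasses_lt_of_index_two [Finite X] (K : Subgroup X) [hKn : K.Normal]
    (hK : K.index = 2)
    (h : Nat.card {C : ConjClasses X // ∀ g : X, ConjClasses.mk g = C →
            (∀ t : X, Commute t g → t ∈ K)} <
         Nat.card {C : ConjClasses X // ∀ g : X, ConjClasses.mk g = C → g ∉ K}) :
    Nat.card (ConjClasses K) < Nat.card (ConjClasses X) := by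
  classical
  set S' : Set X := {b | ∀ t : X, Commute t b → t ∈ K} with hS'
  set U : Set X := {b | b ∈ K ∧ ∃ t : X, t ∉ K ∧ Commute t b} with hU
  have hX : Nat.card X = 2 * Nat.card K := by
    rw [← K.card_mul_index, hK, mul_comm]
  have e1 : Nat.card (cp (K : Set X) (K : Set X)) = Nat.card (ConjClasses K) * Nat.card K :=
    card_cp_subgroup K
  have e2 := card_cp_univ (X := X)
  -- split second coordinate
  have e3 : Nat.card (cp (Set.univ : Set X) (Set.univ : Set X)) =
      Nat.card (cp (Set.univ : Set X) (K : Set X)) +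
        Nat.card (cp (Set.univ : Set X) ((K : Set X)ᶜ)) := by
    rw [card_cp_split_right Set.univ Set.univ (K : Set X), Set.univ_inter, Set.compl_eq_univ_sdiff]
  have e4 : Nat.card (cp (Set.univ : Set X) (K : Set X)) =
      Nat.card (cp (K : Set X) (K : Set X)) + Nat.card (cp ((K : Set X)ᶜ) (K : Set X)) := by
    rw [card_cp_swap, card_cp_split_right (K : Set X) Set.univ (K : Set X), Set.univ_inter,
      ← Set.compl_eq_univ_sdiff, card_cp_swap (K : Set X) (K : Set X),
      card_cp_swap (K : Set X) ((K : Set X)ᶜ)]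
  have e5 : Nat.card (cp (K : Set X) (K : Set X)) ≤
      Nat.card (cp (K : Set X) S') + Nat.card (cp (K : Set X) U) := by
    have hsub : cp (K : Set X) (K : Set X) ⊆ cp (K : Set X) S' ∪ cp (K : Set X) U := by
      rintro p ⟨h1, h2, h3⟩
      by_cases hp : p.2 ∈ S'
      · exact Or.inl ⟨h1, hp, h3⟩
      · refine Or.inr ⟨h1, ⟨h2, ?_⟩, h3⟩
        simp only [hS', Set.mem_ofPred_eq, not_forall] at hp
        obtain ⟨t, ht, htK⟩ := hp
        exact ⟨t, htK, ht⟩
    rw [Nat.card_coe_set_eq, Nat.card_coe_set_eq, Nat.card_coe_set_eq]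
    exact (Set.ncard_le_ncard hsub (Set.toFinite _)).trans (Set.ncard_union_le _ _)
  have e6 : Nat.card (cp (K : Set X) S') ≤ Nat.card (cp (Set.univ : Set X) S') :=
    card_cp_mono (Set.subset_univ _) (le_refl _)
  have e7 : Nat.card (cp (K : Set X) U) ≤ Nat.card (cp ((K : Set X)ᶜ) (K : Set X)) := by
    let tt : X → X := fun b => if h : ∃ t : X, t ∉ K ∧ Commute t b then h.choose else 1
    have htt : ∀ b ∈ U, tt b ∉ K ∧ Commute (tt b) b := by
      intro b hb
      have h : ∃ t : X, t ∉ K ∧ Commute t b := hb.2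
      simp only [tt, dif_pos h]
      exact h.choose_spec
    have hmap : ∀ p : cp (K : Set X) U, (p.1.1 * tt p.1.2, p.1.2) ∈ cp ((K : Set X)ᶜ) (K : Set X) := by
      rintro ⟨⟨a, b⟩, haK, hbU, hab⟩
      obtain ⟨h1, h2⟩ := htt b hbU
      refine ⟨?_, hbU.1, hab.mul_left h2⟩
      intro hmem
      apply h1
      have : tt b = a⁻¹ * (a * tt b) := by group
      rw [this]
      exact K.mul_mem (K.inv_mem haK) hmem
    apply Nat.card_le_card_of_injective (fun p => (⟨_, hmap p⟩ : cp ((K : Set X)ᶜ) (K : Set X)))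
    rintro ⟨⟨a, b⟩, ha⟩ ⟨⟨a', b'⟩, ha'⟩ heq
    have h1 := congrArg (fun q : cp ((K : Set X)ᶜ) (K : Set X) => q.1) heq
    simp only [Prod.mk.injEq] at h1
    obtain ⟨h2, h3⟩ := h1
    subst h3
    have : a = a' := mul_right_cancel h2
    subst this
    rfl
  -- class counts
  have e8 : Nat.card {C : ConjClasses X // ∀ g : X, ConjClasses.mk g = C → g ∈ S'} * Nat.card X =
      Nat.card (cp (Set.univ : Set X) S') := by
    apply card_classes_mul_card (fun g => g ∈ S')
    intro x g hx t ht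
    have h1 : Commute (g⁻¹ * t * g) x := by
      have h2 : t * (g * x * g⁻¹) = (g * x * g⁻¹) * t := ht.eq
      show g⁻¹ * t * g * x = x * (g⁻¹ * t * g)
      calc g⁻¹ * t * g * x = g⁻¹ * (t * (g * x * g⁻¹)) * g := by group
        _ = g⁻¹ * ((g * x * g⁻¹) * t) * g := by rw [h2]
        _ = x * (g⁻¹ * t * g) := by group
    have h3 := hx _ h1
    have h4 : t = g * (g⁻¹ * t * g) * g⁻¹ := by group
    rw [h4]
    exact hKn.conj_mem _ h3 g
  have e9 : Nat.card {C : ConjClasses X // ∀ g : X, ConjClasses.mk g = C → g ∉ K} * Nat.card X =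
      Nat.card (cp (Set.univ : Set X) ((K : Set X)ᶜ)) := by
    apply card_classes_mul_card (fun g => g ∉ K)
    intro x g hx hmem
    apply hx
    have h4 : x = g⁻¹ * (g * x * g⁻¹) * g⁻¹⁻¹ := by group
    rw [h4]
    exact hKn.conj_mem _ hmem g⁻¹
  have hpos : 0 < Nat.card X := Nat.card_pos
  have hlt : Nat.card (cp (Set.univ : Set X) S') < Nat.card (cp (Set.univ : Set X) ((K : Set X)ᶜ)) := by
    rw [← e8, ← e9]
    exact Nat.mul_lt_mul_of_pos_right h hpos
  have key : Nat.card (ConjClasses K) * Nat.card X < Nat.card (ConjClasses X) * Nat.card X := by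
    rw [← e2, e3, e4, hX]
    have : Nat.card (ConjClasses K) * (2 * Nat.card K) =
        2 * Nat.card (cp (K : Set X) (K : Set X)) := by rw [e1]; ring
    rw [this]
    omega
  exact lt_of_mul_lt_mul_right key (Nat.zero_le _)

end Cfsg.Agent.Lib.Helper74
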