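import Mathlib

set_option autoImplicit false

/-!
Vendored copy (by helper74) of helper78's development of 2-groups with derived subgroup of
index four (files AbelianIndexTwo, MaxClass2, MaxClass2Structure of Lib/Helper78, plus the lemma
`exists_center_mem` from helper78's original S0015), placed in its own namespace so that it does
not depend on files owned by other seats.
-/

namespace Cfsg.Agent.Lib.Helper74.V78

open scoped commutatorElement

/-- In a nilpotent group a nontrivial normal subgroup meets the centre nontrivially. -/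
theorem exists_center_mem {Q : Type*} [Group Q] [Group.IsNilpotent Q] (H : Subgroup Q) [hn : H.Normal]
    (hH : H ≠ ⊥) : ∃ x ∈ H, x ∈ Subgroup.center Q ∧ x ≠ 1 := by
  classical
  obtain ⟨c, hc⟩ := (Group.IsNilpotent.nilpotent' : ∃ n : ℕ, Subgroup.upperCentralSeries Q n = ⊤)
  have hex : ∃ n, ∃ x ∈ H, x ∈ Subgroup.upperCentralSeries Q n ∧ x ≠ 1 := by
    obtain ⟨⟨x, hx⟩, hx1⟩ := (Subgroup.ne_bot_iff_exists_ne_one.mp hH)
    refine ⟨c, x, hx, by rw [hc]; exact Subgroup.mem_top x, ?_⟩
    intro h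
    apply hx1
    exact Subtype.ext h
  have hmin : ∀ m, m < Nat.find hex → ¬ ∃ x ∈ H, x ∈ Subgroup.upperCentralSeries Q m ∧ x ≠ 1 :=
    fun m hm => Nat.find_min hex hm
  obtain ⟨x, hxH, hxZ, hx1⟩ := Nat.find_spec hex
  rcases hn0 : Nat.find hex with _ | m
  · rw [hn0, Subgroup.upperCentralSeries_zero, Subgroup.mem_bot] at hxZ
    exact absurd hxZ hx1
  · rw [hn0] at hxZ
    refine ⟨x, hxH, ?_, hx1⟩
    rw [Subgroup.mem_center_iff]
    intro y
    have hcomm : ⁅x, y⁆ = 1 := by
      by_contra hne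
      have hm : m < Nat.find hex := by omega
      apply hmin m hm
      refine ⟨⁅x, y⁆, ?_, Subgroup.mem_upperCentralSeries_succ_iff.mp hxZ y, hne⟩
      rw [commutatorElement_def]
      have h1 : y * x⁻¹ * y⁻¹ ∈ H := hn.conj_mem _ (H.inv_mem hxH) y
      have : x * y * x⁻¹ * y⁻¹ = x * (y * x⁻¹ * y⁻¹) := by group
      rw [this]
      exact H.mul_mem hxH h1
    rw [commutatorElement_def] at hcomm
    calc y * x = (x * y * x⁻¹ * y⁻¹)⁻¹ * (x * y) := by group
      _ = x * y := by rw [hcomm]; group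


end Cfsg.Agent.Lib.Helper74.V78



/-!
# Groups with an abelian subgroup of index two

`card_eq_card_center_mul_card_commutator`: if `A` is an abelian subgroup of index 2 of a
non-abelian finite group `S`, then `|A| = |Z(S)| * |S'|`.
-/

namespace Cfsg.Agent.Lib.Helper74.V78

open scoped commutatorElement

variable {S : Type*} [Group S]

lemma conj_mem_of_index_two (A : Subgroup S) (h2 : A.index = 2) (g : S) {x : S} (hx : x ∈ A) :
    g * x * g⁻¹ ∈ A := by
  have := Subgroup.normal_of_index_eq_two h2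
  exact this.conj_mem x hx g

lemma mem_or_inv_mul_mem (A : Subgroup S) (h2 : A.index = 2) (g : S) (hg : g ∉ A) (u : S) :
    u ∈ A ∨ g⁻¹ * u ∈ A := by
  by_cases hu : u ∈ A
  · exact Or.inl hu
  · right
    rw [Subgroup.mul_mem_iff_of_index_two h2]
    constructor
    · intro h; exact absurd (by simpa using A.inv_mem h) hg
    · intro h; exact absurd h hu

lemma sq_mem_of_index_two (A : Subgroup S) (h2 : A.index = 2) (g : S) : g * g ∈ A := by
  rw [Subgroup.mul_mem_iff_of_index_two h2]

/-- An element commuting with a subgroup of index two and with one element outside is central. -/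
lemma mem_center_of_comm (A : Subgroup S) (h2 : A.index = 2) (g : S) (hg : g ∉ A) (x : S)
    (hxA : ∀ a ∈ A, a * x = x * a) (hxg : g * x = x * g) : x ∈ Subgroup.center S := by
  rw [Subgroup.mem_center_iff]
  intro w
  rcases mem_or_inv_mul_mem A h2 g hg w with hw | hw
  · exact hxA w hw
  · have h1 := hxA _ hw
    have : w = g * (g⁻¹ * w) := by group
    rw [this]
    calc g * (g⁻¹ * w) * x = g * ((g⁻¹ * w) * x) := by group
      _ = g * (x * (g⁻¹ * w)) := by rw [h1]
      _ = (g * x) * (g⁻¹ * w) := by group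
      _ = (x * g) * (g⁻¹ * w) := by rw [hxg]
      _ = x * (g * (g⁻¹ * w)) := by group

/-- The commutator map `x ↦ g x g⁻¹ x⁻¹` on `A`, a homomorphism since `A` is abelian and normal. -/
def commMap (A : Subgroup S) (hA : ∀ x ∈ A, ∀ y ∈ A, x * y = y * x) (h2 : A.index = 2) (g : S) :
    A →* A where
  toFun x := ⟨g * x * g⁻¹ * (x : S)⁻¹,
    A.mul_mem (conj_mem_of_index_two A h2 g x.2) (A.inv_mem x.2)⟩
  map_one' := by
    apply Subtype.ext
    simp
  map_mul' := by
    intro x y
    apply Subtype.ext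
    have h2' := conj_mem_of_index_two A h2 g y.2
    show g * ((x : S) * y) * g⁻¹ * ((x : S) * y)⁻¹ =
      (g * x * g⁻¹ * (x : S)⁻¹) * (g * y * g⁻¹ * (y : S)⁻¹)
    have e1 : g * ((x : S) * y) * g⁻¹ * ((x : S) * y)⁻¹
        = (g * x * g⁻¹) * ((g * y * g⁻¹) * (y : S)⁻¹) * (x : S)⁻¹ := by group
    have e2 : ((g * y * g⁻¹) * (y : S)⁻¹) * (x : S)⁻¹ = (x : S)⁻¹ * ((g * y * g⁻¹) * (y : S)⁻¹) :=
      hA _ (A.mul_mem h2' (A.inv_mem y.2)) _ (A.inv_mem x.2)
    rw [e1, mul_assoc, e2]
    group

lemma commMap_coe (A : Subgroup S) (hA : ∀ x ∈ A, ∀ y ∈ A, x * y = y * x) (h2 : A.index = 2) (g : S)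
    (x : A) : ((commMap A hA h2 g x : A) : S) = g * x * g⁻¹ * (x : S)⁻¹ := rfl

/-- The centre lies in `A` when `S` is not abelian. -/
lemma center_le_of_index_two (A : Subgroup S) (hA : ∀ x ∈ A, ∀ y ∈ A, x * y = y * x)
    (h2 : A.index = 2) (hna : ∃ u v : S, u * v ≠ v * u) : Subgroup.center S ≤ A := by
  intro z hz
  by_contra hzA
  obtain ⟨u, v, huv⟩ := hna
  apply huv
  have hzc : ∀ w : S, w * z = z * w := fun w => (Subgroup.mem_center_iff.mp hz w)
  have hzc' : ∀ w : S, w * z⁻¹ = z⁻¹ * w := fun w =>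
    (Subgroup.mem_center_iff.mp ((Subgroup.center S).inv_mem hz) w)
  -- every element is a or z a
  have key : ∀ a ∈ A, ∀ w : S, a * w = w * a := by
    intro a ha w
    rcases mem_or_inv_mul_mem A h2 z hzA w with hw | hw
    · exact hA a ha w hw
    · have h1 := hA a ha _ hw
      have : w = z * (z⁻¹ * w) := by group
      rw [this]
      calc a * (z * (z⁻¹ * w)) = (a * z) * (z⁻¹ * w) := by group
        _ = z * (a * (z⁻¹ * w)) := by rw [hzc a]; group
        _ = z * ((z⁻¹ * w) * a) := by rw [h1]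
        _ = z * (z⁻¹ * w) * a := by group
  rcases mem_or_inv_mul_mem A h2 z hzA u with hu | hu
  · exact key u hu v
  · have h1 := key _ hu v
    have : u = z * (z⁻¹ * u) := by group
    rw [this]
    calc z * (z⁻¹ * u) * v = z * ((z⁻¹ * u) * v) := by group
      _ = z * (v * (z⁻¹ * u)) := by rw [h1]
      _ = (z * v) * (z⁻¹ * u) := by group
      _ = (v * z) * (z⁻¹ * u) := by rw [hzc v]
      _ = v * (z * (z⁻¹ * u)) := by group

/-- The kernel of the commutator map is the centre. -/
lemma map_ker_commMap (A : Subgroup S) (hA : ∀ x ∈ A, ∀ y ∈ A, x * y = y * x)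
    (h2 : A.index = 2) (g : S) (hg : g ∉ A) (hna : ∃ u v : S, u * v ≠ v * u) :
    (commMap A hA h2 g).ker.map A.subtype = Subgroup.center S := by
  apply le_antisymm
  · rintro _ ⟨x, hx, rfl⟩
    rw [SetLike.mem_coe, MonoidHom.mem_ker] at hx
    have hx' : g * x * g⁻¹ * (x : S)⁻¹ = 1 := by
      have := congrArg Subtype.val hx
      simpa [commMap_coe] using this
    have hgx : g * (x : S) = x * g := by
      have : g * x * g⁻¹ = x := by
        have := mul_inv_eq_one.mp hx'
        exact this
      calc g * (x : S) = (g * x * g⁻¹) * g := by group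
        _ = x * g := by rw [this]
    rw [Subgroup.mem_center_iff]
    intro w
    show w * (x : S) = x * w
    rcases mem_or_inv_mul_mem A h2 g hg w with hw | hw
    · exact hA w hw x x.2
    · have h1 := hA _ hw x x.2
      have : w = g * (g⁻¹ * w) := by group
      rw [this]
      calc g * (g⁻¹ * w) * (x : S) = g * ((g⁻¹ * w) * x) := by group
        _ = g * (x * (g⁻¹ * w)) := by rw [h1]
        _ = (g * x) * (g⁻¹ * w) := by group
        _ = (x * g) * (g⁻¹ * w) := by rw [hgx]
        _ = x * (g * (g⁻¹ * w)) := by group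
  · intro z hz
    have hzA : z ∈ A := center_le_of_index_two A hA h2 hna hz
    refine ⟨⟨z, hzA⟩, ?_, rfl⟩
    rw [SetLike.mem_coe, MonoidHom.mem_ker]
    apply Subtype.ext
    rw [commMap_coe]
    have := Subgroup.mem_center_iff.mp hz g
    show g * z * g⁻¹ * z⁻¹ = 1
    rw [this]; group

/-- The image of the commutator map is the commutator subgroup. -/
lemma map_range_commMap (A : Subgroup S) (hA : ∀ x ∈ A, ∀ y ∈ A, x * y = y * x)
    (h2 : A.index = 2) (g : S) (hg : g ∉ A) :
    (commMap A hA h2 g).range.map A.subtype = commutator S := by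
  set I := (commMap A hA h2 g).range.map A.subtype with hI
  have hphi : ∀ x ∈ A, g * x * g⁻¹ * x⁻¹ ∈ I := by
    intro x hx
    exact ⟨commMap A hA h2 g ⟨x, hx⟩, ⟨⟨x, hx⟩, rfl⟩, rfl⟩
  have hIA : I ≤ A := by
    rintro _ ⟨y, _, rfl⟩
    exact y.2
  apply le_antisymm
  · rintro _ ⟨_, ⟨x, rfl⟩, rfl⟩
    rw [commutator_def]
    have : ((commMap A hA h2 g x : A) : S) = ⁅g, (x : S)⁆ := by
      rw [commMap_coe, commutatorElement_def]
    show ((commMap A hA h2 g x : A) : S) ∈ _
    rw [this]
    exact Subgroup.commutator_mem_commutator (Subgroup.mem_top g) (Subgroup.mem_top _)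
  · rw [commutator_def, Subgroup.commutator_le]
    intro u _ v _
    rw [commutatorElement_def]
    have hgg : g * g ∈ A := sq_mem_of_index_two A h2 g
    rcases mem_or_inv_mul_mem A h2 g hg u with hu | hu <;>
      rcases mem_or_inv_mul_mem A h2 g hg v with hv | hv
    · have := hA u hu v hv
      have e : u * v * u⁻¹ * v⁻¹ = 1 := by rw [this]; group
      rw [e]; exact I.one_mem
    · -- u ∈ A, v = g a'
      have h1 := hphi u hu
      have e : u * v * u⁻¹ * v⁻¹ = u * (g * (g⁻¹ * v)) * u⁻¹ * (g * (g⁻¹ * v))⁻¹ := by group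
      have hc := hA u hu _ hv
      have e2 : u * (g * (g⁻¹ * v)) * u⁻¹ * (g * (g⁻¹ * v))⁻¹
          = (g * u * g⁻¹ * u⁻¹)⁻¹ := by
        have e3 : u * (g * (g⁻¹ * v)) * u⁻¹ * (g * (g⁻¹ * v))⁻¹
            = u * g * ((g⁻¹ * v) * u⁻¹) * (g⁻¹ * v)⁻¹ * g⁻¹ := by group
        have hc' : (g⁻¹ * v) * u⁻¹ = u⁻¹ * (g⁻¹ * v) := hA _ hv _ (A.inv_mem hu)
        rw [e3, hc']
        group
      rw [e, e2]
      exact I.inv_mem h1
    · -- u = g a, v ∈ A
      have h1 := hphi v hv
      have hc : (g⁻¹ * u) * v = v * (g⁻¹ * u) := hA _ hu _ hv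
      have e : u * v * u⁻¹ * v⁻¹ = g * ((g⁻¹ * u) * v) * (g⁻¹ * u)⁻¹ * g⁻¹ * v⁻¹ := by group
      rw [e, hc]
      have e2 : g * (v * (g⁻¹ * u)) * (g⁻¹ * u)⁻¹ * g⁻¹ * v⁻¹ = g * v * g⁻¹ * v⁻¹ := by group
      rw [e2]
      exact h1
    · -- u = g a, v = g a'
      set a := g⁻¹ * u with ha
      set a' := g⁻¹ * v with ha'
      have h1 := hphi a hu
      have h1' := hphi a' hv
      have hu' : u = g * a := by rw [ha]; group
      have hv' : v = g * a' := by rw [ha']; group
      have hsq : (g * g) * (a' * a⁻¹) * (g * g)⁻¹ = a' * a⁻¹ := by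
        have hm : a' * a⁻¹ ∈ A := A.mul_mem hv (A.inv_mem hu)
        have := hA _ hgg _ hm
        rw [this]; group
      have e : u * v * u⁻¹ * v⁻¹
          = (g * a * g⁻¹) * ((g * g) * (a' * a⁻¹) * (g * g)⁻¹) * (g * a' * g⁻¹)⁻¹ := by
        rw [hu', hv']; group
      rw [e, hsq]
      have hcc : a' * a⁻¹ = a⁻¹ * a' := hA _ hv _ (A.inv_mem hu)
      have e2 : (g * a * g⁻¹) * (a' * a⁻¹) * (g * a' * g⁻¹)⁻¹
          = (g * a * g⁻¹ * a⁻¹) * (g * a' * g⁻¹ * a'⁻¹)⁻¹ := by
        rw [hcc]; group
      rw [e2]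
      exact I.mul_mem h1 (I.inv_mem h1')

/-- **Abelian subgroup of index two**: `|A| = |Z(S)| * |S'|` for non-abelian `S`. -/
theorem card_eq_card_center_mul_card_commutator [Finite S] (A : Subgroup S)
    (hA : ∀ x ∈ A, ∀ y ∈ A, x * y = y * x) (h2 : A.index = 2)
    (hna : ∃ u v : S, u * v ≠ v * u) :
    Nat.card A = Nat.card (Subgroup.center S) * Nat.card (commutator S) := by
  obtain ⟨g, hg⟩ : ∃ g : S, g ∉ A := by
    by_contra hcon
    push Not at hcon
    have : A = ⊤ := by
      rw [eq_top_iff]; intro x _; exact hcon x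
    rw [this, Subgroup.index_top] at h2
    omega
  have h1 := map_ker_commMap A hA h2 g hg hna
  have h3 := map_range_commMap A hA h2 g hg
  rw [← h1, ← h3, Subgroup.card_map_of_injective A.subtype_injective,
    Subgroup.card_map_of_injective A.subtype_injective]
  have := Subgroup.card_mul_index (commMap A hA h2 g).ker
  rw [Subgroup.index_ker] at this
  exact this.symm

end Cfsg.Agent.Lib.Helper74.V78



/-!
# 2-groups with `|S : S'| = 4`

Main results (for a finite 2-group `S` with `(commutator S).index = 4` and `8 ≤ |S|`):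
* `exists_cyclic_index_two`: `S` has a cyclic subgroup of index 2;
* `card_center_eq_two`: `|Z(S)| = 2`;
* `center_le_commutator`: `Z(S) ≤ S'`.
-/

namespace Cfsg.Agent.Lib.Helper74.V78

open scoped commutatorElement

universe u

section basic

variable {S : Type*} [Group S]

/-- Elements of the cyclic group generated by an involution. -/
lemma mem_zpowers_of_orderOf_two {z x : S} (hz : orderOf z = 2) :
    x ∈ Subgroup.zpowers z ↔ x = 1 ∨ x = z := by
  have hz2 : z ^ 2 = 1 := by rw [← hz]; exact pow_orderOf_eq_one z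
  constructor
  · intro hx
    obtain ⟨k, rfl⟩ := Subgroup.mem_zpowers_iff.mp hx
    rcases Int.emod_two_eq_zero_or_one k with h | h
    · left
      have : k = 2 * (k / 2) := by omega
      rw [this, zpow_mul, zpow_ofNat, hz2, one_zpow]
    · right
      have : k = 2 * (k / 2) + 1 := by omega
      rw [this, zpow_add, zpow_mul, zpow_ofNat, hz2, one_zpow, one_mul, zpow_one]
  · rintro (rfl | rfl)
    · exact Subgroup.one_mem _
    · exact Subgroup.mem_zpowers _

/-- Integer powers of an element squaring to one. -/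
lemma zpow_eq_one_or_self_of_sq {w : S} (hw : w * w = 1) (k : ℤ) : w ^ k = 1 ∨ w ^ k = w := by
  have hw2 : w ^ 2 = 1 := by rw [pow_two]; exact hw
  rcases Int.emod_two_eq_zero_or_one k with h | h
  · left
    have : k = 2 * (k / 2) := by omega
    rw [this, zpow_mul, zpow_ofNat, hw2, one_zpow]
  · right
    have : k = 2 * (k / 2) + 1 := by omega
    rw [this, zpow_add, zpow_mul, zpow_ofNat, hw2, one_zpow, one_mul, zpow_one]

lemma zpowers_normal_of_mem_center {z : S} (hz : z ∈ Subgroup.center S) :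
    (Subgroup.zpowers z).Normal := by
  refine ⟨fun n hn g => ?_⟩
  have hle : Subgroup.zpowers z ≤ Subgroup.center S := Subgroup.zpowers_le.mpr hz
  have hc := Subgroup.mem_center_iff.mp (hle hn) g
  have : g * n * g⁻¹ = n := by rw [hc]; group
  rw [this]; exact hn

/-- A nontrivial normal subgroup of a finite 2-group contains a central involution. -/
lemma exists_central_involution [Finite S] (hS : IsPGroup 2 S) (H : Subgroup S) [H.Normal]
    (hH : H ≠ ⊥) : ∃ z ∈ H, z ∈ Subgroup.center S ∧ orderOf z = 2 := by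
  have : Fact (Nat.Prime 2) := ⟨Nat.prime_two⟩
  have hnil : Group.IsNilpotent S := hS.isNilpotent
  obtain ⟨x, hxH, hxZ, hx1⟩ := exists_center_mem H hH
  -- order of x is a power of two
  obtain ⟨k, hk⟩ := (IsPGroup.iff_orderOf.mp hS) x
  have hk0 : k ≠ 0 := by
    intro h0
    rw [h0, pow_zero, orderOf_eq_one_iff] at hk
    exact hx1 hk
  obtain ⟨j, rfl⟩ := Nat.exists_eq_succ_of_ne_zero hk0
  refine ⟨x ^ (2 ^ j), H.pow_mem hxH _, (Subgroup.center S).pow_mem hxZ _, ?_⟩
  rw [orderOf_pow' x (pow_ne_zero j two_ne_zero), hk, Nat.gcd_eq_right (pow_dvd_pow 2 (Nat.le_succ j))]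
  rw [pow_succ, Nat.mul_div_cancel_left _ (pow_pos two_pos j)]

lemma exists_not_comm_of_index_four [Finite S] (h4 : (commutator S).index = 4)
    (h8 : 8 ≤ Nat.card S) : ∃ u v : S, u * v ≠ v * u := by
  by_contra hcon
  push Not at hcon
  have : IsMulCommutative S := ⟨⟨hcon⟩⟩
  have hbot : commutator S = ⊥ := (commutator_eq_bot_iff S).mpr this
  rw [hbot, Subgroup.index_bot] at h4
  omega

lemma commutator_ne_bot_of_index_four [Finite S] (h4 : (commutator S).index = 4)
    (h8 : 8 ≤ Nat.card S) : commutator S ≠ ⊥ := by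
  intro hbot
  rw [hbot, Subgroup.index_bot] at h4
  omega

/-- With an abelian subgroup of index 2 and `|S : S'| = 4`, the centre has order 2. -/
lemma card_center_of_abelian_index_two [Finite S] (A : Subgroup S)
    (hA : ∀ x ∈ A, ∀ y ∈ A, x * y = y * x) (h2 : A.index = 2)
    (h4 : (commutator S).index = 4) (h8 : 8 ≤ Nat.card S) :
    Nat.card (Subgroup.center S) = 2 := by
  have hna := exists_not_comm_of_index_four h4 h8
  have h1 := card_eq_card_center_mul_card_commutator A hA h2 hna
  have h3 : Nat.card A * 2 = Nat.card S := by rw [← h2]; exact Subgroup.card_mul_index A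
  have h5 : Nat.card (commutator S) * 4 = Nat.card S := by
    rw [← h4]; exact Subgroup.card_mul_index _
  have hpos : 0 < Nat.card (commutator S) := Nat.card_pos
  have : Nat.card (commutator S) * (Nat.card (Subgroup.center S) * 2) = Nat.card (commutator S) * 4 := by
    rw [h5, ← h3, h1]; ring
  have := Nat.eq_of_mul_eq_mul_left hpos this
  omega

end basic

section step

variable {S : Type u} [Group S] [Finite S]

lemma exists_cyclic_index_two_step (hS : IsPGroup 2 S) (h4 : (commutator S).index = 4)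
    (h16 : 16 ≤ Nat.card S)
    (ih : ∀ (Q : Type u) [Group Q] [Finite Q], Nat.card Q < Nat.card S → IsPGroup 2 Q →
      (commutator Q).index = 4 → 8 ≤ Nat.card Q → ∃ C : Subgroup Q, IsCyclic C ∧ C.index = 2) :
    ∃ C : Subgroup S, IsCyclic C ∧ C.index = 2 := by
  have h8 : 8 ≤ Nat.card S := by omega
  have hne := commutator_ne_bot_of_index_four h4 h8
  obtain ⟨z, hzS', hzZ, hz2⟩ := exists_central_involution hS (commutator S) hne
  have hZn : (Subgroup.zpowers z).Normal := zpowers_normal_of_mem_center hzZ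
  obtain ⟨Z, hZdef⟩ : ∃ Z : Subgroup S, Z = Subgroup.zpowers z := ⟨_, rfl⟩
  have hZn' : Z.Normal := by rw [hZdef]; exact hZn
  have hzZ' : z ∈ Z := by rw [hZdef]; exact Subgroup.mem_zpowers z
  have hZle : Z ≤ Subgroup.center S := by rw [hZdef]; exact Subgroup.zpowers_le.mpr hzZ
  have hZmem : ∀ x, x ∈ Z ↔ x = 1 ∨ x = z := by
    intro x; rw [hZdef]; exact mem_zpowers_of_orderOf_two hz2
  obtain ⟨π, hπdef⟩ : ∃ π : S →* S ⧸ Z, π = QuotientGroup.mk' Z := ⟨_, rfl⟩
  have hπs : Function.Surjective π := by rw [hπdef]; exact QuotientGroup.mk'_surjective Z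
  have hker : π.ker = Z := by rw [hπdef]; exact QuotientGroup.ker_mk' Z
  have hkerle : π.ker ≤ Z := le_of_eq hker
  have hZcard : Nat.card Z = 2 := by rw [hZdef, Nat.card_zpowers, hz2]
  have hQcard : Nat.card (S ⧸ Z) * 2 = Nat.card S := by
    rw [← hZcard]; exact (Subgroup.card_eq_card_quotient_mul_card_subgroup Z).symm
  have hQp : IsPGroup 2 (S ⧸ Z) := hS.to_quotient Z
  have hQ4 : (commutator (S ⧸ Z)).index = 4 := by
    have h1 : (commutator S).map π = commutator (S ⧸ Z) := by
      rw [commutator_def, commutator_def, Subgroup.map_commutator,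
        Subgroup.map_top_of_surjective π hπs]
    rw [← h1, Subgroup.index_map_eq _ hπs, h4]
    rw [hker, hZdef]; exact Subgroup.zpowers_le.mpr hzS'
  obtain ⟨Cb, hCbc, hCb2⟩ := ih (S ⧸ Z) (by omega) hQp hQ4 (by omega)
  obtain ⟨C, hCdef⟩ : ∃ C : Subgroup S, C = Cb.comap π := ⟨_, rfl⟩
  have hC2 : C.index = 2 := by rw [hCdef, Subgroup.index_comap_of_surjective _ hπs, hCb2]
  have hCmem : ∀ x, x ∈ C ↔ π x ∈ Cb := by intro x; rw [hCdef, Subgroup.mem_comap]
  -- C is abelian
  have hCab : ∀ x ∈ C, ∀ y ∈ C, x * y = y * x := by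
    intro x hx y hy
    subst hCdef
    let f : Cb.comap π →* Cb := π.subgroupComap Cb
    have hf : f.ker ≤ Subgroup.center (Cb.comap π) := by
      intro u hu
      rw [MonoidHom.mem_ker] at hu
      have hu' : π (u : S) = 1 := congrArg Subtype.val hu
      have huZ : (u : S) ∈ Z := hkerle (MonoidHom.mem_ker.mpr hu')
      have huc : (u : S) ∈ Subgroup.center S := hZle huZ
      rw [Subgroup.mem_center_iff]
      intro v
      apply Subtype.ext
      exact Subgroup.mem_center_iff.mp huc v
    have hcm := MonoidHom.isMulCommutative_of_isCyclic_of_ker_le_center f hf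
    have := hcm.is_comm.comm ⟨x, hx⟩ ⟨y, hy⟩
    exact congrArg Subtype.val this
  have hZ2 : Nat.card (Subgroup.center S) = 2 :=
    card_center_of_abelian_index_two C hCab hC2 h4 h8
  have hcenter : Subgroup.center S = Z := by
    symm
    apply Subgroup.eq_of_le_of_card_ge hZle
    rw [hZ2, hZcard]
  -- generator
  obtain ⟨gb, hgb⟩ := hCbc.exists_generator
  obtain ⟨c, hc⟩ := hπs (gb : S ⧸ Z)
  have hcC : c ∈ C := by rw [hCmem, hc]; exact gb.2
  have hrep : ∀ x ∈ C, ∃ k : ℤ, x = c ^ k ∨ x = c ^ k * z := by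
    intro x hx
    have hx' : π x ∈ Cb := (hCmem x).mp hx
    obtain ⟨k, hk⟩ := Subgroup.mem_zpowers_iff.mp (hgb ⟨π x, hx'⟩)
    have hk' : π (c ^ k) = π x := by
      rw [map_zpow, hc]
      have := congrArg Subtype.val hk
      simpa using this
    have hmem : (c ^ k)⁻¹ * x ∈ Z := by
      apply hkerle
      rw [MonoidHom.mem_ker, map_mul, map_inv, hk', inv_mul_cancel]
    rcases (hZmem _).mp hmem with h | h
    · refine ⟨k, Or.inl ?_⟩
      have : x = c ^ k * ((c ^ k)⁻¹ * x) := by group
      rw [this, h, mul_one]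
    · refine ⟨k, Or.inr ?_⟩
      have : x = c ^ k * ((c ^ k)⁻¹ * x) := by group
      rw [this, h]
  by_cases hzc : z ∈ Subgroup.zpowers c
  · -- cyclic
    refine ⟨Subgroup.zpowers c, inferInstance, ?_⟩
    have : C = Subgroup.zpowers c := by
      apply le_antisymm
      · intro x hx
        obtain ⟨k, h | h⟩ := hrep x hx
        · rw [h]; exact Subgroup.zpow_mem _ (Subgroup.mem_zpowers c) k
        · rw [h]; exact Subgroup.mul_mem _ (Subgroup.zpow_mem _ (Subgroup.mem_zpowers c) k) hzc
      · exact Subgroup.zpowers_le.mpr hcC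
    rw [← this]; exact hC2
  · exfalso
    have : Fact (Nat.Prime 2) := ⟨Nat.prime_two⟩
    have hCbp : IsPGroup 2 Cb := hQp.to_subgroup Cb
    obtain ⟨m, hm⟩ := IsPGroup.iff_card.mp hCbp
    have hCbQ : Nat.card Cb * 2 = Nat.card (S ⧸ Z) := by
      rw [← hCb2]; exact Subgroup.card_mul_index Cb
    have hm2 : 2 ≤ m := by
      by_contra hlt
      have hm1 : m ≤ 1 := by omega
      have : 2 ^ m ≤ 2 ^ 1 := Nat.pow_le_pow_right two_pos hm1
      omega
    have hord : orderOf gb = 2 ^ m := by
      rw [← hm]; exact orderOf_eq_card_of_forall_mem_zpowers hgb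
    obtain ⟨j, rfl⟩ : ∃ j, m = j + 1 := ⟨m - 1, by omega⟩
    have hj1 : 1 ≤ j := by omega
    -- c ^ (2 ^ (j+1)) = 1
    have hpowgb : ∀ n : ℕ, π (c ^ n) = ((gb ^ n : Cb) : S ⧸ Z) := by
      intro n; rw [map_pow, hc]; rfl
    have hc1 : c ^ (2 ^ (j + 1)) = 1 := by
      have h1 : c ^ (2 ^ (j + 1)) ∈ Z := by
        apply hkerle
        rw [MonoidHom.mem_ker, hpowgb, ← hord, pow_orderOf_eq_one]; rfl
      rcases (hZmem _).mp h1 with h | h
      · exact h
      · exfalso; apply hzc; rw [← h]; exact Subgroup.pow_mem _ (Subgroup.mem_zpowers c) _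
    obtain ⟨w, hwdef⟩ : ∃ w : S, w = c ^ (2 ^ j) := ⟨_, rfl⟩
    have hww : w * w = 1 := by
      rw [hwdef, ← pow_add, ← two_mul, ← pow_succ']; exact hc1
    have hw1 : w ≠ 1 := by
      intro h
      have h1 : π (c ^ (2 ^ j)) = 1 := by rw [← hwdef, h, map_one]
      rw [hpowgb] at h1
      have h2 : gb ^ (2 ^ j) = 1 := Subtype.ext h1
      have h3 := orderOf_dvd_of_pow_eq_one h2
      rw [hord] at h3
      have := Nat.le_of_dvd (pow_pos two_pos j) h3
      have : 2 ^ j < 2 ^ (j + 1) := Nat.pow_lt_pow_right (by norm_num) (by omega)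
      omega
    have hCn : C.Normal := Subgroup.normal_of_index_eq_two hC2
    have hzpow : z ^ (2 ^ j) = 1 := by
      obtain ⟨i, rfl⟩ : ∃ i, j = i + 1 := ⟨j - 1, by omega⟩
      have hz2' : z ^ 2 = 1 := by rw [← hz2]; exact pow_orderOf_eq_one z
      rw [pow_succ', pow_mul, hz2', one_pow]
    have hwc : w ∈ Subgroup.center S := by
      rw [Subgroup.mem_center_iff]
      intro s
      have hconj : s * c * s⁻¹ ∈ C := hCn.conj_mem c hcC s
      have hwk : ∀ k : ℤ, (c ^ k) ^ (2 ^ j) = w ^ k := by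
        intro k
        rw [hwdef, ← zpow_natCast, ← zpow_mul, ← zpow_natCast, ← zpow_mul, mul_comm]
      have hsw : s * w * s⁻¹ = w := by
        have e1 : s * w * s⁻¹ = (s * c * s⁻¹) ^ (2 ^ j) := by
          rw [hwdef, conj_pow]
        obtain ⟨k, h | h⟩ := hrep _ hconj
        · rw [e1, h, hwk]
          rcases zpow_eq_one_or_self_of_sq hww k with h1 | h1
          · exfalso
            rw [h, hwk, h1] at e1
            apply hw1
            have : w = s⁻¹ * (s * w * s⁻¹) * s := by group
            rw [this, e1]; group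
          · exact h1
        · have hcomm : Commute (c ^ k) z := Subgroup.mem_center_iff.mp hzZ (c ^ k)
          have e2 : (c ^ k * z) ^ (2 ^ j) = w ^ k := by
            rw [hcomm.mul_pow, hwk, hzpow, mul_one]
          rw [e1, h, e2]
          rcases zpow_eq_one_or_self_of_sq hww k with h1 | h1
          · exfalso
            rw [h, e2, h1] at e1
            apply hw1
            have : w = s⁻¹ * (s * w * s⁻¹) * s := by group
            rw [this, e1]; group
          · exact h1
      calc s * w = (s * w * s⁻¹) * s := by group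
        _ = w * s := by rw [hsw]
    rw [hcenter, hZmem] at hwc
    rcases hwc with h | h
    · exact hw1 h
    · apply hzc
      rw [← h, hwdef]
      exact Subgroup.pow_mem _ (Subgroup.mem_zpowers c) _

lemma exists_cyclic_index_two_of_card_eight (h8 : Nat.card S = 8)
    (h4 : (commutator S).index = 4) : ∃ C : Subgroup S, IsCyclic C ∧ C.index = 2 := by
  obtain ⟨u, v, huv⟩ := exists_not_comm_of_index_four h4 (by omega)
  have hex : ∃ x : S, x * x ≠ 1 := by
    by_contra hcon
    push Not at hcon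
    apply huv
    have hinv : ∀ y : S, y⁻¹ = y := fun y => inv_eq_of_mul_eq_one_left (hcon y)
    calc u * v = (u * v)⁻¹ := (hinv _).symm
      _ = v⁻¹ * u⁻¹ := mul_inv_rev u v
      _ = v * u := by rw [hinv, hinv]
  obtain ⟨x, hx⟩ := hex
  have hdvd : orderOf x ∣ 2 ^ 3 := by
    have := orderOf_dvd_natCard x
    rw [h8] at this; exact this
  obtain ⟨k, hk3, hk⟩ := (Nat.dvd_prime_pow Nat.prime_two).mp hdvd
  have hcardz : Nat.card (Subgroup.zpowers x) = 2 ^ k := by rw [Nat.card_zpowers, hk]
  have hk2 : k = 2 := by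
    interval_cases k
    · exfalso; apply hx
      rw [pow_zero, orderOf_eq_one_iff] at hk; rw [hk, one_mul]
    · exfalso; apply hx
      have := pow_orderOf_eq_one x
      rw [hk, pow_one, pow_two] at this; exact this
    · rfl
    · exfalso
      have htop : Subgroup.zpowers x = ⊤ := by
        apply Subgroup.eq_top_of_card_eq
        rw [hcardz, h8]; norm_num
      apply huv
      have hu : u ∈ Subgroup.zpowers x := by rw [htop]; trivial
      have hv : v ∈ Subgroup.zpowers x := by rw [htop]; trivial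
      obtain ⟨i, rfl⟩ := Subgroup.mem_zpowers_iff.mp hu
      obtain ⟨j, rfl⟩ := Subgroup.mem_zpowers_iff.mp hv
      rw [← zpow_add, ← zpow_add, add_comm]
  refine ⟨Subgroup.zpowers x, inferInstance, ?_⟩
  have := Subgroup.card_mul_index (Subgroup.zpowers x)
  rw [hcardz, hk2, h8] at this
  omega

end step

/-- **Main theorem**: a finite 2-group `S` with `|S : S'| = 4` and `|S| ≥ 8` has a cyclic
subgroup of index 2. -/
theorem exists_cyclic_index_two_aux : ∀ (n : ℕ) (S : Type u) [Group S] [Finite S],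
    Nat.card S = n → IsPGroup 2 S → (commutator S).index = 4 → 8 ≤ n →
    ∃ C : Subgroup S, IsCyclic C ∧ C.index = 2 := by
  intro n
  induction n using Nat.strong_induction_on with
  | _ n ih =>
    intro S _ _ hn hS h4 h8
    have : Fact (Nat.Prime 2) := ⟨Nat.prime_two⟩
    obtain ⟨k, hk⟩ := IsPGroup.iff_card.mp hS
    by_cases h16 : 16 ≤ n
    · apply exists_cyclic_index_two_step hS h4 (by omega)
      intro Q _ _ hlt hQ hQ4 hQ8
      exact ih (Nat.card Q) (by omega) Q rfl hQ hQ4 hQ8
    · have hcard8 : Nat.card S = 8 := by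
        have hlt : n < 16 := by omega
        rw [← hn, hk] at hlt h8
        have hk3 : k = 3 := by
          have h1 : k < 4 := by
            by_contra hge
            have : 2 ^ 4 ≤ 2 ^ k := Nat.pow_le_pow_right two_pos (by omega)
            omega
          have h2 : 3 ≤ k := by
            by_contra hlt3
            have : 2 ^ k ≤ 2 ^ 2 := Nat.pow_le_pow_right two_pos (by omega)
            omega
          omega
        rw [hk, hk3]; norm_num
      exact exists_cyclic_index_two_of_card_eight hcard8 h4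

theorem exists_cyclic_index_two {S : Type u} [Group S] [Finite S] (hS : IsPGroup 2 S)
    (h4 : (commutator S).index = 4) (h8 : 8 ≤ Nat.card S) :
    ∃ C : Subgroup S, IsCyclic C ∧ C.index = 2 :=
  exists_cyclic_index_two_aux _ S rfl hS h4 h8

section consequences

variable {S : Type u} [Group S] [Finite S]

theorem card_center_eq_two (hS : IsPGroup 2 S) (h4 : (commutator S).index = 4)
    (h8 : 8 ≤ Nat.card S) : Nat.card (Subgroup.center S) = 2 := by
  obtain ⟨C, hCc, hC2⟩ := exists_cyclic_index_two hS h4 h8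
  have hCab : ∀ x ∈ C, ∀ y ∈ C, x * y = y * x := by
    intro x hx y hy
    have := (IsCyclic.isMulCommutative (α := C)).is_comm.comm ⟨x, hx⟩ ⟨y, hy⟩
    exact congrArg Subtype.val this
  exact card_center_of_abelian_index_two C hCab hC2 h4 h8

theorem center_le_commutator (hS : IsPGroup 2 S) (h4 : (commutator S).index = 4)
    (h8 : 8 ≤ Nat.card S) : Subgroup.center S ≤ commutator S := by
  have hne := commutator_ne_bot_of_index_four h4 h8
  obtain ⟨z, hzS', hzZ, hz2⟩ := exists_central_involution hS (commutator S) hne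
  have hle : Subgroup.zpowers z ≤ Subgroup.center S := Subgroup.zpowers_le.mpr hzZ
  have heq : Subgroup.zpowers z = Subgroup.center S := by
    apply Subgroup.eq_of_le_of_card_ge hle
    rw [card_center_eq_two hS h4 h8, Nat.card_zpowers, hz2]
  rw [← heq]
  exact Subgroup.zpowers_le.mpr hzS'

end consequences

end Cfsg.Agent.Lib.Helper74.V78



/-!
# Structure of 2-groups with `|S : S'| = 4`

`structure_of_index_four`: generators `a` (of order `2^(n-1)`) and `b ∉ ⟨a⟩` with
`b a b⁻¹ ∈ {a⁻¹, a⁻¹ z}` and `b² ∈ {1, z}`, where `z = a^(2^(n-2))` generates the centre.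
-/

namespace Cfsg.Agent.Lib.Helper74.V78

universe u

variable {S : Type u} [Group S] [Finite S]

theorem structure_of_index_four (hS : IsPGroup 2 S) (h4 : (commutator S).index = 4)
    (n : ℕ) (hn : 3 ≤ n) (hcard : Nat.card S = 2 ^ n) :
    ∃ a b z : S, orderOf a = 2 ^ (n - 1) ∧ b ∉ Subgroup.zpowers a ∧
      (Subgroup.zpowers a).index = 2 ∧ z = a ^ (2 ^ (n - 2)) ∧
      orderOf z = 2 ∧ (∀ x, x ∈ Subgroup.center S ↔ x = 1 ∨ x = z) ∧
      (b * a * b⁻¹ = a⁻¹ ∨ b * a * b⁻¹ = a⁻¹ * z) ∧ (b * b = 1 ∨ b * b = z) := by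
  have h8 : 8 ≤ Nat.card S := by
    rw [hcard]
    calc 8 = 2 ^ 3 := by norm_num
      _ ≤ 2 ^ n := Nat.pow_le_pow_right two_pos hn
  obtain ⟨C, hCc, hC2⟩ := exists_cyclic_index_two hS h4 h8
  obtain ⟨a', ha'⟩ := hCc.exists_generator
  obtain ⟨a, haC, rfl⟩ : ∃ a : S, ∃ h : a ∈ C, a' = ⟨a, h⟩ := ⟨a'.1, a'.2, rfl⟩
  have hCeq : C = Subgroup.zpowers a := by
    apply le_antisymm
    · intro x hx
      obtain ⟨k, hk⟩ := Subgroup.mem_zpowers_iff.mp (ha' ⟨x, hx⟩)
      rw [Subgroup.mem_zpowers_iff]
      refine ⟨k, ?_⟩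
      have := congrArg Subtype.val hk
      simpa using this
    · exact Subgroup.zpowers_le.mpr haC
  have hCcard : Nat.card C * 2 = 2 ^ n := by
    rw [← hcard, ← hC2]; exact Subgroup.card_mul_index C
  obtain ⟨m, rfl⟩ : ∃ m, n = m + 2 := ⟨n - 2, by omega⟩
  have hCcard' : Nat.card C = 2 ^ (m + 1) := by
    have : 2 ^ (m + 2) = 2 ^ (m + 1) * 2 := by ring
    omega
  have horda : orderOf a = 2 ^ (m + 1) := by
    rw [← Nat.card_zpowers, ← hCeq, hCcard']
  have hidx : (Subgroup.zpowers a).index = 2 := by rw [← hCeq]; exact hC2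
  obtain ⟨b, hb⟩ : ∃ b : S, b ∉ C := by
    by_contra hcon
    push Not at hcon
    have : C = ⊤ := by rw [eq_top_iff]; intro x _; exact hcon x
    rw [this, Subgroup.index_top] at hC2
    omega
  have hCab : ∀ x ∈ C, ∀ y ∈ C, x * y = y * x := by
    intro x hx y hy
    have := (IsCyclic.isMulCommutative (α := C)).is_comm.comm ⟨x, hx⟩ ⟨y, hy⟩
    exact congrArg Subtype.val this
  have hna := exists_not_comm_of_index_four h4 h8
  have hZC : Subgroup.center S ≤ C := center_le_of_index_two C hCab hC2 hna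
  have hZ2 : Nat.card (Subgroup.center S) = 2 := card_center_eq_two hS h4 h8
  obtain ⟨z, hzdef⟩ : ∃ z : S, z = a ^ (2 ^ m) := ⟨_, rfl⟩
  have hzz : z * z = 1 := by
    rw [hzdef, ← pow_add, ← two_mul, ← pow_succ', ← horda, pow_orderOf_eq_one]
  have hz1 : z ≠ 1 := by
    intro h
    rw [hzdef] at h
    have := orderOf_dvd_of_pow_eq_one h
    rw [horda] at this
    have h1 := Nat.le_of_dvd (pow_pos two_pos m) this
    have : 2 ^ m < 2 ^ (m + 1) := Nat.pow_lt_pow_right (by norm_num) (by omega)
    omega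
  have hordz : orderOf z = 2 := by
    apply orderOf_eq_prime
    · rw [pow_two]; exact hzz
    · exact hz1
  -- the centre is {1, z}
  have hcenter : ∀ x, x ∈ Subgroup.center S ↔ x = 1 ∨ x = z := by
    have key : ∀ x ∈ Subgroup.center S, x = 1 ∨ x = z := by
      intro x hx
      have hxC : x ∈ Subgroup.zpowers a := by rw [← hCeq]; exact hZC hx
      obtain ⟨k, rfl⟩ := Subgroup.mem_zpowers_iff.mp hxC
      -- (a^k)^2 = 1
      have hx2 : (a ^ k) ^ (2 : ℤ) = 1 := by
        have h1 : (⟨a ^ k, hx⟩ : Subgroup.center S) ^ Nat.card (Subgroup.center S) = 1 :=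
          pow_card_eq_one'
        rw [hZ2] at h1
        have := congrArg Subtype.val h1
        simpa using this
      rw [← zpow_mul] at hx2
      have hdvd : ((orderOf a : ℕ) : ℤ) ∣ k * 2 := orderOf_dvd_iff_zpow_eq_one.mpr hx2
      rw [horda] at hdvd
      have hdvd' : ((2 : ℤ) ^ m) ∣ k := by
        have : ((2 ^ (m + 1) : ℕ) : ℤ) = 2 ^ m * 2 := by push_cast; ring
        rw [this] at hdvd
        exact Int.dvd_of_mul_dvd_mul_right (by norm_num) hdvd
      obtain ⟨j, rfl⟩ := hdvd'
      have : a ^ ((2 : ℤ) ^ m * j) = z ^ j := by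
        rw [zpow_mul, hzdef]
        congr 1
        have : ((2 : ℤ) ^ m) = ((2 ^ m : ℕ) : ℤ) := by push_cast; ring
        rw [this, zpow_natCast]
      rw [this]
      exact zpow_eq_one_or_self_of_sq hzz j
    have hzc : z ∈ Subgroup.center S := by
      -- some nontrivial element of the centre
      have : ∃ x ∈ Subgroup.center S, x ≠ 1 := by
        by_contra hcon
        push Not at hcon
        have hbot : Subgroup.center S = ⊥ := by
          rw [eq_bot_iff]; intro x hx; rw [Subgroup.mem_bot]; exact hcon x hx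
        rw [hbot, Subgroup.card_bot] at hZ2
        omega
      obtain ⟨x, hx, hx1⟩ := this
      rcases key x hx with h | h
      · exact absurd h hx1
      · rw [← h]; exact hx
    intro x
    constructor
    · exact key x
    · rintro (rfl | rfl)
      · exact Subgroup.one_mem _
      · exact hzc
  have hCn : C.Normal := Subgroup.normal_of_index_eq_two hC2
  have hbab : b * a * b⁻¹ ∈ C := hCn.conj_mem a haC b
  have hbb : b * b ∈ C := sq_mem_of_index_two C hC2 b
  -- t = a * (b a b⁻¹) is central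
  have ht : a * (b * a * b⁻¹) ∈ Subgroup.center S := by
    apply mem_center_of_comm C hC2 b hb
    · intro c hc
      exact hCab c hc _ (C.mul_mem haC hbab)
    · have h1 : (b * b) * a = a * (b * b) := hCab _ hbb _ haC
      have h2 : (b * a * b⁻¹) * a = a * (b * a * b⁻¹) := hCab _ hbab _ haC
      calc b * (a * (b * a * b⁻¹)) = (b * a * b⁻¹) * ((b * b) * a) * (b * b)⁻¹ * b := by group
        _ = (b * a * b⁻¹) * (a * (b * b)) * (b * b)⁻¹ * b := by rw [h1]
        _ = ((b * a * b⁻¹) * a) * b := by group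
        _ = a * (b * a * b⁻¹) * b := by rw [h2]
  have hbbc : b * b ∈ Subgroup.center S := by
    apply mem_center_of_comm C hC2 b hb
    · intro c hc
      exact hCab c hc _ hbb
    · group
  refine ⟨a, b, z, by simpa using horda, by rw [← hCeq]; exact hb, hidx, by simpa using hzdef,
    hordz, hcenter, ?_, (hcenter _).mp hbbc⟩
  rcases (hcenter _).mp ht with h | h
  · left
    calc b * a * b⁻¹ = a⁻¹ * (a * (b * a * b⁻¹)) := by group
      _ = a⁻¹ := by rw [h, mul_one]
  · right
    calc b * a * b⁻¹ = a⁻¹ * (a * (b * a * b⁻¹)) := by group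
      _ = a⁻¹ * z := by rw [h]

end Cfsg.Agent.Lib.Helper74.V78
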