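import Mathlib
import Cfsg.Agent.Lib.Helper74.MinIdxHub

/-!
# S2140, keystone K17: a subgroup covering `P/Q` contains a transvection.
-/

set_option autoImplicit false

namespace Cfsg.Agent.Lib.Helper74.MinIdx

open Matrix Cfsg.Agent.Lib.Helper74.MinIdxHub

variable {κ : Type*} [Fintype κ] [DecidableEq κ] {F : Type*} [Field F]

/-- the block matrix over a transvection `T = 1 + u φᵀ` with row `c • φ` is a transvection. -/
theorem blk_tvGL_eq_tv (u φ : κ → F) (h : φ ⬝ᵥ u = 0) (c : F)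
    (h' : (Sum.elim (fun _ => (0 : F)) φ : Unit ⊕ κ → F) ⬝ᵥ
      (Sum.elim (fun _ => c) u : Unit ⊕ κ → F) = 0) :
    blk (tvGL u φ h) (c • φ) =
      tv (Sum.elim (fun _ => c) u : Unit ⊕ κ → F) (Sum.elim (fun _ => (0 : F)) φ) h' := by
  apply Subtype.ext
  rw [coe_blk, coe_tv, coe_tvGL]
  have hdet : (tvM u φ).det = 1 := by rw [det_tvM, h, add_zero]
  ext (i | i) (j | j)
  · simp only [blkM, fromBlocks_apply₁₁, Matrix.of_apply, hdet, inv_one]
    simp [tvM, vecMulVec_apply]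
  · simp [blkM, tvM, vecMulVec_apply]
  · simp [blkM, tvM, vecMulVec_apply]
  · simp [blkM, tvM, vecMulVec_apply, Matrix.one_apply]

theorem isTv_blk_tvGL (u φ : κ → F) (h : φ ⬝ᵥ u = 0) (c : F) (hu : u ≠ 0) (hφ : φ ≠ 0) :
    IsTv (blk (tvGL u φ h) (c • φ)) := by
  have h' : (Sum.elim (fun _ => (0 : F)) φ : Unit ⊕ κ → F) ⬝ᵥ
      (Sum.elim (fun _ => c) u : Unit ⊕ κ → F) = 0 := by
    simp [dotProduct, Fintype.sum_sum_type] at h ⊢
    exact h
  refine ⟨_, _, h', ?_, ?_, blk_tvGL_eq_tv u φ h c h'⟩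
  · intro h0
    apply hu
    ext i
    have := congrFun h0 (Sum.inr i)
    simpa using this
  · intro h0
    apply hφ
    ext i
    have := congrFun h0 (Sum.inr i)
    simpa using this

/-- K17: a subgroup covering `P/Q` contains a transvection. -/
theorem K17_cover_has_tv [Fintype F] (hκ : 2 ≤ Fintype.card κ)
    (hexc : ¬ (Fintype.card κ = 3 ∧ Fintype.card F = 2))
    (K : Subgroup (SpecialLinearGroup (Unit ⊕ κ) F))
    (hK : ∀ A : GL κ F, ∃ r : κ → F, blk A r ∈ K) : ∃ g ∈ K, IsTv g := by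
  by_contra hno
  push Not at hno
  obtain ⟨r, hrK, hr⟩ := K12_cocycle K hK hno
  have key : ∃ (u φ : κ → F) (h : φ ⬝ᵥ u = 0) (c : F), u ≠ 0 ∧ φ ≠ 0 ∧
      r (tvGL u φ h) = c • φ := by
    rcases Nat.lt_or_ge (Fintype.card κ) 4 with h4 | h4
    · rcases Nat.lt_or_ge (Fintype.card κ) 3 with h3 | h3
      · exact K16_A4 (by omega) r hr
      · have hκ3 : Fintype.card κ = 3 := by omega
        have hq1 : 1 < Fintype.card F := Fintype.one_lt_card
        rcases Nat.lt_or_ge (Fintype.card F) 4 with hq | hq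
        · rcases Nat.lt_or_ge (Fintype.card F) 3 with hq3 | hq3
          · exact absurd ⟨hκ3, by omega⟩ hexc
          · exact K15_A3 hκ3 (by omega) r hr
        · exact K14_A2 hκ3 hq r hr
    · exact K13_A1 h4 r hr
  obtain ⟨u, φ, h, c, hu, hφ, hrT⟩ := key
  have hmem := hrK (tvGL u φ h)
  rw [hrT] at hmem
  exact hno _ hmem (isTv_blk_tvGL u φ h c hu hφ)

end Cfsg.Agent.Lib.Helper74.MinIdx
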