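import Mathlib
import Cfsg.Agent.Lib.Helper74.MinIdxHub

/-!
# S2140, keystone K18: case (A) (index `q^m`) is impossible.
-/

set_option autoImplicit false

namespace Cfsg.Agent.Lib.Helper74.MinIdx

open Matrix Cfsg.Agent.Lib.Helper74.MinIdxHub

variable {κ : Type*} [Fintype κ] [DecidableEq κ] {F : Type*} [Field F]

/-- `blk A r` stabilises the point `F v0`. -/
theorem blk_mem_Pst (A : GL κ F) (r : κ → F) : blk A r ∈ Pst (v0 : Unit ⊕ κ → F) := by
  have hdet : (A : Matrix κ κ F).det ≠ 0 := (Matrix.isUnits_det_units A).ne_zero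
  refine ⟨Units.mk0 ((A : Matrix κ κ F).det)⁻¹ (inv_ne_zero hdet), ?_⟩
  rw [coe_blk]
  ext (i | i)
  · simp [blkM, v0, Matrix.mulVec, dotProduct, Fintype.sum_sum_type]
  · simp [blkM, v0, Matrix.mulVec, dotProduct, Fintype.sum_sum_type]

/-- left multiplication of `blk A r` by a transvection with centre `v0`. -/
theorem tv_v0_mul_blk (ψ : Unit ⊕ κ → F) (h : ψ ⬝ᵥ (v0 : Unit ⊕ κ → F) = 0) (A : GL κ F)
    (r : κ → F) :
    tv (v0 : Unit ⊕ κ → F) ψ h * blk A r =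
      blk A (r + (fun j => ψ (Sum.inr j)) ᵥ* (A : Matrix κ κ F)) := by
  have h0 : ψ (Sum.inl ()) = 0 := by
    simpa [v0, dotProduct, Fintype.sum_sum_type] using h
  apply Subtype.ext
  rw [Matrix.SpecialLinearGroup.coe_mul, coe_tv, coe_blk, coe_blk]
  ext (i | i) (j | j)
  · simp [blkM, tvM, v0, Matrix.mul_apply, Fintype.sum_sum_type, vecMulVec_apply, h0,
      Matrix.one_apply]
  · simp [blkM, tvM, v0, Matrix.mul_apply, Fintype.sum_sum_type, vecMulVec_apply, h0,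
      Matrix.one_apply, Matrix.vecMul, dotProduct]
  · simp [blkM, tvM, v0, Matrix.mul_apply, Fintype.sum_sum_type, vecMulVec_apply,
      Matrix.one_apply]
  · simp [blkM, tvM, v0, Matrix.mul_apply, Fintype.sum_sum_type, vecMulVec_apply,
      Matrix.one_apply]

theorem v0_ne_zero : (v0 : Unit ⊕ κ → F) ≠ 0 := by
  intro h
  have := congrFun h (Sum.inl ())
  simp [v0] at this

/-- K18: case (A) is impossible. -/
theorem K18_caseA [Fintype F] (hκ : 2 ≤ Fintype.card κ)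
    (H : Subgroup (SpecialLinearGroup (Unit ⊕ κ) F))
    (hfix : ∀ g : SpecialLinearGroup (Unit ⊕ κ) F, IsTv g →
      Nat.card (MulAction.fixedBy (SpecialLinearGroup (Unit ⊕ κ) F ⧸ H) g) +
        Fintype.card F ^ Fintype.card κ = H.index)
    (hcover : ∀ K : Subgroup (SpecialLinearGroup (Unit ⊕ κ) F),
      (∀ A : GL κ F, ∃ r : κ → F, blk A r ∈ K) → ∃ g ∈ K, IsTv g)
    (hidx : H.index = Fintype.card F ^ Fintype.card κ) : False := by
  classical
  -- no transvection in `H`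
  have hno : ∀ g ∈ H, ¬ IsTv g := by
    intro g hgH hg
    have h1 := hfix g hg
    rw [hidx] at h1
    have hmem : ((1 : SpecialLinearGroup (Unit ⊕ κ) F) : SpecialLinearGroup (Unit ⊕ κ) F ⧸ H) ∈
        MulAction.fixedBy (SpecialLinearGroup (Unit ⊕ κ) F ⧸ H) g := by
      rw [MulAction.mem_fixedBy, MulAction.Quotient.smul_mk, QuotientGroup.eq]
      simpa using H.inv_mem hgH
    have hpos : 0 < Nat.card (MulAction.fixedBy (SpecialLinearGroup (Unit ⊕ κ) F ⧸ H) g) :=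
      Nat.card_pos_iff.mpr ⟨⟨_, hmem⟩, inferInstance⟩
    omega
  -- `Q ⊓ H = ⊥`
  have hQH : ∀ t ∈ Qst (v0 : Unit ⊕ κ → F), t ∈ H → t = 1 := by
    intro t htQ htH
    by_contra hne
    exact hno t htH (K6_isTv _ v0_ne_zero t htQ hne)
  -- the map `Q → G ⧸ H` is a bijection
  have hcardQ : Nat.card (Qst (v0 : Unit ⊕ κ → F)) = Fintype.card F ^ Fintype.card κ := by
    rw [K6_card_Qst _ v0_ne_zero, Fintype.card_sum, Fintype.card_unit, Nat.add_sub_cancel_left]
  have hinj : Function.Injective (fun t : Qst (v0 : Unit ⊕ κ → F) =>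
      ((t : SpecialLinearGroup (Unit ⊕ κ) F) : SpecialLinearGroup (Unit ⊕ κ) F ⧸ H)) := by
    intro t t' htt
    have h1 : ((t : SpecialLinearGroup (Unit ⊕ κ) F))⁻¹ * (t' : SpecialLinearGroup (Unit ⊕ κ) F)
        ∈ H := QuotientGroup.eq.mp htt
    have h2 := hQH _ ((Qst v0).mul_mem ((Qst v0).inv_mem t.2) t'.2) h1
    apply Subtype.ext
    exact inv_mul_eq_one.mp h2
  have hsurj : Function.Surjective (fun t : Qst (v0 : Unit ⊕ κ → F) =>
      ((t : SpecialLinearGroup (Unit ⊕ κ) F) : SpecialLinearGroup (Unit ⊕ κ) F ⧸ H)) := by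
    have hfin : Finite (SpecialLinearGroup (Unit ⊕ κ) F ⧸ H) := inferInstance
    apply (Nat.bijective_iff_injective_and_card _).mpr ⟨hinj, ?_⟩ |>.2
    rw [hcardQ, ← hidx, Subgroup.index]
  -- covering
  have hK : ∀ A : GL κ F, ∃ r : κ → F, blk A r ∈ H ⊓ Pst (v0 : Unit ⊕ κ → F) := by
    intro A
    obtain ⟨t, ht⟩ := hsurj ((blk A 0 : SpecialLinearGroup (Unit ⊕ κ) F) :
      SpecialLinearGroup (Unit ⊕ κ) F ⧸ H)
    have h1 : ((t : SpecialLinearGroup (Unit ⊕ κ) F))⁻¹ * blk A 0 ∈ H := QuotientGroup.eq.mp ht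
    obtain ⟨ψ, hψ, hteq⟩ := (Qst v0).inv_mem t.2
    rw [hteq, tv_v0_mul_blk] at h1
    exact ⟨_, h1, blk_mem_Pst _ _⟩
  obtain ⟨g, hgK, hg⟩ := hcover _ hK
  exact hno g hgK.1 hg

end Cfsg.Agent.Lib.Helper74.MinIdx
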