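import Mathlib
import Cfsg.Agent.Lib.Helper74.MinIdxHub
import Cfsg.Agent.Lib.Helper74.MinIdxK17
import Cfsg.Agent.Lib.Helper74.MinIdxK18
import Cfsg.Agent.Lib.Helper90.MinIdxK9
import Cfsg.Agent.Lib.Helper90.MinIdxK21
import Cfsg.Agent.Lib.Helper54.MinIdxK10
import Cfsg.Agent.Lib.Helper48.MinIdxK11

/-!
# S2140: final glue (minimal index of `PSL_n(q)`).
-/

set_option autoImplicit false

namespace Cfsg.Agent.Lib.Helper74.MinIdxFinal

open Matrix Cfsg.Agent.Lib.Helper74.MinIdx Cfsg.Agent.Lib.Helper74.MinIdxHub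

section Block

variable {κ : Type*} [Fintype κ] [DecidableEq κ] {F : Type*} [Field F] [Fintype F]

/-- Main theorem for `SL (Unit ⊕ κ) F`. -/
theorem main_block (hκ : 2 ≤ Fintype.card κ)
    (hexc : ¬ (Fintype.card κ = 3 ∧ Fintype.card F = 2))
    (H : Subgroup (SpecialLinearGroup (Unit ⊕ κ) F)) (hH : H ≠ ⊤) :
    (Fintype.card F ^ (Fintype.card κ + 1) - 1) / (Fintype.card F - 1) ≤ H.index := by
  by_contra hlt
  push_neg at hlt
  have hcard : Fintype.card (Unit ⊕ κ) = Fintype.card κ + 1 := by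
    rw [Fintype.card_sum, Fintype.card_unit, add_comm]
  have hn3 : 3 ≤ Fintype.card (Unit ⊕ κ) := by omega
  have hn2 : 2 ≤ Fintype.card (Unit ⊕ κ) := by omega
  have hlt' : H.index <
      (Fintype.card F ^ Fintype.card (Unit ⊕ κ) - 1) / (Fintype.card F - 1) := by
    rw [hcard]; exact hlt
  have hfix : ∀ g : SpecialLinearGroup (Unit ⊕ κ) F, IsTv g →
      Nat.card (MulAction.fixedBy (SpecialLinearGroup (Unit ⊕ κ) F ⧸ H) g) +
        Fintype.card F ^ Fintype.card κ = H.index := by
    intro g hg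
    have := Cfsg.Agent.Lib.Helper90.MinIdx.K9_fix hn3 H hH hlt' g hg
    rwa [hcard, Nat.add_sub_cancel] at this
  have htrans : ∀ v : Unit ⊕ κ → F, v ≠ 0 → ∀ g : SpecialLinearGroup (Unit ⊕ κ) F,
      ∃ a ∈ Pst v, ∃ h ∈ H, g = a * h := by
    intro v hv
    apply K2_transitive (Pst v) H (K7_double_coset hn2 v hv)
    rw [K8_index_Pst hn2 v hv]
    exact hlt'
  have hv0 : (v0 : Unit ⊕ κ → F) ≠ 0 := by
    intro h
    have := congrFun h (Sum.inl ())
    simp [v0] at this
  have hint : 3 ≤ Fintype.card κ → H.index <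
        H.relIndex (Qst (v0 : Unit ⊕ κ → F)) * Fintype.card F ^ (Fintype.card κ - 1) →
      H.relIndex (Qst (v0 : Unit ⊕ κ → F)) = 1 ∨
        H.relIndex (Qst (v0 : Unit ⊕ κ → F)) = Fintype.card F ^ Fintype.card κ := by
    intro h3 hs
    exact Cfsg.Agent.Lib.Helper54.MinIdx.K10_int hκ
      (fun S hS => Cfsg.Agent.Lib.Helper90.MinIdx.K9_index_ge h3 S hS) H (htrans v0 hv0) hs
  rcases Cfsg.Agent.Lib.Helper48.MinIdx.K11_index_cases hκ H hlt hfix (htrans v0 hv0) hint with hA | hB
  · exact K18_caseA hκ H hfix (fun K hK => K17_cover_has_tv hκ hexc K hK) hA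
  · refine Cfsg.Agent.Lib.Helper90.MinIdx.K21_caseB hn3 H ?_ htrans ?_
    · intro g hg
      have := hfix g hg
      rwa [hcard, Nat.add_sub_cancel]
    · rw [hcard, Nat.add_sub_cancel]; exact hB

end Block

section Reindex

variable {ι ι' : Type*} [Fintype ι] [DecidableEq ι] [Fintype ι'] [DecidableEq ι']
  {F : Type*} [Field F]

/-- Reindexing `SL`. -/
def slReindex (e : ι ≃ ι') : SpecialLinearGroup ι F ≃* SpecialLinearGroup ι' F where
  toFun A := ⟨Matrix.reindex e e (A : Matrix ι ι F), by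
    rw [Matrix.det_reindex_self]; exact A.2⟩
  invFun A := ⟨Matrix.reindex e.symm e.symm (A : Matrix ι' ι' F), by
    rw [Matrix.det_reindex_self]; exact A.2⟩
  left_inv A := by
    apply Subtype.ext
    ext i j
    simp [Matrix.reindex_apply, Matrix.submatrix_apply]
  right_inv A := by
    apply Subtype.ext
    ext i j
    simp [Matrix.reindex_apply, Matrix.submatrix_apply]
  map_mul' A B := by
    apply Subtype.ext
    show Matrix.reindex e e ((A : Matrix ι ι F) * (B : Matrix ι ι F)) =
      Matrix.reindex e e (A : Matrix ι ι F) * Matrix.reindex e e (B : Matrix ι ι F)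
    simp only [Matrix.reindex_apply, Matrix.submatrix_mul_equiv]

end Reindex

section Fin

variable {F : Type*} [Field F] [Fintype F]

/-- Main theorem for `SL (Fin n) F`. -/
theorem main_SL (n : ℕ) (hn : 3 ≤ n) (hexc : ¬ (n = 4 ∧ Fintype.card F = 2))
    (H : Subgroup (SpecialLinearGroup (Fin n) F)) (hH : H ≠ ⊤) :
    (Fintype.card F ^ n - 1) / (Fintype.card F - 1) ≤ H.index := by
  obtain ⟨m, rfl⟩ : ∃ m, n = m + 1 := ⟨n - 1, by omega⟩
  have hc : Fintype.card (Fin (m + 1)) = Fintype.card (Unit ⊕ Fin m) := by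
    simp [add_comm]
  let e : Fin (m + 1) ≃ Unit ⊕ Fin m := Fintype.equivOfCardEq hc
  let E : SpecialLinearGroup (Fin (m + 1)) F ≃* SpecialLinearGroup (Unit ⊕ Fin m) F :=
    slReindex e
  have hidx : (H.map (E : SpecialLinearGroup (Fin (m + 1)) F →*
      SpecialLinearGroup (Unit ⊕ Fin m) F)).index = H.index := Subgroup.index_map_equiv H E
  have hne : H.map (E : SpecialLinearGroup (Fin (m + 1)) F →*
      SpecialLinearGroup (Unit ⊕ Fin m) F) ≠ ⊤ := by
    intro h
    apply hH
    have h1 : (H.map (E : SpecialLinearGroup (Fin (m + 1)) F →*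
      SpecialLinearGroup (Unit ⊕ Fin m) F)).index = 1 := by rw [h]; exact Subgroup.index_top
    rw [hidx] at h1
    exact Subgroup.index_eq_one.mp h1
  have := main_block (κ := Fin m) (F := F) (by simp; omega)
    (by simp only [Fintype.card_fin]; intro h; exact hexc ⟨by omega, h.2⟩) _ hne
  rw [hidx] at this
  simpa using this

/-- the centre of `SL` fixes every point -/
theorem center_le_Pst {ι : Type*} [Fintype ι] [DecidableEq ι] (v : ι → F) :
    Subgroup.center (SpecialLinearGroup ι F) ≤ Pst v := by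
  intro A hA
  obtain ⟨r, hr, hrA⟩ := Matrix.SpecialLinearGroup.mem_center_iff.mp hA
  rcases isEmpty_or_nonempty ι with hι | hι
  · refine ⟨1, ?_⟩
    ext i; exact (IsEmpty.false i).elim
  have hr0 : r ≠ 0 := by
    intro h0
    rw [h0, zero_pow (Fintype.card_ne_zero)] at hr
    exact zero_ne_one hr
  refine ⟨Units.mk0 r hr0, ?_⟩
  rw [← hrA]
  ext i
  simp [Matrix.mulVec, dotProduct, Matrix.scalar_apply, Matrix.diagonal_apply]

/-- **S2140**. -/
theorem main_PSL (n : ℕ) (hn : 3 ≤ n) (hexc : ¬ (n = 4 ∧ Fintype.card F = 2)) :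
    (∀ H : Subgroup (Matrix.ProjectiveSpecialLinearGroup (Fin n) F), H ≠ ⊤ →
      (Fintype.card F ^ n - 1) / (Fintype.card F - 1) ≤ H.index) ∧
    (∃ H : Subgroup (Matrix.ProjectiveSpecialLinearGroup (Fin n) F),
      H.index = (Fintype.card F ^ n - 1) / (Fintype.card F - 1)) := by
  have hsurj : Function.Surjective
      (QuotientGroup.mk' (Subgroup.center (SpecialLinearGroup (Fin n) F))) :=
    QuotientGroup.mk'_surjective _
  constructor
  · intro H hH
    have h1 : (H.comap (QuotientGroup.mk' (Subgroup.center (SpecialLinearGroup (Fin n) F)))).index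
        = H.index := Subgroup.index_comap_of_surjective H hsurj
    have h2 : H.comap (QuotientGroup.mk' (Subgroup.center (SpecialLinearGroup (Fin n) F))) ≠ ⊤ := by
      intro h
      apply hH
      have h3 := h1
      rw [h, Subgroup.index_top] at h3
      exact Subgroup.index_eq_one.mp h3.symm
    have := main_SL n hn hexc _ h2
    rwa [h1] at this
  · have hv : (Pi.single (⟨0, by omega⟩ : Fin n) (1 : F) : Fin n → F) ≠ 0 := by
      intro h
      have := congrFun h ⟨0, by omega⟩
      simp at this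
    refine ⟨(Pst (Pi.single (⟨0, by omega⟩ : Fin n) (1 : F))).map
      (QuotientGroup.mk' (Subgroup.center (SpecialLinearGroup (Fin n) F))), ?_⟩
    rw [Subgroup.index_map_eq _ hsurj (by rw [QuotientGroup.ker_mk']; exact center_le_Pst _)]
    have := K8_index_Pst (ι := Fin n) (F := F) (by simp; omega) _ hv
    simpa using this

end Fin

end Cfsg.Agent.Lib.Helper74.MinIdxFinal
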