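import Mathlib
import Cfsg.Agent.Lib.Helper48.PSL2Basic

set_option autoImplicit false

namespace Cfsg.Agent.Lib.Helper74.NQ
open Matrix

theorem p2_charP {F : Type*} [Field F] [Fintype F] {p : ℕ} [Fact p.Prime] (n : ℕ)
    (hF : Fintype.card F = p ^ n) : CharP F p := by
  have h0 : ((Fintype.card F : ℕ) : F) = 0 := Nat.cast_card_eq_zero F
  rw [hF, Nat.cast_pow] at h0
  have hp0 : (p : F) = 0 := pow_eq_zero_iff (M₀ := F) (by
    rintro rfl
    have := Fintype.one_lt_card (α := F)
    simp at hF; omega) |>.1 h0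
  have := CharP.ringChar_of_prime_eq_zero (Fact.out : p.Prime) hp0
  rw [← this]
  exact ringChar.charP F

theorem p2_two_ne_zero {F : Type*} [Field F] [Fintype F] (hodd : Odd (Fintype.card F)) :
    (2 : F) ≠ 0 := by
  intro h2
  have h := CharP.ringChar_of_prime_eq_zero (R := F) Nat.prime_two (by exact_mod_cast h2)
  have := FiniteField.even_card_of_char_two h
  rcases hodd with ⟨k, hk⟩
  omega

theorem p2_trace {F : Type*} [Field F] {p : ℕ} [Fact p.Prime] [CharP F p] (hp2 : p ≠ 2)
    (M : Matrix (Fin 2) (Fin 2) F) (k : ℕ) (r : F) (hr : r = 1 ∨ r = -1)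
    (h : M ^ (p ^ k) = r • (1 : Matrix (Fin 2) (Fin 2) F)) : M.trace = 2 * r := by
  have hodd : Odd (p ^ k) := by
    apply Odd.pow
    exact (Fact.out : p.Prime).odd_of_ne_two hp2
  have hrp : r ^ (p ^ k) = r := by
    rcases hr with rfl | rfl
    · simp
    · exact hodd.neg_one_pow
  have hcomm : Commute M (r • (1 : Matrix (Fin 2) (Fin 2) F)) := by
    apply Commute.smul_right
    exact Commute.one_right _
  have h1 : (M - r • (1 : Matrix (Fin 2) (Fin 2) F)) ^ (p ^ k) = 0 := by
    rw [sub_pow_char_pow_of_commute p k hcomm, h, smul_pow, one_pow, hrp, sub_self]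
  have h2 : IsNilpotent (M - r • (1 : Matrix (Fin 2) (Fin 2) F)) := ⟨_, h1⟩
  have h3 := Matrix.isNilpotent_trace_of_isNilpotent h2
  have h4 : (M - r • (1 : Matrix (Fin 2) (Fin 2) F)).trace = 0 := by
    exact h3.eq_zero
  rw [Matrix.trace_sub, Matrix.trace_smul, Matrix.trace_one] at h4
  simp at h4
  linear_combination h4

theorem p2_tr_upper {F : Type*} [Field F] (a b c d s : F) (hdet : a * d - b * c = 1) :
    (!![a, b; c, d] * (!![1, s; 0, 1] * !![d, -b; -c, a] * !![1, -s; 0, 1])).trace
      = 2 + s ^ 2 * c ^ 2 := by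
  simp [Matrix.trace_fin_two]
  linear_combination 2 * hdet

theorem p2_tr_lower {F : Type*} [Field F] (a b c d s : F) (hdet : a * d - b * c = 1) :
    (!![a, b; c, d] * (!![1, 0; s, 1] * !![d, -b; -c, a] * !![1, 0; -s, 1])).trace
      = 2 + s ^ 2 * b ^ 2 := by
  simp [Matrix.trace_fin_two]
  linear_combination 2 * hdet

/-- the field argument: if `s²c² ∈ {0,-4}` for all `s` then `c = 0` -/
theorem p2_field {F : Type*} [Field F] (h2 : (2 : F) ≠ 0) (c : F)
    (h : ∀ s : F, 2 + s ^ 2 * c ^ 2 = 2 ∨ 2 + s ^ 2 * c ^ 2 = -2) : c = 0 := by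
  by_contra hc
  have hc2 : c ^ 2 ≠ 0 := pow_ne_zero 2 hc
  have key : ∀ s : F, s ^ 2 * c ^ 2 = 0 ∨ s ^ 2 * c ^ 2 = -4 := by
    intro s
    rcases h s with h | h
    · left; linear_combination h
    · right; linear_combination h
  have hc4 : c ^ 2 = -4 := by
    rcases key 1 with h | h
    · simp at h; exact absurd h hc
    · simpa using h
  have h4 : (4 : F) ≠ 0 := by
    have : (4 : F) = 2 * 2 := by norm_num
    rw [this]; exact mul_ne_zero h2 h2
  have hs : ∀ s : F, s = 0 ∨ s = 1 ∨ s = -1 := by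
    intro s
    rcases key s with h | h
    · left
      rcases mul_eq_zero.1 h with h | h
      · exact pow_eq_zero_iff (two_ne_zero) |>.1 h
      · exact absurd h hc2
    · right
      rw [hc4] at h
      have : s ^ 2 = 1 := by
        have h' : (s ^ 2 - 1) * 4 = 0 := by linear_combination -h
        rcases mul_eq_zero.1 h' with h'' | h''
        · linear_combination h''
        · exact absurd h'' h4
      have : (s - 1) * (s + 1) = 0 := by linear_combination this
      rcases mul_eq_zero.1 this with h'' | h''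
      · left; linear_combination h''
      · right; linear_combination h''
  have h3 : (3 : F) = 0 := by
    rcases hs 2 with h | h | h
    · exact absurd h h2
    · exfalso; apply h2; linear_combination 2 * h
    · linear_combination h
  have hc1 : c ^ 2 = 1 := by
    rcases hs c with h | h | h
    · exact absurd h hc
    · rw [h]; ring
    · rw [h]; ring
  apply h2
  linear_combination hc4 - hc1 - h3


section main
variable {F : Type*} [Field F]

/-- upper unitriangular element -/
def tU (s : F) : Matrix.SpecialLinearGroup (Fin 2) F := ⟨!![1, s; 0, 1], by simp [Matrix.det_fin_two]⟩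

/-- lower unitriangular element -/
def tL (s : F) : Matrix.SpecialLinearGroup (Fin 2) F := ⟨!![1, 0; s, 1], by simp [Matrix.det_fin_two]⟩

theorem p2_coe_eta (g : Matrix.SpecialLinearGroup (Fin 2) F) :
    (g : Matrix (Fin 2) (Fin 2) F) = !![(g : Matrix (Fin 2) (Fin 2) F) 0 0, (g : Matrix (Fin 2) (Fin 2) F) 0 1;
      (g : Matrix (Fin 2) (Fin 2) F) 1 0, (g : Matrix (Fin 2) (Fin 2) F) 1 1] :=
  Matrix.eta_fin_two _

theorem p2_det (g : Matrix.SpecialLinearGroup (Fin 2) F) :
    (g : Matrix (Fin 2) (Fin 2) F) 0 0 * (g : Matrix (Fin 2) (Fin 2) F) 1 1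
      - (g : Matrix (Fin 2) (Fin 2) F) 0 1 * (g : Matrix (Fin 2) (Fin 2) F) 1 0 = 1 := by
  have := g.2
  rw [Matrix.det_fin_two] at this
  exact this

theorem p2_trU (g : Matrix.SpecialLinearGroup (Fin 2) F) (s : F) :
    ((g * (tU s * g⁻¹ * (tU s)⁻¹) : Matrix.SpecialLinearGroup (Fin 2) F) :
      Matrix (Fin 2) (Fin 2) F).trace = 2 + s ^ 2 * ((g : Matrix (Fin 2) (Fin 2) F) 1 0) ^ 2 := by
  rw [← p2_tr_upper _ _ _ _ s (p2_det g)]
  simp only [Matrix.SpecialLinearGroup.coe_mul, Matrix.SpecialLinearGroup.coe_inv]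
  rw [Matrix.adjugate_fin_two (g : Matrix (Fin 2) (Fin 2) F), ← p2_coe_eta g]
  congr 3
  simp [tU, Matrix.adjugate_fin_two]

theorem p2_trL (g : Matrix.SpecialLinearGroup (Fin 2) F) (s : F) :
    ((g * (tL s * g⁻¹ * (tL s)⁻¹) : Matrix.SpecialLinearGroup (Fin 2) F) :
      Matrix (Fin 2) (Fin 2) F).trace = 2 + s ^ 2 * ((g : Matrix (Fin 2) (Fin 2) F) 0 1) ^ 2 := by
  rw [← p2_tr_lower _ _ _ _ s (p2_det g)]
  simp only [Matrix.SpecialLinearGroup.coe_mul, Matrix.SpecialLinearGroup.coe_inv]
  rw [Matrix.adjugate_fin_two (g : Matrix (Fin 2) (Fin 2) F), ← p2_coe_eta g]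
  congr 3
  simp [tL, Matrix.adjugate_fin_two]

end main

theorem psl2_normal_pgroup_eq_bot {F : Type*} [Field F] [Fintype F] {p : ℕ} [Fact p.Prime] (n : ℕ)
    (hF : Fintype.card F = p ^ n) (hodd : Odd (Fintype.card F))
    (N : Subgroup (Matrix.ProjectiveSpecialLinearGroup (Fin 2) F)) (hN : N.Normal) (hNp : IsPGroup p N) :
    N = ⊥ := by
  have : CharP F p := p2_charP n hF
  have h2 : (2 : F) ≠ 0 := p2_two_ne_zero hodd
  have hp2 : p ≠ 2 := by
    rintro rfl
    exact h2 (by exact_mod_cast CharP.cast_eq_zero F 2)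
  have htr : ∀ g : Matrix.SpecialLinearGroup (Fin 2) F,
      (QuotientGroup.mk g : Matrix.ProjectiveSpecialLinearGroup (Fin 2) F) ∈ N →
      (g : Matrix (Fin 2) (Fin 2) F).trace = 2 ∨ (g : Matrix (Fin 2) (Fin 2) F).trace = -2 := by
    intro g hg
    obtain ⟨k, hk⟩ := hNp ⟨_, hg⟩
    have hk' : (QuotientGroup.mk g : Matrix.ProjectiveSpecialLinearGroup (Fin 2) F) ^ (p ^ k) = 1 := by
      have := congrArg Subtype.val hk
      simpa using this
    rw [Cfsg.Agent.Lib.Helper48.psl2_mk_pow_eq_one_iff] at hk'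
    obtain ⟨r, hr⟩ := hk'
    have hdet : r ^ 2 = 1 := by
      have := congrArg Matrix.det hr
      rw [Matrix.det_pow, g.2, one_pow, Matrix.det_smul, Matrix.det_one, Fintype.card_fin, mul_one] at this
      exact this.symm
    have hr' : r = 1 ∨ r = -1 := by
      have : (r - 1) * (r + 1) = 0 := by linear_combination hdet
      rcases mul_eq_zero.1 this with h | h
      · left; linear_combination h
      · right; linear_combination h
    have := p2_trace hp2 _ k r hr' hr
    rcases hr' with rfl | rfl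
    · left; rw [this]; ring
    · right; rw [this]; ring
  rw [Subgroup.eq_bot_iff_forall]
  intro x hx
  obtain ⟨g, rfl⟩ := QuotientGroup.mk_surjective x
  have hconj : ∀ t : Matrix.SpecialLinearGroup (Fin 2) F,
      (QuotientGroup.mk (g * (t * g⁻¹ * t⁻¹)) : Matrix.ProjectiveSpecialLinearGroup (Fin 2) F) ∈ N := by
    intro t
    have h1 := hN.conj_mem _ (N.inv_mem hx) (QuotientGroup.mk t)
    have h2 := N.mul_mem hx h1
    simpa using h2
  have hc : (g : Matrix (Fin 2) (Fin 2) F) 1 0 = 0 := by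
    apply p2_field h2
    intro s
    have := htr _ (hconj (tU s))
    rwa [p2_trU] at this
  have hb : (g : Matrix (Fin 2) (Fin 2) F) 0 1 = 0 := by
    apply p2_field h2
    intro s
    have := htr _ (hconj (tL s))
    rwa [p2_trL] at this
  have hdet := p2_det g
  rw [hc, hb] at hdet
  have htg := htr g hx
  rw [Matrix.trace_fin_two] at htg
  rw [Cfsg.Agent.Lib.Helper48.psl2_mk_eq_one_iff]
  set a := (g : Matrix (Fin 2) (Fin 2) F) 0 0 with ha
  set d := (g : Matrix (Fin 2) (Fin 2) F) 1 1 with hd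
  have hada : a = d := by
    rcases htg with h | h
    · have h1 : (a - 1) ^ 2 = 0 := by linear_combination a * h - hdet
      have h2 : a = 1 := by
        have := pow_eq_zero_iff (two_ne_zero) |>.1 h1
        linear_combination this
      linear_combination (-1 : F) * h + 2 * h2
    · have h1 : (a + 1) ^ 2 = 0 := by linear_combination a * h - hdet
      have h2 : a = -1 := by
        have := pow_eq_zero_iff (two_ne_zero) |>.1 h1
        linear_combination this
      linear_combination (-1 : F) * h + 2 * h2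
  refine ⟨a, ?_⟩
  rw [p2_coe_eta g, hc, hb, ← hd, ← ha, ← hada]
  ext i j
  fin_cases i <;> fin_cases j <;> simp

end Cfsg.Agent.Lib.Helper74.NQ
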