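import Mathlib
import Cfsg.Prelude.Def_GeometricClasses
import Cfsg.Prelude.Def_ClassicalGeometry
import Cfsg.Agent.Lib.Helper50.SpinorIndex
import Cfsg.Agent.Lib.Helper50.GeoBridge

/-!
# K-OQF pack (S5977, architect helper72), keystone 597703 (K-OQF-O1): `mem_omegaGL_of_pow_eq_one`
(parallel hand)
-/

set_option autoImplicit false
set_option linter.unusedSectionVars false
set_option linter.unusedVariables false

namespace Cfsg.Agent.Lib.Helper74.OQF

open Cfsg Cfsg.Geo
open scoped Matrix MatrixGroups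

variable {F : Type*} [Field F] {ι : Type} [Fintype ι] [DecidableEq ι]

/-- K-OQF-O1 (597703).  An isometry of odd order lies in `Ω`. -/
theorem mem_omegaGL_of_pow_eq_one [Fintype F] (h2 : (2 : F) ≠ 0) (Q : QuadraticForm F (ι → F))
    (hQ : (QuadraticMap.polarBilin Q).Nondegenerate) (hdim : 2 ≤ Fintype.card ι)
    (g : GL ι F) (hg : g ∈ Cfsg.isometryGroup F (⇑Q)) (k : ℕ) (hk : Odd k) (hgk : g ^ k = 1) : g ∈ omegaGL (⇑Q) := by
  classical
  have hidx := Cfsg.Agent.Lib.Helper50.index_commutator h2 Q hQ hdim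
  let g' : ↥(Cfsg.isometryGroup F (⇑Q)) := ⟨g, hg⟩
  have hg'k : g' ^ k = 1 := by
    apply Subtype.ext
    rw [Subgroup.coe_pow]
    exact hgk
  let N : Subgroup ↥(Cfsg.isometryGroup F (⇑Q)) := commutator ↥(Cfsg.isometryGroup F (⇑Q))
  have hNn : N.Normal := inferInstance
  have h4 : g' ^ 4 ∈ N := by
    have := Subgroup.pow_index_mem N g'
    rw [hidx] at this
    exact this
  have hmem : g' ∈ N := by
    obtain ⟨j, hj⟩ := hk
    rcases Nat.even_or_odd' j with ⟨i, hi | hi⟩
    · -- k = 4 i + 1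
      have hk' : k = 4 * i + 1 := by omega
      have h5 : g' ^ (4 * i) ∈ N := by rw [pow_mul]; exact N.pow_mem h4 i
      have h6 : g' = (g' ^ (4 * i))⁻¹ := by
        rw [hk', pow_succ] at hg'k
        exact eq_inv_of_mul_eq_one_right hg'k
      rw [h6]
      exact N.inv_mem h5
    · -- k = 4 i + 3
      have hk' : k = 4 * i + 3 := by omega
      have h5 : g' ^ (4 * i) ∈ N := by rw [pow_mul]; exact N.pow_mem h4 i
      have h6 : g' ^ 3 = (g' ^ (4 * i))⁻¹ := by
        rw [hk', pow_add] at hg'k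
        exact eq_inv_of_mul_eq_one_right hg'k
      have h7 : g' ^ 3 ∈ N := by rw [h6]; exact N.inv_mem h5
      have h8 : g' = g' ^ 4 * (g' ^ 3)⁻¹ := by
        group
      rw [h8]
      exact N.mul_mem h4 (N.inv_mem h7)
  exact Cfsg.Agent.Lib.Helper50.coe_mem_omegaGL (⇑Q) g' hmem

end Cfsg.Agent.Lib.Helper74.OQF
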