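import Mathlib
import Cfsg.Agent.Lib.Helper14.SpUA0
import Cfsg.Agent.Lib.Helper74.OQFREP1

/-!
# K-OQF pack (S5977, architect helper72), keystone 597704 (K-OQF-REP), part 2: `exists_rep_plane`
-/

set_option autoImplicit false
set_option linter.unusedSectionVars false
set_option linter.unusedVariables false

namespace Cfsg.Agent.Lib.Helper74.OQF

open Cfsg.Agent.Lib.Helper14.SpU (LL)

variable {F : Type*} [Field F]

/-- an element of `L = F(√δ)` whose norm is a non-zero square of `F` is a square of `L` -/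
theorem rep_isSquare_of_norm [Fintype F] (hodd : Odd (Fintype.card F)) (h2 : (2 : F) ≠ 0)
    (δ : F) (hδ : ¬ IsSquare δ)
    (z : @LL F _ δ) (r : F) (hr : r ≠ 0) (hz : z.re * z.re - δ * (z.im * z.im) = r * r) :
    ∃ s₁ s₂ : F, s₁ * s₁ + δ * (s₂ * s₂) = z.re ∧ s₁ * s₂ + s₂ * s₁ = z.im := by
  classical
  have hfact := Cfsg.Agent.Lib.Helper14.SpU.fact_of_not_isSquare δ hδ
  have hz0 : z ≠ 0 := by
    intro h
    rw [h] at hz
    simp only [QuadraticAlgebra.re_zero, QuadraticAlgebra.im_zero, mul_zero, sub_zero] at hz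
    exact hr (mul_self_eq_zero.mp hz.symm)
  have hchar : ringChar (LL δ) ≠ 2 := by
    intro h
    have h3 : ((2 : ℕ) : LL δ) = 0 := by
      rw [← h]; exact ringChar.Nat.cast_ringChar
    have h4 := congrArg QuadraticAlgebra.re h3
    simp only [QuadraticAlgebra.re_natCast, QuadraticAlgebra.re_zero] at h4
    exact h2 (by exact_mod_cast h4)
  obtain ⟨k, hk⟩ := hodd
  have hcard : Fintype.card (LL δ) / 2 = (Fintype.card F + 1) * k := by
    rw [Cfsg.Agent.Lib.Helper14.SpU.card_LL, hk]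
    have : (2 * k + 1) ^ 2 = 2 * ((2 * k + 1 + 1) * k) + 1 := by ring
    rw [this]
    omega
  have hzq : z ^ (Fintype.card F + 1) = algebraMap F (LL δ) (r * r) := by
    rw [pow_succ, Cfsg.Agent.Lib.Helper14.SpU.pow_card_eq δ hδ ⟨k, hk⟩ z]
    ext
    · simp only [QuadraticAlgebra.re_mul, QuadraticAlgebra.algebraMap_re]
      rw [← hz]; ring
    · simp only [QuadraticAlgebra.im_mul, QuadraticAlgebra.algebraMap_im]
      ring
  have hpow : z ^ (Fintype.card (LL δ) / 2) = 1 := by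
    rw [hcard, pow_mul, hzq, ← map_pow, mul_pow, ← pow_add]
    have h5 : k + k = Fintype.card F - 1 := by omega
    rw [h5, FiniteField.pow_card_sub_one_eq_one r hr, map_one]
  obtain ⟨s, hs⟩ := (FiniteField.isSquare_iff hchar hz0).mpr hpow
  refine ⟨s.re, s.im, ?_, ?_⟩
  · have := congrArg QuadraticAlgebra.re hs
    simp only [QuadraticAlgebra.re_mul] at this
    rw [this]; ring
  · have := congrArg QuadraticAlgebra.im hs
    simp only [QuadraticAlgebra.im_mul] at this
    rw [this]; ring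

/-- K-OQF-REP (597704), part 2 (a plane, two structures). -/
theorem exists_rep_plane {V : Type*} [AddCommGroup V] [Module F V] [FiniteDimensional F V] [Fintype F]
    (hodd : Odd (Fintype.card F)) (Q : QuadraticForm F V) (hQ : (QuadraticMap.polarBilin Q).Nondegenerate)
    (δ : F) (hδ : ¬ IsSquare δ) (θ θ' : V →ₗ[F] V) (hθ : ∀ v, θ (θ v) = δ • v) (hθ' : ∀ v, θ' (θ' v) = δ • v)
    (hsa : ∀ u v, QuadraticMap.polar (⇑Q) (θ u) v = QuadraticMap.polar (⇑Q) u (θ v))
    (hsa' : ∀ u v, QuadraticMap.polar (⇑Q) (θ' u) v = QuadraticMap.polar (⇑Q) u (θ' v))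
    (hdim : Module.finrank F V = 2) (u : V) (hu : Q u ≠ 0) :
    ∃ u' : V, Q u' = Q u ∧ QuadraticMap.polar (⇑Q) u' (θ' u') = QuadraticMap.polar (⇑Q) u (θ u) := by
  classical
  have h2 : (2 : F) ≠ 0 := by
    intro h
    have hch : ringChar F = 2 := by
      have hd : ringChar F ∣ 2 := by
        apply ringChar.dvd
        exact_mod_cast h
      rcases (Nat.dvd_prime Nat.prime_two).mp hd with h1 | h1
      · exact absurd h1 (CharP.ringChar_ne_one)
      · exact h1
    have := FiniteField.even_card_of_char_two hch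
    rcases hodd with ⟨k, hk⟩
    omega
  have hu0 : u ≠ 0 := by
    intro h
    rw [h, QuadraticMap.map_zero] at hu
    exact hu rfl
  set a := Q u with ha
  set β := QuadraticMap.polar (⇑Q) u (θ u) with hβ
  set β' := QuadraticMap.polar (⇑Q) u (θ' u) with hβ'
  -- `u, θ' u` is a basis
  have hli : LinearIndependent F ![u, θ' u] := by
    rw [LinearIndependent.pair_iff' hu0]
    intro l hl
    apply hδ
    refine ⟨l, ?_⟩
    have h3 : θ' (θ' u) = (l * l) • u := by
      rw [← hl, map_smul, ← hl, smul_smul]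
    rw [hθ'] at h3
    have h4 : (δ - l * l) • u = 0 := by rw [sub_smul, h3, sub_self]
    rcases smul_eq_zero.mp h4 with h5 | h5
    · exact sub_eq_zero.mp h5
    · exact absurd h5 hu0
  have hspan : Submodule.span F (Set.range ![u, θ' u]) = ⊤ :=
    hli.span_eq_top_of_card_eq_finrank' (by rw [hdim]; simp)
  have hmem : θ u ∈ Submodule.span F ({u, θ' u} : Set V) := by
    rw [← Matrix.range_cons_cons_empty u (θ' u) ![], hspan]; trivial
  obtain ⟨p, r, hpr⟩ := Submodule.mem_span_pair.mp hmem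
  -- the two relations
  have h1 : β = 2 * a * p + r * β' := by
    rw [hβ, ← hpr, QuadraticMap.polar_add_right, QuadraticMap.polar_smul_right,
      QuadraticMap.polar_smul_right, rep_polar_self]
    simp only [smul_eq_mul]
    ring
  have hE : δ * a = (p ^ 2 + δ * r ^ 2) * a + p * r * β' := by
    rw [ha, ← rep_Q_theta h2 Q δ θ hθ hsa u, ← hpr, rep_plane_Q h2 Q δ θ' hθ' hsa']
  have hD' : β' ^ 2 - 4 * δ * a ^ 2 ≠ 0 := by
    intro h
    apply hδ
    refine ⟨β' / (2 * a), ?_⟩
    have h2a : (2 * a) ≠ 0 := mul_ne_zero h2 hu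
    field_simp
    linear_combination -h
  have hD : β ^ 2 - 4 * δ * a ^ 2 ≠ 0 := by
    intro h
    apply hδ
    refine ⟨β / (2 * a), ?_⟩
    have h2a : (2 * a) ≠ 0 := mul_ne_zero h2 hu
    field_simp
    linear_combination -h
  have hrel : β ^ 2 - 4 * δ * a ^ 2 = r ^ 2 * (β' ^ 2 - 4 * δ * a ^ 2) := by
    linear_combination (β + 2 * a * p + r * β') * h1 - 4 * a * hE
  have hr0 : r ≠ 0 := by
    intro h
    rw [h] at hrel
    apply hD
    rw [hrel]; ring
  set D' := β' ^ 2 - 4 * δ * a ^ 2 with hD'def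
  set N := (β * β' - 4 * δ * a ^ 2) / D' with hN
  set T := a * (β' - β) / D' with hT
  have hND : N * D' = β * β' - 4 * δ * a ^ 2 := by
    rw [hN]; field_simp
  have hTD : T * D' = a * (β' - β) := by
    rw [hT]; field_simp
  have hnorm : N * N - δ * ((2 * T) * (2 * T)) = r * r := by
    have h3 : (N * N - δ * ((2 * T) * (2 * T))) * (D' * D') = (r * r) * (D' * D') := by
      have h4 : (N * N - δ * ((2 * T) * (2 * T))) * (D' * D') =
          (N * D') * (N * D') - 4 * δ * ((T * D') * (T * D')) := by ring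
      rw [h4, hND, hTD]
      linear_combination D' * hrel
    exact mul_right_cancel₀ (mul_ne_zero hD' hD') h3
  obtain ⟨s₁, s₂, hs1, hs2⟩ := rep_isSquare_of_norm hodd h2 δ hδ (⟨N, 2 * T⟩ : LL δ) r hr0 hnorm
  simp only at hs1 hs2
  refine ⟨s₁ • u + s₂ • θ' u, ?_, ?_⟩
  · rw [rep_plane_Q h2 Q δ θ' hθ' hsa', ← ha, ← hβ']
    have h3 : ((s₁ ^ 2 + δ * s₂ ^ 2) * a + s₁ * s₂ * β') * (2 * D') = a * (2 * D') := by
      have e1 : s₁ ^ 2 + δ * s₂ ^ 2 = N := by rw [← hs1]; ring
      have e2 : 2 * (s₁ * s₂) = 2 * T := by rw [← hs2]; ring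
      have h4 : ((s₁ ^ 2 + δ * s₂ ^ 2) * a + s₁ * s₂ * β') * (2 * D') =
          2 * a * (N * D') + β' * ((2 * T) * D') := by
        rw [← e1, ← e2]; ring
      rw [h4, mul_assoc 2 T D', hND, hTD]
      ring
    exact mul_right_cancel₀ (mul_ne_zero h2 hD') h3
  · rw [rep_plane_B Q δ θ' hθ' hsa', ← ha, ← hβ']
    have h3 : ((s₁ ^ 2 + δ * s₂ ^ 2) * β' + 4 * δ * (s₁ * s₂) * a) * D' = β * D' := by
      have e1 : s₁ ^ 2 + δ * s₂ ^ 2 = N := by rw [← hs1]; ring
      have e2 : 2 * (s₁ * s₂) = 2 * T := by rw [← hs2]; ring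
      have h4 : ((s₁ ^ 2 + δ * s₂ ^ 2) * β' + 4 * δ * (s₁ * s₂) * a) * D' =
          β' * (N * D') + 2 * δ * a * ((2 * T) * D') := by
        rw [← e1, ← e2]; ring
      rw [h4, mul_assoc 2 T D', hND, hTD]
      ring
    exact mul_right_cancel₀ hD' h3

end Cfsg.Agent.Lib.Helper74.OQF
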