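import Mathlib

set_option autoImplicit false

namespace Cfsg.Agent.Lib.Helper74

open Nat.Partition

/-- partitions of `n` all of whose parts are at least `m`. -/
def partsGE (n m : ℕ) : Finset (Nat.Partition n) :=
  Finset.univ.filter fun x => ∀ i ∈ x.parts, m ≤ i

theorem mem_partsGE {n m : ℕ} {x : Nat.Partition n} :
    x ∈ partsGE n m ↔ ∀ i ∈ x.parts, m ≤ i := by
  simp [partsGE]

theorem card_partsGE_zero (m : ℕ) : (partsGE 0 m).card = 1 := by
  rw [Finset.card_eq_one]
  refine ⟨Nat.Partition.indiscrete 0, ?_⟩
  ext x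
  rw [Finset.mem_singleton, mem_partsGE]
  constructor
  · intro _
    apply Nat.Partition.ext
    simp
  · rintro rfl i hi
    simp at hi

theorem card_partsGE_of_lt {n m : ℕ} (h0 : 0 < n) (h : n < m) : (partsGE n m).card = 0 := by
  rw [Finset.card_eq_zero, Finset.eq_empty_iff_forall_notMem]
  intro x hx
  rw [mem_partsGE] at hx
  have hne : x.parts ≠ 0 := by
    intro h0'
    have := x.parts_sum
    rw [h0', Multiset.sum_zero] at this
    omega
  obtain ⟨i, hi⟩ := Multiset.exists_mem_of_ne_zero hne
  have h1 := hx i hi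
  have h2 := Nat.Partition.le_of_mem_parts hi
  omega

theorem card_partsGE_rec {n m : ℕ} (hm : 1 ≤ m) (hmn : m ≤ n) :
    (partsGE n m).card = (partsGE (n - m) m).card + (partsGE n (m + 1)).card := by
  classical
  rw [← Finset.card_filter_add_card_filter_not (s := partsGE n m) (fun x => m ∈ x.parts)]
  congr 1
  · apply Finset.card_bij
      (fun x hx => Nat.Partition.partitionWithPartEquiv hm hmn ⟨x, (Finset.mem_filter.mp hx).2⟩)
    · intro x hx
      rw [mem_partsGE, Nat.Partition.partitionWithPartEquiv_apply_parts]
      intro i hi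
      exact (mem_partsGE.mp (Finset.mem_filter.mp hx).1) i (Multiset.mem_of_mem_erase hi)
    · intro x hx y hy hxy
      have := (Nat.Partition.partitionWithPartEquiv hm hmn).injective hxy
      exact congrArg Subtype.val this
    · intro q hq
      refine ⟨((Nat.Partition.partitionWithPartEquiv hm hmn).symm q).1, ?_, ?_⟩
      · rw [Finset.mem_filter, mem_partsGE,
          Nat.Partition.partitionWithPartEquiv_symm_apply_parts]
        refine ⟨?_, Multiset.mem_cons_self m _⟩
        intro i hi
        rcases Multiset.mem_cons.mp hi with rfl | hi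
        · exact le_rfl
        · exact (mem_partsGE.mp hq) i hi
      · simp
  · congr 1
    ext x
    rw [Finset.mem_filter, mem_partsGE, mem_partsGE]
    constructor
    · rintro ⟨h1, h2⟩ i hi
      have := h1 i hi
      have hne : i ≠ m := fun h => h2 (h ▸ hi)
      omega
    · intro h
      refine ⟨fun i hi => by have := h i hi; omega, fun hmem => ?_⟩
      have := h m hmem
      omega

theorem card_partsGE_mono (n m : ℕ) : (partsGE n (m + 1)).card ≤ (partsGE n m).card := by
  apply Finset.card_le_card
  intro x hx
  rw [mem_partsGE] at hx ⊢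
  intro i hi
  have := hx i hi
  omega

theorem card_partsGE_succ_le : ∀ (k n m : ℕ), n - m ≤ k → 1 ≤ m → 1 ≤ n →
    (partsGE n (m + 1)).card ≤ (partsGE (n - 1) m).card := by
  intro k
  induction k with
  | zero =>
    intro n m hk hm hn
    rw [card_partsGE_of_lt (by omega) (by omega)]
    exact Nat.zero_le _
  | succ k ih =>
    intro n m hk hm hn
    by_cases hlt : n < m + 1
    · rw [card_partsGE_of_lt (by omega) hlt]
      exact Nat.zero_le _
    · have hmn : m + 1 ≤ n := by omega
      rw [card_partsGE_rec (by omega) hmn, card_partsGE_rec (n := n - 1) hm (by omega)]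
      have h1 : (partsGE (n - (m + 1)) (m + 1)).card ≤ (partsGE (n - 1 - m) m).card := by
        have : n - 1 - m = n - (m + 1) := by omega
        rw [this]
        exact card_partsGE_mono _ _
      have h2 := ih n (m + 1) (by omega) (by omega) hn
      omega

theorem card_partition_eq (n : ℕ) : Fintype.card (Nat.Partition n) = (partsGE n 1).card := by
  rw [← Finset.card_univ]
  congr 1
  ext x
  simp only [Finset.mem_univ, true_iff, mem_partsGE]
  intro i hi
  exact x.parts_pos hi

theorem card_partition_succ_le (n : ℕ) :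
    Fintype.card (Nat.Partition (n + 1)) ≤ 2 * Fintype.card (Nat.Partition n) := by
  rw [card_partition_eq, card_partition_eq, card_partsGE_rec (le_refl 1) (by omega)]
  have := card_partsGE_succ_le (n + 1) (n + 1) 1 (by omega) (le_refl 1) (by omega)
  have e : n + 1 - 1 = n := by omega
  rw [e] at this ⊢
  omega

/-- number of partitions of `n` with all parts at least `m`, as a plain function. -/
def pc (n m : ℕ) : ℕ := (partsGE n m).card

theorem pc_zero (m : ℕ) : pc 0 m = 1 := card_partsGE_zero m

theorem pc_lt {n m : ℕ} (h0 : 0 < n) (h : n < m) : pc n m = 0 := card_partsGE_of_lt h0 h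

theorem pc_rec {n m : ℕ} (hm : 1 ≤ m) (hmn : m ≤ n) :
    pc n m = pc (n - m) m + pc n (m + 1) := card_partsGE_rec hm hmn

theorem card_partition_five : Fintype.card (Nat.Partition 5) = 7 := by
  rw [card_partition_eq]
  show pc 5 1 = 7
  have e55 : pc 5 5 = 1 := by
    rw [pc_rec (by norm_num) (by norm_num), pc_lt (n := 5) (m := 6) (by norm_num) (by norm_num)]
    norm_num [pc_zero]
  have e54 : pc 5 4 = 1 := by
    rw [pc_rec (by norm_num) (by norm_num), e55, pc_lt (n := 5 - 4) (m := 4) (by norm_num) (by norm_num)]
  have e53 : pc 5 3 = 1 := by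
    rw [pc_rec (by norm_num) (by norm_num), e54, pc_lt (n := 5 - 3) (m := 3) (by norm_num) (by norm_num)]
  have e33 : pc 3 3 = 1 := by
    rw [pc_rec (by norm_num) (by norm_num), pc_lt (n := 3) (m := 4) (by norm_num) (by norm_num)]
    norm_num [pc_zero]
  have e32 : pc 3 2 = 1 := by
    rw [pc_rec (by norm_num) (by norm_num), e33, pc_lt (n := 3 - 2) (m := 2) (by norm_num) (by norm_num)]
  have e52 : pc 5 2 = 2 := by
    rw [pc_rec (by norm_num) (by norm_num), e53]
    norm_num [e32]
  have e11 : pc 1 1 = 1 := by
    rw [pc_rec (by norm_num) (by norm_num), pc_lt (n := 1) (m := 2) (by norm_num) (by norm_num)]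
    norm_num [pc_zero]
  have e22 : pc 2 2 = 1 := by
    rw [pc_rec (by norm_num) (by norm_num), pc_lt (n := 2) (m := 3) (by norm_num) (by norm_num)]
    norm_num [pc_zero]
  have e21 : pc 2 1 = 2 := by
    rw [pc_rec (by norm_num) (by norm_num), e22]
    norm_num [e11]
  have e31 : pc 3 1 = 3 := by
    rw [pc_rec (by norm_num) (by norm_num), e32]
    norm_num [e21]
  have e44 : pc 4 4 = 1 := by
    rw [pc_rec (by norm_num) (by norm_num), pc_lt (n := 4) (m := 5) (by norm_num) (by norm_num)]
    norm_num [pc_zero]
  have e43 : pc 4 3 = 1 := by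
    rw [pc_rec (by norm_num) (by norm_num), e44, pc_lt (n := 4 - 3) (m := 3) (by norm_num) (by norm_num)]
  have e42 : pc 4 2 = 2 := by
    rw [pc_rec (by norm_num) (by norm_num), e43]
    norm_num [e22]
  have e41 : pc 4 1 = 5 := by
    rw [pc_rec (by norm_num) (by norm_num), e42]
    norm_num [e31]
  rw [pc_rec (by norm_num) (by norm_num), e52]
  norm_num [e41]

theorem card_partition_le (n : ℕ) (hn : 5 ≤ n) : Fintype.card (Nat.Partition n) ≤ 2 ^ (n - 2) := by
  induction n, hn using Nat.le_induction with
  | base => rw [card_partition_five]; norm_num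
  | succ n hn ih =>
    have h1 := card_partition_succ_le n
    have h2 : 2 ^ (n + 1 - 2) = 2 * 2 ^ (n - 2) := by
      have : n + 1 - 2 = (n - 2) + 1 := by omega
      rw [this, pow_succ, mul_comm]
    rw [h2]
    omega

end Cfsg.Agent.Lib.Helper74
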