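import Mathlib

set_option autoImplicit false
set_option linter.unusedVariables false

/-! K-PrnA-ALT (keystone 222211, pack for S2222, architect helper44):
Sylow 2-subgroups of `A_n`, `n ≥ 6`, are self-normalising.  Parallel hand by helper74. -/

namespace Cfsg.Agent.Lib.Helper74.PrnA

open Equiv Equiv.Perm

section

variable {n : ℕ}

/-- the image in `Perm (Fin n)` of a Sylow 2-subgroup of `A_n` -/
noncomputable def altImg (T : Sylow 2 (alternatingGroup (Fin n))) : Subgroup (Perm (Fin n)) :=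
  (T : Subgroup (alternatingGroup (Fin n))).map (alternatingGroup (Fin n)).subtype

theorem mem_altImg (T : Sylow 2 (alternatingGroup (Fin n))) (x : Perm (Fin n)) :
    x ∈ altImg T ↔ ∃ h : x ∈ alternatingGroup (Fin n),
      (⟨x, h⟩ : alternatingGroup (Fin n)) ∈ (T : Subgroup (alternatingGroup (Fin n))) := by
  unfold altImg
  rw [Subgroup.mem_map]
  constructor
  · rintro ⟨y, hy, rfl⟩
    exact ⟨y.2, hy⟩
  · rintro ⟨h, hx⟩
    exact ⟨⟨x, h⟩, hx, rfl⟩

theorem sign_of_mem_altImg (T : Sylow 2 (alternatingGroup (Fin n))) (x : Perm (Fin n))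
    (hx : x ∈ altImg T) : sign x = 1 := by
  obtain ⟨h, -⟩ := (mem_altImg T x).1 hx
  exact mem_alternatingGroup.1 h

/-- L1: an even element of a Sylow 2-subgroup of `S_n` above `T` lies in `T`. -/
theorem mem_altImg_of_even (T : Sylow 2 (alternatingGroup (Fin n))) (Q : Sylow 2 (Perm (Fin n)))
    (hle : altImg T ≤ (Q : Subgroup (Perm (Fin n)))) (x : Perm (Fin n))
    (hxQ : x ∈ (Q : Subgroup (Perm (Fin n)))) (hx : sign x = 1) : x ∈ altImg T := by
  have h1 : (Q : Subgroup (Perm (Fin n))).subgroupOf (alternatingGroup (Fin n))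
      = (T : Subgroup (alternatingGroup (Fin n))) := by
    apply T.is_maximal' (Q.isPGroup'.comap_subtype)
    intro t ht
    show (t : Perm (Fin n)) ∈ (Q : Subgroup (Perm (Fin n)))
    apply hle
    exact (mem_altImg T _).2 ⟨t.2, ht⟩
  have hxA : x ∈ alternatingGroup (Fin n) := mem_alternatingGroup.2 hx
  have h2 : (⟨x, hxA⟩ : alternatingGroup (Fin n)) ∈
      (Q : Subgroup (Perm (Fin n))).subgroupOf (alternatingGroup (Fin n)) := by
    rw [Subgroup.mem_subgroupOf]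
    exact hxQ
  rw [h1] at h2
  exact (mem_altImg T x).2 ⟨hxA, h2⟩

/-- L2: a Sylow 2-subgroup of `S_n` above `T` normalises `T`. -/
theorem conj_mem_altImg (T : Sylow 2 (alternatingGroup (Fin n))) (Q : Sylow 2 (Perm (Fin n)))
    (hle : altImg T ≤ (Q : Subgroup (Perm (Fin n)))) (x : Perm (Fin n))
    (hxQ : x ∈ (Q : Subgroup (Perm (Fin n)))) (t : Perm (Fin n)) (ht : t ∈ altImg T) :
    x * t * x⁻¹ ∈ altImg T := by
  apply mem_altImg_of_even T Q hle
  · exact Q.mul_mem (Q.mul_mem hxQ (hle ht)) (Q.inv_mem hxQ)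
  · have := sign_of_mem_altImg T t ht
    simp [this]

/-- an even 2-power-order... element normalising `T` whose square lies in `T` lies in `T`. -/
theorem mem_altImg_of_sq (T : Sylow 2 (alternatingGroup (Fin n))) (z : Perm (Fin n))
    (hz : sign z = 1) (hnorm : ∀ t ∈ altImg T, z * t * z⁻¹ ∈ altImg T)
    (hsq : z * z ∈ altImg T) : z ∈ altImg T := by
  have hzA : z ∈ alternatingGroup (Fin n) := mem_alternatingGroup.2 hz
  set zA : alternatingGroup (Fin n) := ⟨z, hzA⟩ with hzAdef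
  -- zA normalises T
  have hN : zA ∈ Subgroup.normalizer
      ((T : Subgroup (alternatingGroup (Fin n))) : Set (alternatingGroup (Fin n))) := by
    apply Subgroup.mem_normalizer_fintype
    intro t ht
    have h1 : z * (t : Perm (Fin n)) * z⁻¹ ∈ altImg T :=
      hnorm _ ((mem_altImg T _).2 ⟨t.2, ht⟩)
    obtain ⟨h2, h3⟩ := (mem_altImg T _).1 h1
    exact h3
  -- zA is a 2-element
  have hsqT : zA * zA ∈ (T : Subgroup (alternatingGroup (Fin n))) := by
    obtain ⟨h2, h3⟩ := (mem_altImg T _).1 hsq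
    exact h3
  obtain ⟨k, hk⟩ := T.isPGroup' ⟨zA * zA, hsqT⟩
  have hk' : (zA * zA) ^ 2 ^ k = 1 := by
    have := congrArg (Subtype.val) hk
    simpa using this
  have hpow : zA ^ 2 ^ (k + 1) = 1 := by
    rw [pow_succ, mul_comm, pow_mul, pow_two]
    exact hk'
  have hP : IsPGroup 2 (Subgroup.zpowers zA) := by
    obtain ⟨m, -, hm⟩ := (Nat.dvd_prime_pow Nat.prime_two).1 (orderOf_dvd_of_pow_eq_one hpow)
    apply IsPGroup.of_card (n := m)
    rw [Nat.card_zpowers, hm]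
  have h4 := hP.inf_normalizer_sylow T
  have h5 : zA ∈ Subgroup.zpowers zA ⊓ Subgroup.normalizer
      ((T : Subgroup (alternatingGroup (Fin n))) : Set (alternatingGroup (Fin n))) :=
    ⟨Subgroup.mem_zpowers zA, hN⟩
  have h6 := h4.le h5
  exact (mem_altImg T z).2 ⟨hzA, h6.2⟩

/-- L3: the algebraic heart. -/
theorem swap_mem_of_commute (T : Sylow 2 (alternatingGroup (Fin n)))
    (P P' : Sylow 2 (Perm (Fin n)))
    (hP : altImg T ≤ (P : Subgroup (Perm (Fin n))))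
    (hP' : altImg T ≤ (P' : Subgroup (Perm (Fin n))))
    (τ τ' σ : Perm (Fin n)) (hτ : τ ∈ (P : Subgroup (Perm (Fin n))))
    (hτ' : τ' ∈ (P : Subgroup (Perm (Fin n)))) (hσ : σ ∈ (P' : Subgroup (Perm (Fin n))))
    (sτ : sign τ = -1) (sτ' : sign τ' = -1) (sσ : sign σ = -1)
    (τ2 : τ * τ = 1) (τ'2 : τ' * τ' = 1) (σ2 : σ * σ = 1)
    (c1 : τ * τ' = τ' * τ) (c2 : σ * τ' = τ' * σ) :
    τ ∈ (P' : Subgroup (Perm (Fin n))) := by
  have τi : τ⁻¹ = τ := inv_eq_of_mul_eq_one_left τ2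
  have σi : σ⁻¹ = σ := inv_eq_of_mul_eq_one_left σ2
  have hu : τ * τ' ∈ altImg T := by
    apply mem_altImg_of_even T P hP _ (P.mul_mem hτ hτ')
    simp [sτ, sτ']
  have hw : τ * (σ * (τ * τ') * σ⁻¹) * τ⁻¹ ∈ altImg T :=
    conj_mem_altImg T P hP τ hτ _ (conj_mem_altImg T P' hP' σ hσ _ hu)
  have huw := (altImg T).mul_mem hu hw
  have hl1 : ∀ x, τ * (τ' * x) = τ' * (τ * x) := fun x => by rw [← mul_assoc, c1, mul_assoc]
  have hl2 : ∀ x, σ * (τ' * x) = τ' * (σ * x) := fun x => by rw [← mul_assoc, c2, mul_assoc]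
  have hτ2 : ∀ x, τ * (τ * x) = x := fun x => by rw [← mul_assoc, τ2, one_mul]
  have hτ'2 : ∀ x, τ' * (τ' * x) = x := fun x => by rw [← mul_assoc, τ'2, one_mul]
  have hid : τ * τ' * (τ * (σ * (τ * τ') * σ⁻¹) * τ⁻¹) = (σ * τ) * (σ * τ) := by
    rw [τi, σi]
    simp only [mul_assoc, hl1, hl2, hτ2, hτ'2]
  rw [hid] at huw
  have hz : σ * τ ∈ altImg T := by
    apply mem_altImg_of_sq T (σ * τ) _ _ huw
    · simp [sτ, sσ]
    · intro t ht
      have h1 := conj_mem_altImg T P' hP' σ hσ _ (conj_mem_altImg T P hP τ hτ t ht)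
      have h2 : (σ * τ) * t * (σ * τ)⁻¹ = σ * (τ * t * τ⁻¹) * σ⁻¹ := by
        rw [mul_inv_rev]; simp only [mul_assoc]
      rw [h2]; exact h1
  have h3 : τ = σ⁻¹ * (σ * τ) := by rw [inv_mul_cancel_left]
  rw [h3]
  exact P'.mul_mem (P'.inv_mem hσ) (hP' hz)

/-- pigeonhole: among three pairwise disjoint pairs one avoids the two points `c`, `d`. -/
theorem exists_avoiding {m : ℕ} (hm : 3 ≤ m) (f : Fin m → Fin n × Fin n)
    (hdisj : ∀ i j, i ≠ j → (f i).1 ≠ (f j).1 ∧ (f i).1 ≠ (f j).2 ∧ (f i).2 ≠ (f j).1 ∧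
      (f i).2 ≠ (f j).2) (c d : Fin n) :
    ∃ j, c ≠ (f j).1 ∧ c ≠ (f j).2 ∧ d ≠ (f j).1 ∧ d ≠ (f j).2 := by
  by_contra h
  have key : ∀ (x : Fin n) (i j : Fin m), i ≠ j → (x = (f i).1 ∨ x = (f i).2) →
      (x = (f j).1 ∨ x = (f j).2) → False := by
    intro x i j hij h1 h2
    obtain ⟨a1, a2, a3, a4⟩ := hdisj i j hij
    rcases h1 with h1 | h1 <;> rcases h2 with h2 | h2
    · exact a1 (h1.symm.trans h2)
    · exact a2 (h1.symm.trans h2)
    · exact a3 (h1.symm.trans h2)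
    · exact a4 (h1.symm.trans h2)
  have hmem : ∀ i, (c = (f i).1 ∨ c = (f i).2) ∨ (d = (f i).1 ∨ d = (f i).2) := by
    intro i
    by_contra hh
    push Not at hh
    exact h ⟨i, hh.1.1, hh.1.2, hh.2.1, hh.2.2⟩
  have h01 : (⟨0, by omega⟩ : Fin m) ≠ ⟨1, by omega⟩ := by simp [Fin.ext_iff]
  have h02 : (⟨0, by omega⟩ : Fin m) ≠ ⟨2, by omega⟩ := by simp [Fin.ext_iff]
  have h12 : (⟨1, by omega⟩ : Fin m) ≠ ⟨2, by omega⟩ := by simp [Fin.ext_iff]
  rcases hmem ⟨0, by omega⟩ with h0 | h0 <;> rcases hmem ⟨1, by omega⟩ with h1 | h1 <;>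
    rcases hmem ⟨2, by omega⟩ with h2 | h2 <;>
    first
      | exact key _ _ _ h01 h0 h1
      | exact key _ _ _ h02 h0 h2
      | exact key _ _ _ h12 h1 h2

theorem swap_commute_of_ne (a b c d : Fin n) (hab : a ≠ b) (hcd : c ≠ d) (h1 : a ≠ c) (h2 : a ≠ d)
    (h3 : b ≠ c) (h4 : b ≠ d) : swap a b * swap c d = swap c d * swap a b := by
  have : (swap a b).Disjoint (swap c d) := by
    apply disjoint_swap_swap
    simp [hab, hcd, h1, h2, h3, h4]
  exact this.commute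

theorem alt_sylow_normalizer (n : ℕ) (hn : 6 ≤ n)
    (hNS : ∀ P : Sylow 2 (Perm (Fin n)),
      Subgroup.normalizer ((P : Subgroup (Perm (Fin n))) : Set (Perm (Fin n))) = P)
    (hSW1 : ∀ Q : Subgroup (Perm (Fin n)), IsPGroup 2 Q → ∀ a b c d : Fin n, a ≠ b → c ≠ d →
      swap a b ∈ Q → swap c d ∈ Q → swap a b = swap c d ∨ (a ≠ c ∧ a ≠ d ∧ b ≠ c ∧ b ≠ d))
    (hSW2 : ∀ P : Sylow 2 (Perm (Fin n)),
      ∃ f : Fin (Fintype.card (Fin n) / 2) → Fin n × Fin n, (∀ i, (f i).1 ≠ (f i).2) ∧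
      (∀ i, swap (f i).1 (f i).2 ∈ (P : Subgroup (Perm (Fin n)))) ∧
      ∀ i j, i ≠ j → (f i).1 ≠ (f j).1 ∧ (f i).1 ≠ (f j).2 ∧ (f i).2 ≠ (f j).1 ∧ (f i).2 ≠ (f j).2)
    (T : Sylow 2 (alternatingGroup (Fin n))) :
    Subgroup.normalizer ((T : Subgroup (alternatingGroup (Fin n))) : Set (alternatingGroup (Fin n))) = T := by
  have hT'p : IsPGroup 2 (altImg T) := T.isPGroup'.map _
  obtain ⟨P, hP⟩ := hT'p.exists_le_sylow
  have h3 : 3 ≤ Fintype.card (Fin n) / 2 := by rw [Fintype.card_fin]; omega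
  -- uniqueness of the Sylow 2-subgroup of `S_n` above `T`
  have huniq : ∀ P' : Sylow 2 (Perm (Fin n)), altImg T ≤ (P' : Subgroup (Perm (Fin n))) →
      P' = P := by
    intro P' hP'
    obtain ⟨f, hf1, hf2, hf3⟩ := hSW2 P
    obtain ⟨f', hf'1, hf'2, -⟩ := hSW2 P'
    obtain ⟨j, hj1, hj2, hj3, hj4⟩ := exists_avoiding h3 f hf3 (f' ⟨0, by omega⟩).1 (f' ⟨0, by omega⟩).2
    have hτP' : swap (f ⟨0, by omega⟩).1 (f ⟨0, by omega⟩).2 ∈ (P' : Subgroup (Perm (Fin n))) := by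
      apply swap_mem_of_commute T P P' hP hP' _ (swap (f j).1 (f j).2)
        (swap (f' ⟨0, by omega⟩).1 (f' ⟨0, by omega⟩).2) (hf2 _) (hf2 _) (hf'2 _)
        (sign_swap (hf1 _)) (sign_swap (hf1 _)) (sign_swap (hf'1 _))
        (swap_mul_self _ _) (swap_mul_self _ _) (swap_mul_self _ _)
      · by_cases hj : (⟨0, by omega⟩ : Fin (Fintype.card (Fin n) / 2)) = j
        · rw [← hj]
        · obtain ⟨a1, a2, a3, a4⟩ := hf3 _ _ hj
          exact swap_commute_of_ne _ _ _ _ (hf1 _) (hf1 _) a1 a2 a3 a4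
      · exact swap_commute_of_ne _ _ _ _ (hf'1 _) (hf1 _) hj1 hj2 hj3 hj4
    have hle : (P : Subgroup (Perm (Fin n))) ≤ (P' : Subgroup (Perm (Fin n))) := by
      intro x hx
      rcases Int.units_eq_one_or (sign x) with h | h
      · exact hP' (mem_altImg_of_even T P hP x hx h)
      · have h1 : x * swap (f ⟨0, by omega⟩).1 (f ⟨0, by omega⟩).2 ∈ altImg T := by
          apply mem_altImg_of_even T P hP _ (P.mul_mem hx (hf2 _))
          rw [map_mul, h, sign_swap (hf1 _)]; simp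
        have h2 := P'.mul_mem (hP' h1) (P'.inv_mem hτP')
        simpa using h2
    exact Sylow.ext (P.is_maximal' P'.isPGroup' hle)
  apply le_antisymm _ Subgroup.le_normalizer
  intro g hg
  have hmem : ∀ t, t ∈ ((((g : Perm (Fin n)) • P : Sylow 2 (Perm (Fin n)))) : Subgroup (Perm (Fin n)))
      ↔ (g : Perm (Fin n))⁻¹ * t * (g : Perm (Fin n)) ∈ (P : Subgroup (Perm (Fin n))) := by
    intro t
    rw [Sylow.smul_def, Sylow.pointwise_smul_def, Subgroup.mem_pointwise_smul_iff_inv_smul_mem]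
    simp [MulAut.smul_def]
  have hginv := inv_mem hg
  rw [Subgroup.mem_normalizer_iff] at hginv
  have h1 : altImg T ≤ ((((g : Perm (Fin n)) • P : Sylow 2 (Perm (Fin n)))) : Subgroup (Perm (Fin n))) := by
    intro t ht
    rw [hmem]
    apply hP
    obtain ⟨htA, htT⟩ := (mem_altImg T t).1 ht
    have h' : g⁻¹ * ⟨t, htA⟩ * g ∈ (T : Subgroup (alternatingGroup (Fin n))) := by
      simpa using (hginv ⟨t, htA⟩).1 htT
    exact Subgroup.mem_map.2 ⟨_, h', rfl⟩
  have h2 := huniq _ h1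
  rw [Sylow.smul_eq_iff_mem_normalizer] at h2
  have h2' : (g : Perm (Fin n)) ∈ (P : Subgroup (Perm (Fin n))) := (hNS P).le h2
  have h4 := mem_altImg_of_even T P hP _ h2' (mem_alternatingGroup.1 g.2)
  obtain ⟨_, h5⟩ := (mem_altImg T _).1 h4
  exact h5

end

end Cfsg.Agent.Lib.Helper74.PrnA
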