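import Mathlib

set_option autoImplicit false

/-!
Vendored copy (by helper74) of helper59's files AutTwoGroup and QuaternionIso (Lib/Helper59),
placed in its own namespace so that it does not depend on files owned by other seats.
-/



namespace Cfsg.Agent.Lib.Helper74.V59

/-- If `X` has a cyclic subgroup `⟨c⟩` of order `2^k` (`k ≥ 1`) and index `2`, and there is an
exponent `m` killing every element outside `⟨c⟩` but not `c`, then `Aut X` is a `2`-group. -/
theorem isPGroup_two_mulAut_of_cyclic_index_two {X : Type*} [Group X] (c : X) (k m : ℕ)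
    (hk : 1 ≤ k) (hc : orderOf c = 2 ^ k) (hidx : (Subgroup.zpowers c).index = 2)
    (hm : ∀ g : X, g ∉ Subgroup.zpowers c → g ^ m = 1) (hcm : c ^ m ≠ 1) :
    IsPGroup 2 (MulAut X) := by
  classical
  intro φ
  set H := Subgroup.zpowers c with hH
  have hcfin : 0 < orderOf c := by rw [hc]; positivity
  have hcfin' : IsOfFinOrder c := orderOf_pos_iff.mp hcfin
  -- every automorphism maps c into H
  have hchar : ∀ ψ : MulAut X, ψ c ∈ H := by
    intro ψ
    by_contra hcon
    have h1 := hm (ψ c) hcon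
    rw [← map_pow] at h1
    have : c ^ m = 1 := by
      have := congrArg ψ.symm h1
      simpa using this
    exact hcm this
  obtain ⟨u, hu⟩ : ∃ u : ℕ, c ^ u = φ c := by
    have := hchar φ
    rw [hH, ← hcfin'.mem_powers_iff_mem_zpowers] at this
    exact Submonoid.mem_powers_iff _ _ |>.mp this
  -- u is odd
  have huodd : Odd u := by
    by_contra hne
    rw [Nat.not_odd_iff_even] at hne
    obtain ⟨v, rfl⟩ := hne
    have hord : orderOf (φ c) = 2 ^ k := by
      rw [MulEquiv.orderOf_eq]; exact hc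
    have : (φ c) ^ (2 ^ (k - 1)) = 1 := by
      rw [← hu, ← pow_mul]
      have : (v + v) * 2 ^ (k - 1) = 2 ^ k * v := by
        obtain ⟨k', rfl⟩ : ∃ k', k = k' + 1 := ⟨k - 1, by omega⟩
        simp only [Nat.add_sub_cancel]
        ring
      rw [this, pow_mul, ← hc, pow_orderOf_eq_one, one_pow]
    have hdvd := orderOf_dvd_of_pow_eq_one this
    rw [hord] at hdvd
    have := Nat.le_of_dvd (by positivity) hdvd
    have : 2 ^ (k - 1) < 2 ^ k := Nat.pow_lt_pow_right (by norm_num) (by omega)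
    omega
  -- iterates
  have hiter : ∀ j : ℕ, (φ ^ j) c = c ^ (u ^ j) := by
    intro j
    induction j with
    | zero => simp
    | succ j ih =>
      rw [pow_succ', MulAut.mul_apply, ih, map_pow, ← hu, ← pow_mul, pow_succ']
  set M := Nat.totient (2 ^ k) with hM
  have hMval : M = 2 ^ (k - 1) := by
    rw [hM, Nat.totient_prime_pow Nat.prime_two (by omega)]; simp
  have hcop : Nat.Coprime u (2 ^ k) := by
    apply Nat.Coprime.pow_right
    exact Nat.coprime_two_right.mpr huodd
  have hmod : u ^ M ≡ 1 [MOD 2 ^ k] := Nat.ModEq.pow_totient hcop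
  set ψ := φ ^ M with hψ
  have hψc : ψ c = c := by
    rw [hψ, hiter]
    have : c ^ (u ^ M) = c ^ 1 := by
      rw [pow_eq_pow_iff_modEq, hc]; exact hmod
    rw [this, pow_one]
  have hψH : ∀ h ∈ H, ψ h = h := by
    intro h hh
    rw [hH, Subgroup.mem_zpowers_iff] at hh
    obtain ⟨i, rfl⟩ := hh
    rw [map_zpow, hψc]
  -- pick s outside H
  have hex : ∃ s : X, s ∉ H := by
    by_contra hcon
    push Not at hcon
    have : H = ⊤ := by
      rw [eq_top_iff]; intro x _; exact hcon x
    rw [this, Subgroup.index_top] at hidx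
    omega
  obtain ⟨s, hs⟩ := hex
  have hψs : ψ s ∉ H := by
    intro hcon
    have h1 : ψ (ψ s) = ψ s := hψH _ hcon
    have h2 : ψ s = s := ψ.injective h1
    rw [h2] at hcon
    exact hs hcon
  have hd : s⁻¹ * ψ s ∈ H := by
    rw [Subgroup.mul_mem_iff_of_index_two hidx]
    constructor
    · intro h; exact absurd (by simpa using H.inv_mem h) hs
    · intro h; exact absurd h hψs
  set d := s⁻¹ * ψ s with hddef
  have hψs' : ψ s = s * d := by rw [hddef]; group
  have hiter2 : ∀ j : ℕ, (ψ ^ j) s = s * d ^ j := by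
    intro j
    induction j with
    | zero => simp
    | succ j ih =>
      rw [pow_succ', MulAut.mul_apply, ih, map_mul, map_pow, hψH d hd, hψs', mul_assoc, ← pow_succ']
  have hd2 : d ^ (2 ^ k) = 1 := by
    rw [hH, Subgroup.mem_zpowers_iff] at hd
    obtain ⟨i, hi⟩ := hd
    rw [← hi, ← zpow_natCast, ← zpow_mul, mul_comm, zpow_mul, zpow_natCast, ← hc,
      pow_orderOf_eq_one, one_zpow]
  have hiterH : ∀ j : ℕ, ∀ h ∈ H, (ψ ^ j) h = h := by
    intro j
    induction j with
    | zero => simp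
    | succ j ih =>
      intro h hh
      rw [pow_succ', MulAut.mul_apply, ih h hh, hψH h hh]
  have hfinal : ψ ^ (2 ^ k) = 1 := by
    ext x
    rw [MulAut.one_apply]
    by_cases hx : x ∈ H
    · exact hiterH _ x hx
    · have hsx : s⁻¹ * x ∈ H := by
        rw [Subgroup.mul_mem_iff_of_index_two hidx]
        constructor
        · intro h; exact absurd (by simpa using H.inv_mem h) hs
        · intro h; exact absurd h hx
      have : x = s * (s⁻¹ * x) := by group
      rw [this, map_mul, hiter2, hd2, mul_one, hiterH _ _ hsx]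
  refine ⟨(k - 1) + k, ?_⟩
  rw [pow_add, pow_mul, ← hMval, ← hψ]
  exact hfinal

end Cfsg.Agent.Lib.Helper74.V59



namespace Cfsg.Agent.Lib.Helper74.V59

open QuaternionGroup

section

variable {G : Type*} [Group G]

/-- `i ↦ c ^ i.val` -/
def zpw (m : ℕ) (c : G) (i : ZMod m) : G := c ^ i.val

theorem zpw_add {m : ℕ} [NeZero m] (c : G) (hc : c ^ m = 1) (i j : ZMod m) :
    zpw m c (i + j) = zpw m c i * zpw m c j := by
  unfold zpw
  rw [ZMod.val_add, ← pow_add, ← pow_eq_pow_mod _ hc]

theorem zpw_zero {m : ℕ} [NeZero m] (c : G) : zpw m c 0 = 1 := by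
  unfold zpw; simp

theorem zpw_neg {m : ℕ} [NeZero m] (c : G) (hc : c ^ m = 1) (i : ZMod m) :
    zpw m c (-i) = (zpw m c i)⁻¹ := by
  have := zpw_add c hc i (-i)
  rw [add_neg_cancel, zpw_zero] at this
  exact eq_inv_of_mul_eq_one_right this.symm

theorem zpw_sub {m : ℕ} [NeZero m] (c : G) (hc : c ^ m = 1) (i j : ZMod m) :
    zpw m c (i - j) = zpw m c i * (zpw m c j)⁻¹ := by
  rw [sub_eq_add_neg, zpw_add c hc, zpw_neg c hc]

theorem zpw_natCast {m : ℕ} [NeZero m] (c : G) (hc : c ^ m = 1) (k : ℕ) :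
    zpw m c (k : ZMod m) = c ^ k := by
  unfold zpw
  rw [ZMod.val_natCast, ← pow_eq_pow_mod _ hc]

theorem zpw_mem_zpowers {m : ℕ} (c : G) (i : ZMod m) : zpw m c i ∈ Subgroup.zpowers c :=
  Subgroup.pow_mem _ (Subgroup.mem_zpowers c) _

/-- conjugation by `b` inverts `zpw` when it inverts `c` -/
theorem conj_zpw {m : ℕ} (c b : G) (hcb : b * c * b⁻¹ = c⁻¹) (i : ZMod m) :
    b * zpw m c i * b⁻¹ = (zpw m c i)⁻¹ := by
  unfold zpw
  rw [← conj_pow, hcb, inv_pow]

/-- The hom `QuaternionGroup n →* G` given by `a 1 ↦ c`, `xa 0 ↦ b`. -/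
noncomputable def quatHom (n : ℕ) [NeZero n] (c b : G) (hc : c ^ (2 * n) = 1) (hb : b * b = c ^ n)
    (hcb : b * c * b⁻¹ = c⁻¹) : QuaternionGroup n →* G where
  toFun g := match g with
    | a i => zpw (2 * n) c i
    | xa i => b * zpw (2 * n) c i
  map_one' := by
    rw [one_def]; exact zpw_zero c
  map_mul' := by
    have hinv : ∀ i : ZMod (2 * n), zpw (2 * n) c i * b = b * (zpw (2 * n) c i)⁻¹ := by
      intro i
      have := conj_zpw (m := 2 * n) c b hcb i
      have h1 : b * (zpw (2 * n) c i)⁻¹ * b⁻¹ = zpw (2 * n) c i := by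
        calc b * (zpw (2 * n) c i)⁻¹ * b⁻¹ = (b * zpw (2 * n) c i * b⁻¹)⁻¹ := by group
          _ = ((zpw (2 * n) c i)⁻¹)⁻¹ := by rw [this]
          _ = zpw (2 * n) c i := inv_inv _
      calc zpw (2 * n) c i * b = (b * (zpw (2 * n) c i)⁻¹ * b⁻¹) * b := by rw [h1]
        _ = b * (zpw (2 * n) c i)⁻¹ := by group
    rintro (i | i) (j | j)
    · simp only [a_mul_a]; exact zpw_add c hc i j
    · simp only [a_mul_xa]
      have hcomm : (zpw (2 * n) c i)⁻¹ * zpw (2 * n) c j = zpw (2 * n) c j * (zpw (2 * n) c i)⁻¹ := by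
        rw [← zpw_neg c hc, ← zpw_add c hc, ← zpw_add c hc, add_comm]
      rw [zpw_sub c hc, ← mul_assoc (zpw (2 * n) c i) b, hinv i, mul_assoc, hcomm]
    · simp only [xa_mul_a]; rw [zpw_add c hc, mul_assoc]
    · simp only [xa_mul_xa]
      rw [zpw_sub c hc, zpw_add c hc, zpw_natCast c hc, ← hb]
      calc b * b * zpw (2 * n) c j * (zpw (2 * n) c i)⁻¹
          = b * (b * (zpw (2 * n) c i)⁻¹) * zpw (2 * n) c j := by
            have hcomm : zpw (2 * n) c j * (zpw (2 * n) c i)⁻¹ = (zpw (2 * n) c i)⁻¹ * zpw (2 * n) c j := by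
              rw [← zpw_neg c hc, ← zpw_add c hc, ← zpw_add c hc, add_comm]
            rw [mul_assoc (b * b), hcomm]; group
        _ = b * (zpw (2 * n) c i * b) * zpw (2 * n) c j := by rw [hinv i]
        _ = b * zpw (2 * n) c i * (b * zpw (2 * n) c j) := by group

theorem quatHom_a (n : ℕ) [NeZero n] (c b : G) (hc : c ^ (2 * n) = 1) (hb : b * b = c ^ n)
    (hcb : b * c * b⁻¹ = c⁻¹) (i : ZMod (2 * n)) : quatHom n c b hc hb hcb (a i) = zpw (2 * n) c i := rfl

theorem quatHom_xa (n : ℕ) [NeZero n] (c b : G) (hc : c ^ (2 * n) = 1) (hb : b * b = c ^ n)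
    (hcb : b * c * b⁻¹ = c⁻¹) (i : ZMod (2 * n)) : quatHom n c b hc hb hcb (xa i) = b * zpw (2 * n) c i := rfl

theorem quatHom_injective (n : ℕ) [NeZero n] (c b : G) (hord : orderOf c = 2 * n) (hb : b * b = c ^ n)
    (hcb : b * c * b⁻¹ = c⁻¹) (hbn : b ∉ Subgroup.zpowers c) :
    Function.Injective (quatHom n c b (by rw [← hord]; exact pow_orderOf_eq_one c) hb hcb) := by
  have hc : c ^ (2 * n) = 1 := by rw [← hord]; exact pow_orderOf_eq_one c
  have hinj : ∀ i j : ZMod (2 * n), zpw (2 * n) c i = zpw (2 * n) c j → i = j := by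
    intro i j hij
    unfold zpw at hij
    have hi : i.val < orderOf c := by rw [hord]; exact ZMod.val_lt i
    have hj : j.val < orderOf c := by rw [hord]; exact ZMod.val_lt j
    have := pow_injOn_Iio_orderOf (Set.mem_Iio.mpr hi) (Set.mem_Iio.mpr hj) hij
    exact ZMod.val_injective _ this
  rintro (i | i) (j | j) hij
  · rw [quatHom_a, quatHom_a] at hij; rw [hinj i j hij]
  · exfalso; rw [quatHom_a, quatHom_xa] at hij
    apply hbn
    have : b = zpw (2 * n) c i * (zpw (2 * n) c j)⁻¹ := by rw [hij]; group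
    rw [this]
    exact Subgroup.mul_mem _ (zpw_mem_zpowers c i) (Subgroup.inv_mem _ (zpw_mem_zpowers c j))
  · exfalso; rw [quatHom_a, quatHom_xa] at hij
    apply hbn
    have : b = zpw (2 * n) c j * (zpw (2 * n) c i)⁻¹ := by rw [← hij]; group
    rw [this]
    exact Subgroup.mul_mem _ (zpw_mem_zpowers c j) (Subgroup.inv_mem _ (zpw_mem_zpowers c i))
  · rw [quatHom_xa, quatHom_xa] at hij
    rw [hinj i j (mul_left_cancel hij)]

/-- Recognition of generalized quaternion groups. -/
theorem nonempty_mulEquiv_quaternion [Finite G] (n : ℕ) [NeZero n] (c b : G) (hcard : Nat.card G = 4 * n)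
    (hord : orderOf c = 2 * n) (hb : b * b = c ^ n) (hcb : b * c * b⁻¹ = c⁻¹)
    (hbn : b ∉ Subgroup.zpowers c) : Nonempty (G ≃* QuaternionGroup n) := by
  have hinj := quatHom_injective n c b hord hb hcb hbn
  have hbij : Function.Bijective (quatHom n c b (by rw [← hord]; exact pow_orderOf_eq_one c) hb hcb) := by
    rw [Nat.bijective_iff_injective_and_card]
    refine ⟨hinj, ?_⟩
    rw [hcard, Nat.card_eq_fintype_card, QuaternionGroup.card]
  exact ⟨(MulEquiv.ofBijective _ hbij).symm⟩

end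

end Cfsg.Agent.Lib.Helper74.V59
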