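import Mathlib
import Cfsg.Agent.Lib.Helper49.RSU3Defs
import Cfsg.Agent.Lib.Helper40.GUConj
import Cfsg.Agent.Lib.Helper47.RSU3L06

set_option autoImplicit false
set_option linter.unusedSectionVars false
set_option linter.unusedVariables false

namespace Cfsg.Agent.Lib.Helper74.RSU3

open Matrix Cfsg.Agent.Lib.Helper49.StSU Cfsg.Agent.Lib.Helper49.RSU3

variable {F : Type*} [Field F] [Fintype F] {q : ℕ}

theorem l23_hJ (u v : Fin 3 → F) :
    hJ 3 F q u v = u 0 * (v 2) ^ q + u 1 * (v 1) ^ q + u 2 * (v 0) ^ q := by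
  unfold hJ
  rw [Fin.sum_univ_three]
  rfl

/-- unitarity on columns `j`, `k` -/
theorem l23_col (g : GJ 3 F q) (j k : Fin 3) :
    mat g 0 j * (mat g 2 k) ^ q + mat g 1 j * (mat g 1 k) ^ q + mat g 2 j * (mat g 0 k) ^ q =
      (Pi.single j 1 : Fin 3 → F) 0 * ((Pi.single k 1 : Fin 3 → F) 2) ^ q +
      (Pi.single j 1 : Fin 3 → F) 1 * ((Pi.single k 1 : Fin 3 → F) 1) ^ q +
      (Pi.single j 1 : Fin 3 → F) 2 * ((Pi.single k 1 : Fin 3 → F) 0) ^ q := by
  have h := hJ_mat g (Pi.single j 1) (Pi.single k 1)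
  rw [l23_hJ, l23_hJ, Matrix.mulVec_single_one, Matrix.mulVec_single_one] at h
  simpa using h

/-- L23 -/
theorem borel_decomp (hq : 3 ≤ q) (hF : Fintype.card F = q ^ 2) (g : GJ 3 F q)
    (h10 : mat g 1 0 = 0) (h20 : mat g 2 0 = 0) :
    ∃ (t X : GJ 3 F q) (m a b : F), mat t = hM q m ∧ mat X = xM q a b ∧ g = t * X := by
  obtain ⟨φ, hφ, hφφ, -⟩ := Cfsg.Agent.Lib.Helper40.GUConj.exists_frob hF
  have hq0 : q ≠ 0 := by omega
  set M := mat g with hMdef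
  have hdet : M.det = 1 := det_mat g
  rw [Matrix.det_fin_three, h10, h20] at hdet
  have hm0 : M 0 0 ≠ 0 := by
    intro h
    rw [h] at hdet
    simp at hdet
  -- column relations
  have c01 := l23_col g 0 1
  have c02 := l23_col g 0 2
  have c12 := l23_col g 1 2
  rw [← hMdef] at c01 c02 c12
  simp [h10, h20, hq0] at c01 c02 c12
  -- `M 2 1 = 0`
  have h21 : M 2 1 = 0 := by
    rcases c01 with h | h
    · exact absurd h hm0
    · exact h
  -- `M 2 2`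
  have h22q : φ (M 2 2) = (M 0 0)⁻¹ := by
    rw [hφ]
    field_simp
    linear_combination c02
  have h22 : M 2 2 = 1 / (M 0 0) ^ q := by
    rw [← hφφ (M 2 2), h22q, map_inv₀, hφ, one_div]
  have hmq0 : (M 0 0) ^ q ≠ 0 := pow_ne_zero _ hm0
  -- `M 1 1`
  have h11 : M 1 1 = (M 0 0) ^ q / M 0 0 := by
    rw [h21, h22] at hdet
    field_simp
    field_simp at hdet
    linear_combination hdet
  have h11ne : M 1 1 ≠ 0 := by
    rw [h11]
    exact div_ne_zero hmq0 hm0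
  -- `M 1 2`
  have h12q : φ (M 1 2) = -(M 0 1) / (M 0 0 * M 1 1) := by
    rw [hφ]
    rw [h21] at c12
    have h22' : (M 2 2) ^ q = (M 0 0)⁻¹ := by rw [← hφ]; exact h22q
    rw [h22'] at c12
    field_simp
    field_simp at c12
    linear_combination c12
  have hφm : φ ((M 0 0) ^ q) = M 0 0 := by
    rw [← hφ, hφφ]
  have h12 : M 1 2 = -((M 0 0) ^ q / M 0 0 * (M 0 1 / M 0 0) ^ q) := by
    rw [← hφφ (M 1 2), h12q, h11, map_div₀, map_neg, map_mul, map_div₀, hφm, hφ (M 0 1), hφ (M 0 0), div_pow]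
    field_simp
  obtain ⟨t, ht⟩ := Cfsg.Agent.Lib.Helper47.RSU3.exists_h hF (M 0 0) hm0
  have hprod : M = hM q (M 0 0) * xM q (M 0 1 / M 0 0) (M 0 2 / M 0 0) := by
    ext i j
    fin_cases i <;> fin_cases j <;>
      simp [hM, xM, Matrix.mul_apply, Fin.sum_univ_three, h10, h20, h21, h22, h11, h12] <;>
      field_simp
  obtain ⟨a, hadef⟩ : ∃ a : F, a = M 0 1 / M 0 0 := ⟨_, rfl⟩
  obtain ⟨b, hbdef⟩ : ∃ b : F, b = M 0 2 / M 0 0 := ⟨_, rfl⟩
  obtain ⟨m, hmdef⟩ : ∃ m : F, m = M 0 0 := ⟨_, rfl⟩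
  rw [← hadef, ← hbdef, ← hmdef] at hprod
  rw [← hmdef] at ht
  refine ⟨t, t⁻¹ * g, m, a, b, ht, ?_, by group⟩
  rw [mat_mul, ← hMdef, hprod, ← ht, ← Matrix.mul_assoc, mat_inv_mul, Matrix.one_mul]

end Cfsg.Agent.Lib.Helper74.RSU3
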