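import Mathlib
import Cfsg.Agent.Lib.Helper48.RSpDefs2

/-!
# K-RSp-P1 (keystone 228110, S2281 pack of helper48): the induction step `Sym{0..k} → Sym{0..k+1}`
-/

set_option autoImplicit false
set_option linter.unusedVariables false
set_option linter.unusedSectionVars false

namespace Cfsg.Agent.Lib.Helper74.RSp

open Matrix Cfsg.Agent.Lib.Helper48.RSp Cfsg.Agent.Lib.Helper18

section sums

variable {n : ℕ} {F : Type*} [Field F]

theorem p1_sum_val (f : Fin n → F) (v : ℕ) :
    (∑ c : Fin n, if v = c.val then f c else 0) = if h : v < n then f ⟨v, h⟩ else 0 := by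
  by_cases h : v < n
  · rw [dif_pos h, Finset.sum_eq_single (⟨v, h⟩ : Fin n)]
    · simp
    · intro b _ hb
      rw [if_neg]
      intro e
      exact hb (Fin.ext e.symm)
    · intro h'
      exact absurd (Finset.mem_univ _) h'
  · rw [dif_neg h]
    apply Finset.sum_eq_zero
    intro c _
    rw [if_neg]
    intro e
    exact h (e ▸ c.2)

theorem p1_sum_succ (f : Fin n → F) (v : ℕ) :
    (∑ c : Fin n, if c.val + 1 = v then f c else 0) =
      if h : 0 < v ∧ v - 1 < n then f ⟨v - 1, h.2⟩ else 0 := by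
  by_cases h : 0 < v ∧ v - 1 < n
  · rw [dif_pos h, Finset.sum_eq_single (⟨v - 1, h.2⟩ : Fin n)]
    · rw [if_pos]
      show v - 1 + 1 = v
      omega
    · intro b _ hb
      rw [if_neg]
      intro e
      apply hb
      apply Fin.ext
      show b.val = v - 1
      omega
    · intro h'
      exact absurd (Finset.mem_univ _) h'
  · rw [dif_neg h]
    apply Finset.sum_eq_zero
    intro c _
    rw [if_neg]
    intro e
    exact h ⟨by omega, by have := c.2; omega⟩

end sums

variable {m : ℕ} {F : Type*} [Field F]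

/-- `N S`: rows shifted up -/
def p1rs (S : SM m F) : SM m F :=
  fun a b => if h : a.val + 1 < m + 2 then S ⟨a.val + 1, h⟩ b else 0

/-- `S Nᵀ`: columns shifted -/
def p1cs (S : SM m F) : SM m F :=
  fun a b => if h : b.val + 1 < m + 2 then S a ⟨b.val + 1, h⟩ else 0

theorem p1_Nup_mul (S : SM m F) : Nup m F * S = p1rs S := by
  ext a b
  rw [Matrix.mul_apply]
  simp only [Nup, ite_mul, one_mul, zero_mul]
  exact p1_sum_val (fun c => S c b) (a.val + 1)

theorem p1_mul_Nup_transpose (S : SM m F) : S * (Nup m F)ᵀ = p1cs S := by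
  ext a b
  rw [Matrix.mul_apply]
  simp only [Nup, Matrix.transpose_apply, mul_ite, mul_one, mul_zero]
  exact p1_sum_val (fun c => S a c) (b.val + 1)

theorem p1_U_conj (S : SM m F) :
    Uup m F * S * (Uup m F)ᵀ = S + p1rs S + p1cs S + p1rs (p1cs S) := by
  have : Uup m F * S * (Uup m F)ᵀ =
      S + Nup m F * S + S * (Nup m F)ᵀ + Nup m F * (S * (Nup m F)ᵀ) := by
    unfold Uup
    rw [Matrix.transpose_add, Matrix.transpose_one]
    noncomm_ring
  rw [this, p1_mul_Nup_transpose, p1_Nup_mul, p1_Nup_mul]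

/-- the strictly lower part of `Lbi δ` -/
def p1Md (δ : Fin (m + 2) → F) : SM m F := fun i j => if j.val + 1 = i.val then δ j else 0

theorem p1_Lbi_eq (δ : Fin (m + 2) → F) : Lbi m δ = 1 + p1Md δ := by
  ext i j
  simp only [Lbi, p1Md, Matrix.add_apply, Matrix.one_apply]
  by_cases h : i = j
  · subst h
    simp
  · simp [h]

/-- `Mδ S` -/
def p1lrs (δ : Fin (m + 2) → F) (S : SM m F) : SM m F :=
  fun a b => if h : 0 < a.val then
    δ ⟨a.val - 1, by have := a.2; omega⟩ * S ⟨a.val - 1, by have := a.2; omega⟩ b else 0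

/-- `S Mδᵀ` -/
def p1lcs (δ : Fin (m + 2) → F) (S : SM m F) : SM m F :=
  fun a b => if h : 0 < b.val then
    δ ⟨b.val - 1, by have := b.2; omega⟩ * S a ⟨b.val - 1, by have := b.2; omega⟩ else 0

theorem p1_Md_mul (δ : Fin (m + 2) → F) (S : SM m F) : p1Md δ * S = p1lrs δ S := by
  ext a b
  rw [Matrix.mul_apply]
  simp only [p1Md, ite_mul, zero_mul]
  rw [p1_sum_succ (fun c => δ c * S c b) a.val]
  unfold p1lrs
  by_cases h : 0 < a.val
  · rw [dif_pos h, dif_pos ⟨h, by have := a.2; omega⟩]
  · rw [dif_neg h, dif_neg (fun h' => h h'.1)]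

theorem p1_mul_Md_transpose (δ : Fin (m + 2) → F) (S : SM m F) :
    S * (p1Md δ)ᵀ = p1lcs δ S := by
  ext a b
  rw [Matrix.mul_apply]
  simp only [p1Md, Matrix.transpose_apply, mul_ite, mul_zero]
  rw [p1_sum_succ (fun c => S a c * δ c) b.val]
  unfold p1lcs
  by_cases h : 0 < b.val
  · rw [dif_pos h, dif_pos ⟨h, by have := b.2; omega⟩, mul_comm]
  · rw [dif_neg h, dif_neg (fun h' => h h'.1)]

theorem p1_L_conj (δ : Fin (m + 2) → F) (S : SM m F) :
    Lbi m δ * S * (Lbi m δ)ᵀ = S + p1lrs δ S + p1lcs δ S + p1lrs δ (p1lcs δ S) := by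
  have : Lbi m δ * S * (Lbi m δ)ᵀ =
      S + p1Md δ * S + S * (p1Md δ)ᵀ + p1Md δ * (S * (p1Md δ)ᵀ) := by
    rw [p1_Lbi_eq, Matrix.transpose_add, Matrix.transpose_one]
    noncomm_ring
  rw [this, p1_mul_Md_transpose, p1_Md_mul, p1_Md_mul]

theorem p1_conj_transpose (A S : SM m F) (hS : Sᵀ = S) : (A * S * Aᵀ)ᵀ = A * S * Aᵀ := by
  rw [Matrix.transpose_mul, Matrix.transpose_mul, Matrix.transpose_transpose, hS, Matrix.mul_assoc]

/-- rows and columns beyond `K` vanish -/
def p1Z (K : ℕ) (S : SM m F) : Prop := ∀ i j : Fin (m + 2), (K < i.val ∨ K < j.val) → S i j = 0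

theorem p1Z_add {K : ℕ} {S T : SM m F} (hS : p1Z K S) (hT : p1Z K T) : p1Z K (S + T) := by
  intro i j hij
  rw [Matrix.add_apply, hS i j hij, hT i j hij, add_zero]

theorem p1Z_mono {K : ℕ} {S : SM m F} (hS : p1Z K S) : p1Z (K + 1) S := by
  intro i j hij
  apply hS
  rcases hij with h | h
  · left; omega
  · right; omega

theorem p1Z_rs {K : ℕ} {S : SM m F} (hS : p1Z K S) : p1Z K (p1rs S) := by
  intro i j hij
  unfold p1rs
  split_ifs with h
  · apply hS
    rcases hij with h' | h'
    · left
      show K < i.val + 1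
      omega
    · right
      exact h'
  · rfl

theorem p1Z_cs {K : ℕ} {S : SM m F} (hS : p1Z K S) : p1Z K (p1cs S) := by
  intro i j hij
  unfold p1cs
  split_ifs with h
  · apply hS
    rcases hij with h' | h'
    · left
      exact h'
    · right
      show K < j.val + 1
      omega
  · rfl

theorem p1Z_lrs (δ : Fin (m + 2) → F) {K : ℕ} {S : SM m F} (hS : p1Z K S) :
    p1Z (K + 1) (p1lrs δ S) := by
  intro i j hij
  unfold p1lrs
  split_ifs with h
  · rw [hS _ _ ?_, mul_zero]
    rcases hij with h' | h'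
    · left
      show K < i.val - 1
      omega
    · right
      omega
  · rfl

theorem p1Z_lcs (δ : Fin (m + 2) → F) {K : ℕ} {S : SM m F} (hS : p1Z K S) :
    p1Z (K + 1) (p1lcs δ S) := by
  intro i j hij
  unfold p1lcs
  split_ifs with h
  · rw [hS _ _ ?_, mul_zero]
    rcases hij with h' | h'
    · left
      omega
    · right
      show K < j.val - 1
      omega
  · rfl

theorem p1_U_conj_mem (K : ℕ) (S : SM m F) (hS : S ∈ SymLE m K) :
    Uup m F * S * (Uup m F)ᵀ ∈ SymLE m K := by
  refine ⟨p1_conj_transpose _ _ hS.1, ?_⟩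
  rw [p1_U_conj]
  have hZ : p1Z K S := hS.2
  exact p1Z_add (p1Z_add (p1Z_add hZ (p1Z_rs hZ)) (p1Z_cs hZ)) (p1Z_rs (p1Z_cs hZ))

theorem p1_L_conj_mem (δ : Fin (m + 2) → F) (K : ℕ) (S : SM m F) (hS : S ∈ SymLE m K) :
    Lbi m δ * S * (Lbi m δ)ᵀ ∈ SymLE m (K + 1) := by
  refine ⟨p1_conj_transpose _ _ hS.1, ?_⟩
  rw [p1_L_conj]
  have hZ : p1Z K S := hS.2
  have h1 : p1Z (K + 1) (p1lrs δ (p1lcs δ S)) := by
    intro i j hij
    unfold p1lrs
    split_ifs with h
    · have : p1lcs δ S ⟨i.val - 1, by have := i.2; omega⟩ j = 0 := by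
        unfold p1lcs
        split_ifs with h2
        · rw [hZ _ _ ?_, mul_zero]
          rcases hij with h' | h'
          · left
            show K < i.val - 1
            omega
          · right
            show K < j.val - 1
            omega
        · rfl
      rw [this, mul_zero]
    · rfl
  exact p1Z_add (p1Z_add (p1Z_add (p1Z_mono hZ) (p1Z_lrs δ hZ)) (p1Z_lcs δ hZ)) h1

/-- the symmetric matrix with column (and row) `p` equal to `c` -/
def p1col (p : Fin (m + 2)) (c : Fin (m + 2) → F) : SM m F :=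
  fun i j => if j = p then c i else if i = p then c j else 0

theorem p1col_transpose (p : Fin (m + 2)) (c : Fin (m + 2) → F) : (p1col p c)ᵀ = p1col p c := by
  ext i j
  simp only [Matrix.transpose_apply, p1col]
  by_cases hi : i = p <;> by_cases hj : j = p <;> simp [hi, hj]

theorem p1col_add (p : Fin (m + 2)) (c c' : Fin (m + 2) → F) :
    p1col p (c + c') = p1col p c + p1col p c' := by
  ext i j
  simp only [p1col, Matrix.add_apply, Pi.add_apply]
  split_ifs <;> simp

theorem p1col_zero (p : Fin (m + 2)) : p1col p (0 : Fin (m + 2) → F) = 0 := by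
  ext i j
  simp only [p1col, Pi.zero_apply, Matrix.zero_apply]
  split_ifs <;> rfl

theorem p1col_neg (p : Fin (m + 2)) (c : Fin (m + 2) → F) : p1col p (-c) = -p1col p c := by
  ext i j
  simp only [p1col, Matrix.neg_apply, Pi.neg_apply]
  split_ifs <;> simp

theorem p1col_mem (p : Fin (m + 2)) (c : Fin (m + 2) → F) (K : ℕ) (hp : p.val ≤ K)
    (hc : ∀ a : Fin (m + 2), K < a.val → c a = 0) : p1col p c ∈ SymLE m K := by
  refine ⟨p1col_transpose p c, ?_⟩
  intro i j hij
  simp only [p1col]
  rcases hij with hi | hj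
  · have hip : i ≠ p := fun e => by rw [e] at hi; omega
    rw [if_neg hip]
    split_ifs
    · exact hc i hi
    · rfl
  · have hjp : j ≠ p := fun e => by rw [e] at hj; omega
    rw [if_neg hjp]
    split_ifs
    · exact hc j hj
    · rfl

/-- **LEAF P1.** -/
theorem sym_step {m : ℕ} {F : Type*} [Field F] (X : AddSubgroup (SM m F)) (δ : Fin (m + 2) → F)
    (hδ : ∀ j, δ j ≠ 0)
    (hU : ∀ S ∈ X, Uup m F * S * (Uup m F)ᵀ ∈ X)
    (hL : ∀ S ∈ X, Sᵀ = S → (∀ j, S (Fin.last (m + 1)) j = 0) → Lbi m δ * S * (Lbi m δ)ᵀ ∈ X)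
    (k : ℕ) (hk1 : 1 ≤ k) (hk : k + 1 < m + 2) (h : SymLE m k ⊆ (X : Set (SM m F))) :
    SymLE m (k + 1) ⊆ (X : Set (SM m F)) := by
  intro S hS
  let κ : Fin (m + 2) := ⟨k + 1, hk⟩
  let kk : Fin (m + 2) := ⟨k, by omega⟩
  -- Key A: modulo `SymLE k`, only the column `κ` matters
  have hdiff : ∀ T : SM m F, T ∈ SymLE m (k + 1) → T - p1col κ (fun a => T a κ) ∈ X := by
    intro T hT
    apply h
    refine ⟨by rw [Matrix.transpose_sub, hT.1, p1col_transpose], ?_⟩
    intro i j hij
    simp only [Matrix.sub_apply, p1col]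
    by_cases hj : j = κ
    · rw [if_pos hj, hj, sub_self]
    · rw [if_neg hj]
      by_cases hi : i = κ
      · rw [if_pos hi, hi]
        have := congrFun (congrFun hT.1 j) κ
        rw [Matrix.transpose_apply] at this
        rw [this, sub_self]
      · rw [if_neg hi, sub_zero]
        apply hT.2
        have hi' : i.val ≠ k + 1 := fun e => hi (Fin.ext e)
        have hj' : j.val ≠ k + 1 := fun e => hj (Fin.ext e)
        rcases hij with h' | h'
        · left; omega
        · right; omega
  have keyA : ∀ T : SM m F, T ∈ SymLE m (k + 1) → T ∈ X → p1col κ (fun a => T a κ) ∈ X := by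
    intro T hT hTX
    have := X.sub_mem hTX (hdiff T hT)
    rwa [sub_sub_cancel] at this
  have keyA' : ∀ T : SM m F, T ∈ SymLE m (k + 1) → p1col κ (fun a => T a κ) ∈ X → T ∈ X := by
    intro T hT hc
    have := X.add_mem (hdiff T hT) hc
    rwa [sub_add_cancel] at this
  -- the additive group of good columns
  let CC : AddSubgroup (Fin (m + 2) → F) :=
    { carrier := {c | (∀ a : Fin (m + 2), k + 1 < a.val → c a = 0) ∧ p1col κ c ∈ X}
      add_mem' := by
        rintro c c' ⟨h1, h2⟩ ⟨h1', h2'⟩
        exact ⟨fun a ha => by rw [Pi.add_apply, h1 a ha, h1' a ha, add_zero],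
          by rw [p1col_add]; exact X.add_mem h2 h2'⟩
      zero_mem' := ⟨fun a _ => rfl, by rw [p1col_zero]; exact X.zero_mem⟩
      neg_mem' := by
        rintro c ⟨h1, h2⟩
        exact ⟨fun a ha => by rw [Pi.neg_apply, h1 a ha, neg_zero],
          by rw [p1col_neg]; exact X.neg_mem h2⟩ }
  have memCC : ∀ c : Fin (m + 2) → F,
      c ∈ CC ↔ (∀ a : Fin (m + 2), k + 1 < a.val → c a = 0) ∧ p1col κ c ∈ X := fun c => Iff.rfl
  -- Key B: the `U`-step
  have keyB : ∀ c ∈ CC,
      (fun a : Fin (m + 2) => if h : a.val + 1 < m + 2 then c ⟨a.val + 1, h⟩ else 0) ∈ CC := by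
    intro c hc
    obtain ⟨hc1, hc2⟩ := (memCC c).1 hc
    have hS0 : p1col κ c ∈ SymLE m (k + 1) := p1col_mem κ c (k + 1) le_rfl hc1
    have hT : Uup m F * p1col κ c * (Uup m F)ᵀ ∈ SymLE m (k + 1) := p1_U_conj_mem _ _ hS0
    have hTX := hU _ hc2
    have hcol := keyA _ hT hTX
    have hZ : p1Z (k + 1) (p1col κ c) := hS0.2
    have e : (fun a => (Uup m F * p1col κ c * (Uup m F)ᵀ) a κ) =
        c + (fun a : Fin (m + 2) => if h : a.val + 1 < m + 2 then c ⟨a.val + 1, h⟩ else 0) := by
      funext a
      rw [p1_U_conj]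
      simp only [Matrix.add_apply, Pi.add_apply]
      have e1 : p1col κ c a κ = c a := by simp [p1col]
      have e2 : p1rs (p1col κ c) a κ =
          if h : a.val + 1 < m + 2 then c ⟨a.val + 1, h⟩ else 0 := by
        unfold p1rs
        split_ifs with h
        · simp [p1col]
        · rfl
      have e3 : p1cs (p1col κ c) a κ = 0 := by
        unfold p1cs
        split_ifs with h
        · exact hZ _ _ (Or.inr (by show k + 1 < k + 1 + 1; omega))
        · rfl
      have e4 : p1rs (p1cs (p1col κ c)) a κ = 0 := by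
        unfold p1rs
        split_ifs with h
        · unfold p1cs
          split_ifs with h2
          · exact hZ _ _ (Or.inr (by show k + 1 < k + 1 + 1; omega))
          · rfl
        · rfl
      rw [e1, e2, e3, e4, add_zero, add_zero]
    rw [e] at hcol
    have hsum : c + (fun a : Fin (m + 2) => if h : a.val + 1 < m + 2 then c ⟨a.val + 1, h⟩ else 0)
        ∈ CC := by
      refine (memCC _).2 ⟨?_, hcol⟩
      intro a ha
      rw [Pi.add_apply, hc1 a ha, zero_add]
      split_ifs with h'
      · exact hc1 _ (by show k + 1 < a.val + 1; omega)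
      · rfl
    have := CC.sub_mem hsum hc
    rwa [add_sub_cancel_left] at this
  -- Key C: the `L`-step
  have keyC : ∀ t : Fin (m + 2) → F, (∀ a : Fin (m + 2), k < a.val → t a = 0) →
      (fun a : Fin (m + 2) => δ kk * (t a + if h : 0 < a.val then
        δ ⟨a.val - 1, by have := a.2; omega⟩ * t ⟨a.val - 1, by have := a.2; omega⟩ else 0)) ∈ CC := by
    intro t ht
    have hT0 : p1col kk t ∈ SymLE m k := p1col_mem kk t k le_rfl ht
    have hT0X : p1col kk t ∈ X := h hT0
    have hlast : ∀ j, p1col kk t (Fin.last (m + 1)) j = 0 := fun j =>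
      hT0.2 _ _ (Or.inl (by show k < m + 1; omega))
    have hTX := hL _ hT0X hT0.1 hlast
    have hT : Lbi m δ * p1col kk t * (Lbi m δ)ᵀ ∈ SymLE m (k + 1) := p1_L_conj_mem δ k _ hT0
    have hcol := keyA _ hT hTX
    have hZ : p1Z k (p1col kk t) := hT0.2
    have hκk : ∀ hh : κ.val - 1 < m + 2, (⟨κ.val - 1, hh⟩ : Fin (m + 2)) = kk := fun hh =>
      Fin.ext (by show k + 1 - 1 = k; omega)
    have e : (fun a => (Lbi m δ * p1col kk t * (Lbi m δ)ᵀ) a κ) =
        (fun a : Fin (m + 2) => δ kk * (t a + if h : 0 < a.val then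
          δ ⟨a.val - 1, by have := a.2; omega⟩ * t ⟨a.val - 1, by have := a.2; omega⟩ else 0)) := by
      funext a
      rw [p1_L_conj]
      simp only [Matrix.add_apply]
      have e1 : p1col kk t a κ = 0 := hZ _ _ (Or.inr (by show k < k + 1; omega))
      have e2 : p1lrs δ (p1col kk t) a κ = 0 := by
        unfold p1lrs
        split_ifs with h'
        · rw [hZ _ _ (Or.inr (by show k < k + 1; omega)), mul_zero]
        · rfl
      have e3 : ∀ b : Fin (m + 2), p1lcs δ (p1col kk t) b κ = δ kk * t b := by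
        intro b
        unfold p1lcs
        rw [dif_pos (by show 0 < k + 1; omega), hκk]
        simp [p1col]
      have e4 : p1lrs δ (p1lcs δ (p1col kk t)) a κ =
          if h : 0 < a.val then δ ⟨a.val - 1, by have := a.2; omega⟩ *
            (δ kk * t ⟨a.val - 1, by have := a.2; omega⟩) else 0 := by
        unfold p1lrs
        split_ifs with h'
        · rw [e3]
        · rfl
      rw [e1, e2, e3, e4]
      split_ifs with h'
      · ring
      · ring
    rw [e] at hcol
    refine (memCC _).2 ⟨?_, hcol⟩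
    intro a ha
    have h0 : 0 < a.val := by omega
    rw [ht a (by omega), dif_pos h0, ht _ (by show k < a.val - 1; omega)]
    ring
  -- (a): multiples of `e_0`
  have hdk : δ kk ≠ 0 := hδ kk
  have stepA : ∀ ν : F, (Pi.single (0 : Fin (m + 2)) ν : Fin (m + 2) → F) ∈ CC := by
    intro ν
    have ht : ∀ a : Fin (m + 2), k < a.val →
        (Pi.single (0 : Fin (m + 2)) (ν / (δ kk * δ 0)) : Fin (m + 2) → F) a = 0 := by
      intro a ha
      rw [Pi.single_apply, if_neg]
      intro e0
      rw [e0] at ha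
      simp at ha
    have h1 := keyB _ (keyC _ ht)
    have e : (fun a : Fin (m + 2) => if h : a.val + 1 < m + 2 then
        (fun a : Fin (m + 2) => δ kk * ((Pi.single (0 : Fin (m + 2)) (ν / (δ kk * δ 0)) :
          Fin (m + 2) → F) a + if h : 0 < a.val then
          δ ⟨a.val - 1, by have := a.2; omega⟩ *
            (Pi.single (0 : Fin (m + 2)) (ν / (δ kk * δ 0)) : Fin (m + 2) → F)
              ⟨a.val - 1, by have := a.2; omega⟩ else 0)) ⟨a.val + 1, h⟩ else 0) =
        (Pi.single (0 : Fin (m + 2)) ν : Fin (m + 2) → F) := by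
      funext a
      by_cases ha : a = 0
      · subst ha
        rw [dif_pos (by show 0 + 1 < m + 2; omega)]
        have e1 : (⟨(0 : Fin (m + 2)).val + 1, by show 0 + 1 < m + 2; omega⟩ : Fin (m + 2)) ≠ 0 := by
          intro e0
          have := congrArg Fin.val e0
          simp at this
        have e2 : (⟨(⟨(0 : Fin (m + 2)).val + 1, by show 0 + 1 < m + 2; omega⟩ : Fin (m + 2)).val - 1,
            by show 0 + 1 - 1 < m + 2; omega⟩ : Fin (m + 2)) = 0 := Fin.ext (by show 0 + 1 - 1 = 0; omega)
        show δ kk * ((Pi.single (0 : Fin (m + 2)) (ν / (δ kk * δ 0)) : Fin (m + 2) → F)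
          ⟨(0 : Fin (m + 2)).val + 1, by show 0 + 1 < m + 2; omega⟩ + _) = _
        rw [Pi.single_eq_of_ne e1, dif_pos (by show 0 < 0 + 1; omega), e2, Pi.single_eq_same,
          Pi.single_eq_same]
        have hd0 := hδ 0
        field_simp
        ring
      · rw [Pi.single_eq_of_ne ha]
        split_ifs with h'
        · have e1 : (⟨a.val + 1, h'⟩ : Fin (m + 2)) ≠ 0 := by
            intro e0
            have := congrArg Fin.val e0
            simp at this
          have e2 : (⟨(⟨a.val + 1, h'⟩ : Fin (m + 2)).val - 1,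
              by show a.val + 1 - 1 < m + 2; omega⟩ : Fin (m + 2)) = a :=
            Fin.ext (by show a.val + 1 - 1 = a.val; omega)
          show δ kk * ((Pi.single (0 : Fin (m + 2)) (ν / (δ kk * δ 0)) : Fin (m + 2) → F)
            ⟨a.val + 1, h'⟩ + _) = _
          rw [Pi.single_eq_of_ne e1, dif_pos (by show 0 < a.val + 1; omega), e2,
            Pi.single_eq_of_ne ha]
          ring
        · rfl
    rw [e] at h1
    exact h1
  -- (b): from `e_a` to `e_{a+1}`
  have stepB : ∀ (a : Fin (m + 2)) (ha : a.val ≤ k),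
      (∀ ν : F, (Pi.single a ν : Fin (m + 2) → F) ∈ CC) →
      ∀ ν : F, (Pi.single (⟨a.val + 1, by omega⟩ : Fin (m + 2)) ν : Fin (m + 2) → F) ∈ CC := by
    intro a ha hprev ν
    have ht : ∀ b : Fin (m + 2), k < b.val →
        (Pi.single a (ν / (δ kk * δ a)) : Fin (m + 2) → F) b = 0 := by
      intro b hb
      rw [Pi.single_apply, if_neg]
      intro e0
      rw [e0] at hb
      omega
    have h1 := keyC _ ht
    have h2 := hprev (δ kk * (ν / (δ kk * δ a)))
    have h3 := CC.sub_mem h1 h2
    have e : (fun b : Fin (m + 2) => δ kk * ((Pi.single a (ν / (δ kk * δ a)) : Fin (m + 2) → F) b +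
        if h : 0 < b.val then δ ⟨b.val - 1, by have := b.2; omega⟩ *
          (Pi.single a (ν / (δ kk * δ a)) : Fin (m + 2) → F) ⟨b.val - 1, by have := b.2; omega⟩
        else 0)) - (Pi.single a (δ kk * (ν / (δ kk * δ a))) : Fin (m + 2) → F) =
        (Pi.single (⟨a.val + 1, by omega⟩ : Fin (m + 2)) ν : Fin (m + 2) → F) := by
      funext b
      rw [Pi.sub_apply]
      have hda := hδ a
      by_cases hb : b = ⟨a.val + 1, by omega⟩
      · have hba : b ≠ a := by
          intro e0
          rw [e0] at hb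
          have := congrArg Fin.val hb
          simp at this
        have hb0 : 0 < b.val := by rw [hb]; show 0 < a.val + 1; omega
        have e2 : (⟨b.val - 1, by have := b.2; omega⟩ : Fin (m + 2)) = a := by
          apply Fin.ext
          show b.val - 1 = a.val
          rw [hb]
          show a.val + 1 - 1 = a.val
          omega
        have r1 : ∀ q : Fin (m + 2), b = q → (Pi.single q ν : Fin (m + 2) → F) b = ν := by
          intro q hq
          rw [hq]
          exact Pi.single_eq_same _ _
        rw [r1 _ hb, Pi.single_eq_of_ne hba, Pi.single_eq_of_ne hba, dif_pos hb0, e2,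
          Pi.single_eq_same]
        field_simp
        ring
      · have r1 : (Pi.single (⟨a.val + 1, by omega⟩ : Fin (m + 2)) ν : Fin (m + 2) → F) b = 0 :=
          Pi.single_eq_of_ne hb _
        have r2 : (if h : 0 < b.val then δ ⟨b.val - 1, by have := b.2; omega⟩ *
            (Pi.single a (ν / (δ kk * δ a)) : Fin (m + 2) → F) ⟨b.val - 1, by have := b.2; omega⟩
            else 0) = 0 := by
          split_ifs with h1
          · rw [Pi.single_eq_of_ne, mul_zero]
            intro e0
            apply hb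
            apply Fin.ext
            have := congrArg Fin.val e0
            show b.val = a.val + 1
            simp only [] at this
            omega
          · rfl
        rw [r1, r2, add_zero]
        by_cases hba : b = a
        · rw [hba, Pi.single_eq_same, Pi.single_eq_same, sub_self]
        · rw [Pi.single_eq_of_ne hba, Pi.single_eq_of_ne hba, mul_zero, sub_zero]
    rw [e] at h3
    exact h3
  -- (c): all `e_j`, `j ≤ k + 1`
  have stepC : ∀ (j : ℕ) (hj : j ≤ k + 1),
      ∀ ν : F, (Pi.single (⟨j, by omega⟩ : Fin (m + 2)) ν : Fin (m + 2) → F) ∈ CC := by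
    intro j
    induction j with
    | zero =>
      intro _ ν
      exact stepA ν
    | succ j ih =>
      intro hj ν
      exact stepB ⟨j, by omega⟩ (by show j ≤ k; omega) (ih (by omega)) ν
  have hall : ∀ c : Fin (m + 2) → F, (∀ a : Fin (m + 2), k + 1 < a.val → c a = 0) → c ∈ CC := by
    intro c hc
    rw [← Finset.univ_sum_single c]
    apply AddSubgroup.sum_mem
    intro a _
    by_cases ha : a.val ≤ k + 1
    · exact stepC a.val ha (c a)
    · rw [hc a (by omega), Pi.single_zero]
      exact CC.zero_mem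
  -- conclusion
  apply keyA' S hS
  have hc : (fun a => S a κ) ∈ CC := hall _ (fun a ha => hS.2 _ _ (Or.inl ha))
  exact ((memCC _).1 hc).2

end Cfsg.Agent.Lib.Helper74.RSp
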