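import Mathlib
import Cfsg.Agent.Lib.Helper20.SylowNormal

set_option autoImplicit false

/-!
Subgroups generated by small classes (Isaacs, Mann): if `A` is a normal abelian subgroup and `x`
has the smallest noncentral class size, then `[A, x]` is central.  Consequently, if `A` is also
self-centralizing, the subgroup generated by the elements of the two smallest class sizes is
nilpotent of class at most three.
-/

namespace Cfsg.Agent.Lib.Helper74

open scoped commutatorElement

variable {G : Type*} [Group G]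

theorem relIndex_inf_conj_lt [Finite G] (A : Subgroup G) [hAn : A.Normal] (x a : G) (ha : a ∈ A)
    (hax : a ∉ Subgroup.centralizer ({x} : Set G)) :
    (Subgroup.centralizer ({x} : Set G) ⊓ Subgroup.centralizer ({a * x * a⁻¹} : Set G)).relIndex
        (Subgroup.centralizer ({x} : Set G)) <
      (A ⊓ Subgroup.centralizer ({x} : Set G)).relIndex A := by
  classical
  set H := Subgroup.centralizer ({x} : Set G) with hH
  set H' := Subgroup.centralizer ({a * x * a⁻¹} : Set G) with hH'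
  have memH : ∀ k : G, k ∈ H ↔ k * x = x * k := fun k => Subgroup.mem_centralizer_singleton_iff
  have memH' : ∀ k : G, k ∈ H' ↔ a⁻¹ * k * a ∈ H := by
    intro k
    rw [hH', Subgroup.mem_centralizer_singleton_iff, memH]
    constructor
    · intro h
      calc a⁻¹ * k * a * x = a⁻¹ * (k * (a * x * a⁻¹)) * a := by group
        _ = a⁻¹ * ((a * x * a⁻¹) * k) * a := by rw [h]
        _ = x * (a⁻¹ * k * a) := by group
    · intro h
      calc k * (a * x * a⁻¹) = a * ((a⁻¹ * k * a) * x) * a⁻¹ := by group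
        _ = a * (x * (a⁻¹ * k * a)) * a⁻¹ := by rw [h]
        _ = a * x * a⁻¹ * k := by group
  rw [Subgroup.relIndex, Subgroup.relIndex, Subgroup.index_eq_card, Subgroup.index_eq_card]
  -- the map on cosets
  have key : ∀ h₁ h₂ : ↥H, ((h₁ : G) * a * (h₁ : G)⁻¹)⁻¹ * ((h₂ : G) * a * (h₂ : G)⁻¹) ∈ H ↔
      a⁻¹ * ((h₁ : G)⁻¹ * (h₂ : G)) * a ∈ H := by
    intro h₁ h₂
    have e : ((h₁ : G) * a * (h₁ : G)⁻¹)⁻¹ * ((h₂ : G) * a * (h₂ : G)⁻¹) =
        (h₁ : G) * (a⁻¹ * ((h₁ : G)⁻¹ * (h₂ : G)) * a) * (h₂ : G)⁻¹ := by group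
    rw [e]
    constructor
    · intro h
      have := H.mul_mem (H.mul_mem (H.inv_mem h₁.2) h) h₂.2
      have e2 : (h₁ : G)⁻¹ * ((h₁ : G) * (a⁻¹ * ((h₁ : G)⁻¹ * (h₂ : G)) * a) * (h₂ : G)⁻¹) * (h₂ : G) =
          a⁻¹ * ((h₁ : G)⁻¹ * (h₂ : G)) * a := by group
      rwa [e2] at this
    · intro h
      exact H.mul_mem (H.mul_mem h₁.2 h) (H.inv_mem h₂.2)
  let f : ↥H ⧸ (H ⊓ H').subgroupOf H → ↥A ⧸ (A ⊓ H).subgroupOf A := fun q =>
    Quotient.liftOn' q
      (fun h => (QuotientGroup.mk (⟨(h : G) * a * (h : G)⁻¹, hAn.conj_mem a ha h⟩ : ↥A) :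
        ↥A ⧸ (A ⊓ H).subgroupOf A))
      (by
        intro h₁ h₂ hrel
        rw [QuotientGroup.leftRel_apply, Subgroup.mem_subgroupOf] at hrel
        rw [QuotientGroup.eq, Subgroup.mem_subgroupOf]
        refine ⟨?_, ?_⟩
        · exact A.mul_mem (A.inv_mem (hAn.conj_mem a ha h₁)) (hAn.conj_mem a ha h₂)
        · have h2 := hrel.2
          simp only [Subgroup.coe_mul, Subgroup.coe_inv] at h2
          exact (key h₁ h₂).mpr ((memH' _).mp h2))
  have hf : Function.Injective f := by
    intro q₁ q₂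
    induction q₁ using Quotient.inductionOn' with | _ h₁ => ?_
    induction q₂ using Quotient.inductionOn' with | _ h₂ => ?_
    intro h
    simp only [f, Quotient.liftOn'_mk''] at h
    rw [QuotientGroup.eq, Subgroup.mem_subgroupOf] at h
    simp only [Subgroup.coe_mul, Subgroup.coe_inv] at h
    have h2 := (key h₁ h₂).mp h.2
    apply Quotient.sound'
    rw [QuotientGroup.leftRel_apply, Subgroup.mem_subgroupOf]
    simp only [Subgroup.coe_mul, Subgroup.coe_inv]
    exact ⟨H.mul_mem (H.inv_mem h₁.2) h₂.2, (memH' _).mpr h2⟩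
  have hnot : (QuotientGroup.mk (1 : ↥A) : ↥A ⧸ (A ⊓ H).subgroupOf A) ∉ Set.range f := by
    rintro ⟨q, hq⟩
    induction q using Quotient.inductionOn' with | _ h => ?_
    simp only [f, Quotient.liftOn'_mk''] at hq
    rw [QuotientGroup.eq, Subgroup.mem_subgroupOf] at hq
    simp only [Subgroup.coe_inv, mul_one] at hq
    have h1 : (h : G) * a * (h : G)⁻¹ ∈ H := by
      have := H.inv_mem hq.2
      simpa using this
    apply hax
    have h2 := H.mul_mem (H.mul_mem (H.inv_mem h.2) h1) h.2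
    have e : (h : G)⁻¹ * ((h : G) * a * (h : G)⁻¹) * (h : G) = a := by group
    rwa [e] at h2
  have : Fintype (↥H ⧸ (H ⊓ H').subgroupOf H) := Fintype.ofFinite _
  have : Fintype (↥A ⧸ (A ⊓ H).subgroupOf A) := Fintype.ofFinite _
  rw [Nat.card_eq_fintype_card, Nat.card_eq_fintype_card]
  exact Fintype.card_lt_of_injective_of_notMem f hf hnot

/-- **Key lemma.** If `x` has the smallest noncentral class size and `A` is a normal abelian
subgroup, then the commutators of `x` with elements of `A` are central. -/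
theorem commutator_mem_center_of_min_class [Finite G] (A : Subgroup G) [hAn : A.Normal]
    (hA : ∀ u ∈ A, ∀ v ∈ A, u * v = v * u) (m : ℕ)
    (hmin : ∀ g : G, 1 < (Subgroup.centralizer ({g} : Set G)).index →
      m ≤ (Subgroup.centralizer ({g} : Set G)).index)
    (x : G) (hx : (Subgroup.centralizer ({x} : Set G)).index = m) (a : G) (ha : a ∈ A) :
    a * x * a⁻¹ * x⁻¹ ∈ Subgroup.center G := by
  by_cases hax : a ∈ Subgroup.centralizer ({x} : Set G)
  · rw [Subgroup.mem_centralizer_singleton_iff] at hax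
    have : a * x * a⁻¹ * x⁻¹ = 1 := by rw [hax]; group
    rw [this]; exact Subgroup.one_mem _
  set H := Subgroup.centralizer ({x} : Set G) with hH
  set H' := Subgroup.centralizer ({a * x * a⁻¹} : Set G) with hH'
  set b := a * x * a⁻¹ * x⁻¹ with hb
  set C := Subgroup.centralizer ({b} : Set G) with hC
  have hlt := relIndex_inf_conj_lt A x a ha hax
  rw [← hH, ← hH'] at hlt
  -- `A ≤ C`
  have hbA : b ∈ A := by
    have : b = a * (x * a⁻¹ * x⁻¹) := by rw [hb]; group
    rw [this]
    exact A.mul_mem ha (hAn.conj_mem _ (A.inv_mem ha) x)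
  have hAC : A ≤ C := by
    intro u hu
    rw [hC, Subgroup.mem_centralizer_singleton_iff]
    exact hA u hu b hbA
  have hDC : H ⊓ H' ≤ C := by
    intro k hk
    have h1 : k * x = x * k := Subgroup.mem_centralizer_singleton_iff.mp hk.1
    have h2 : k * (a * x * a⁻¹) = (a * x * a⁻¹) * k := Subgroup.mem_centralizer_singleton_iff.mp hk.2
    rw [hC, Subgroup.mem_centralizer_singleton_iff, hb]
    have h3 : k * x⁻¹ = x⁻¹ * k := by
      calc k * x⁻¹ = x⁻¹ * (x * k) * x⁻¹ := by group
        _ = x⁻¹ * (k * x) * x⁻¹ := by rw [h1]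
        _ = x⁻¹ * k := by group
    calc k * (a * x * a⁻¹ * x⁻¹) = (k * (a * x * a⁻¹)) * x⁻¹ := by group
      _ = (a * x * a⁻¹) * (k * x⁻¹) := by rw [h2]; group
      _ = a * x * a⁻¹ * x⁻¹ * k := by rw [h3]; group
  -- `(H ⊓ H') ⊓ A = A ⊓ H`
  have hinf : (H ⊓ H') ⊓ A = A ⊓ H := by
    apply le_antisymm
    · intro k hk
      exact ⟨hk.2, hk.1.1⟩
    · intro k hk
      refine ⟨⟨hk.2, ?_⟩, hk.1⟩
      have h1 : k * x = x * k := Subgroup.mem_centralizer_singleton_iff.mp hk.2
      have h2 : k * a = a * k := hA k hk.1 a ha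
      have h3 : k * a⁻¹ = a⁻¹ * k := by
        calc k * a⁻¹ = a⁻¹ * (a * k) * a⁻¹ := by group
          _ = a⁻¹ * (k * a) * a⁻¹ := by rw [h2]
          _ = a⁻¹ * k := by group
      apply Subgroup.mem_centralizer_singleton_iff.mpr
      calc k * (a * x * a⁻¹) = (k * a) * x * a⁻¹ := by group
        _ = a * (k * x) * a⁻¹ := by rw [h2]; group
        _ = a * x * (k * a⁻¹) := by rw [h1]; group
        _ = a * x * a⁻¹ * k := by rw [h3]; group
  -- index arithmetic
  have e1 : (H ⊓ H').relIndex H * H.index = (H ⊓ H').index := Subgroup.relIndex_mul_index inf_le_left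
  have e2 : (H ⊓ H').relIndex (H ⊓ H' ⊔ A) * (H ⊓ H' ⊔ A).index = (H ⊓ H').index :=
    Subgroup.relIndex_mul_index le_sup_left
  have e3 : (H ⊓ H').relIndex (H ⊓ H' ⊔ A) = (A ⊓ H).relIndex A := by
    rw [Cfsg.Agent.Lib.Helper20.relIndex_sup_eq_relIndex_inf, hinf]
  have hEC : H ⊓ H' ⊔ A ≤ C := sup_le hDC hAC
  have hCE : C.index ≤ (H ⊓ H' ⊔ A).index :=
    Nat.le_of_dvd (Nat.pos_of_ne_zero Subgroup.index_ne_zero_of_finite) (Subgroup.index_dvd_of_le hEC)
  have hmpos : 0 < H.index := Nat.pos_of_ne_zero Subgroup.index_ne_zero_of_finite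
  have hElt : (H ⊓ H' ⊔ A).index < H.index := by
    by_contra hge
    push Not at hge
    have h1 : (A ⊓ H).relIndex A * H.index ≤ (A ⊓ H).relIndex A * (H ⊓ H' ⊔ A).index :=
      Nat.mul_le_mul_left _ hge
    rw [← e3, e2, ← e1] at h1
    have h2 : (H ⊓ H').relIndex H * H.index < (A ⊓ H).relIndex A * H.index :=
      Nat.mul_lt_mul_of_pos_right hlt hmpos
    rw [← e3] at h2
    omega
  have hClt : C.index < m := by rw [← hx]; exact lt_of_le_of_lt hCE hElt
  have hC1 : C.index = 1 := by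
    by_contra hne
    have hpos : 0 < C.index := Nat.pos_of_ne_zero Subgroup.index_ne_zero_of_finite
    have h1 : 1 < C.index := by omega
    have h2 : m ≤ C.index := hmin b h1
    omega
  have hCtop : C = ⊤ := Subgroup.index_eq_one.mp hC1
  rw [Subgroup.mem_center_iff]
  intro g
  have : g ∈ C := by rw [hCtop]; trivial
  exact Subgroup.mem_centralizer_singleton_iff.mp this

/-- The elements whose commutators with all elements of `A` are central. -/
def centralCommSubgroup (A : Subgroup G) : Subgroup G where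
  carrier := {w | ∀ a ∈ A, a * w * a⁻¹ * w⁻¹ ∈ Subgroup.center G}
  one_mem' := by
    intro a _
    have : a * 1 * a⁻¹ * (1 : G)⁻¹ = 1 := by group
    rw [this]; exact Subgroup.one_mem _
  mul_mem' := by
    intro w₁ w₂ h₁ h₂ a ha
    have e : a * (w₁ * w₂) * a⁻¹ * (w₁ * w₂)⁻¹ =
        (a * w₁ * a⁻¹ * w₁⁻¹) * (w₁ * (a * w₂ * a⁻¹ * w₂⁻¹) * w₁⁻¹) := by group
    rw [e]
    exact Subgroup.mul_mem _ (h₁ a ha) ((Subgroup.center G).normal_of_characteristic.conj_mem _ (h₂ a ha) w₁)
  inv_mem' := by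
    intro w h a ha
    have e : a * w⁻¹ * a⁻¹ * w⁻¹⁻¹ = w⁻¹ * (a * w * a⁻¹ * w⁻¹)⁻¹ * w⁻¹⁻¹ := by group
    rw [e]
    exact (Subgroup.center G).normal_of_characteristic.conj_mem _ (Subgroup.inv_mem _ (h a ha)) w⁻¹

theorem mem_centralCommSubgroup (A : Subgroup G) (w : G) :
    w ∈ centralCommSubgroup A ↔ ∀ a ∈ A, a * w * a⁻¹ * w⁻¹ ∈ Subgroup.center G := Iff.rfl

/-- Commutators of elements of `centralCommSubgroup A` centralize `A`. -/
theorem commutator_mem_centralizer_of_mem_centralCommSubgroup (A : Subgroup G)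
    (u v : G) (hu : u ∈ centralCommSubgroup A) (hv : v ∈ centralCommSubgroup A) :
    ⁅u, v⁆ ∈ Subgroup.centralizer (A : Set G) := by
  -- it suffices to treat `u⁻¹ * v⁻¹ * u * v`, applied to inverses
  have main : ∀ u v : G, u ∈ centralCommSubgroup A → v ∈ centralCommSubgroup A →
      ∀ a ∈ A, (u * v) * a * (u * v)⁻¹ = (v * u) * a * (v * u)⁻¹ := by
    intro u v hu hv a ha
    have hzu : u * a * u⁻¹ * a⁻¹ ∈ Subgroup.center G := by
      have := Subgroup.inv_mem _ (hu a ha)
      have e : (a * u * a⁻¹ * u⁻¹)⁻¹ = u * a * u⁻¹ * a⁻¹ := by group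
      rwa [e] at this
    have hzv : v * a * v⁻¹ * a⁻¹ ∈ Subgroup.center G := by
      have := Subgroup.inv_mem _ (hv a ha)
      have e : (a * v * a⁻¹ * v⁻¹)⁻¹ = v * a * v⁻¹ * a⁻¹ := by group
      rwa [e] at this
    obtain ⟨zu, cu, hu'⟩ : ∃ z : G, (∀ g, g * z = z * g) ∧ u * a * u⁻¹ = z * a :=
      ⟨u * a * u⁻¹ * a⁻¹, Subgroup.mem_center_iff.mp hzu, by group⟩
    obtain ⟨zv, cv, hv'⟩ : ∃ z : G, (∀ g, g * z = z * g) ∧ v * a * v⁻¹ = z * a :=
      ⟨v * a * v⁻¹ * a⁻¹, Subgroup.mem_center_iff.mp hzv, by group⟩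
    calc u * v * a * (u * v)⁻¹ = u * (v * a * v⁻¹) * u⁻¹ := by group
      _ = u * (zv * a) * u⁻¹ := by rw [hv']
      _ = (u * zv) * (a * u⁻¹) := by group
      _ = zv * u * (a * u⁻¹) := by rw [cv u]
      _ = zv * (u * a * u⁻¹) := by group
      _ = zv * (zu * a) := by rw [hu']
      _ = zu * zv * a := by rw [← mul_assoc, cu zv]
      _ = zu * (zv * a) := by group
      _ = zu * (v * a * v⁻¹) := by rw [hv']
      _ = (zu * v) * (a * v⁻¹) := by group
      _ = (v * zu) * (a * v⁻¹) := by rw [cu v]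
      _ = v * (zu * a) * v⁻¹ := by group
      _ = v * (u * a * u⁻¹) * v⁻¹ := by rw [hu']
      _ = v * u * a * (v * u)⁻¹ := by group
  rw [Subgroup.mem_centralizer_iff]
  intro a ha
  have h := main u⁻¹ v⁻¹ (Subgroup.inv_mem _ hu) (Subgroup.inv_mem _ hv) a ha
  rw [commutatorElement_def]
  calc a * (u * v * u⁻¹ * v⁻¹)
      = (u * v) * ((v⁻¹ * u⁻¹) * a * (v⁻¹ * u⁻¹)⁻¹) * (u⁻¹ * v⁻¹) := by group
    _ = (u * v) * ((u⁻¹ * v⁻¹) * a * (u⁻¹ * v⁻¹)⁻¹) * (u⁻¹ * v⁻¹) := by rw [h]
    _ = u * v * u⁻¹ * v⁻¹ * a := by group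

/-- **Core lemma.** Let `A` be a normal abelian self-centralizing subgroup and `m` a lower bound for
the noncentral class sizes.  Then triple commutators of elements of the subgroup generated by the
classes of sizes `1` and `m` are central. -/
theorem triple_commutator_mem_center [Finite G] (A : Subgroup G) [hAn : A.Normal]
    (hA : ∀ u ∈ A, ∀ v ∈ A, u * v = v * u) (hCA : Subgroup.centralizer (A : Set G) = A) (m : ℕ)
    (hmin : ∀ g : G, 1 < (Subgroup.centralizer ({g} : Set G)).index →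
      m ≤ (Subgroup.centralizer ({g} : Set G)).index)
    (u v w : G)
    (hu : u ∈ Subgroup.closure {x : G | (Subgroup.centralizer ({x} : Set G)).index = 1 ∨
      (Subgroup.centralizer ({x} : Set G)).index = m})
    (hv : v ∈ Subgroup.closure {x : G | (Subgroup.centralizer ({x} : Set G)).index = 1 ∨
      (Subgroup.centralizer ({x} : Set G)).index = m})
    (hw : w ∈ Subgroup.closure {x : G | (Subgroup.centralizer ({x} : Set G)).index = 1 ∨
      (Subgroup.centralizer ({x} : Set G)).index = m}) :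
    ⁅⁅u, v⁆, w⁆ ∈ Subgroup.center G := by
  have hle : Subgroup.closure {x : G | (Subgroup.centralizer ({x} : Set G)).index = 1 ∨
      (Subgroup.centralizer ({x} : Set G)).index = m} ≤ centralCommSubgroup A := by
    rw [Subgroup.closure_le]
    intro x hx a ha
    rcases hx with hx | hx
    · have hxtop : Subgroup.centralizer ({x} : Set G) = ⊤ := Subgroup.index_eq_one.mp hx
      have hax : a ∈ Subgroup.centralizer ({x} : Set G) := by rw [hxtop]; trivial
      rw [Subgroup.mem_centralizer_singleton_iff] at hax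
      have : a * x * a⁻¹ * x⁻¹ = 1 := by rw [hax]; group
      rw [this]; exact Subgroup.one_mem _
    · exact commutator_mem_center_of_min_class A hA m hmin x hx a ha
  have hc : ⁅u, v⁆ ∈ A := by
    rw [← hCA]
    exact commutator_mem_centralizer_of_mem_centralCommSubgroup A u v (hle hu) (hle hv)
  have := hle hw _ hc
  rwa [commutatorElement_def]

/-- If all triple commutators of elements of a subgroup `M` are central in `G`, then `M` has
nilpotency class at most three. -/
theorem upperCentralSeries_three_eq_top_of_triple (M : Subgroup G)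
    (h : ∀ u ∈ M, ∀ v ∈ M, ∀ w ∈ M, ⁅⁅u, v⁆, w⁆ ∈ Subgroup.center G) :
    Subgroup.upperCentralSeries ↥M 3 = ⊤ := by
  rw [eq_top_iff]
  intro u _
  rw [Subgroup.mem_upperCentralSeries_succ_iff]
  intro v
  rw [Subgroup.mem_upperCentralSeries_succ_iff]
  intro w
  rw [Subgroup.upperCentralSeries_one, Subgroup.mem_center_iff]
  intro g
  have := Subgroup.mem_center_iff.mp (h u u.2 v v.2 w w.2) g
  apply Subtype.ext
  simpa [commutatorElement_def] using this

theorem upperCentralSeries_three_eq_top_of_triple_top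
    (h : ∀ u v w : G, ⁅⁅u, v⁆, w⁆ ∈ Subgroup.center G) :
    Subgroup.upperCentralSeries G 3 = ⊤ := by
  rw [eq_top_iff]
  intro u _
  rw [Subgroup.mem_upperCentralSeries_succ_iff]
  intro v
  rw [Subgroup.mem_upperCentralSeries_succ_iff]
  intro w
  rw [Subgroup.upperCentralSeries_one]
  exact h u v w

end Cfsg.Agent.Lib.Helper74
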