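import Mathlib
import Cfsg.Prelude.Def_ClassicalGeometry
import Cfsg.Agent.Lib.Helper48.Sp2GDefs

set_option autoImplicit false

namespace Cfsg.Agent.Lib.Helper74.Sp2G

open Matrix Cfsg.Agent.Lib.Helper48.RSp Cfsg.Agent.Lib.Helper48.Sp2G Cfsg.Agent.Lib.Helper18

section
variable {m : ℕ} {F : Type*} [Field F]

theorem c_diag_mul_single (d : Fin (m + 2) → F) (i j : Fin (m + 2)) (c : F) :
    Matrix.diagonal d * Matrix.single i j c = Matrix.single i j (d i * c) := by
  ext a b
  rw [Matrix.diagonal_mul]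
  simp only [Matrix.single_apply]
  split_ifs with h
  · rw [h.1]
  · simp

theorem c_single_mul_diag (d : Fin (m + 2) → F) (i j : Fin (m + 2)) (c : F) :
    Matrix.single i j c * Matrix.diagonal d = Matrix.single i j (c * d j) := by
  ext a b
  rw [Matrix.mul_diagonal]
  simp only [Matrix.single_apply]
  split_ifs with h
  · rw [h.2]
  · simp

theorem c_zero_ne_one : (0 : Fin (m + 2)) ≠ 1 := by
  intro h
  have := congrArg Fin.val h
  simp at this

theorem c_last_ne_zero : (Fin.last (m + 1) : Fin (m + 2)) ≠ 0 := by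
  intro h
  have := congrArg Fin.val h
  simp at this

/-- the diagonal `(1, k, 1, …, 1)` -/
def d1 (m : ℕ) (k : F) : Fin (m + 2) → F := fun j => if j = 1 then k else 1

/-- `l(diag d₁)` -/
def lD1 (m : ℕ) (k : F) : BM m F :=
  Matrix.fromBlocks (Matrix.diagonal (d1 m k)) 0 0 (Matrix.diagonal (d1 m k⁻¹))

/-- the conjugate `b (hT k) b⁻¹` -/
def Ymat (m : ℕ) (k : F) : BM m F :=
  Matrix.fromBlocks (Matrix.diagonal (d1 m k) + Matrix.single 0 1 (k - 1)) 0 0
    (Matrix.diagonal (d1 m k⁻¹) - Matrix.single 1 0 ((k - 1) / k))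

theorem c_Nup_diag (k : F) :
    (Nup m F)ᵀ * Matrix.diagonal (kvec m k) = Matrix.diagonal (d1 m k) * (Nup m F)ᵀ := by
  ext i j
  rw [Matrix.mul_diagonal, Matrix.diagonal_mul]
  simp only [Matrix.transpose_apply, Nup, kvec, d1]
  by_cases h : j.val + 1 = i.val
  · have hiff : j = 0 ↔ i = 1 := by
      constructor
      · intro hj
        apply Fin.ext
        rw [← h, hj]
        simp
      · intro hi
        apply Fin.ext
        have : i.val = 1 := by rw [hi]; simp
        rw [Fin.val_zero]
        omega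
    by_cases hj : j = 0
    · simp [hj, hiff.1 hj]
    · have hi : ¬ i = 1 := fun hi => hj (hiff.2 hi)
      simp [h, hj, hi]
  · simp [h]

theorem c_wC_hT (k : F) : wC m F * hT m k = lD1 m k * wC m F := by
  unfold wC hT lD1
  rw [Matrix.fromBlocks_multiply, Matrix.fromBlocks_multiply]
  simp only [Matrix.mul_zero, Matrix.zero_mul, add_zero, zero_add, Matrix.neg_mul, Matrix.mul_neg]
  rw [c_Nup_diag, c_Nup_diag, c_single_mul_diag, c_single_mul_diag, c_diag_mul_single,
    c_diag_mul_single]
  simp [kvec, d1, c_last_ne_zero, c_zero_ne_one]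

theorem c_sx_lD1 (k : F) (hk0 : k ≠ 0) : sx m (1 : F) * lD1 m k = Ymat m k * sx m (1 : F) := by
  unfold sx lD1 Ymat
  rw [Matrix.fromBlocks_multiply, Matrix.fromBlocks_multiply]
  simp only [Matrix.mul_zero, Matrix.zero_mul, add_zero, zero_add]
  congr 1
  · simp only [Matrix.add_mul, Matrix.mul_add, Matrix.one_mul, Matrix.mul_one,
      c_single_mul_diag, c_diag_mul_single, Matrix.single_mul_single_of_ne _ _ _ _ c_zero_ne_one.symm]
    simp only [d1, c_zero_ne_one, if_true, if_false]
    rw [add_zero, add_assoc, ← Matrix.single_add]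
    congr 2
    ring
  · simp only [Matrix.sub_mul, Matrix.mul_sub, Matrix.one_mul, Matrix.mul_one,
      c_single_mul_diag, c_diag_mul_single, Matrix.single_mul_single_of_ne _ _ _ _ c_zero_ne_one]
    simp only [d1, c_zero_ne_one, if_true, if_false]
    rw [sub_zero, sub_sub, ← Matrix.single_add]
    congr 2
    field_simp
    ring

theorem c_hT_Y (k : F) (hk0 : k ≠ 0) :
    hT m k * Ymat m k = sx m ((k - 1) ^ 2 / k) * Ymat m k * hT m k := by
  unfold sx hT Ymat
  rw [Matrix.fromBlocks_multiply, Matrix.fromBlocks_multiply, Matrix.fromBlocks_multiply]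
  simp only [Matrix.mul_zero, Matrix.zero_mul, add_zero, zero_add]
  congr 1
  · simp only [Matrix.add_mul, Matrix.mul_add, Matrix.one_mul, Matrix.mul_one,
      c_single_mul_diag, c_diag_mul_single, Matrix.single_mul_single_of_ne _ _ _ _ c_zero_ne_one.symm,
      Matrix.diagonal_mul_diagonal]
    simp only [d1, kvec, c_zero_ne_one, c_zero_ne_one.symm, if_true, if_false]
    rw [Matrix.zero_mul, add_zero, add_assoc, ← Matrix.single_add]
    congr 1
    · congr 1
      funext j
      ring
    · congr 1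
      field_simp
      ring
  · simp only [Matrix.sub_mul, Matrix.mul_sub, Matrix.one_mul, Matrix.mul_one,
      c_single_mul_diag, c_diag_mul_single, Matrix.single_mul_single_of_ne _ _ _ _ c_zero_ne_one,
      Matrix.diagonal_mul_diagonal]
    simp only [d1, kvec, c_zero_ne_one, c_zero_ne_one.symm, if_true, if_false]
    rw [Matrix.zero_mul, sub_zero, sub_sub, ← Matrix.single_add]
    congr 1
    · congr 1
      funext j
      ring
    · congr 1
      field_simp
      ring

end

theorem inG_sx_of {m : ℕ} {F : Type*} [Field F] {G : Subgroup (SpG m F)} (k : F) (hk0 : k ≠ 0)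
    (hh : InG G (hT m k)) (hB : InG G (sx m (1 : F) * wC m F)) :
    InG G (sx m ((k - 1) ^ 2 / k)) := by
  have hconj : (sx m (1 : F) * wC m F) * hT m k = Ymat m k * (sx m (1 : F) * wC m F) := by
    rw [Matrix.mul_assoc, c_wC_hT, ← Matrix.mul_assoc, c_sx_lD1 k hk0, Matrix.mul_assoc]
  have hY : InG G (Ymat m k) := inG_of_conj hB hh hconj
  have h1 : InG G (hT m k * Ymat m k) := inG_mul hh hY
  rw [c_hT_Y k hk0, Matrix.mul_assoc] at h1
  exact inG_of_mul_right (inG_mul hY hh) h1

end Cfsg.Agent.Lib.Helper74.Sp2G
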