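import Mathlib
import Cfsg.Prelude.Def_ClassicalGeometry
import Cfsg.Agent.Lib.Helper48.Sp2GDefs

set_option autoImplicit false

namespace Cfsg.Agent.Lib.Helper74.Sp2G

open Matrix Cfsg.Agent.Lib.Helper48.RSp Cfsg.Agent.Lib.Helper48.Sp2G Cfsg.Agent.Lib.Helper18

section
variable {m : ℕ} {F : Type*} [Field F]

local notation "V" => (Fin (m + 2) ⊕ Fin (m + 2) → F)

theorem l1_f_eI (v : V) (j : Fin (m + 2)) :
    Cfsg.sympForm (m + 2) F v (eI j) = v (Sum.inr j) := sf_single_inl (m + 2) v j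

theorem l1_f_fI (v : V) (j : Fin (m + 2)) :
    Cfsg.sympForm (m + 2) F v (fI j) = - v (Sum.inl j) := sf_single_inr (m + 2) v j

@[simp] theorem l1_eI_inl (i j : Fin (m + 2)) :
    (eI j : V) (Sum.inl i) = if i = j then 1 else 0 := by
  simp [eI, Pi.single_apply]

@[simp] theorem l1_eI_inr (i j : Fin (m + 2)) : (eI j : V) (Sum.inr i) = 0 := by
  simp [eI]

@[simp] theorem l1_fI_inl (i j : Fin (m + 2)) : (fI j : V) (Sum.inl i) = 0 := by
  simp [fI]

@[simp] theorem l1_fI_inr (i j : Fin (m + 2)) :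
    (fI j : V) (Sum.inr i) = if i = j then 1 else 0 := by
  simp [fI, Pi.single_apply]

theorem l1_succ_ne (j : Fin (m + 2)) (hj : j.val + 1 < m + 2) :
    (⟨j.val + 1, hj⟩ : Fin (m + 2)) ≠ j := by
  intro h
  have := congrArg Fin.val h
  simp at this

theorem l1_plane (T : Set V)
    (hhyp : ∀ v ∈ T, ∀ w ∈ T, Cfsg.sympForm (m + 2) F v w ≠ 0 → ∀ s : F, v + s • w ∈ T)
    (he : ∀ j : Fin (m + 2), (eI j : V) ∈ T)
    (hf : ∀ j : Fin (m + 2), (fI j : V) ∈ T) (j : Fin (m + 2)) (r : F) :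
    (fI j + r • eI j : V) ∈ T := by
  apply hhyp _ (hf j) _ (he j)
  rw [l1_f_eI]
  simp

theorem l1_step_up (T : Set V)
    (hhyp : ∀ v ∈ T, ∀ w ∈ T, Cfsg.sympForm (m + 2) F v w ≠ 0 → ∀ s : F, v + s • w ∈ T)
    (he : ∀ j : Fin (m + 2), (eI j : V) ∈ T)
    (hf : ∀ j : Fin (m + 2), (fI j : V) ∈ T)
    (hadj : ∀ (j : Fin (m + 2)) (hj : j.val + 1 < m + 2),
      (eI j + eI ⟨j.val + 1, hj⟩ : V) ∈ T)
    (v : V) (hv : v ∈ T) (hv0 : ∀ i, v (Sum.inr i) = 0) (j : Fin (m + 2))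
    (hj : j.val + 1 < m + 2) (hvj : v (Sum.inl j) ≠ 0) (r : F) :
    v + r • eI ⟨j.val + 1, hj⟩ ∈ T := by
  have hne := l1_succ_ne j hj
  have h1 : v + (1 : F) • fI j ∈ T :=
    hhyp v hv _ (hf j) (by rw [l1_f_fI]; exact neg_ne_zero.2 hvj) 1
  have h2 : (v + (1 : F) • fI j) + r • (eI j + eI ⟨j.val + 1, hj⟩) ∈ T :=
    hhyp _ h1 _ (hadj j hj) (by
      rw [sf_add_right, l1_f_eI, l1_f_eI]
      simp [hv0, hne]) r
  have h3 := hhyp _ h2 _ (l1_plane T hhyp he hf j r) (by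
      rw [sf_add_right, sf_smul_right, l1_f_eI, l1_f_fI]
      simp [hv0, hne.symm]
      intro h
      exact hvj h) (-1)
  convert h3 using 1
  ext (i | i)
  · simp
    ring
  · simp

theorem l1_step_down (T : Set V)
    (hhyp : ∀ v ∈ T, ∀ w ∈ T, Cfsg.sympForm (m + 2) F v w ≠ 0 → ∀ s : F, v + s • w ∈ T)
    (he : ∀ j : Fin (m + 2), (eI j : V) ∈ T)
    (hf : ∀ j : Fin (m + 2), (fI j : V) ∈ T)
    (hadj : ∀ (j : Fin (m + 2)) (hj : j.val + 1 < m + 2),
      (eI j + eI ⟨j.val + 1, hj⟩ : V) ∈ T)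
    (v : V) (hv : v ∈ T) (hv0 : ∀ i, v (Sum.inr i) = 0) (j : Fin (m + 2))
    (hj : j.val + 1 < m + 2) (hvj : v (Sum.inl ⟨j.val + 1, hj⟩) ≠ 0) (r : F) :
    v + r • eI j ∈ T := by
  have hne := l1_succ_ne j hj
  have h1 : v + (1 : F) • fI ⟨j.val + 1, hj⟩ ∈ T :=
    hhyp v hv _ (hf _) (by rw [l1_f_fI]; exact neg_ne_zero.2 hvj) 1
  have h2 : (v + (1 : F) • fI ⟨j.val + 1, hj⟩) + r • (eI j + eI ⟨j.val + 1, hj⟩) ∈ T :=
    hhyp _ h1 _ (hadj j hj) (by
      rw [sf_add_right, l1_f_eI, l1_f_eI]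
      simp [hv0, hne.symm]) r
  have h3 := hhyp _ h2 _ (l1_plane T hhyp he hf ⟨j.val + 1, hj⟩ r) (by
      rw [sf_add_right, sf_smul_right, l1_f_eI, l1_f_fI]
      simp [hv0, hne]
      intro h
      exact hvj h) (-1)
  convert h3 using 1
  ext (i | i)
  · simp
    ring
  · simp

theorem l1_main (T : Set V)
    (hsmul : ∀ v ∈ T, ∀ a : F, a • v ∈ T)
    (hhyp : ∀ v ∈ T, ∀ w ∈ T, Cfsg.sympForm (m + 2) F v w ≠ 0 → ∀ s : F, v + s • w ∈ T)
    (he : ∀ j : Fin (m + 2), (eI j : V) ∈ T)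
    (hf : ∀ j : Fin (m + 2), (fI j : V) ∈ T)
    (hadj : ∀ (j : Fin (m + 2)) (hj : j.val + 1 < m + 2),
      (eI j + eI ⟨j.val + 1, hj⟩ : V) ∈ T) :
    ∀ K : ℕ, ∀ w : V, (∀ i, w (Sum.inr i) = 0) →
      (∀ i : Fin (m + 2), K < i.val → w (Sum.inl i) = 0) → w ∈ T := by
  intro K
  induction K with
  | zero =>
    intro w hw0 hwK
    have : w = (w (Sum.inl 0)) • eI 0 := by
      ext (i | i)
      · by_cases hi : i = 0
        · subst hi; simp
        · have hpos : 0 < i.val := Nat.pos_of_ne_zero (fun h => hi (Fin.ext h))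
          simp [hwK i hpos, hi]
      · simp [hw0]
    rw [this]
    exact hsmul _ (he 0) _
  | succ K ih =>
    intro w hw0 hwK
    by_cases hK : K + 1 < m + 2
    · have hKlt : K < m + 2 := by omega
      obtain ⟨j, hjdef⟩ : ∃ j : Fin (m + 2), j = ⟨K, hKlt⟩ := ⟨_, rfl⟩
      have hjv : j.val = K := by rw [hjdef]
      have hj : j.val + 1 < m + 2 := by rw [hjv]; exact hK
      obtain ⟨j', hj'def⟩ : ∃ j' : Fin (m + 2), j' = ⟨j.val + 1, hj⟩ := ⟨_, rfl⟩
      have hj'v : j'.val = K + 1 := by rw [hj'def]; simp [hjv]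
      have hjj' : j ≠ j' := by
        intro h; have := congrArg Fin.val h; omega
      obtain ⟨a, hadef⟩ : ∃ a : F, a = w (Sum.inl j') := ⟨_, rfl⟩
      obtain ⟨w', hw'def⟩ : ∃ w' : V, w' = w - a • eI j' := ⟨_, rfl⟩
      have hw'0 : ∀ i, w' (Sum.inr i) = 0 := by
        intro i; simp [hw'def, hw0]
      have hw'K : ∀ i : Fin (m + 2), K < i.val → w' (Sum.inl i) = 0 := by
        intro i hi
        by_cases hij : i = j'
        · subst hij; simp [hw'def, hadef]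
        · have : K + 1 < i.val := by
            have : i.val ≠ K + 1 := fun h => hij (Fin.ext (by rw [h, hj'v]))
            omega
          simp [hw'def, hwK i this, hij]
      have hw' : w' ∈ T := ih w' hw'0 hw'K
      have hww : w = w' + a • eI j' := by rw [hw'def]; simp
      by_cases ha : a = 0
      · rw [hww, ha]; simpa using hw'
      by_cases hwj : w' (Sum.inl j) ≠ 0
      · rw [hww, hj'def]
        exact l1_step_up T hhyp he hf hadj w' hw' hw'0 j hj hwj a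
      · have hwj := not_not.1 hwj
        have h1 : w' + eI j ∈ T := by
          apply ih
          · intro i; simp [hw'0]
          · intro i hi
            have : i ≠ j := by
              intro h; rw [h, hjv] at hi; omega
            simp [hw'K i hi, this]
        have h2 : (w' + eI j) + a • eI ⟨j.val + 1, hj⟩ ∈ T :=
          l1_step_up T hhyp he hf hadj (w' + eI j) h1 (by intro i; simp [hw'0]) j hj
            (by simp [hwj]) a
        have h3 := l1_step_down T hhyp he hf hadj _ h2 (by intro i; simp [hw'0]) j hj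
            (by
              rw [← hj'def]
              simp [hw'K j' (by omega), hjj'.symm, ha]) (-1)
        rw [hww, hj'def]
        convert h3 using 1
        ext (i | i)
        · simp
          ring
        · simp
    · exact ih w hw0 (fun i hi => by
        have := i.2
        omega)

end

theorem hW_of_adjacent {m : ℕ} {F : Type*} [Field F] (T : Set (Fin (m + 2) ⊕ Fin (m + 2) → F))
    (hsmul : ∀ v ∈ T, ∀ a : F, a • v ∈ T)
    (hhyp : ∀ v ∈ T, ∀ w ∈ T, Cfsg.sympForm (m + 2) F v w ≠ 0 → ∀ s : F, v + s • w ∈ T)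
    (he : ∀ j : Fin (m + 2), (eI j : Fin (m + 2) ⊕ Fin (m + 2) → F) ∈ T)
    (hf : ∀ j : Fin (m + 2), (fI j : Fin (m + 2) ⊕ Fin (m + 2) → F) ∈ T)
    (hadj : ∀ (j : Fin (m + 2)) (hj : j.val + 1 < m + 2),
      (eI j + eI ⟨j.val + 1, hj⟩ : Fin (m + 2) ⊕ Fin (m + 2) → F) ∈ T) :
    ∀ w : Fin (m + 2) ⊕ Fin (m + 2) → F, (∀ i, w (Sum.inr i) = 0) → w ∈ T := by
  intro w hw
  exact l1_main T hsmul hhyp he hf hadj (m + 2) w hw (fun i hi => by
    have := i.2
    omega)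

end Cfsg.Agent.Lib.Helper74.Sp2G
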