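import Mathlib
import Cfsg.Prelude.Def_ClassicalGeometry
import Cfsg.Agent.Lib.Helper48.Sp2GDefs

set_option autoImplicit false

namespace Cfsg.Agent.Lib.Helper74.Sp2G

open Matrix Cfsg.Agent.Lib.Helper48.RSp Cfsg.Agent.Lib.Helper48.Sp2G Cfsg.Agent.Lib.Helper18

section
variable {m : ℕ} {F : Type*} [Field F]

theorem m2a_diag_mul_single (d : Fin (m + 2) → F) (i j : Fin (m + 2)) (c : F) :
    Matrix.diagonal d * Matrix.single i j c = Matrix.single i j (d i * c) := by
  ext a b
  rw [Matrix.diagonal_mul]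
  simp only [Matrix.single_apply]
  split_ifs with h
  · rw [h.1]
  · simp

theorem m2a_single_mul_diag (d : Fin (m + 2) → F) (i j : Fin (m + 2)) (c : F) :
    Matrix.single i j c * Matrix.diagonal d = Matrix.single i j (c * d j) := by
  ext a b
  rw [Matrix.mul_diagonal]
  simp only [Matrix.single_apply]
  split_ifs with h
  · rw [h.2]
  · simp

theorem m2a_one_ne_zero : (1 : Fin (m + 2)) ≠ 0 := by
  intro h
  have := congrArg Fin.val h
  simp at this

theorem m2a_comm (k : F) : Commute (hT m k) (zL m F) := by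
  unfold Commute SemiconjBy hT zL xMat
  rw [Matrix.fromBlocks_multiply, Matrix.fromBlocks_multiply]
  simp only [Matrix.mul_zero, Matrix.zero_mul, add_zero, zero_add, Matrix.mul_one, Matrix.one_mul]
  rw [m2a_diag_mul_single, m2a_single_mul_diag]
  simp [kvec, m2a_one_ne_zero]

theorem m2a_xMat_pow (S : SM m F) (n : ℕ) : (xMat m S) ^ n = xMat m (n • S) := by
  induction n with
  | zero => rw [pow_zero, zero_smul, xMat_zero]
  | succ n ih => rw [pow_succ, ih, xMat_mul, succ_nsmul]

theorem m2a_hT_eq (k : F) :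
    hT m k = Matrix.diagonal (Sum.elim (kvec m k) (kvec m k⁻¹)) := by
  unfold hT
  rw [Matrix.fromBlocks_diagonal]

end

theorem hT_mul_zL_pow_card (m : ℕ) {F : Type*} [Field F] [Fintype F] (k : F) :
    (hT m k * zL m F) ^ (Fintype.card F) = hT m k := by
  rw [(m2a_comm k).mul_pow]
  have h1 : (zL m F) ^ (Fintype.card F) = 1 := by
    unfold zL
    rw [m2a_xMat_pow]
    have hz : ∀ S : SM m F, (Fintype.card F) • S = 0 := by
      intro S
      rw [← Nat.cast_smul_eq_nsmul F, Nat.cast_card_eq_zero, zero_smul]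
    rw [hz, xMat_zero]
  have h2 : (hT m k) ^ (Fintype.card F) = hT m k := by
    rw [m2a_hT_eq, Matrix.diagonal_pow]
    congr 1
    funext i
    rw [Pi.pow_apply]
    exact FiniteField.pow_card _
  rw [h1, h2, Matrix.mul_one]

end Cfsg.Agent.Lib.Helper74.Sp2G
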