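import Mathlib
import Cfsg.Agent.Lib.Helper48.StODefs
import Cfsg.Agent.Lib.Helper50.StdForms
import Cfsg.Agent.Lib.Helper74.SiegelQF

/-!
# K-StO-C5a (keystone 254719, pack for S2547, architect helper48): `B ⊔ B⁻ = ⊤` in `O_{2m+1}(F)`, `2 ≠ 0`

Parallel hand by helper74, route: flags + Siegel transformations (no Cartan–Dieudonné).
`Flag j` = the elements whose columns `e_0 … e_{j-1}` are upper triangular (a subgroup).  If `g ∈ Flag j`,
`j < m`, then `w = g e_j` is singular, `w x = 0` for `pos x > 2m - j`; one lower Siegel element `E(f_j, z)`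
(if `w (e_j) ≠ 0`), preceded by one upper Siegel element `E(e_j, z)` (if `w (e_j) = 0`), with `z` supported
strictly between `e_j` and `f_j`, kills the coordinates `x` of `w` with `pos x > j`; so `h g ∈ Flag (j+1)` for
some `h ∈ B ⊔ B⁻`.  Finally `Flag m ⊆ B`.
-/

set_option autoImplicit false
set_option linter.unusedSectionVars false
set_option linter.unusedVariables false

namespace Cfsg.Agent.Lib.Helper74.StO

open Matrix QuadraticMap Cfsg Cfsg.Agent.Lib.Helper48.StO Cfsg.Agent.Lib.Helper74.Siegel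

variable {m : ℕ} {F : Type*} [Field F]

/-- the form as a `QuadraticForm` -/
noncomputable abbrev qf (m : ℕ) (F : Type*) [Field F] : QuadraticForm F (OI m → F) :=
  Cfsg.Agent.Lib.Helper50.QOdd m F

theorem qf_apply (v : OI m → F) :
    qf m F v = v zI ^ 2 + ∑ i : Fin m, v (eI i) * v (fI i) := rfl

theorem qf_mulVec (g : OG m F) (u : OI m → F) : qf m F (mat g *ᵥ u) = qf m F u :=
  quad_mulVec g u

theorem bf_apply (u v : OI m → F) :
    polar (qf m F) u v =
      2 * u zI * v zI + ∑ i : Fin m, (u (eI i) * v (fI i) + u (fI i) * v (eI i)) := by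
  unfold polar
  rw [qf_apply, qf_apply, qf_apply]
  simp only [Pi.add_apply]
  have h : ∑ i : Fin m, (u (eI i) + v (eI i)) * (u (fI i) + v (fI i)) =
      ∑ i : Fin m, u (eI i) * u (fI i) + ∑ i : Fin m, v (eI i) * v (fI i)
        + ∑ i : Fin m, (u (eI i) * v (fI i) + u (fI i) * v (eI i)) := by
    rw [← Finset.sum_add_distrib, ← Finset.sum_add_distrib]
    refine Finset.sum_congr rfl (fun i _ => ?_)
    ring
  rw [h]
  ring

theorem polar_mulVec (g : OG m F) (u v : OI m → F) :
    polar (qf m F) (mat g *ᵥ u) (mat g *ᵥ v) = polar (qf m F) u v := by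
  unfold polar
  rw [← Matrix.mulVec_add, qf_mulVec, qf_mulVec, qf_mulVec]

@[simp] theorem pos_zI : pos m (zI : OI m) = m := rfl
@[simp] theorem pos_eI (i : Fin m) : pos m (eI i) = i.val := rfl
@[simp] theorem pos_fI (i : Fin m) : pos m (fI i) = 2 * m - i.val := rfl

theorem pos_le (a : OI m) : pos m a ≤ 2 * m := by
  rcases a with a | a | a
  · show m ≤ 2 * m
    omega
  · show a.val ≤ 2 * m
    have := a.2
    omega
  · show 2 * m - a.val ≤ 2 * m
    omega

theorem bf_single (v : OI m → F) (y : OI m) :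
    polar (qf m F) v (Pi.single y 1) = if y = zI then 2 * v zI else v (dualE m y) := by
  classical
  rw [bf_apply]
  rcases y with y | y | y
  · have hz : (zI : OI m) = Sum.inl y := rfl
    rw [if_pos hz.symm, ← hz, Pi.single_eq_same, mul_one]
    have : ∑ i : Fin m, (v (eI i) * (Pi.single (zI : OI m) (1 : F) : OI m → F) (fI i)
        + v (fI i) * (Pi.single (zI : OI m) (1 : F) : OI m → F) (eI i)) = 0 := by
      apply Finset.sum_eq_zero
      intro i _
      rw [Pi.single_eq_of_ne (by simp), Pi.single_eq_of_ne (by simp), mul_zero, mul_zero, add_zero]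
    rw [this, add_zero]
  · have hy : (Sum.inr (Sum.inl y) : OI m) = eI y := rfl
    rw [hy, if_neg (by simp), dualE_eI, Pi.single_eq_of_ne (by simp), mul_zero, zero_add,
      Finset.sum_eq_single y]
    · rw [Pi.single_eq_of_ne (by simp), Pi.single_eq_same, mul_zero, zero_add, mul_one]
    · intro i _ hi
      rw [Pi.single_eq_of_ne (by simp), Pi.single_eq_of_ne (by simpa using hi), mul_zero, mul_zero,
        add_zero]
    · intro h
      exact absurd (Finset.mem_univ _) h
  · have hy : (Sum.inr (Sum.inr y) : OI m) = fI y := rfl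
    rw [hy, if_neg (by simp), dualE_fI, Pi.single_eq_of_ne (by simp), mul_zero, zero_add,
      Finset.sum_eq_single y]
    · rw [Pi.single_eq_same, Pi.single_eq_of_ne (by simp), mul_zero, add_zero, mul_one]
    · intro i _ hi
      rw [Pi.single_eq_of_ne (by simpa using hi), Pi.single_eq_of_ne (by simp), mul_zero, mul_zero,
        add_zero]
    · intro h
      exact absurd (Finset.mem_univ _) h

theorem dualE_ne_zI {a : OI m} (ha : a ≠ zI) : dualE m a ≠ zI := by
  rcases a with a | a | a
  · exact absurd rfl ha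
  · simp [dualE]
  · simp [dualE]

theorem qf_single (b : OI m) (hb : b ≠ zI) : qf m F (Pi.single b 1) = 0 := by
  classical
  have h := QuadraticMap.polar_self (qf m F) (Pi.single b (1 : F))
  rw [bf_single, if_neg hb, Pi.single_eq_of_ne] at h
  · -- `0 = 2 • Q`; avoid dividing by 2: direct computation instead
    rw [qf_apply, Pi.single_eq_of_ne (Ne.symm hb), zero_pow two_ne_zero, zero_add]
    apply Finset.sum_eq_zero
    intro i _
    rcases b with b | b | b
    · exact absurd rfl hb
    · rw [Pi.single_eq_of_ne (show fI i ≠ (Sum.inr (Sum.inl b) : OI m) by simp), mul_zero]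
    · rw [Pi.single_eq_of_ne (show eI i ≠ (Sum.inr (Sum.inr b) : OI m) by simp), zero_mul]
  · intro h'
    rcases b with b | b | b
    · exact absurd rfl hb
    · simp [dualE] at h'
    · simp [dualE] at h'

/-! ### the window and the Siegel elements -/

/-- `x` lies strictly between `e_j` and `f_j` -/
def Win (m j : ℕ) (x : OI m) : Prop := j < pos m x ∧ pos m x < 2 * m - j

theorem win_dual (j : ℕ) (x : OI m) : Win m j (dualE m x) ↔ Win m j x := by
  unfold Win
  rw [pos_dualE]
  have := pos_le x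
  omega

theorem win_zI (j : ℕ) (hj : j < m) : Win m j (zI : OI m) := by
  unfold Win
  rw [pos_zI]
  omega

/-- zero pattern of a Siegel element -/
theorem siegel_entry (j : ℕ) (hj : j < m) (b : OI m) (hb : b ≠ zI) (z : OI m → F)
    (hz0 : ∀ x, ¬ Win m j x → z x = 0) (x y : OI m)
    (c1 : y = dualE m b → ¬ Win m j x) (c2 : x = b → y ≠ dualE m b ∧ ¬ Win m j y) :
    siegM (qf m F) (Pi.single b 1) z x y = (1 : Matrix (OI m) (OI m) F) x y := by
  classical
  rw [siegM_apply, bf_single (Pi.single y 1) b, if_neg hb, polar_comm _ (Pi.single y 1) z,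
    bf_single z y]
  by_cases hx : x = b
  · obtain ⟨h3, h4⟩ := c2 hx
    have hyz : y ≠ zI := fun h => h4 (h ▸ win_zI j hj)
    rw [if_neg hyz, hz0 _ (fun h => h4 ((win_dual j y).1 h)), Pi.single_eq_of_ne (Ne.symm h3)]
    ring
  · rw [Pi.single_eq_of_ne hx]
    by_cases hy : y = dualE m b
    · rw [hz0 x (c1 hy)]
      ring
    · rw [Pi.single_eq_of_ne (Ne.symm hy)]
      ring

/-- the group element -/
theorem exists_siegel (j : ℕ) (hj : j < m) (b : OI m) (hb : b ≠ zI) (hbw : ¬ Win m j b)
    (z : OI m → F) (hz0 : ∀ x, ¬ Win m j x → z x = 0) :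
    ∃ h : OG m F, mat h = siegM (qf m F) (Pi.single b 1) z ∧
      ∀ v : OI m → F, mat h *ᵥ v = v + v (dualE m b) • z
        - (polar (qf m F) v z + qf m F z * v (dualE m b)) • Pi.single b 1 := by
  classical
  have hu : qf m F (Pi.single b 1) = 0 := qf_single b hb
  have hzu : polar (qf m F) z (Pi.single b 1) = 0 := by
    rw [bf_single, if_neg hb]
    exact hz0 _ (fun h => hbw ((win_dual j b).1 h))
  obtain ⟨h, hh⟩ := exists_of_isometry (siegM (qf m F) (Pi.single b 1) z)
    (siegM (qf m F) (Pi.single b 1) (-z)) (siegM_mul_neg _ _ _ hu hzu) (siegM_neg_mul _ _ _ hu hzu)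
    (fun v => siegM_isometry (qf m F) _ _ hu hzu v)
  refine ⟨h, hh, fun v => ?_⟩
  rw [hh, siegM_mulVec, bf_single, if_neg hb]

/-- upper Siegel elements -/
theorem exists_upper (j : ℕ) (hj : j < m) (z : OI m → F) (hz0 : ∀ x, ¬ Win m j x → z x = 0) :
    ∃ h : OG m F, h ∈ Bsub m F ∧
      (∀ x a : OI m, pos m a < j → mat h x a = (1 : Matrix (OI m) (OI m) F) x a) ∧
      ∀ v : OI m → F, mat h *ᵥ v = v + v (fI ⟨j, hj⟩) • z
        - (polar (qf m F) v z + qf m F z * v (fI ⟨j, hj⟩)) • Pi.single (eI ⟨j, hj⟩) 1 := by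
  have hb : (eI ⟨j, hj⟩ : OI m) ≠ zI := by simp
  have hbw : ¬ Win m j (eI ⟨j, hj⟩ : OI m) := by
    unfold Win
    rw [pos_eI]
    simp
  obtain ⟨h, hh, hact⟩ := exists_siegel j hj (eI ⟨j, hj⟩) hb hbw z hz0
  refine ⟨h, ?_, ?_, hact⟩
  · rw [mem_Bsub_iff]
    intro x y hxy
    rw [hh, siegel_entry j hj _ hb z hz0, Matrix.one_apply_ne]
    · intro h'
      rw [h'] at hxy
      exact lt_irrefl _ hxy
    · intro hy
      rw [hy, dualE_eI, pos_fI] at hxy
      unfold Win
      simp only at hxy
      omega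
    · intro hx
      rw [hx, pos_eI] at hxy
      simp only at hxy
      refine ⟨?_, ?_⟩
      · intro hy
        rw [hy, dualE_eI, pos_fI] at hxy
        simp only at hxy
        omega
      · unfold Win
        omega
  · intro x a ha
    rw [hh]
    apply siegel_entry j hj _ hb z hz0
    · intro h'
      rw [h', dualE_eI, pos_fI] at ha
      simp only at ha
      omega
    · intro _
      refine ⟨?_, ?_⟩
      · intro h'
        rw [h', dualE_eI, pos_fI] at ha
        simp only at ha
        omega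
      · unfold Win
        omega

/-- lower Siegel elements -/
theorem exists_lower (j : ℕ) (hj : j < m) (z : OI m → F) (hz0 : ∀ x, ¬ Win m j x → z x = 0) :
    ∃ h : OG m F, h ∈ Bminus m F ∧
      (∀ x a : OI m, pos m a < j → mat h x a = (1 : Matrix (OI m) (OI m) F) x a) ∧
      ∀ v : OI m → F, mat h *ᵥ v = v + v (eI ⟨j, hj⟩) • z
        - (polar (qf m F) v z + qf m F z * v (eI ⟨j, hj⟩)) • Pi.single (fI ⟨j, hj⟩) 1 := by
  have hb : (fI ⟨j, hj⟩ : OI m) ≠ zI := by simp
  have hbw : ¬ Win m j (fI ⟨j, hj⟩ : OI m) := by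
    unfold Win
    rw [pos_fI]
    simp
  obtain ⟨h, hh, hact⟩ := exists_siegel j hj (fI ⟨j, hj⟩) hb hbw z hz0
  refine ⟨h, ?_, ?_, hact⟩
  · rw [mem_Bminus_iff]
    intro x y hxy
    rw [hh, siegel_entry j hj _ hb z hz0, Matrix.one_apply_ne]
    · intro h'
      rw [h'] at hxy
      exact lt_irrefl _ hxy
    · intro hy
      rw [hy, dualE_fI, pos_eI] at hxy
      unfold Win
      simp only at hxy
      omega
    · intro hx
      rw [hx, pos_fI] at hxy
      simp only at hxy
      have := pos_le y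
      refine ⟨?_, ?_⟩
      · intro hy
        rw [hy, dualE_fI, pos_eI] at hxy
        simp only at hxy
        omega
      · unfold Win
        omega
  · intro x a ha
    rw [hh]
    apply siegel_entry j hj _ hb z hz0
    · intro h'
      rw [h', dualE_fI, pos_eI] at ha
      simp only at ha
      omega
    · intro _
      refine ⟨?_, ?_⟩
      · intro h'
        rw [h', dualE_fI, pos_eI] at ha
        simp only at ha
        omega
      · unfold Win
        omega

/-! ### coordinates via the polar form -/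

theorem coord_eq_polar (v : OI m → F) (a : OI m) (ha : a ≠ zI) :
    v a = polar (qf m F) v (Pi.single (dualE m a) 1) := by
  rw [bf_single, if_neg (dualE_ne_zI ha), dualE_dualE]

theorem mat_apply_col (g : OG m F) (x y : OI m) : mat g x y = (mat g *ᵥ Pi.single y 1) x := by
  classical
  rw [Matrix.mulVec_single_one]
  rfl

/-- entries of `g` in terms of those of `g⁻¹` -/
theorem mat_apply_eq_inv (g : OG m F) (a b : OI m) (ha : a ≠ zI) :
    mat g a b = if b = zI then 2 * mat g⁻¹ zI (dualE m a) else mat g⁻¹ (dualE m b) (dualE m a) := by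
  classical
  rw [mat_apply_col g a b, coord_eq_polar (mat g *ᵥ Pi.single b 1) a ha]
  have h1 := polar_mulVec g (Pi.single b 1) (mat g⁻¹ *ᵥ Pi.single (dualE m a) 1)
  rw [Matrix.mulVec_mulVec, mat_mul_mat_inv, Matrix.one_mulVec] at h1
  rw [h1, polar_comm, bf_single, ← mat_apply_col, ← mat_apply_col]

/-! ### flags -/

/-- the columns `e_0 … e_{j-1}` are upper triangular -/
def Flag (m : ℕ) (F : Type*) [Field F] (j : ℕ) : Set (OG m F) :=
  {g | ∀ a b : OI m, pos m a < j → pos m a < pos m b → mat g b a = 0}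

theorem mem_flag_iff (j : ℕ) (g : OG m F) :
    g ∈ Flag m F j ↔ g ∈ triSub m F (fun x : OI m => min (pos m x) j) := by
  constructor
  · intro h
    show (mat g).BlockTriangular (fun x : OI m => min (pos m x) j)
    intro a b hab
    have hab' : min (pos m b) j < min (pos m a) j := hab
    have h2 : pos m b < j ∧ pos m b < pos m a := by
      simp only [lt_min_iff, min_lt_iff] at hab'
      omega
    exact h b a h2.1 h2.2
  · intro h
    have h' : (mat g).BlockTriangular (fun x : OI m => min (pos m x) j) := h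
    show ∀ a b : OI m, pos m a < j → pos m a < pos m b → mat g b a = 0
    intro a b ha hab
    apply h'
    show min (pos m a) j < min (pos m b) j
    simp only [lt_min_iff, min_lt_iff]
    omega

theorem flag_mul (j : ℕ) (g h : OG m F) (hg : g ∈ Flag m F j) (hh : h ∈ Flag m F j) :
    h * g ∈ Flag m F j :=
  (mem_flag_iff j _).2 (Subgroup.mul_mem _ ((mem_flag_iff j h).1 hh) ((mem_flag_iff j g).1 hg))

theorem flag_inv (j : ℕ) (g : OG m F) (hg : g ∈ Flag m F j) : g⁻¹ ∈ Flag m F j :=
  (mem_flag_iff j _).2 (Subgroup.inv_mem _ ((mem_flag_iff j g).1 hg))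

theorem flag_of_fix (j : ℕ) (h : OG m F)
    (hfix : ∀ x a : OI m, pos m a < j → mat h x a = (1 : Matrix (OI m) (OI m) F) x a) :
    h ∈ Flag m F j := by
  show ∀ a b : OI m, pos m a < j → pos m a < pos m b → mat h b a = 0
  intro a b ha hab
  rw [hfix b a ha, Matrix.one_apply_ne]
  intro h'
  rw [h'] at hab
  exact lt_irrefl _ hab

/-- `Flag m ⊆ B` -/
theorem flag_top_subset_B (g : OG m F) (hg : g ∈ Flag m F m) : g ∈ Bsub m F := by
  have hginv := flag_inv m g hg
  rw [mem_Bsub_iff]
  intro a b hab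
  by_cases hb : pos m b < m
  · exact hg b a hb hab
  · have ha : a ≠ zI := by
      intro h
      rw [h, pos_zI] at hab
      omega
    have hpa := pos_le a
    have hpb := pos_le b
    have hda : pos m (dualE m a) < m := by
      rw [pos_dualE]
      omega
    rw [mat_apply_eq_inv g a b ha]
    split_ifs with hbz
    · rw [hginv (dualE m a) zI hda (by rw [pos_zI]; exact hda), mul_zero]
    · exact hginv (dualE m a) (dualE m b) hda (by rw [pos_dualE, pos_dualE]; omega)

theorem finish (j : ℕ) (hj : j < m) (g h : OG m F) (hg : g ∈ Flag m F j) (hh : h ∈ Flag m F j)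
    (hkill : ∀ x, j < pos m x → (mat h *ᵥ (mat g *ᵥ Pi.single (eI ⟨j, hj⟩) 1)) x = 0) :
    h * g ∈ Flag m F (j + 1) := by
  have hhg := flag_mul j g h hg hh
  show ∀ a b : OI m, pos m a < j + 1 → pos m a < pos m b → mat (h * g) b a = 0
  intro a b ha hab
  by_cases haj : pos m a < j
  · exact hhg a b haj hab
  · have haj' : a = eI ⟨j, hj⟩ := by
      apply pos_injective m
      show pos m a = j
      omega
    rw [haj'] at hab ⊢
    rw [pos_eI] at hab
    have := hkill b hab
    rw [Matrix.mulVec_mulVec, ← mat_mul, ← mat_apply_col] at this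
    exact this

/-! ### step A: `w (e_j) ≠ 0` -/

theorem stepA (j : ℕ) (hj : j < m) (w : OI m → F)
    (hW1 : ∀ x, 2 * m - j < pos m x → w x = 0) (hW2 : qf m F w = 0)
    (hwj : w (eI ⟨j, hj⟩) ≠ 0) :
    ∃ h : OG m F, h ∈ Bminus m F ∧
      (∀ x a : OI m, pos m a < j → mat h x a = (1 : Matrix (OI m) (OI m) F) x a) ∧
      ∀ x, j < pos m x → (mat h *ᵥ w) x = 0 := by
  classical
  obtain ⟨w0, hw0⟩ : ∃ w0 : OI m → F, w0 = fun x => if Win m j x then w x else 0 := ⟨_, rfl⟩
  have hw0_in : ∀ x, Win m j x → w0 x = w x := by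
    intro x h
    rw [hw0]
    exact if_pos h
  have hw0_out : ∀ x, ¬ Win m j x → w0 x = 0 := by
    intro x h
    rw [hw0]
    exact if_neg h
  obtain ⟨N, hN⟩ : ∃ N : F, N = qf m F w0 := ⟨_, rfl⟩
  obtain ⟨A, hA⟩ : ∃ A : F, A = w (eI ⟨j, hj⟩) := ⟨_, rfl⟩
  obtain ⟨R, hR⟩ : ∃ R : F, R = w (fI ⟨j, hj⟩) := ⟨_, rfl⟩
  have hwin_e : ∀ i : Fin m, j < i.val → Win m j (eI i) := by
    intro i hi
    unfold Win
    rw [pos_eI]
    have := i.2
    omega
  have hwin_f : ∀ i : Fin m, j < i.val → Win m j (fI i) := by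
    intro i hi
    unfold Win
    rw [pos_fI]
    have := i.2
    omega
  have hnwin_e : ∀ i : Fin m, i.val ≤ j → ¬ Win m j (eI i) := by
    intro i hi
    unfold Win
    rw [pos_eI]
    omega
  have hnwin_f : ∀ i : Fin m, i.val ≤ j → ¬ Win m j (fI i) := by
    intro i hi
    unfold Win
    rw [pos_fI]
    omega
  -- (I1)
  have hI1 : qf m F w = A * R + N := by
    rw [hN, qf_apply, qf_apply, hw0_in zI (win_zI j hj)]
    have hpt : ∀ i : Fin m, w (eI i) * w (fI i) =
        w0 (eI i) * w0 (fI i) + (if i = ⟨j, hj⟩ then A * R else 0) := by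
      intro i
      rcases lt_trichotomy i.val j with h | h | h
      · have h1 : w (fI i) = 0 := hW1 _ (by rw [pos_fI]; have := i.2; omega)
        rw [h1, mul_zero, hw0_out _ (hnwin_e i (le_of_lt h)), zero_mul,
          if_neg (fun h' => by rw [h'] at h; exact lt_irrefl _ h), add_zero]
      · have hi : i = ⟨j, hj⟩ := Fin.ext h
        rw [if_pos hi, hw0_out _ (hnwin_e i (le_of_eq h)), zero_mul, zero_add, hi, ← hA, ← hR]
      · rw [hw0_in _ (hwin_e i h), hw0_in _ (hwin_f i h),
          if_neg (fun h' => by rw [h'] at h; exact lt_irrefl _ h), add_zero]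
    rw [Finset.sum_congr rfl (fun i _ => hpt i), Finset.sum_add_distrib]
    simp only [Finset.sum_ite_eq', Finset.mem_univ, if_true]
    ring
  -- (I2)
  have hI2 : polar (qf m F) w w0 = 2 * N := by
    rw [hN, bf_apply, qf_apply, hw0_in zI (win_zI j hj)]
    have hpt : ∀ i : Fin m, w (eI i) * w0 (fI i) + w (fI i) * w0 (eI i) =
        2 * (w0 (eI i) * w0 (fI i)) := by
      intro i
      by_cases h : j < i.val
      · rw [hw0_in _ (hwin_e i h), hw0_in _ (hwin_f i h)]
        ring
      · have h' : i.val ≤ j := Nat.le_of_not_lt h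
        rw [hw0_out _ (hnwin_e i h'), hw0_out _ (hnwin_f i h')]
        ring
    rw [Finset.sum_congr rfl (fun i _ => hpt i), ← Finset.mul_sum]
    ring
  have hiso : A * R + N = 0 := by rw [← hI1, hW2]
  have hA0 : A ≠ 0 := by rw [hA]; exact hwj
  obtain ⟨a, ha⟩ : ∃ a : F, a = -A⁻¹ := ⟨_, rfl⟩
  have hz0 : ∀ x, ¬ Win m j x → (a • w0) x = 0 := by
    intro x hx
    rw [Pi.smul_apply, hw0_out x hx, smul_zero]
  obtain ⟨h, hB, hfix, hact⟩ := exists_lower j hj (a • w0) hz0
  refine ⟨h, hB, hfix, ?_⟩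
  intro x hx
  rw [hact, polar_smul_right, hI2, QuadraticMap.map_smul, ← hN, ← hA]
  simp only [Pi.add_apply, Pi.sub_apply, Pi.smul_apply, smul_eq_mul]
  rcases lt_trichotomy (pos m x) (2 * m - j) with h' | h' | h'
  · have hxw : Win m j x := ⟨hx, h'⟩
    have hxne : x ≠ fI ⟨j, hj⟩ := by
      intro h''
      rw [h'', pos_fI] at h'
      exact lt_irrefl _ h'
    rw [hw0_in x hxw, Pi.single_eq_of_ne hxne, mul_zero, sub_zero, ha]
    field_simp
    ring
  · have hxe : x = fI ⟨j, hj⟩ := by
      apply pos_injective m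
      rw [pos_fI]
      exact h'
    rw [hxe, hw0_out _ (hnwin_f ⟨j, hj⟩ (le_refl _)), Pi.single_eq_same, ← hR, ha]
    field_simp
    linear_combination hiso
  · have hxne : x ≠ fI ⟨j, hj⟩ := by
      intro h''
      rw [h'', pos_fI] at h'
      exact lt_irrefl _ h'
    rw [hW1 x h', hw0_out x (fun hh => by unfold Win at hh; omega), Pi.single_eq_of_ne hxne]
    ring

/-! ### step B: `w (e_j) = 0`, some higher coordinate is nonzero -/

theorem stepB_aux (j : ℕ) (hj : j < m) (w : OI m → F)
    (hW1 : ∀ x, 2 * m - j < pos m x → w x = 0) (hwj : w (eI ⟨j, hj⟩) = 0) (z : OI m → F)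
    (hz0 : ∀ x, ¬ Win m j x → z x = 0)
    (hne : polar (qf m F) w z + qf m F z * w (fI ⟨j, hj⟩) ≠ 0) :
    ∃ h : OG m F, h ∈ Bsub m F ∧
      (∀ x a : OI m, pos m a < j → mat h x a = (1 : Matrix (OI m) (OI m) F) x a) ∧
      (∀ x, 2 * m - j < pos m x → (mat h *ᵥ w) x = 0) ∧ (mat h *ᵥ w) (eI ⟨j, hj⟩) ≠ 0 := by
  classical
  obtain ⟨h, hB, hfix, hact⟩ := exists_upper j hj z hz0
  refine ⟨h, hB, hfix, ?_, ?_⟩
  · intro x hx
    rw [hact]
    simp only [Pi.add_apply, Pi.sub_apply, Pi.smul_apply, smul_eq_mul]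
    have hxne : x ≠ eI ⟨j, hj⟩ := by
      intro h''
      rw [h'', pos_eI] at hx
      simp only at hx
      omega
    rw [hW1 x hx, hz0 x (fun hh => by unfold Win at hh; omega), Pi.single_eq_of_ne hxne]
    ring
  · rw [hact]
    simp only [Pi.add_apply, Pi.sub_apply, Pi.smul_apply, smul_eq_mul]
    rw [hwj, hz0 _ (fun hh => by unfold Win at hh; rw [pos_eI] at hh; simp only at hh; omega),
      Pi.single_eq_same, mul_zero, zero_add, zero_sub, mul_one]
    exact neg_ne_zero.mpr hne

theorem qf_single_zI : qf m F (Pi.single (zI : OI m) (1 : F)) = 1 := by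
  classical
  rw [qf_apply, Pi.single_eq_same, one_pow]
  have : ∑ i : Fin m, (Pi.single (zI : OI m) (1 : F) : OI m → F) (eI i)
      * (Pi.single (zI : OI m) (1 : F) : OI m → F) (fI i) = 0 := by
    apply Finset.sum_eq_zero
    intro i _
    rw [Pi.single_eq_of_ne (by simp), zero_mul]
  rw [this, add_zero]

theorem stepB (h2 : (2 : F) ≠ 0) (j : ℕ) (hj : j < m) (w : OI m → F)
    (hW1 : ∀ x, 2 * m - j < pos m x → w x = 0) (hwj : w (eI ⟨j, hj⟩) = 0)
    (hex : ∃ x, j < pos m x ∧ w x ≠ 0) :
    ∃ h : OG m F, h ∈ Bsub m F ∧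
      (∀ x a : OI m, pos m a < j → mat h x a = (1 : Matrix (OI m) (OI m) F) x a) ∧
      (∀ x, 2 * m - j < pos m x → (mat h *ᵥ w) x = 0) ∧ (mat h *ᵥ w) (eI ⟨j, hj⟩) ≠ 0 := by
  classical
  by_cases hwr : w (fI ⟨j, hj⟩) = 0
  · obtain ⟨x, hx, hwx⟩ := hex
    have hxw : Win m j x := by
      refine ⟨hx, ?_⟩
      rcases lt_trichotomy (pos m x) (2 * m - j) with h' | h' | h'
      · exact h'
      · exfalso
        have hxe : x = fI ⟨j, hj⟩ := by
          apply pos_injective m
          rw [pos_fI]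
          exact h'
        rw [hxe] at hwx
        exact hwx hwr
      · exact absurd (hW1 x h') hwx
    apply stepB_aux j hj w hW1 hwj (Pi.single (dualE m x) 1)
    · intro y hy
      apply Pi.single_eq_of_ne
      intro h'
      rw [h'] at hy
      exact hy ((win_dual j x).2 hxw)
    · rw [hwr, mul_zero, add_zero, bf_single]
      split_ifs with hz
      · have hxz : x = zI := by
          have := congrArg (dualE m) hz
          rwa [dualE_dualE, dualE_zI] at this
        rw [← hxz]
        exact mul_ne_zero h2 hwx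
      · rw [dualE_dualE]
        exact hwx
  · have hval : ∀ t : F, polar (qf m F) w (t • Pi.single (zI : OI m) (1 : F))
        + qf m F (t • Pi.single (zI : OI m) (1 : F)) * w (fI ⟨j, hj⟩)
        = t * (2 * w zI) + t * t * w (fI ⟨j, hj⟩) := by
      intro t
      rw [polar_smul_right, bf_single, if_pos rfl, QuadraticMap.map_smul, qf_single_zI]
      simp only [smul_eq_mul, mul_one]
    have hsupp : ∀ t : F, ∀ x, ¬ Win m j x → (t • Pi.single (zI : OI m) (1 : F)) x = 0 := by
      intro t x hx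
      have : x ≠ zI := fun h' => hx (h' ▸ win_zI j hj)
      rw [Pi.smul_apply, Pi.single_eq_of_ne this, smul_zero]
    by_cases hcase : 2 * w zI + w (fI ⟨j, hj⟩) = 0
    · apply stepB_aux j hj w hW1 hwj ((-1 : F) • Pi.single (zI : OI m) (1 : F)) (hsupp _)
      rw [hval]
      intro h0
      apply hwr
      have h3 : (2 : F) * w (fI ⟨j, hj⟩) = 0 := by linear_combination h0 + hcase
      rcases mul_eq_zero.mp h3 with h4 | h4
      · exact absurd h4 h2
      · exact h4
    · apply stepB_aux j hj w hW1 hwj ((1 : F) • Pi.single (zI : OI m) (1 : F)) (hsupp _)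
      rw [hval]
      intro h0
      apply hcase
      linear_combination h0

/-! ### the elimination step and the leaf -/

theorem flag_step (h2 : (2 : F) ≠ 0) (j : ℕ) (hj : j < m) (g : OG m F) (hg : g ∈ Flag m F j) :
    ∃ h ∈ Bsub m F ⊔ Bminus m F, h * g ∈ Flag m F (j + 1) := by
  classical
  obtain ⟨w, hw⟩ : ∃ w : OI m → F, w = mat g *ᵥ Pi.single (eI ⟨j, hj⟩) 1 := ⟨_, rfl⟩
  have hginv := flag_inv j g hg
  have hW1 : ∀ x, 2 * m - j < pos m x → w x = 0 := by
    intro x hx
    have hxz : x ≠ zI := by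
      intro h'
      rw [h', pos_zI] at hx
      omega
    have hpx := pos_le x
    rw [hw, ← mat_apply_col, mat_apply_eq_inv g x _ hxz, if_neg (by simp), dualE_eI]
    apply hginv
    · rw [pos_dualE]
      omega
    · rw [pos_dualE, pos_fI]
      simp only
      omega
  have hW2 : qf m F w = 0 := by
    rw [hw, qf_mulVec]
    exact qf_single _ (by simp)
  by_cases hall : ∀ x, j < pos m x → w x = 0
  · refine ⟨1, Subgroup.one_mem _, ?_⟩
    apply finish j hj g 1 hg (flag_of_fix j 1 (fun x a _ => by rw [mat_one]))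
    intro x hx
    rw [mat_one, Matrix.one_mulVec, ← hw]
    exact hall x hx
  · push Not at hall
    by_cases hwj : w (eI ⟨j, hj⟩) = 0
    · obtain ⟨h1, h1B, h1fix, h1W1, h1ne⟩ := stepB h2 j hj w hW1 hwj hall
      have h1W2 : qf m F (mat h1 *ᵥ w) = 0 := by
        rw [qf_mulVec, hW2]
      obtain ⟨h2', h2B, h2fix, h2kill⟩ := stepA j hj (mat h1 *ᵥ w) h1W1 h1W2 h1ne
      refine ⟨h2' * h1, Subgroup.mul_mem _ ((le_sup_right : Bminus m F ≤ _) h2B)
        ((le_sup_left : Bsub m F ≤ _) h1B), ?_⟩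
      have hfl : h2' * h1 ∈ Flag m F j :=
        flag_mul j h1 h2' (flag_of_fix j h1 h1fix) (flag_of_fix j h2' h2fix)
      apply finish j hj g (h2' * h1) hg hfl
      intro x hx
      have := h2kill x hx
      rw [Matrix.mulVec_mulVec, ← mat_mul, hw] at this
      exact this
    · obtain ⟨h2', h2B, h2fix, h2kill⟩ := stepA j hj w hW1 hW2 hwj
      refine ⟨h2', (le_sup_right : Bminus m F ≤ _) h2B, ?_⟩
      apply finish j hj g h2' hg (flag_of_fix j h2' h2fix)
      intro x hx
      have := h2kill x hx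
      rw [hw] at this
      exact this

theorem exists_flag (h2 : (2 : F) ≠ 0) (g : OG m F) :
    ∀ j : ℕ, j ≤ m → ∃ h ∈ Bsub m F ⊔ Bminus m F, h * g ∈ Flag m F j := by
  intro j
  induction j with
  | zero =>
    intro _
    refine ⟨1, Subgroup.one_mem _, ?_⟩
    show ∀ a b : OI m, pos m a < 0 → pos m a < pos m b → mat (1 * g) b a = 0
    intro a b ha
    exact absurd ha (Nat.not_lt_zero _)
  | succ j ih =>
    intro hj
    obtain ⟨h, hh, hf⟩ := ih (by omega)
    obtain ⟨h', hh', hf'⟩ := flag_step h2 j (by omega) (h * g) hf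
    refine ⟨h' * h, Subgroup.mul_mem _ hh' hh, ?_⟩
    rw [mul_assoc]
    exact hf'

theorem B_sup_Bminus [Fintype F] (h2 : (2 : F) ≠ 0) : Bsub m F ⊔ Bminus m F = ⊤ := by
  rw [eq_top_iff]
  intro g _
  obtain ⟨h, hh, hf⟩ := exists_flag h2 g m le_rfl
  have hB : h * g ∈ Bsub m F ⊔ Bminus m F :=
    (le_sup_left : Bsub m F ≤ _) (flag_top_subset_B _ hf)
  have : g = h⁻¹ * (h * g) := by group
  rw [this]
  exact Subgroup.mul_mem _ (Subgroup.inv_mem _ hh) hB

end Cfsg.Agent.Lib.Helper74.StO
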