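import Cfsg.Agent.Lib.Helper49.StOpDefs
import Cfsg.Agent.Lib.Helper59.StOpR0a

/-!
# K-StOp-C4 (keystone 254819, S2548 pack of helper49): the longest element lies in `N`
-/

set_option autoImplicit false
set_option linter.unusedSectionVars false

namespace Cfsg.Agent.Lib.Helper74.StOp

open Cfsg Cfsg.Agent.Lib.Helper49.StOp

variable {m : ℕ} {F : Type*} [Field F]

/-- the permutations of the index set realised by elements of `closure Sset` -/
def c4Good (m : ℕ) (F : Type*) [Field F] : Subgroup (Equiv.Perm (OI m)) where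
  carrier := {σ | ∃ w ∈ Subgroup.closure (Sset m F), mat w = σ.permMatrix F}
  one_mem' := ⟨1, one_mem _, by rw [mat_one, Matrix.permMatrix_one]⟩
  mul_mem' := by
    rintro σ τ ⟨w1, h1, e1⟩ ⟨w2, h2, e2⟩
    exact ⟨w2 * w1, mul_mem h2 h1, by rw [mat_mul, e1, e2, Matrix.permMatrix_mul]⟩
  inv_mem' := by
    rintro σ ⟨w, h, e⟩
    refine ⟨w⁻¹, inv_mem h, ?_⟩
    rw [mat_inv, e]
    apply Matrix.inv_eq_right_inv
    rw [← Matrix.permMatrix_mul, inv_mul_cancel, Matrix.permMatrix_one]

/-- the diagonal embedding of `Perm (Fin m)` -/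
def c4dbl (π : Equiv.Perm (Fin m)) : Equiv.Perm (OI m) := Equiv.sumCongr π π

theorem c4dbl_mul (π ρ : Equiv.Perm (Fin m)) : c4dbl (π * ρ) = c4dbl π * c4dbl ρ := by
  ext a
  rcases a with a | a <;> rfl

theorem c4dbl_one : c4dbl (1 : Equiv.Perm (Fin m)) = 1 := by
  ext a
  rcases a with a | a <;> rfl

theorem c4dbl_swap (i j : Fin m) : c4dbl (Equiv.swap i j) = swapE m i j := rfl

theorem c4_swapE_adj (i : Fin m) (hi : i.val + 1 < m) : swapE m i (nxt i hi) ∈ c4Good m F :=
  ⟨sShort m F i (nxt i hi), Subgroup.subset_closure (Or.inl ⟨i, hi, rfl⟩),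
    Cfsg.Agent.Lib.Helper59.StOp.mat_sShort _ _⟩

theorem c4_crossE_last (hm : 2 ≤ m) :
    crossE m (prevF hm) (lastF (by omega)) ∈ c4Good m F :=
  ⟨sCross m F (prevF hm) (lastF (by omega)), Subgroup.subset_closure (Or.inr ⟨hm, rfl⟩),
    Cfsg.Agent.Lib.Helper59.StOp.mat_sCross _ _⟩

theorem c4_swapE_lt : ∀ (d : ℕ) (i j : Fin m), i.val + d + 1 = j.val →
    swapE m i j ∈ c4Good m F := by
  intro d
  induction d with
  | zero =>
    intro i j h
    have hi : i.val + 1 < m := by have := j.2; omega
    have : j = nxt i hi := Fin.ext (by simp only [nxt]; omega)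
    rw [this]
    exact c4_swapE_adj i hi
  | succ d ih =>
    intro i j h
    have hj := j.2
    let k : Fin m := ⟨j.val - 1, by omega⟩
    have hk : k.val + 1 < m := by simp only [k]; omega
    have hjk : j = nxt k hk := Fin.ext (by simp only [nxt, k]; omega)
    have h1 : swapE m i k ∈ c4Good m F := ih i k (by simp only [k]; omega)
    have h2 : swapE m k j ∈ c4Good m F := by
      rw [hjk]; exact c4_swapE_adj k hk
    have hik : i ≠ k := fun e => by
      have := congrArg Fin.val e; simp only [k] at this; omega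
    have hij : i ≠ j := fun e => by
      have := congrArg Fin.val e; omega
    have e : Equiv.swap i j = Equiv.swap k j * Equiv.swap i k * (Equiv.swap k j)⁻¹ := by
      rw [← Equiv.swap_apply_apply, Equiv.swap_apply_of_ne_of_ne hik hij,
        Equiv.swap_apply_left]
    rw [← c4dbl_swap, e, c4dbl_mul, c4dbl_mul, Equiv.swap_inv, c4dbl_swap, c4dbl_swap]
    exact mul_mem (mul_mem h2 h1) h2

theorem c4_swapE_mem (i j : Fin m) : swapE m i j ∈ c4Good m F := by
  rcases lt_trichotomy i.val j.val with h | h | h
  · exact c4_swapE_lt (j.val - i.val - 1) i j (by omega)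
  · have : i = j := Fin.ext h
    subst this
    have e : swapE m i i = 1 := by
      rw [← c4dbl_swap, Equiv.swap_self]
      exact c4dbl_one
    rw [e]
    exact (c4Good m F).one_mem
  · rw [← c4dbl_swap, Equiv.swap_comm, c4dbl_swap]
    exact c4_swapE_lt (i.val - j.val - 1) j i (by omega)

theorem c4dbl_mem (π : Equiv.Perm (Fin m)) : c4dbl π ∈ c4Good m F := by
  induction π using Equiv.Perm.swap_induction_on with
  | one => rw [c4dbl_one]; exact one_mem _
  | swap_mul f x y hxy ih =>
    rw [c4dbl_mul]
    exact mul_mem (c4_swapE_mem x y) ih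

theorem c4_conj_crossE (π : Equiv.Perm (Fin m)) (a b : Fin m) :
    c4dbl π * crossE m a b * (c4dbl π)⁻¹ = crossE m (π a) (π b) := by
  unfold crossE
  rw [show (eI (π a) : OI m) = c4dbl π (eI a) from rfl,
    show (fI (π b) : OI m) = c4dbl π (fI b) from rfl,
    show (eI (π b) : OI m) = c4dbl π (eI b) from rfl,
    show (fI (π a) : OI m) = c4dbl π (fI a) from rfl,
    Equiv.swap_apply_apply, Equiv.swap_apply_apply]
  group

theorem c4_crossE_mem (i j : Fin m) (hij : i ≠ j) : crossE m i j ∈ c4Good m F := by
  have hm : 2 ≤ m := by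
    have := i.2; have := j.2
    have : i.val ≠ j.val := fun e => hij (Fin.ext e)
    omega
  set p := prevF hm
  set l := lastF (by omega : 0 < m)
  have hpl : p ≠ l := prevF_ne_lastF hm
  set j' := Equiv.swap p i l with hj'
  have hij' : i ≠ j' := by
    intro e
    rw [hj'] at e
    have : Equiv.swap p i i = Equiv.swap p i (Equiv.swap p i l) := congrArg _ e
    rw [Equiv.swap_apply_self, Equiv.swap_apply_right] at this
    exact hpl this
  let π : Equiv.Perm (Fin m) := Equiv.swap j' j * Equiv.swap p i
  have h1 : π p = i := by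
    simp only [π, Equiv.Perm.mul_apply, Equiv.swap_apply_left]
    exact Equiv.swap_apply_of_ne_of_ne hij' hij
  have h2 : π l = j := by
    simp only [π, Equiv.Perm.mul_apply]
    rw [← hj', Equiv.swap_apply_left]
  rw [← h1, ← h2, ← c4_conj_crossE]
  exact mul_mem (mul_mem (c4dbl_mem π) (c4_crossE_last hm)) (inv_mem (c4dbl_mem π))

/-- the index of the pair -/
def c4idx : OI m → ℕ
  | Sum.inl i => i.val
  | Sum.inr i => i.val

theorem c4idx_dualE (a : OI m) : c4idx (dualE m a) = c4idx a := by
  rcases a with a | a <;> rfl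

theorem c4_pair_apply (i j : Fin m) (hij : i ≠ j) (a : OI m) :
    (swapE m i j * crossE m i j) a =
      if c4idx a = i.val ∨ c4idx a = j.val then dualE m a else a := by
  have hne : ∀ x y : Fin m, (eI x : OI m) ≠ fI y := fun x y e => by cases e
  rcases a with x | x
  · by_cases h1 : x = i
    · subst h1
      have : crossE m x j (eI x) = fI j := by
        unfold crossE
        rw [Equiv.Perm.mul_apply,
          Equiv.swap_apply_of_ne_of_ne (fun e => hij (Sum.inl.inj e)) (hne _ _),
          Equiv.swap_apply_left]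
      rw [Equiv.Perm.mul_apply, this]
      simp only [c4idx, true_or, if_true]
      show fI (Equiv.swap x j j) = fI x
      rw [Equiv.swap_apply_right]
    · by_cases h2 : x = j
      · subst h2
        have : crossE m i x (eI x) = fI i := by
          unfold crossE
          rw [Equiv.Perm.mul_apply, Equiv.swap_apply_left,
            Equiv.swap_apply_of_ne_of_ne (hne _ _).symm (fun e => hij (Sum.inr.inj e))]
        rw [Equiv.Perm.mul_apply, this]
        simp only [c4idx, or_true, if_true]
        show fI (Equiv.swap i x i) = fI x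
        rw [Equiv.swap_apply_left]
      · have : crossE m i j (eI x) = eI x := by
          unfold crossE
          rw [Equiv.Perm.mul_apply,
            Equiv.swap_apply_of_ne_of_ne (fun e => h2 (Sum.inl.inj e)) (hne _ _),
            Equiv.swap_apply_of_ne_of_ne (fun e => h1 (Sum.inl.inj e)) (hne _ _)]
        rw [Equiv.Perm.mul_apply, this]
        have c1 : ¬ (x.val = i.val ∨ x.val = j.val) := by
          rintro (e | e)
          · exact h1 (Fin.ext e)
          · exact h2 (Fin.ext e)
        simp only [c4idx, c1, if_false]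
        show eI (Equiv.swap i j x) = eI x
        rw [Equiv.swap_apply_of_ne_of_ne h1 h2]
  · by_cases h1 : x = i
    · subst h1
      have : crossE m x j (fI x) = eI j := by
        unfold crossE
        rw [Equiv.Perm.mul_apply, Equiv.swap_apply_right,
          Equiv.swap_apply_of_ne_of_ne (fun e => hij (Sum.inl.inj e).symm) (hne _ _)]
      rw [Equiv.Perm.mul_apply, this]
      simp only [c4idx, true_or, if_true]
      show eI (Equiv.swap x j j) = eI x
      rw [Equiv.swap_apply_right]
    · by_cases h2 : x = j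
      · subst h2
        have : crossE m i x (fI x) = eI i := by
          unfold crossE
          rw [Equiv.Perm.mul_apply,
            Equiv.swap_apply_of_ne_of_ne (hne _ _).symm (fun e => hij (Sum.inr.inj e).symm),
            Equiv.swap_apply_right]
        rw [Equiv.Perm.mul_apply, this]
        simp only [c4idx, or_true, if_true]
        show eI (Equiv.swap i x i) = eI x
        rw [Equiv.swap_apply_left]
      · have : crossE m i j (fI x) = fI x := by
          unfold crossE
          rw [Equiv.Perm.mul_apply,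
            Equiv.swap_apply_of_ne_of_ne (hne _ _).symm (fun e => h1 (Sum.inr.inj e)),
            Equiv.swap_apply_of_ne_of_ne (hne _ _).symm (fun e => h2 (Sum.inr.inj e))]
        rw [Equiv.Perm.mul_apply, this]
        have c1 : ¬ (x.val = i.val ∨ x.val = j.val) := by
          rintro (e | e)
          · exact h1 (Fin.ext e)
          · exact h2 (Fin.ext e)
        simp only [c4idx, c1, if_false]
        show fI (Equiv.swap i j x) = fI x
        rw [Equiv.swap_apply_of_ne_of_ne h1 h2]

theorem c4_flip_first : ∀ k : ℕ, 2 * k ≤ m →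
    ∃ σ ∈ c4Good m F, ∀ a : OI m, σ a = if c4idx a < 2 * k then dualE m a else a := by
  intro k
  induction k with
  | zero =>
    intro _
    exact ⟨1, one_mem _, fun a => by simp⟩
  | succ k ih =>
    intro hk
    obtain ⟨σ, hσ, hσa⟩ := ih (by omega)
    let i0 : Fin m := ⟨2 * k, by omega⟩
    let i1 : Fin m := ⟨2 * k + 1, by omega⟩
    have h01 : i0 ≠ i1 := fun e => by
      have := congrArg Fin.val e; simp only [i0, i1] at this; omega
    refine ⟨swapE m i0 i1 * crossE m i0 i1 * σ,
      mul_mem (mul_mem (c4_swapE_mem i0 i1) (c4_crossE_mem i0 i1 h01)) hσ, ?_⟩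
    intro a
    rw [Equiv.Perm.mul_apply, hσa, c4_pair_apply i0 i1 h01]
    by_cases ha : c4idx a < 2 * k
    · rw [if_pos ha, c4idx_dualE, if_neg (by simp only [i0, i1]; omega), if_pos (by omega)]
    · rw [if_neg ha]
      by_cases hb : c4idx a < 2 * (k + 1)
      · rw [if_pos (by simp only [i0, i1]; omega), if_pos hb]
      · rw [if_neg (by simp only [i0, i1]; omega), if_neg hb]

theorem c4_rho_mem : rho m ∈ c4Good m F := by
  obtain ⟨σ, hσ, hσa⟩ := c4_flip_first (m := m) (F := F) (m / 2) (by omega)
  have : σ = rho m := by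
    ext a
    rw [hσa, rho_apply]
    unfold rhoFun
    rcases a with x | x
    · have := x.2
      by_cases h1 : x.val < 2 * (m / 2)
      · rw [if_pos (show c4idx (Sum.inl x : OI m) < 2 * (m / 2) from h1),
          if_neg (show ¬ (m % 2 = 1 ∧ (pos m (Sum.inl x) = m - 1 ∨ pos m (Sum.inl x) = m)) from by
            simp only [pos]; omega)]
      · rw [if_neg (show ¬ c4idx (Sum.inl x : OI m) < 2 * (m / 2) from h1),
          if_pos (show (m % 2 = 1 ∧ (pos m (Sum.inl x) = m - 1 ∨ pos m (Sum.inl x) = m)) from by
            simp only [pos]; omega)]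
    · have := x.2
      by_cases h1 : x.val < 2 * (m / 2)
      · rw [if_pos (show c4idx (Sum.inr x : OI m) < 2 * (m / 2) from h1),
          if_neg (show ¬ (m % 2 = 1 ∧ (pos m (Sum.inr x) = m - 1 ∨ pos m (Sum.inr x) = m)) from by
            simp only [pos]; omega)]
      · rw [if_neg (show ¬ c4idx (Sum.inr x : OI m) < 2 * (m / 2) from h1),
          if_pos (show (m % 2 = 1 ∧ (pos m (Sum.inr x) = m - 1 ∨ pos m (Sum.inr x) = m)) from by
            simp only [pos]; omega)]
  rw [← this]
  exact hσ

theorem c4_rho_dualE (a : OI m) : rho m (dualE m a) = dualE m (rho m a) := by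
  apply pos_injective m
  have hlt := pos_lt m a
  rw [rho_apply, rho_apply, pos_rhoFun, pos_dualE, pos_dualE, pos_rhoFun]
  split_ifs <;> omega

/-- **LEAF C4.** -/
theorem exists_w0 : ∃ w ∈ Nsub m F, MonWith m F w (rho m) := by
  obtain ⟨w, hw, hwm⟩ := c4_rho_mem (m := m) (F := F)
  refine ⟨w, (le_sup_left : Subgroup.closure (Sset m F) ≤ Nsub m F) hw, ?_, c4_rho_dualE⟩
  intro a b
  rw [hwm, Equiv.Perm.permMatrix, PEquiv.toMatrix_apply, Equiv.toPEquiv_apply]
  simp only [Option.mem_def, Option.some.injEq, ne_eq, ite_eq_right_iff, one_ne_zero,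
    imp_false, not_not]
  constructor
  · intro h
    rw [← h, rho_apply, rho_apply, rhoFun_rhoFun]
  · intro h
    rw [h, rho_apply, rho_apply, rhoFun_rhoFun]

end Cfsg.Agent.Lib.Helper74.StOp
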