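import Mathlib
import Cfsg.Agent.Lib.Helper49.StSUDefs

/-!
# K-StSU-C5a1 (keystone 254620, pack for S2546, architect helper49): the elimination step

`g ∈ FlagStab j`, `j < n/2`  ⟹  some `h ∈ B ⊔ B⁻` has `h g ∈ FlagStab (j+1)`.

Route (parallel hand by helper74): Siegel elements.  For an isotropic basis vector `e_b` (`b ≠ rev b`), a vector
`z` with `z (rev b) = 0` and `c + c^q = -hJ z z` the map
`E(b,z,c) : v ↦ v + v(rev b) • z + (c * v(rev b) - hJ v z) • e_b` preserves `hJ`.  With `b = j` and `z` supported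
strictly between `j` and `rev j` it is upper unitriangular, with `b = rev j` it is lower unitriangular; in both
cases it fixes `e_a` for `a < j`.  Let `w = g e_j`: `w x = 0` for `x > rev j`, and `w` is isotropic.  If `w j ≠ 0`
one lower element kills all the coordinates `x > j` of `w`; if `w j = 0` one upper element first makes it nonzero.
-/

set_option autoImplicit false
set_option linter.unusedSectionVars false
set_option linter.unusedVariables false

namespace Cfsg.Agent.Lib.Helper74.StSU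

open Matrix Cfsg Cfsg.Agent.Lib.Helper49.StSU

variable {n : ℕ} {F : Type*} [Field F] {q : ℕ}

/-! ### Frobenius facts -/

theorem q_ne_zero (ok : Ok n F q) : q ≠ 0 := by
  intro h
  have h1 := ok.frob_add 0 0
  rw [h] at h1
  simp at h1

theorem frob_zero (ok : Ok n F q) : (0 : F) ^ q = 0 := zero_pow (q_ne_zero ok)

theorem frob_neg (ok : Ok n F q) (x : F) : (-x) ^ q = -(x ^ q) := by
  have h1 := ok.frob_add (-x) x
  rw [neg_add_cancel, frob_zero ok] at h1
  exact eq_neg_of_add_eq_zero_left h1.symm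

theorem frob_sub (ok : Ok n F q) (x y : F) : (x - y) ^ q = x ^ q - y ^ q := by
  rw [sub_eq_add_neg, ok.frob_add, frob_neg ok, ← sub_eq_add_neg]

theorem frob_sum (ok : Ok n F q) {ι : Type*} (s : Finset ι) (f : ι → F) :
    (∑ i ∈ s, f i) ^ q = ∑ i ∈ s, (f i) ^ q := by
  classical
  induction s using Finset.induction_on with
  | empty => simp [frob_zero ok]
  | insert a s ha ih => rw [Finset.sum_insert ha, Finset.sum_insert ha, ok.frob_add, ih]

/-! ### the form -/

theorem hJ_def (u v : Fin n → F) : hJ n F q u v = ∑ i, u i * (v (Fin.rev i)) ^ q := rfl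

theorem hJ_single_right (ok : Ok n F q) (u : Fin n → F) (b : Fin n) :
    hJ n F q u (Pi.single b 1) = u (Fin.rev b) := by
  rw [hJ_def, Finset.sum_eq_single (Fin.rev b)]
  · rw [Fin.rev_rev, Pi.single_eq_same, one_pow, mul_one]
  · intro i _ hi
    have : Fin.rev i ≠ b := fun h => hi (by rw [← h, Fin.rev_rev])
    rw [Pi.single_eq_of_ne this, frob_zero ok, mul_zero]
  · intro h
    exact absurd (Finset.mem_univ _) h

theorem hJ_single_left (ok : Ok n F q) (b : Fin n) (v : Fin n → F) :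
    hJ n F q (Pi.single b 1) v = (v (Fin.rev b)) ^ q := by
  rw [hJ_def, Finset.sum_eq_single b]
  · rw [Pi.single_eq_same, one_mul]
  · intro i _ hi
    rw [Pi.single_eq_of_ne hi, zero_mul]
  · intro h
    exact absurd (Finset.mem_univ _) h

theorem hJ_symm (ok : Ok n F q) (u v : Fin n → F) : hJ n F q u v = (hJ n F q v u) ^ q := by
  rw [hJ_def, hJ_def, frob_sum ok]
  refine Fintype.sum_equiv Fin.revPerm _ _ (fun i => ?_)
  simp only [Fin.revPerm_apply, Fin.rev_rev]
  rw [mul_pow, ok.frob_frob, mul_comm]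

theorem hJ_add_left (u u' v : Fin n → F) :
    hJ n F q (u + u') v = hJ n F q u v + hJ n F q u' v := by
  simp only [hJ_def, Pi.add_apply, add_mul, Finset.sum_add_distrib]

theorem hJ_add_right (ok : Ok n F q) (u v v' : Fin n → F) :
    hJ n F q u (v + v') = hJ n F q u v + hJ n F q u v' := by
  simp only [hJ_def, Pi.add_apply, ok.frob_add, mul_add, Finset.sum_add_distrib]

theorem hJ_smul_left (a : F) (u v : Fin n → F) :
    hJ n F q (a • u) v = a * hJ n F q u v := by
  simp only [hJ_def, Pi.smul_apply, smul_eq_mul, mul_assoc, Finset.mul_sum]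

theorem hJ_smul_right (a : F) (u v : Fin n → F) :
    hJ n F q u (a • v) = a ^ q * hJ n F q u v := by
  simp only [hJ_def, Pi.smul_apply, smul_eq_mul, mul_pow, Finset.mul_sum]
  refine Finset.sum_congr rfl (fun i _ => ?_)
  ring

theorem hJ_zero_right (ok : Ok n F q) (u : Fin n → F) : hJ n F q u 0 = 0 := by
  simp only [hJ_def, Pi.zero_apply, frob_zero ok, mul_zero, Finset.sum_const_zero]

/-! ### Siegel elements -/

/-- the matrix of `v ↦ v + v(rev b) • z + (c * v(rev b) - hJ v z) • e_b` -/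
def EM (q : ℕ) (b : Fin n) (z : Fin n → F) (c : F) : Matrix (Fin n) (Fin n) F :=
  1 + vecMulVec z (Pi.single (Fin.rev b) 1) - vecMulVec (Pi.single b 1) (fun y => (z (Fin.rev y)) ^ q)
    + c • vecMulVec (Pi.single b 1) (Pi.single (Fin.rev b) 1)

theorem EM_mulVec (b : Fin n) (z : Fin n → F) (c : F) (v : Fin n → F) :
    EM q b z c *ᵥ v =
      v + v (Fin.rev b) • z + (c * v (Fin.rev b) - hJ n F q v z) • Pi.single b 1 := by
  unfold EM
  rw [Matrix.add_mulVec, Matrix.sub_mulVec, Matrix.add_mulVec, Matrix.one_mulVec, Matrix.smul_mulVec,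
    Matrix.vecMulVec_mulVec, Matrix.vecMulVec_mulVec, Matrix.vecMulVec_mulVec, single_one_dotProduct]
  have h1 : (fun y => (z (Fin.rev y)) ^ q) ⬝ᵥ v = hJ n F q v z := by
    rw [hJ_def]
    unfold dotProduct
    refine Finset.sum_congr rfl (fun i _ => ?_)
    ring
  rw [h1]
  ext x
  simp only [Pi.add_apply, Pi.sub_apply, Pi.smul_apply, smul_eq_mul, MulOpposite.smul_eq_mul_unop,
    MulOpposite.unop_op]
  ring

theorem EM_apply (b : Fin n) (z : Fin n → F) (c : F) (x y : Fin n) :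
    EM q b z c x y = (1 : Matrix (Fin n) (Fin n) F) x y + z x * (if y = Fin.rev b then 1 else 0)
      - (if x = b then 1 else 0) * (z (Fin.rev y)) ^ q
      + c * ((if x = b then 1 else 0) * (if y = Fin.rev b then 1 else 0)) := by
  unfold EM
  simp only [Matrix.add_apply, Matrix.sub_apply, Matrix.smul_apply, Matrix.vecMulVec_apply,
    Pi.single_apply, smul_eq_mul]

/-- zero pattern -/
theorem EM_apply_eq_one (ok : Ok n F q) (b : Fin n) (z : Fin n → F) (c : F) (x y : Fin n)
    (h1 : y = Fin.rev b → z x = 0) (h2 : x = b → z (Fin.rev y) = 0)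
    (h3 : ¬ (x = b ∧ y = Fin.rev b)) :
    EM q b z c x y = (1 : Matrix (Fin n) (Fin n) F) x y := by
  rw [EM_apply]
  have e1 : z x * (if y = Fin.rev b then (1 : F) else 0) = 0 := by
    split_ifs with h
    · rw [h1 h, zero_mul]
    · rw [mul_zero]
  have e2 : (if x = b then (1 : F) else 0) * (z (Fin.rev y)) ^ q = 0 := by
    split_ifs with h
    · rw [h2 h, frob_zero ok, mul_zero]
    · rw [zero_mul]
  have e3 : (if x = b then (1 : F) else 0) * (if y = Fin.rev b then (1 : F) else 0) = 0 := by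
    split_ifs with h h'
    · exact absurd ⟨h, h'⟩ h3
    · rw [mul_zero]
    · rw [zero_mul]
    · rw [zero_mul]
  rw [e1, e2, e3, mul_zero, add_zero, sub_zero, add_zero]

/-- the form is preserved -/
theorem EM_form (ok : Ok n F q) (b : Fin n) (hb : Fin.rev b ≠ b) (z : Fin n → F)
    (hz : z (Fin.rev b) = 0) (c : F) (hc : c + c ^ q = -hJ n F q z z) (u v : Fin n → F) :
    hJ n F q (EM q b z c *ᵥ u) (EM q b z c *ᵥ v) = hJ n F q u v := by
  rw [EM_mulVec, EM_mulVec]
  simp only [hJ_add_left, hJ_add_right ok, hJ_smul_left, hJ_smul_right]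
  rw [hJ_single_right ok u, hJ_single_right ok z, hJ_single_left ok b v, hJ_single_left ok b z,
    hJ_single_left ok b (Pi.single b 1), Pi.single_eq_of_ne hb, hz, frob_zero ok,
    hJ_symm ok z v, frob_sub ok, mul_pow]
  linear_combination (u (Fin.rev b) * (v (Fin.rev b)) ^ q) * hc

/-! ### the two families of group elements -/

theorem exists_upper (ok : Ok n F q) (jj : Fin n) (hjr : jj < Fin.rev jj) (z : Fin n → F)
    (hsupp : ∀ x, z x ≠ 0 → jj < x ∧ x < Fin.rev jj) (c : F) (hc : c + c ^ q = -hJ n F q z z) :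
    ∃ h : GJ n F q, h ∈ Bsub n F q ∧
      (∀ x a : Fin n, a < jj → mat h x a = (1 : Matrix (Fin n) (Fin n) F) x a) ∧
      ∀ v : Fin n → F, mat h *ᵥ v =
        v + v (Fin.rev jj) • z + (c * v (Fin.rev jj) - hJ n F q v z) • Pi.single jj 1 := by
  have hz0 : ∀ x, ¬ (jj < x ∧ x < Fin.rev jj) → z x = 0 := by
    intro x hx
    by_contra h
    exact hx (hsupp x h)
  have tri : (EM q jj z c).BlockTriangular id := by
    intro x y hxy
    have hxy' : y < x := hxy
    rw [EM_apply_eq_one ok, Matrix.one_apply_ne (ne_of_gt hxy')]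
    · intro hy
      apply hz0
      rintro ⟨_, h2⟩
      rw [hy] at hxy'
      exact lt_asymm h2 hxy'
    · intro hx
      apply hz0
      rintro ⟨_, h2⟩
      rw [hx] at hxy'
      exact lt_asymm (Fin.rev_lt_rev.mpr hxy') h2
    · rintro ⟨hx, hy⟩
      rw [hx, hy] at hxy'
      exact lt_asymm hjr hxy'
  have diag : ∀ x, EM q jj z c x x = 1 := by
    intro x
    rw [EM_apply_eq_one ok, Matrix.one_apply_eq]
    · intro hx
      rw [hx]
      exact hz0 _ (fun h => lt_irrefl _ h.2)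
    · intro hx
      rw [hx]
      exact hz0 _ (fun h => lt_irrefl _ h.2)
    · rintro ⟨hx, hy⟩
      rw [hx] at hy
      exact (ne_of_lt hjr) hy
  have hdet : (EM q jj z c).det = 1 := by
    rw [Matrix.det_of_isUpperTriangular tri]
    exact Finset.prod_eq_one (fun i _ => diag i)
  have hform := EM_form ok jj (ne_of_gt hjr) z (hz0 _ (fun h => lt_irrefl _ h.2)) c hc
  refine ⟨⟨⟨EM q jj z c, hdet⟩, hform⟩, ?_, ?_, ?_⟩
  · exact (mem_Bsub_iff _).2 (fun a b hba => tri hba)
  · intro x a ha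
    show EM q jj z c x a = _
    apply EM_apply_eq_one ok
    · intro h
      rw [h] at ha
      exact absurd ha (lt_asymm hjr)
    · intro _
      apply hz0
      rintro ⟨_, h2⟩
      exact lt_asymm (Fin.rev_lt_rev.mpr ha) h2
    · rintro ⟨_, h⟩
      rw [h] at ha
      exact lt_asymm hjr ha
  · intro v
    exact EM_mulVec jj z c v

theorem exists_lower (ok : Ok n F q) (jj : Fin n) (hjr : jj < Fin.rev jj) (z : Fin n → F)
    (hsupp : ∀ x, z x ≠ 0 → jj < x ∧ x < Fin.rev jj) (c : F) (hc : c + c ^ q = -hJ n F q z z) :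
    ∃ h : GJ n F q, h ∈ Bminus n F q ∧
      (∀ x a : Fin n, a < jj → mat h x a = (1 : Matrix (Fin n) (Fin n) F) x a) ∧
      ∀ v : Fin n → F, mat h *ᵥ v =
        v + v jj • z + (c * v jj - hJ n F q v z) • Pi.single (Fin.rev jj) 1 := by
  have hrr : Fin.rev (Fin.rev jj) = jj := Fin.rev_rev jj
  have hz0 : ∀ x, ¬ (jj < x ∧ x < Fin.rev jj) → z x = 0 := by
    intro x hx
    by_contra h
    exact hx (hsupp x h)
  have tri : (EM q (Fin.rev jj) z c).BlockTriangular OrderDual.toDual := by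
    intro x y hxy
    have hxy' : x < y := hxy
    rw [EM_apply_eq_one ok, Matrix.one_apply_ne (ne_of_lt hxy')]
    · intro hy
      rw [hrr] at hy
      apply hz0
      rintro ⟨h1, _⟩
      rw [hy] at hxy'
      exact lt_asymm h1 hxy'
    · intro hx
      apply hz0
      rintro ⟨h1, _⟩
      rw [hx] at hxy'
      have := Fin.rev_lt_rev.mpr hxy'
      rw [hrr] at this
      exact lt_asymm h1 this
    · rintro ⟨hx, hy⟩
      rw [hrr] at hy
      rw [hx, hy] at hxy'
      exact lt_asymm hjr hxy'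
  have diag : ∀ x, EM q (Fin.rev jj) z c x x = 1 := by
    intro x
    rw [EM_apply_eq_one ok, Matrix.one_apply_eq]
    · intro hx
      rw [hrr] at hx
      rw [hx]
      exact hz0 _ (fun h => lt_irrefl _ h.1)
    · intro hx
      rw [hx, hrr]
      exact hz0 _ (fun h => lt_irrefl _ h.1)
    · rintro ⟨hx, hy⟩
      rw [hrr] at hy
      rw [hx] at hy
      exact (ne_of_gt hjr) hy
  have hdet : (EM q (Fin.rev jj) z c).det = 1 := by
    rw [Matrix.det_of_isLowerTriangular _ tri]
    exact Finset.prod_eq_one (fun i _ => diag i)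
  have hform := EM_form ok (Fin.rev jj) (by rw [hrr]; exact ne_of_lt hjr) z
    (by rw [hrr]; exact hz0 _ (fun h => lt_irrefl _ h.1)) c hc
  refine ⟨⟨⟨EM q (Fin.rev jj) z c, hdet⟩, hform⟩, ?_, ?_, ?_⟩
  · exact (mem_Bminus_iff _).2 (fun a b hab => tri hab)
  · intro x a ha
    show EM q (Fin.rev jj) z c x a = _
    apply EM_apply_eq_one ok
    · intro h
      rw [hrr] at h
      rw [h] at ha
      exact absurd ha (lt_irrefl _)
    · intro _
      apply hz0
      rintro ⟨_, h2⟩
      exact lt_asymm (Fin.rev_lt_rev.mpr ha) h2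
    · rintro ⟨_, h⟩
      rw [hrr] at h
      rw [h] at ha
      exact lt_irrefl _ ha
  · intro v
    have := EM_mulVec (q := q) (Fin.rev jj) z c v
    rw [hrr] at this
    exact this

/-! ### the window `(j, rev j)` is stable under `rev` -/

theorem win_rev (jj x : Fin n) :
    (jj < Fin.rev x ∧ Fin.rev x < Fin.rev jj) ↔ (jj < x ∧ x < Fin.rev jj) := by
  constructor
  · rintro ⟨h1, h2⟩
    refine ⟨Fin.rev_lt_rev.mp h2, ?_⟩
    have := Fin.rev_lt_rev.mpr h1
    rwa [Fin.rev_rev] at this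
  · rintro ⟨h1, h2⟩
    refine ⟨?_, Fin.rev_lt_rev.mpr h1⟩
    have := Fin.rev_lt_rev.mpr h2
    rwa [Fin.rev_rev] at this

/-! ### step A: `w j ≠ 0` -/

theorem stepA (ok : Ok n F q) (jj : Fin n) (hjr : jj < Fin.rev jj) (w : Fin n → F)
    (hW1 : ∀ x, Fin.rev jj < x → w x = 0) (hW2 : hJ n F q w w = 0) (hwj : w jj ≠ 0) :
    ∃ h : GJ n F q, h ∈ Bminus n F q ∧
      (∀ x a : Fin n, a < jj → mat h x a = (1 : Matrix (Fin n) (Fin n) F) x a) ∧
      ∀ x, jj < x → (mat h *ᵥ w) x = 0 := by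
  classical
  have hrr : Fin.rev (Fin.rev jj) = jj := Fin.rev_rev jj
  -- the window part of `w`
  obtain ⟨w0, hw0⟩ : ∃ w0 : Fin n → F, w0 = fun x => if jj < x ∧ x < Fin.rev jj then w x else 0 :=
    ⟨_, rfl⟩
  have hw0_in : ∀ x, jj < x → x < Fin.rev jj → w0 x = w x := by
    intro x h1 h2
    rw [hw0]
    exact if_pos ⟨h1, h2⟩
  have hw0_out : ∀ x, ¬ (jj < x ∧ x < Fin.rev jj) → w0 x = 0 := by
    intro x h
    rw [hw0]
    exact if_neg h
  obtain ⟨N, hN⟩ : ∃ N : F, N = hJ n F q w0 w0 := ⟨_, rfl⟩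
  -- (I1)
  have hI1 : hJ n F q w w = N + w jj * (w (Fin.rev jj)) ^ q + w (Fin.rev jj) * (w jj) ^ q := by
    have hpt : ∀ i, w i * (w (Fin.rev i)) ^ q = w0 i * (w0 (Fin.rev i)) ^ q
        + (if i = jj then w jj * (w (Fin.rev jj)) ^ q else 0)
        + (if i = Fin.rev jj then w (Fin.rev jj) * (w jj) ^ q else 0) := by
      intro i
      rcases lt_trichotomy i jj with h | h | h
      · have h1 : Fin.rev jj < Fin.rev i := Fin.rev_lt_rev.mpr h
        rw [hW1 _ h1, frob_zero ok, mul_zero, hw0_out i (fun hh => lt_asymm hh.1 h), zero_mul,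
          if_neg (ne_of_lt h), if_neg (ne_of_lt (lt_trans h hjr)), add_zero, add_zero]
      · rw [h, hw0_out jj (fun hh => lt_irrefl _ hh.1), zero_mul, if_pos rfl,
          if_neg (ne_of_lt hjr), zero_add, add_zero]
      · rcases lt_trichotomy i (Fin.rev jj) with h' | h' | h'
        · have hin := (win_rev jj i).2 ⟨h, h'⟩
          rw [hw0_in i h h', hw0_in _ hin.1 hin.2, if_neg (ne_of_gt h), if_neg (ne_of_lt h'),
            add_zero, add_zero]
        · rw [h', hrr, hw0_out (Fin.rev jj) (fun hh => lt_irrefl _ hh.2), zero_mul,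
            if_neg (ne_of_gt hjr), if_pos rfl, zero_add, zero_add]
        · rw [hW1 _ h', zero_mul, hw0_out i (fun hh => lt_asymm hh.2 h'), zero_mul,
            if_neg (ne_of_gt h), if_neg (ne_of_gt h'), add_zero, add_zero]
    rw [hJ_def, Finset.sum_congr rfl (fun i _ => hpt i), Finset.sum_add_distrib,
      Finset.sum_add_distrib, hN, hJ_def]
    simp only [Finset.sum_ite_eq', Finset.mem_univ, if_true]
  -- (I2)
  have hI2 : hJ n F q w w0 = N := by
    rw [hN, hJ_def, hJ_def]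
    refine Finset.sum_congr rfl (fun i _ => ?_)
    by_cases hin : jj < Fin.rev i ∧ Fin.rev i < Fin.rev jj
    · have := (win_rev jj i).1 hin
      rw [hw0_in i this.1 this.2]
    · rw [hw0_out _ hin, frob_zero ok, mul_zero, mul_zero]
  have hNq : N ^ q = N := by
    rw [hN]
    exact (hJ_symm ok w0 w0).symm
  have hiso : N + w jj * (w (Fin.rev jj)) ^ q + w (Fin.rev jj) * (w jj) ^ q = 0 := by
    rw [← hI1, hW2]
  -- parameters
  obtain ⟨A, hA⟩ : ∃ A : F, A = w jj := ⟨_, rfl⟩
  obtain ⟨R, hR⟩ : ∃ R : F, R = w (Fin.rev jj) := ⟨_, rfl⟩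
  rw [← hA, ← hR] at hiso
  have hA0 : A ≠ 0 := by rw [hA]; exact hwj
  have hAq0 : A ^ q ≠ 0 := pow_ne_zero _ hA0
  obtain ⟨a, ha⟩ : ∃ a : F, a = -A⁻¹ := ⟨_, rfl⟩
  have haq : a ^ q = -(A ^ q)⁻¹ := by rw [ha, frob_neg ok, inv_pow]
  obtain ⟨c, hcd⟩ : ∃ c : F, c = (a ^ q * N - R) / A := ⟨_, rfl⟩
  have hcq : c ^ q = (a * N - R ^ q) / A ^ q := by
    rw [hcd, div_pow, frob_sub ok, mul_pow, ok.frob_frob, hNq]
  have hzz : hJ n F q (a • w0) (a • w0) = a * (a ^ q * N) := by
    rw [hJ_smul_left, hJ_smul_right, ← hN]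
  have hwz : hJ n F q w (a • w0) = a ^ q * N := by
    rw [hJ_smul_right, hI2]
  have hc : c + c ^ q = -hJ n F q (a • w0) (a • w0) := by
    rw [hzz, hcq, hcd, haq, ha]
    field_simp
    linear_combination (-1 : F) * hiso
  have hsupp : ∀ x, (a • w0) x ≠ 0 → jj < x ∧ x < Fin.rev jj := by
    intro x hx
    by_contra hcon
    apply hx
    rw [Pi.smul_apply, hw0_out x hcon, smul_zero]
  obtain ⟨h, hB, hfix, hact⟩ := exists_lower ok jj hjr (a • w0) hsupp c hc
  refine ⟨h, hB, hfix, ?_⟩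
  intro x hx
  rw [hact, hwz, ← hA]
  have hcA : c * A = a ^ q * N - R := by
    rw [hcd, div_mul_cancel₀ _ hA0]
  simp only [Pi.add_apply, Pi.smul_apply, smul_eq_mul]
  rw [hcA]
  rcases lt_trichotomy x (Fin.rev jj) with h' | h' | h'
  · rw [hw0_in x hx h', Pi.single_eq_of_ne (ne_of_lt h'), mul_zero, add_zero, ha]
    field_simp
    ring
  · rw [h', hw0_out (Fin.rev jj) (fun hh => lt_irrefl _ hh.2), Pi.single_eq_same, ← hR]
    ring
  · rw [hW1 x h', hw0_out x (fun hh => lt_asymm hh.2 h'), Pi.single_eq_of_ne (ne_of_gt h')]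
    ring

/-! ### step B: `w j = 0`, some higher coordinate is nonzero -/

theorem stepB_aux (ok : Ok n F q) (jj : Fin n) (hjr : jj < Fin.rev jj) (w : Fin n → F)
    (hW1 : ∀ x, Fin.rev jj < x → w x = 0) (hwj : w jj = 0) (z : Fin n → F)
    (hsupp : ∀ x, z x ≠ 0 → jj < x ∧ x < Fin.rev jj) (c : F) (hc : c + c ^ q = -hJ n F q z z)
    (hne : c * w (Fin.rev jj) - hJ n F q w z ≠ 0) :
    ∃ h : GJ n F q, h ∈ Bsub n F q ∧
      (∀ x a : Fin n, a < jj → mat h x a = (1 : Matrix (Fin n) (Fin n) F) x a) ∧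
      (∀ x, Fin.rev jj < x → (mat h *ᵥ w) x = 0) ∧ (mat h *ᵥ w) jj ≠ 0 := by
  have hz0 : ∀ x, ¬ (jj < x ∧ x < Fin.rev jj) → z x = 0 := by
    intro x hx
    by_contra h
    exact hx (hsupp x h)
  obtain ⟨h, hB, hfix, hact⟩ := exists_upper ok jj hjr z hsupp c hc
  refine ⟨h, hB, hfix, ?_, ?_⟩
  · intro x hx
    rw [hact]
    simp only [Pi.add_apply, Pi.smul_apply, smul_eq_mul]
    rw [hW1 x hx, hz0 x (fun hh => lt_asymm hh.2 hx),
      Pi.single_eq_of_ne (ne_of_gt (lt_trans hjr hx))]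
    ring
  · rw [hact]
    simp only [Pi.add_apply, Pi.smul_apply, smul_eq_mul]
    rw [hwj, hz0 jj (fun hh => lt_irrefl _ hh.1), Pi.single_eq_same, mul_zero, zero_add, zero_add,
      mul_one]
    exact hne

theorem stepB (ok : Ok n F q) (jj : Fin n) (hjr : jj < Fin.rev jj) (w : Fin n → F)
    (hW1 : ∀ x, Fin.rev jj < x → w x = 0) (hwj : w jj = 0) (hex : ∃ x, jj < x ∧ w x ≠ 0) :
    ∃ h : GJ n F q, h ∈ Bsub n F q ∧
      (∀ x a : Fin n, a < jj → mat h x a = (1 : Matrix (Fin n) (Fin n) F) x a) ∧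
      (∀ x, Fin.rev jj < x → (mat h *ᵥ w) x = 0) ∧ (mat h *ᵥ w) jj ≠ 0 := by
  classical
  by_cases hwr : w (Fin.rev jj) = 0
  · obtain ⟨x, hx, hwx⟩ := hex
    have hxr : x < Fin.rev jj := by
      rcases lt_trichotomy x (Fin.rev jj) with h' | h' | h'
      · exact h'
      · rw [h'] at hwx
        exact absurd hwr hwx
      · exact absurd (hW1 x h') hwx
    have hwin := (win_rev jj x).2 ⟨hx, hxr⟩
    have hfix : (-hJ n F q (Pi.single (Fin.rev x) (1 : F)) (Pi.single (Fin.rev x) (1 : F))) ^ q =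
        -hJ n F q (Pi.single (Fin.rev x) (1 : F)) (Pi.single (Fin.rev x) (1 : F)) := by
      rw [frob_neg ok, ← hJ_symm ok]
    obtain ⟨c, hc⟩ := ok.tr_surj _ hfix
    apply stepB_aux ok jj hjr w hW1 hwj (Pi.single (Fin.rev x) (1 : F)) ?_ c hc ?_
    · intro y hy
      have : y = Fin.rev x := by
        by_contra hne
        exact hy (Pi.single_eq_of_ne hne _)
      rw [this]
      exact hwin
    · rw [hwr, mul_zero, zero_sub, hJ_single_right ok, Fin.rev_rev]
      exact neg_ne_zero.mpr hwx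
  · apply stepB_aux ok jj hjr w hW1 hwj (0 : Fin n → F) ?_ (aPar F q) ?_ ?_
    · intro y hy
      exact absurd rfl hy
    · rw [ok.a_pow, hJ_zero_right ok, add_neg_cancel, neg_zero]
    · rw [hJ_zero_right ok, sub_zero]
      exact mul_ne_zero ok.a_ne hwr

/-! ### `FlagStab j` is a subgroup -/

theorem mem_flag_iff (j : ℕ) (g : GJ n F q) :
    g ∈ FlagStab n F q j ↔ g ∈ triSub n F q (fun x : Fin n => min x.val j) := by
  constructor
  · intro h
    show (mat g).BlockTriangular (fun x : Fin n => min x.val j)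
    intro a b hab
    have hab' : min b.val j < min a.val j := hab
    have h2 : b.val < j ∧ b.val < a.val := by
      simp only [lt_min_iff, min_lt_iff] at hab'
      omega
    exact h b a h2.1 (Fin.lt_def.2 h2.2)
  · intro h
    have h' : (mat g).BlockTriangular (fun x : Fin n => min x.val j) := h
    show ∀ a b : Fin n, a.val < j → a < b → mat g b a = 0
    intro a b ha hab
    apply h'
    show min a.val j < min b.val j
    have := Fin.lt_def.1 hab
    simp only [lt_min_iff, min_lt_iff]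
    omega

theorem finish (j : ℕ) (jj : Fin n) (hjv : jj.val = j) (g h : GJ n F q)
    (hg : g ∈ FlagStab n F q j) (hh : h ∈ FlagStab n F q j)
    (hkill : ∀ x, jj < x → (mat h *ᵥ (fun y => mat g y jj)) x = 0) :
    h * g ∈ FlagStab n F q (j + 1) := by
  have hhg : h * g ∈ FlagStab n F q j :=
    (mem_flag_iff j _).2 (Subgroup.mul_mem _ ((mem_flag_iff j h).1 hh) ((mem_flag_iff j g).1 hg))
  show ∀ a b : Fin n, a.val < j + 1 → a < b → mat (h * g) b a = 0
  intro a b ha hab
  by_cases haj : a.val < j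
  · exact hhg a b haj hab
  · have haj' : a = jj := Fin.ext (by omega)
    rw [haj'] at hab ⊢
    have := hkill b hab
    rw [mat_mul, Matrix.mul_apply]
    exact this

theorem flag_of_fix (j : ℕ) (jj : Fin n) (hjv : jj.val = j) (h : GJ n F q)
    (hfix : ∀ x a : Fin n, a < jj → mat h x a = (1 : Matrix (Fin n) (Fin n) F) x a) :
    h ∈ FlagStab n F q j := by
  show ∀ a b : Fin n, a.val < j → a < b → mat h b a = 0
  intro a b ha hab
  rw [hfix b a (Fin.lt_def.2 (by omega)), Matrix.one_apply_ne (ne_of_gt hab)]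

/-! ### the leaf -/

theorem flagStab_step (ok : Ok n F q) (j : ℕ) (hj : j < n / 2) (g : GJ n F q)
    (hg : g ∈ FlagStab n F q j) :
    ∃ h ∈ Bsub n F q ⊔ Bminus n F q, h * g ∈ FlagStab n F q (j + 1) := by
  classical
  have hjn : j < n := by omega
  obtain ⟨jj, hjj⟩ : ∃ jj : Fin n, jj = ⟨j, hjn⟩ := ⟨_, rfl⟩
  have hjv : jj.val = j := by rw [hjj]
  have hjr : jj < Fin.rev jj := by
    rw [Fin.lt_def, Fin.val_rev, hjv]
    omega
  obtain ⟨w, hw⟩ : ∃ w : Fin n → F, w = fun y => mat g y jj := ⟨_, rfl⟩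
  have hwe : mat g *ᵥ Pi.single jj 1 = w := by
    rw [Matrix.mulVec_single_one, hw]
    rfl
  -- `g⁻¹ ∈ FlagStab j`
  have hginv : g⁻¹ ∈ FlagStab n F q j :=
    (mem_flag_iff j _).2 (Subgroup.inv_mem _ ((mem_flag_iff j g).1 hg))
  -- W1
  have hW1 : ∀ x, Fin.rev jj < x → w x = 0 := by
    intro x hx
    have h1 := hJ_mat g (Pi.single jj 1) (mat g⁻¹ *ᵥ Pi.single (Fin.rev x) 1)
    rw [Matrix.mulVec_mulVec, mat_mul_inv, Matrix.one_mulVec, hwe, hJ_single_right ok, Fin.rev_rev,
      hJ_single_left ok, Matrix.mulVec_single_one] at h1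
    rw [h1]
    have h2 : mat g⁻¹ (Fin.rev jj) (Fin.rev x) = 0 := by
      apply hginv
      · have := Fin.lt_def.1 hx
        rw [Fin.val_rev] at this ⊢
        omega
      · exact Fin.rev_lt_rev.mpr (lt_trans hjr hx)
    show (mat g⁻¹ (Fin.rev jj) (Fin.rev x)) ^ q = 0
    rw [h2, frob_zero ok]
  -- W2
  have hW2 : hJ n F q w w = 0 := by
    have h1 := hJ_mat g (Pi.single jj 1) (Pi.single jj 1)
    rw [hwe, hJ_single_right ok, Pi.single_eq_of_ne (ne_of_gt hjr)] at h1
    exact h1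
  by_cases hall : ∀ x, jj < x → w x = 0
  · refine ⟨1, Subgroup.one_mem _, ?_⟩
    apply finish j jj hjv g 1 hg (flag_of_fix j jj hjv 1 (fun x a _ => by rw [mat_one]))
    intro x hx
    rw [mat_one, Matrix.one_mulVec]
    have := hall x hx
    rw [hw] at this
    exact this
  · push Not at hall
    by_cases hwj : w jj = 0
    · obtain ⟨h1, h1B, h1fix, h1W1, h1ne⟩ := stepB ok jj hjr w hW1 hwj hall
      have h1W2 : hJ n F q (mat h1 *ᵥ w) (mat h1 *ᵥ w) = 0 := by
        rw [hJ_mat h1, hW2]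
      obtain ⟨h2, h2B, h2fix, h2kill⟩ := stepA ok jj hjr (mat h1 *ᵥ w) h1W1 h1W2 h1ne
      refine ⟨h2 * h1, Subgroup.mul_mem _ ((le_sup_right : Bminus n F q ≤ _) h2B)
        ((le_sup_left : Bsub n F q ≤ _) h1B), ?_⟩
      have hfl : h2 * h1 ∈ FlagStab n F q j :=
        (mem_flag_iff j _).2 (Subgroup.mul_mem _
          ((mem_flag_iff j h2).1 (flag_of_fix j jj hjv h2 h2fix))
          ((mem_flag_iff j h1).1 (flag_of_fix j jj hjv h1 h1fix)))
      apply finish j jj hjv g (h2 * h1) hg hfl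
      intro x hx
      have := h2kill x hx
      rw [Matrix.mulVec_mulVec, ← mat_mul, hw] at this
      exact this
    · obtain ⟨h2, h2B, h2fix, h2kill⟩ := stepA ok jj hjr w hW1 hW2 hwj
      refine ⟨h2, (le_sup_right : Bminus n F q ≤ _) h2B, ?_⟩
      apply finish j jj hjv g h2 hg (flag_of_fix j jj hjv h2 h2fix)
      intro x hx
      have := h2kill x hx
      rw [hw] at this
      exact this

end Cfsg.Agent.Lib.Helper74.StSU
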