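import Mathlib
import Cfsg.Agent.Lib.Helper49.StSpDefs
import Cfsg.Agent.Lib.Helper18.SympTrans
import Cfsg.Agent.S0765

set_option autoImplicit false

/-! K-StSp-C5a (keystone 254515, pack for S2545, architect helper49): the upper and the lower triangular
symplectic matrices generate `Sp_{2m}(F)`.  Parallel hand by helper74.

Route: `Sp` is generated by the transvections `tv(w,c)` (S0765).  A transvection with centre in the Lagrangian
`E = ⟨e_i⟩` is upper triangular, one with centre in `E' = ⟨f_i⟩` is lower triangular.  For a general `w` let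
`v` be its `E'`-part.  If `f(w,v) ≠ 0` the lower triangular transvection `tv(v, -1/f(w,v))` maps `w` to
`w - v ∈ E`; if `f(w,v) = 0` and `w(f_k) ≠ 0`, the upper triangular `tv(e_k, 1)` maps `w` to `w'` with the same
`E'`-part and `f(w',v) = -w(f_k)² ≠ 0`.  Conjugating, every transvection lies in `B ⊔ B⁻`. -/

namespace Cfsg.Agent.Lib.Helper74.StSp

open Matrix Cfsg.Agent.Lib.Helper49.StSp Cfsg.Agent.Lib.Helper18

variable {m : ℕ} {F : Type*} [Field F]

/-- entries of a symplectic transvection -/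
theorem sympTransvection_apply (w : Fin m ⊕ Fin m → F) (c : F) (a b : Fin m ⊕ Fin m) :
    Cfsg.sympTransvection m w c a b =
      (1 : Matrix (Fin m ⊕ Fin m) (Fin m ⊕ Fin m) F) a b + c * (w a * (Matrix.J (Fin m) F *ᵥ w) b) := by
  unfold Cfsg.sympTransvection
  rw [Matrix.add_apply, Matrix.smul_apply, Matrix.vecMulVec_apply, smul_eq_mul]

/-- a transvection with centre in `E = ⟨e_i⟩` is upper triangular -/
theorem tv_mem_Bsub (w : Fin m ⊕ Fin m → F) (hw : ∀ k, w (Sum.inr k) = 0) (c : F) :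
    tv m w c ∈ Bsub m F := by
  rw [mem_Bsub_iff]
  intro a b hab
  show Cfsg.sympTransvection m w c a b = 0
  rw [sympTransvection_apply, Matrix.one_apply_ne (fun h => by rw [h] at hab; exact lt_irrefl _ hab),
    zero_add]
  rcases a with a | a
  · rcases b with b | b
    · rw [J_mulVec_inl, hw, neg_zero, mul_zero, mul_zero]
    · exfalso
      simp only [pos] at hab
      have := a.2; have := b.2
      omega
  · rw [hw, zero_mul, mul_zero]

/-- a transvection with centre in `E' = ⟨f_i⟩` is lower triangular -/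
theorem tv_mem_Bminus (w : Fin m ⊕ Fin m → F) (hw : ∀ k, w (Sum.inl k) = 0) (c : F) :
    tv m w c ∈ Bminus m F := by
  rw [mem_Bminus_iff]
  intro a b hab
  show Cfsg.sympTransvection m w c a b = 0
  rw [sympTransvection_apply, Matrix.one_apply_ne (fun h => by rw [h] at hab; exact lt_irrefl _ hab),
    zero_add]
  rcases a with a | a
  · rw [hw, zero_mul, mul_zero]
  · rcases b with b | b
    · exfalso
      simp only [pos] at hab
      have := a.2; have := b.2
      omega
    · rw [J_mulVec_inr, hw, mul_zero, mul_zero]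

/-- conjugating a transvection -/
theorem conj_tv (g : SpG m F) (w : Fin m ⊕ Fin m → F) (c : F) :
    g * tv m w c * g⁻¹ = tv m ((g : Matrix (Fin m ⊕ Fin m) (Fin m ⊕ Fin m) F) *ᵥ w) c := by
  apply Subtype.ext
  apply Matrix.mulVec_injective
  funext x
  show ((g : Matrix (Fin m ⊕ Fin m) (Fin m ⊕ Fin m) F) * Cfsg.sympTransvection m w c *
      ((g⁻¹ : SpG m F) : Matrix (Fin m ⊕ Fin m) (Fin m ⊕ Fin m) F)) *ᵥ x =
    Cfsg.sympTransvection m ((g : Matrix (Fin m ⊕ Fin m) (Fin m ⊕ Fin m) F) *ᵥ w) c *ᵥ x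
  rw [← Matrix.mulVec_mulVec, ← Matrix.mulVec_mulVec, transv_mulVec, transv_mulVec,
    Matrix.mulVec_add, Matrix.mulVec_smul, mulVec_inv_mulVec]
  have h1 := sf_mulVec_of_mem m (g : Matrix (Fin m ⊕ Fin m) (Fin m ⊕ Fin m) F) g.2
    (((g⁻¹ : SpG m F) : Matrix (Fin m ⊕ Fin m) (Fin m ⊕ Fin m) F) *ᵥ x) w
  rw [mulVec_inv_mulVec] at h1
  rw [h1]

/-- the `E'`-part of a vector -/
def vpart (w : Fin m ⊕ Fin m → F) : Fin m ⊕ Fin m → F :=
  fun a => Sum.elim (fun _ => 0) (fun k => w (Sum.inr k)) a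

theorem vpart_inl (w : Fin m ⊕ Fin m → F) (k : Fin m) : vpart w (Sum.inl k) = 0 := rfl

theorem vpart_inr (w : Fin m ⊕ Fin m → F) (k : Fin m) : vpart w (Sum.inr k) = w (Sum.inr k) := rfl

/-- Case A: `f(w, v) ≠ 0`. -/
theorem tv_mem_of_form_ne (w : Fin m ⊕ Fin m → F)
    (hne : Cfsg.sympForm m F w (vpart w) ≠ 0) (c : F) :
    tv m w c ∈ Bsub m F ⊔ Bminus m F := by
  -- `g = tv(v, -1/f(w,v))` maps `w` to `w - v`
  have hg : tv m (vpart w) (-(Cfsg.sympForm m F w (vpart w))⁻¹) ∈ Bsub m F ⊔ Bminus m F :=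
    (le_sup_right : Bminus m F ≤ _) (tv_mem_Bminus _ (vpart_inl w) _)
  have hgw : ((tv m (vpart w) (-(Cfsg.sympForm m F w (vpart w))⁻¹) : SpG m F) :
      Matrix (Fin m ⊕ Fin m) (Fin m ⊕ Fin m) F) *ᵥ w = w - vpart w := by
    rw [tv_val, transv_mulVec, neg_mul, inv_mul_cancel₀ hne, neg_one_smul, sub_eq_add_neg]
  have hu : tv m (w - vpart w) c ∈ Bsub m F ⊔ Bminus m F := by
    apply (le_sup_left : Bsub m F ≤ _)
    apply tv_mem_Bsub
    intro k
    rw [Pi.sub_apply, vpart_inr, sub_self]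
  have hconj := conj_tv (tv m (vpart w) (-(Cfsg.sympForm m F w (vpart w))⁻¹)) w c
  rw [hgw] at hconj
  -- `tv w c = g⁻¹ * tv (w - v) c * g`
  have : tv m w c = (tv m (vpart w) (-(Cfsg.sympForm m F w (vpart w))⁻¹))⁻¹ *
      tv m (w - vpart w) c * tv m (vpart w) (-(Cfsg.sympForm m F w (vpart w))⁻¹) := by
    rw [← hconj]; group
  rw [this]
  exact Subgroup.mul_mem _ (Subgroup.mul_mem _ (Subgroup.inv_mem _ hg) hu) hg

/-- every symplectic transvection lies in `B ⊔ B⁻` -/
theorem tv_mem_sup (w : Fin m ⊕ Fin m → F) (c : F) : tv m w c ∈ Bsub m F ⊔ Bminus m F := by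
  by_cases hE : ∀ k, w (Sum.inr k) = 0
  · exact (le_sup_left : Bsub m F ≤ _) (tv_mem_Bsub w hE c)
  · by_cases hne : Cfsg.sympForm m F w (vpart w) = 0
    · push Not at hE
      obtain ⟨k, hk⟩ := hE
      -- `g0 = tv(e_k, 1)`
      have hg0 : tv m (Pi.single (Sum.inl k) (1 : F)) 1 ∈ Bsub m F ⊔ Bminus m F := by
        apply (le_sup_left : Bsub m F ≤ _)
        apply tv_mem_Bsub
        intro j
        simp
      have hg0w : ((tv m (Pi.single (Sum.inl k) (1 : F)) 1 : SpG m F) :
          Matrix (Fin m ⊕ Fin m) (Fin m ⊕ Fin m) F) *ᵥ w =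
          w + w (Sum.inr k) • Pi.single (Sum.inl k) (1 : F) := by
        rw [tv_val, transv_mulVec, one_mul, sf_single_inl]
      have hv : vpart (w + w (Sum.inr k) • Pi.single (Sum.inl k) (1 : F)) = vpart w := by
        funext a
        rcases a with a | a
        · rfl
        · show (w + w (Sum.inr k) • (Pi.single (Sum.inl k) (1 : F) : Fin m ⊕ Fin m → F))
              (Sum.inr a) = w (Sum.inr a)
          simp
      have hne' : Cfsg.sympForm m F (w + w (Sum.inr k) • Pi.single (Sum.inl k) (1 : F))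
          (vpart (w + w (Sum.inr k) • Pi.single (Sum.inl k) (1 : F))) ≠ 0 := by
        rw [hv, sf_add_left, hne, zero_add, sf_smul_left, sf_swap, sf_single_inl, vpart_inr]
        intro h0
        have : w (Sum.inr k) * w (Sum.inr k) = 0 := by
          have := congrArg Neg.neg h0
          simpa using this
        exact hk (mul_self_eq_zero.1 this)
      have h1 := tv_mem_of_form_ne _ hne' c
      have hconj := conj_tv (tv m (Pi.single (Sum.inl k) (1 : F)) 1) w c
      rw [hg0w] at hconj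
      have : tv m w c = (tv m (Pi.single (Sum.inl k) (1 : F)) 1)⁻¹ *
          tv m (w + w (Sum.inr k) • Pi.single (Sum.inl k) (1 : F)) c *
          tv m (Pi.single (Sum.inl k) (1 : F)) 1 := by
        rw [← hconj]; group
      rw [this]
      exact Subgroup.mul_mem _ (Subgroup.mul_mem _ (Subgroup.inv_mem _ hg0) h1) hg0
    · exact tv_mem_of_form_ne w hne c

/-- LEAF C5a (254515) -/
theorem B_sup_Bminus : Bsub m F ⊔ Bminus m F = ⊤ := by
  rw [eq_top_iff, ← Cfsg.Agent.S0765.result (F := F) m, Subgroup.closure_le]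
  rintro A ⟨w, c, hA⟩
  have : A = tv m w c := Subtype.ext hA
  rw [this]
  exact tv_mem_sup w c

end Cfsg.Agent.Lib.Helper74.StSp
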