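import Mathlib
import Cfsg.Prelude.Def_FischerSpaces
import Cfsg.Agent.Lib.Helper01.PCore
import Cfsg.Agent.Lib.Helper74.WidthOne

set_option autoImplicit false

/-!
# Rows on 3-transposition groups of width one (conditional on the Z*-theorem)
-/

namespace Cfsg.Agent.Lib.Helper74

universe u

section
variable {G : Type u} [Group G]

/-- the set of sizes of commuting subsets of `D` -/
def woSizes (D : Set G) : Set ℕ :=
  {n : ℕ | ∃ E : Set G, E ⊆ D ∧ E.Finite ∧ (∀ a ∈ E, ∀ b ∈ E, Commute a b) ∧ E.ncard = n}

theorem commutingWidth_eq (D : Set G) : Cfsg.commutingWidth D = sSup (woSizes D) := rfl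

theorem woSizes_bddAbove [Finite G] (D : Set G) : BddAbove (woSizes D) := by
  refine ⟨Nat.card G, ?_⟩
  rintro n ⟨E, -, -, -, rfl⟩
  exact Set.ncard_le_card E

/-- a commuting pair of distinct members forces width at least 2 -/
theorem two_le_commutingWidth [Finite G] {D : Set G} {a b : G} (ha : a ∈ D) (hb : b ∈ D)
    (hne : a ≠ b) (hc : Commute a b) : 2 ≤ Cfsg.commutingWidth D := by
  rw [commutingWidth_eq]
  apply le_csSup (woSizes_bddAbove D)
  refine ⟨{a, b}, ?_, Set.toFinite _, ?_, Set.ncard_pair hne⟩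
  · intro x hx
    rcases hx with rfl | rfl
    · exact ha
    · exact hb
  · intro x hx y hy
    rcases hx with rfl | rfl <;> rcases hy with rfl | rfl
    · exact Commute.refl _
    · exact hc
    · exact hc.symm
    · exact Commute.refl _

/-- width one iff no two distinct members commute (for nonempty `D`) -/
theorem commutingWidth_eq_one_iff [Finite G] {D : Set G} {d : G} (hd : d ∈ D) :
    Cfsg.commutingWidth D = 1 ↔ ∀ a ∈ D, ∀ b ∈ D, Commute a b → a = b := by
  constructor
  · intro h a ha b hb hc
    by_contra hne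
    have := two_le_commutingWidth ha hb hne hc
    omega
  · intro h
    rw [commutingWidth_eq]
    apply IsGreatest.csSup_eq
    constructor
    · refine ⟨{d}, ?_, Set.toFinite _, ?_, Set.ncard_singleton d⟩
      · intro x hx
        rw [Set.mem_singleton_iff] at hx
        rw [hx]; exact hd
      · intro x hx y hy
        rw [Set.mem_singleton_iff] at hx hy
        rw [hx, hy]
    · rintro n ⟨E, hED, hfin, hcomm, rfl⟩
      rw [Set.ncard_le_one hfin]
      intro a ha b hb
      exact h a (hED ha) b (hED hb) (hcomm a ha b hb)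

theorem wo_commute_of_sq {a b : G} (ha : a * a = 1) (hb : b * b = 1)
    (h : (a * b) ^ 2 = 1) : Commute a b := by
  have hainv : a⁻¹ = a := inv_eq_of_mul_eq_one_left ha
  have hbinv : b⁻¹ = b := inv_eq_of_mul_eq_one_left hb
  have h1 : a * b * (a * b) = 1 := by rw [← pow_two]; exact h
  have h2 : a * b = (a * b)⁻¹ := (inv_eq_of_mul_eq_one_left h1).symm
  rw [mul_inv_rev, hainv, hbinv] at h2
  exact h2

/-- **S5346**, conditional on the Z*-theorem for `G`. -/
theorem s5346_of_zstar [Finite G] (hZ : WOZStar G) {D : Set G}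
    (hD : Cfsg.IsThreeTranspositionGroup D) {d : G} (hd : d ∈ D) :
    Cfsg.commutingWidth D = 1 ↔ Subgroup.zpowers d ⊔ Cfsg.pCore 3 G = ⊤ := by
  obtain ⟨⟨hord, hprod⟩, hconj, hgen⟩ := hD
  have hsq : ∀ a ∈ D, a * a = 1 := by
    intro a ha
    have := pow_orderOf_eq_one a
    rw [hord a ha, pow_two] at this
    exact this
  rw [commutingWidth_eq_one_iff hd]
  constructor
  · intro h
    have hW : WOSet D := by
      refine ⟨hord, hconj, ?_⟩
      intro a ha b hb hne
      rcases hprod a ha b hb with h2 | h3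
      · exact absurd (h a ha b hb (wo_commute_of_sq (hsq a ha) (hsq b hb) h2)) hne
      · exact h3
    exact width_one_sup hZ hW hgen hd
  · intro htop a ha b hb hc
    have hQn : (Cfsg.pCore 3 G).Normal := Cfsg.Agent.Lib.Helper01.pCore_normal 3
    have hQ3 : IsPGroup 3 (Cfsg.pCore 3 G) := Cfsg.Agent.Lib.Helper01.pCore_isPGroup 3
    have hdd := hsq d hd
    have hdinv : d⁻¹ = d := inv_eq_of_mul_eq_one_left hdd
    -- elements of `Q` of order dividing 2 are trivial
    have htriv : ∀ x ∈ Cfsg.pCore 3 G, x * x = 1 → x = 1 := by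
      intro x hx hxx
      obtain ⟨k, hk⟩ := hQ3 ⟨x, hx⟩
      have hk' : x ^ (3 ^ k) = 1 := by
        have := congrArg Subtype.val hk
        simpa using this
      have h1 : orderOf x ∣ 2 := orderOf_dvd_of_pow_eq_one (by rw [pow_two]; exact hxx)
      have h2 : orderOf x ∣ 3 ^ k := orderOf_dvd_of_pow_eq_one hk'
      have hcop : Nat.Coprime 2 (3 ^ k) := Nat.Coprime.pow_right k (by norm_num)
      have := Nat.eq_one_of_dvd_coprimes hcop h1 h2
      rwa [orderOf_eq_one_iff] at this
    -- every member of `D` lies in the coset `d Q`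
    have hcoset : ∀ x ∈ D, ∃ q ∈ Cfsg.pCore 3 G, x = d * q := by
      intro x hx
      have hx' : x ∈ Subgroup.zpowers d ⊔ Cfsg.pCore 3 G := by rw [htop]; trivial
      obtain ⟨y, hy, q, hq, rfl⟩ := Subgroup.mem_sup_of_normal_right.1 hx'
      obtain ⟨i, rfl⟩ := Subgroup.mem_zpowers_iff.1 hy
      rcases Int.even_or_odd' i with ⟨k, rfl | rfl⟩
      · exfalso
        have h1 : d ^ (2 * k) = 1 := by
          rw [zpow_mul, zpow_ofNat, pow_two, hdd, one_zpow]
        rw [h1, one_mul] at hx
        have h2 := htriv q hq (hsq q hx)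
        have h3 := pow_orderOf_eq_one q
        rw [hord q hx, h2] at h3
        have h4 := hord q hx
        rw [h2, orderOf_one] at h4
        omega
      · refine ⟨q, hq, ?_⟩
        have h1 : d ^ (2 * k + 1) = d := by
          rw [zpow_add, zpow_mul, zpow_ofNat, pow_two, hdd, one_zpow, one_mul, zpow_one]
        rw [h1]
    obtain ⟨q, hq, rfl⟩ := hcoset a ha
    obtain ⟨r, hr, rfl⟩ := hcoset b hb
    -- the product lies in `Q` and squares to one
    have hmem : d * q * (d * r) ∈ Cfsg.pCore 3 G := by
      have : d * q * (d * r) = (d * q * d⁻¹) * r := by rw [hdinv]; group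
      rw [this]
      exact Subgroup.mul_mem _ (hQn.conj_mem q hq d) hr
    have hsq2 : d * q * (d * r) * (d * q * (d * r)) = 1 := by
      have h1 := hsq _ ha
      have h2 := hsq _ hb
      have h3 : d * r * (d * q) = d * q * (d * r) := hc.eq.symm
      calc d * q * (d * r) * (d * q * (d * r))
          = d * q * ((d * r) * (d * q)) * (d * r) := by group
        _ = d * q * (d * q * (d * r)) * (d * r) := by rw [h3]
        _ = (d * q * (d * q)) * ((d * r) * (d * r)) := by group
        _ = 1 := by rw [h1, h2, one_mul]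
    have h1 := htriv _ hmem hsq2
    -- a * b = 1 → a = b⁻¹ = b
    have h2 := eq_inv_of_mul_eq_one_left h1
    rw [h2]
    exact inv_eq_of_mul_eq_one_left (hsq _ hb)

end

end Cfsg.Agent.Lib.Helper74
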