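import Mathlib
import Cfsg.Prelude.Def_FischerSpaces
import Cfsg.Agent.Lib.Helper01.PCore
import Cfsg.Agent.Lib.Helper15.PSolv
import Cfsg.Agent.Lib.Helper74.WidthOne
import Cfsg.Agent.Lib.Helper74.WidthOneRows

set_option autoImplicit false

/-!
# The classes `W_d` of a class of 3-transpositions (conditional on the Z*-theorem)

`W_d` is the set of members `w` of `D` having the same commuting partners (other than `w`) as `d`
(other than `d`).  We show `W_d = D ∩ d O_3(G) = d ^ O_3(G)`.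
-/

namespace Cfsg.Agent.Lib.Helper74

universe u

section
variable {G : Type u} [Group G]

/-- commuting partners of `x` in `D` other than `x` -/
def woA (D : Set G) (x : G) : Set G := {y : G | y ∈ D ∧ y ≠ x ∧ Commute x y}

/-- the class `W_d` -/
def woW (D : Set G) (d : G) : Set G := {w : G | w ∈ D ∧ woA D d = woA D w}

/-- a set of 3-transpositions closed under conjugation -/
structure WOT (D : Set G) : Prop where
  tt : Cfsg.IsThreeTranspositionSet D
  conj : ∀ g : G, ∀ x ∈ D, g * x * g⁻¹ ∈ D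

variable {D : Set G}

theorem WOT.sq (h : WOT D) {x : G} (hx : x ∈ D) : x * x = 1 := by
  have := pow_orderOf_eq_one x
  rw [h.tt.1 x hx, pow_two] at this
  exact this

theorem WOT.inv (h : WOT D) {x : G} (hx : x ∈ D) : x⁻¹ = x :=
  inv_eq_of_mul_eq_one_left (h.sq hx)

theorem WOT.mem_conj_iff (h : WOT D) (g x : G) : g * x * g⁻¹ ∈ D ↔ x ∈ D := by
  constructor
  · intro hx
    have := h.conj g⁻¹ _ hx
    have e : g⁻¹ * (g * x * g⁻¹) * (g⁻¹)⁻¹ = x := by group
    rwa [e] at this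
  · exact h.conj g x

theorem WOT.mem_woA_conj (h : WOT D) (g x y : G) :
    g * y * g⁻¹ ∈ woA D (g * x * g⁻¹) ↔ y ∈ woA D x := by
  constructor
  · rintro ⟨h1, h2, h3⟩
    refine ⟨(h.mem_conj_iff g y).1 h1, ?_, (Commute.conj_iff g).1 h3⟩
    intro hyx
    exact h2 (by rw [hyx])
  · rintro ⟨h1, h2, h3⟩
    refine ⟨h.conj g y h1, ?_, (Commute.conj_iff g).2 h3⟩
    intro hyx
    apply h2
    have := congrArg (fun z => g⁻¹ * z * g) hyx
    simpa [mul_assoc] using this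

theorem WOT.woA_conj_eq (h : WOT D) (g : G) {x y : G} (hxy : woA D x = woA D y) :
    woA D (g * x * g⁻¹) = woA D (g * y * g⁻¹) := by
  ext z
  have e : z = g * (g⁻¹ * z * g) * g⁻¹ := by group
  rw [e, h.mem_woA_conj, h.mem_woA_conj, hxy]

theorem WOT.cube_of_not_commute (h : WOT D) {x y : G} (hx : x ∈ D) (hy : y ∈ D)
    (hc : ¬ Commute x y) : (x * y) ^ 3 = 1 := by
  rcases h.tt.2 x hx y hy with h2 | h3
  · exact absurd (wo_commute_of_sq (h.sq hx) (h.sq hy) h2) hc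
  · exact h3

theorem WOT.not_commute (h : WOT D) {x y : G} (hy : y ∈ D)
    (hxy : woA D x = woA D y) (hne : x ≠ y) : ¬ Commute x y := by
  intro hc
  have : y ∈ woA D x := ⟨hy, Ne.symm hne, hc⟩
  rw [hxy] at this
  exact this.2.1 rfl

theorem wo_braid {x y : G} (hx : x * x = 1) (hy : y * y = 1) (h3 : (x * y) ^ 3 = 1) :
    x * y * x⁻¹ = y * x * y⁻¹ := by
  have hxinv : x⁻¹ = x := inv_eq_of_mul_eq_one_left hx
  have hyinv : y⁻¹ = y := inv_eq_of_mul_eq_one_left hy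
  have h6 : x * y * x * y * x * y = 1 := by
    have := h3
    rw [pow_succ, pow_succ, pow_one] at this
    simpa [mul_assoc] using this
  rw [hxinv, hyinv]
  calc x * y * x = (x * y * x * y * x * y) * (y⁻¹ * x⁻¹ * y⁻¹) := by group
    _ = y * x * y := by rw [h6, one_mul, hxinv, hyinv]

theorem WOT.woA_conj_conj (h : WOT D) {y z x : G} (hy : y ∈ D) (hz : z ∈ D) (hx : x ∈ D)
    (hyz : woA D y = woA D z) : woA D (y * x * y⁻¹) = woA D (z * x * z⁻¹) := by
  by_cases hxy : x = y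
  · rw [hxy]
    have e : y * y * y⁻¹ = y := by group
    have e' : z * z * z⁻¹ = z := by group
    have := h.woA_conj_eq z hyz
    rw [e'] at this
    rw [e, this, hyz]
  by_cases hxz : x = z
  · rw [hxz]
    have e : y * y * y⁻¹ = y := by group
    have e' : z * z * z⁻¹ = z := by group
    have := h.woA_conj_eq y hyz
    rw [e] at this
    rw [e', ← this, hyz]
  by_cases hc : Commute y x
  · have hxA : x ∈ woA D y := ⟨hx, hxy, hc⟩
    have hc' : Commute z x := by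
      rw [hyz] at hxA
      exact hxA.2.2
    have e1 : y * x * y⁻¹ = x := by rw [hc.eq]; group
    have e2 : z * x * z⁻¹ = x := by rw [hc'.eq]; group
    rw [e1, e2]
  · have hc' : ¬ Commute z x := by
      intro hcz
      have hxA : x ∈ woA D z := ⟨hx, hxz, hcz⟩
      rw [← hyz] at hxA
      exact hc hxA.2.2
    rw [wo_braid (h.sq hy) (h.sq hx) (h.cube_of_not_commute hy hx hc),
      wo_braid (h.sq hz) (h.sq hx) (h.cube_of_not_commute hz hx hc')]
    exact h.woA_conj_eq x hyz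

/-- the kernel of the action on the classes `W_x` -/
def woK (D : Set G) (h : WOT D) : Subgroup G where
  carrier := {g | ∀ x ∈ D, woA D (g * x * g⁻¹) = woA D x}
  one_mem' := by
    intro x _
    simp
  mul_mem' := by
    intro a b ha hb x hx
    have e : a * b * x * (a * b)⁻¹ = a * (b * x * b⁻¹) * a⁻¹ := by group
    rw [e, ha _ (h.conj b x hx), hb x hx]
  inv_mem' := by
    intro a ha x hx
    have := ha _ (h.conj a⁻¹ x hx)
    have e : a * (a⁻¹ * x * a⁻¹⁻¹) * a⁻¹ = x := by group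
    rw [e] at this
    exact this.symm

theorem mem_woK {h : WOT D} {g : G} :
    g ∈ woK D h ↔ ∀ x ∈ D, woA D (g * x * g⁻¹) = woA D x := Iff.rfl

theorem woK_normal (h : WOT D) : (woK D h).Normal := by
  constructor
  intro n hn g x hx
  have hx' : g⁻¹ * x * g⁻¹⁻¹ ∈ D := h.conj g⁻¹ x hx
  have h1 := hn _ hx'
  have h2 := h.woA_conj_eq g h1
  have e1 : g * (n * (g⁻¹ * x * g⁻¹⁻¹) * n⁻¹) * g⁻¹ = g * n * g⁻¹ * x * (g * n * g⁻¹)⁻¹ := by
    group
  have e2 : g * (g⁻¹ * x * g⁻¹⁻¹) * g⁻¹ = x := by group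
  rw [e1, e2] at h2
  exact h2

theorem mul_mem_woK (h : WOT D) {y z : G} (hy : y ∈ D) (hz : z ∈ D)
    (hyz : woA D y = woA D z) : y * z ∈ woK D h := by
  intro x hx
  have hx' : z * x * z⁻¹ ∈ D := h.conj z x hx
  have h1 := h.woA_conj_conj hy hz hx' hyz
  have e1 : y * (z * x * z⁻¹) * y⁻¹ = y * z * x * (y * z)⁻¹ := by group
  have e2 : z * (z * x * z⁻¹) * z⁻¹ = x := by
    calc z * (z * x * z⁻¹) * z⁻¹ = (z * z) * x * (z * z)⁻¹ := by group
      _ = x := by rw [h.sq hz]; group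
  rw [e1, e2] at h1
  exact h1

/-- the subgroup generated by the products of two members of `W_d` -/
def woT (D : Set G) (d : G) : Subgroup G :=
  Subgroup.closure {u | ∃ y ∈ woW D d, ∃ z ∈ woW D d, u = y * z}

theorem woT_le_woK (h : WOT D) (d : G) : woT D d ≤ woK D h := by
  unfold woT
  rw [Subgroup.closure_le]
  rintro u ⟨y, hy, z, hz, rfl⟩
  exact mul_mem_woK h hy.1 hz.1 (hy.2.symm.trans hz.2)

theorem conj_mem_woW (h : WOT D) {d g : G} (hg : g ∈ woK D h) {w : G} (hw : w ∈ woW D d) :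
    g * w * g⁻¹ ∈ woW D d :=
  ⟨h.conj g w hw.1, by rw [hg w hw.1]; exact hw.2⟩

theorem conj_mem_woT (h : WOT D) {d g : G} (hg : g ∈ woK D h) {u : G} (hu : u ∈ woT D d) :
    g * u * g⁻¹ ∈ woT D d := by
  have hle : woT D d ≤ (woT D d).comap (MulAut.conj g).toMonoidHom := by
    conv_lhs => unfold woT
    rw [Subgroup.closure_le]
    rintro u ⟨y, hy, z, hz, rfl⟩
    show MulAut.conj g (y * z) ∈ woT D d
    rw [map_mul, MulAut.conj_apply, MulAut.conj_apply]
    exact Subgroup.subset_closure ⟨_, conj_mem_woW h hg hy, _, conj_mem_woW h hg hz, rfl⟩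
  have := hle hu
  rwa [Subgroup.mem_comap, MulEquiv.coe_toMonoidHom, MulAut.conj_apply] at this

theorem woA_conj_of_mem_closure (h : WOT D) {d g : G}
    (hg : g ∈ Subgroup.closure (woW D d)) : woA D (g * d * g⁻¹) = woA D d := by
  let S : Subgroup G :=
    { carrier := {g | woA D (g * d * g⁻¹) = woA D d}
      one_mem' := by simp
      mul_mem' := by
        intro a b ha hb
        have e : a * b * d * (a * b)⁻¹ = a * (b * d * b⁻¹) * a⁻¹ := by group
        show woA D (a * b * d * (a * b)⁻¹) = woA D d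
        rw [e, h.woA_conj_eq a hb]
        exact ha
      inv_mem' := by
        intro a ha
        have := h.woA_conj_eq a⁻¹ ha
        have e : a⁻¹ * (a * d * a⁻¹) * a⁻¹⁻¹ = d := by group
        rw [e] at this
        exact this.symm }
  have hle : Subgroup.closure (woW D d) ≤ S := by
    rw [Subgroup.closure_le]
    intro u hu
    show woA D (u * d * u⁻¹) = woA D d
    have := h.woA_conj_eq u hu.2
    have e : u * u * u⁻¹ = u := by group
    rw [e] at this
    rw [this, ← hu.2]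
  exact hle hg

theorem conj_mem_woW_of_mem_closure (h : WOT D) {d g : G}
    (hg : g ∈ Subgroup.closure (woW D d)) {w : G} (hw : w ∈ woW D d) :
    g * w * g⁻¹ ∈ woW D d :=
  ⟨h.conj g w hw.1, by rw [← h.woA_conj_eq g hw.2, woA_conj_of_mem_closure h hg]⟩

end

section
variable {G : Type u} [Group G] [Finite G] {D : Set G}

theorem isPGroup_woT (hZ : ∀ H : Subgroup G, WOZStar ↥H) (h : WOT D) {d : G} (hd : d ∈ D) :
    IsPGroup 3 (woT D d) := by
  have hdW : d ∈ woW D d := ⟨hd, rfl⟩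
  have hdH : d ∈ Subgroup.closure (woW D d) := Subgroup.subset_closure hdW
  have hW' : WOSet (((↑) : Subgroup.closure (woW D d) → G) ⁻¹' (woW D d)) := by
    refine ⟨?_, ?_, ?_⟩
    · intro x hx
      rw [← Subgroup.orderOf_coe]
      exact h.tt.1 _ hx.1
    · intro g x hx
      show ((g * x * g⁻¹ : Subgroup.closure (woW D d)) : G) ∈ woW D d
      have := conj_mem_woW_of_mem_closure h g.2 hx
      simpa using this
    · intro x hx y hy hne
      have hne' : (x : G) ≠ y := fun e => hne (Subtype.ext e)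
      have := h.cube_of_not_commute hx.1 hy.1
        (h.not_commute hy.1 (hx.2.symm.trans hy.2) hne')
      apply Subtype.ext
      simpa using this
  have hgen' : Subgroup.closure (((↑) : Subgroup.closure (woW D d) → G) ⁻¹' (woW D d)) = ⊤ :=
    Subgroup.closure_closure_coe_preimage
  obtain ⟨P, hPn, hP3, hP⟩ :=
    width_one_main (hZ (Subgroup.closure (woW D d))) hW' hgen' (d := ⟨d, hdH⟩) hdW
  have hd'inv : (⟨d, hdH⟩ : Subgroup.closure (woW D d))⁻¹ = ⟨d, hdH⟩ := hW'.inv hdW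
  have hle : woT D d ≤ P.map (Subgroup.closure (woW D d)).subtype := by
    unfold woT
    rw [Subgroup.closure_le]
    rintro u ⟨y, hy, z, hz, rfl⟩
    have hyH : y ∈ Subgroup.closure (woW D d) := Subgroup.subset_closure hy
    have hzH : z ∈ Subgroup.closure (woW D d) := Subgroup.subset_closure hz
    obtain ⟨x₁, hx₁, e₁⟩ := hP ⟨y, hyH⟩ hy
    obtain ⟨x₂, hx₂, e₂⟩ := hP ⟨z, hzH⟩ hz
    refine ⟨⟨y, hyH⟩ * ⟨z, hzH⟩, ?_, rfl⟩
    rw [e₁, e₂]
    have e : x₁ * ⟨d, hdH⟩ * x₁⁻¹ * (x₂ * ⟨d, hdH⟩ * x₂⁻¹) =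
        x₁ * (⟨d, hdH⟩ * (x₁⁻¹ * x₂) * (⟨d, hdH⟩ : Subgroup.closure (woW D d))⁻¹) * x₂⁻¹ := by
      rw [hd'inv]; group
    rw [e]
    exact P.mul_mem (P.mul_mem hx₁ (hPn.conj_mem _ (P.mul_mem (P.inv_mem hx₁) hx₂) _))
      (P.inv_mem hx₂)
  exact (hP3.map _).to_le hle

theorem woT_le_pCore (hZ : ∀ H : Subgroup G, WOZStar ↥H) (h : WOT D) {d : G} (hd : d ∈ D) :
    woT D d ≤ Cfsg.pCore 3 G := by
  have : Fact (Nat.Prime 3) := ⟨Nat.prime_three⟩
  have hKn : (woK D h).Normal := woK_normal h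
  have hTn : ((woT D d).subgroupOf (woK D h)).Normal := by
    constructor
    intro n hn g
    rw [Subgroup.mem_subgroupOf] at hn ⊢
    have := conj_mem_woT h g.2 hn
    simpa using this
  have hTp : IsPGroup 3 ((woT D d).subgroupOf (woK D h)) :=
    (isPGroup_woT hZ h hd).comap_subtype
  have h1 : (woT D d).subgroupOf (woK D h) ≤ Cfsg.pCore 3 ↥(woK D h) :=
    Cfsg.Agent.Lib.Helper01.le_pCore hTn hTp
  have h2 := Subgroup.map_mono (f := (woK D h).subtype) h1
  rw [Subgroup.map_subgroupOf_eq_of_le (woT_le_woK h d)] at h2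
  exact h2.trans (Cfsg.Agent.Lib.Helper15.map_pCore_le_of_normal 3 (woK D h))

end

section
variable {G : Type u} [Group G]

/-- if the involution `d` inverts `n` of odd order then `d * n` is conjugate to `d` by a power
of `n` -/
theorem wo_conj_of_inverted {d n : G} (hinv : d * n * d⁻¹ = n⁻¹)
    (hodd : Odd (orderOf n)) : ∃ i : ℕ, (n ^ i)⁻¹ * d * n ^ i = d * n := by
  obtain ⟨i, hi⟩ := hodd
  refine ⟨i + 1, ?_⟩
  have hss : n ^ (i + 1) * n ^ (i + 1) = n := by
    rw [← pow_add]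
    have : i + 1 + (i + 1) = orderOf n + 1 := by omega
    rw [this, pow_succ, pow_orderOf_eq_one, one_mul]
  have hsinv : d * n ^ (i + 1) * d⁻¹ = (n ^ (i + 1))⁻¹ := by
    rw [← conj_pow, hinv, inv_pow]
  rw [← hsinv]
  calc d * n ^ (i + 1) * d⁻¹ * d * n ^ (i + 1) = d * (n ^ (i + 1) * n ^ (i + 1)) := by group
    _ = d * n := by rw [hss]

theorem wo_mul_sq_of_commute {a b : G} (hc : Commute a b) (ha : a * a = 1) (hb : b * b = 1) :
    a * b * (a * b) = 1 := by
  have e : a * b * (a * b) = a * (b * a) * b := by group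
  rw [e, ← hc.eq]
  calc a * (a * b) * b = (a * a) * (b * b) := by group
    _ = 1 := by rw [ha, hb, one_mul]

/-- in a 3-group an element of order dividing 2 is trivial -/
theorem wo_eq_one_of_sq {Q : Subgroup G} (hQ : IsPGroup 3 Q) {x : G} (hx : x ∈ Q)
    (hxx : x * x = 1) : x = 1 := by
  obtain ⟨k, hk⟩ := hQ ⟨x, hx⟩
  have hk' : x ^ (3 ^ k) = 1 := by
    have := congrArg Subtype.val hk
    simpa using this
  have h1 : orderOf x ∣ 2 := orderOf_dvd_of_pow_eq_one (by rw [pow_two]; exact hxx)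
  have h2 : orderOf x ∣ 3 ^ k := orderOf_dvd_of_pow_eq_one hk'
  have hcop : Nat.Coprime 2 (3 ^ k) := Nat.Coprime.pow_right k (by norm_num)
  have := Nat.eq_one_of_dvd_coprimes hcop h1 h2
  rwa [orderOf_eq_one_iff] at this

variable {D : Set G}

/-- conjugating by an element of `O_3(G)` does not lose commuting partners -/
theorem WOT.woA_subset_conj (h : WOT D) {x : G} (hx : x ∈ D) {g : G}
    (hg : g ∈ Cfsg.pCore 3 G) : woA D x ⊆ woA D (g * x * g⁻¹) := by
  have hQn : (Cfsg.pCore 3 G).Normal := Cfsg.Agent.Lib.Helper01.pCore_normal 3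
  have hQ3 : IsPGroup 3 (Cfsg.pCore 3 G) := Cfsg.Agent.Lib.Helper01.pCore_isPGroup 3
  rintro y ⟨hyD, hyx, hc⟩
  have hx'D : g * x * g⁻¹ ∈ D := h.conj g x hx
  have hxx' : x * (g * x * g⁻¹) ∈ Cfsg.pCore 3 G := by
    have e : x * (g * x * g⁻¹) = (x * g * x⁻¹) * g⁻¹ := by rw [h.inv hx]; group
    rw [e]
    exact Subgroup.mul_mem _ (hQn.conj_mem g hg x) (Subgroup.inv_mem _ hg)
  refine ⟨hyD, ?_, ?_⟩
  · intro hyx'
    rw [hyx'] at hc
    have h1 := wo_eq_one_of_sq hQ3 hxx' (wo_mul_sq_of_commute hc (h.sq hx) (h.sq hx'D))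
    apply hyx
    rw [hyx', eq_inv_of_mul_eq_one_right h1, h.inv hx]
  · by_contra hnc
    have h3 : (g * x * g⁻¹ * y) ^ 3 = 1 := h.cube_of_not_commute hx'D hyD hnc
    have hφg : (QuotientGroup.mk' (Cfsg.pCore 3 G)) g = 1 := (QuotientGroup.eq_one_iff g).2 hg
    have hφx' : (QuotientGroup.mk' (Cfsg.pCore 3 G)) (g * x * g⁻¹) =
        (QuotientGroup.mk' (Cfsg.pCore 3 G)) x := by
      rw [map_mul, map_mul, map_inv, hφg, one_mul, inv_one, mul_one]
    have hφ3 : ((QuotientGroup.mk' (Cfsg.pCore 3 G)) (x * y)) ^ 3 = 1 := by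
      rw [map_mul, ← hφx', ← map_mul, ← map_pow, h3, map_one]
    have hxy2 : x * y * (x * y) = 1 := wo_mul_sq_of_commute hc (h.sq hx) (h.sq hyD)
    have hφ2 : ((QuotientGroup.mk' (Cfsg.pCore 3 G)) (x * y)) ^ 2 = 1 := by
      rw [← map_pow, pow_two, hxy2, map_one]
    have hφ1 : (QuotientGroup.mk' (Cfsg.pCore 3 G)) (x * y) = 1 := by
      have e : (QuotientGroup.mk' (Cfsg.pCore 3 G)) (x * y) =
          ((QuotientGroup.mk' (Cfsg.pCore 3 G)) (x * y)) ^ 3 *
            (((QuotientGroup.mk' (Cfsg.pCore 3 G)) (x * y)) ^ 2)⁻¹ := by group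
      rw [e, hφ3, hφ2, inv_one, mul_one]
    have hmem : x * y ∈ Cfsg.pCore 3 G := (QuotientGroup.eq_one_iff _).1 hφ1
    have h1 := wo_eq_one_of_sq hQ3 hmem hxy2
    exact hyx (by rw [eq_inv_of_mul_eq_one_right h1, h.inv hx])

end

section
variable {G : Type u} [Group G] [Finite G]

/-- **S5350**, conditional on the Z*-theorem for the subgroups of `G`. -/
theorem s5350_of_zstar (hZ : ∀ H : Subgroup G, WOZStar ↥H) {D : Set G}
    (hD : Cfsg.IsThreeTranspositionClass D) {d : G} (hd : d ∈ D) :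
    {w : G | w ∈ D ∧ {y : G | y ∈ D ∧ y ≠ d ∧ Commute d y} =
        {y : G | y ∈ D ∧ y ≠ w ∧ Commute w y}} =
      {w : G | w ∈ D ∧ d⁻¹ * w ∈ Cfsg.pCore 3 G} ∧
    {w : G | w ∈ D ∧ {y : G | y ∈ D ∧ y ≠ d ∧ Commute d y} =
        {y : G | y ∈ D ∧ y ≠ w ∧ Commute w y}} =
      {w : G | ∃ g ∈ Cfsg.pCore 3 G, w = g * d * g⁻¹} := by
  obtain ⟨htt, ⟨d₀, hd₀, hcls⟩, hgen⟩ := hD
  have h : WOT D := by
    refine ⟨htt, ?_⟩
    intro g x hx
    rw [hcls] at hx ⊢
    exact IsConj.trans hx (isConj_iff.2 ⟨g, rfl⟩)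
  have hQ3 : IsPGroup 3 (Cfsg.pCore 3 G) := Cfsg.Agent.Lib.Helper01.pCore_isPGroup 3
  have hdd := h.sq hd
  have hdinv := h.inv hd
  have hI : ∀ w, w ∈ woW D d → (w ∈ D ∧ d⁻¹ * w ∈ Cfsg.pCore 3 G) := by
    intro w hw
    refine ⟨hw.1, ?_⟩
    rw [hdinv]
    apply woT_le_pCore hZ h hd
    exact Subgroup.subset_closure ⟨d, ⟨hd, rfl⟩, w, hw, rfl⟩
  have hII : ∀ w, (w ∈ D ∧ d⁻¹ * w ∈ Cfsg.pCore 3 G) →
      ∃ g ∈ Cfsg.pCore 3 G, w = g * d * g⁻¹ := by
    rintro w ⟨hwD, hq⟩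
    have hw : w = d * (d⁻¹ * w) := by group
    have hww := h.sq hwD
    have hinv : d * (d⁻¹ * w) * d⁻¹ = (d⁻¹ * w)⁻¹ := by
      rw [← hw, mul_inv_rev, inv_inv, h.inv hwD, hdinv]
    have hodd : Odd (orderOf (d⁻¹ * w)) := by
      obtain ⟨k, hk⟩ := (IsPGroup.iff_orderOf.1 hQ3) ⟨_, hq⟩
      rw [Subgroup.orderOf_mk] at hk
      rw [hk]
      exact Odd.pow (by decide)
    obtain ⟨i, hi⟩ := wo_conj_of_inverted hinv hodd
    refine ⟨((d⁻¹ * w) ^ i)⁻¹, Subgroup.inv_mem _ (Subgroup.pow_mem _ hq i), ?_⟩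
    rw [inv_inv, hi, ← hw]
  have hIII : ∀ w, (∃ g ∈ Cfsg.pCore 3 G, w = g * d * g⁻¹) → w ∈ woW D d := by
    rintro w ⟨g, hg, rfl⟩
    refine ⟨h.conj g d hd, Set.Subset.antisymm (h.woA_subset_conj hd hg) ?_⟩
    have := h.woA_subset_conj (h.conj g d hd) (Subgroup.inv_mem _ hg)
    have e : g⁻¹ * (g * d * g⁻¹) * g⁻¹⁻¹ = d := by group
    rwa [e] at this
  constructor
  · ext w
    exact ⟨hI w, fun hw => hIII w (hII w hw)⟩
  · ext w
    exact ⟨fun hw => hII w (hI w hw), hIII w⟩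

end

end Cfsg.Agent.Lib.Helper74
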