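import Mathlib
import Cfsg.Prelude.Def_Local
import Cfsg.Prelude.Def_SporadicB
import Cfsg.Agent.Lib.Helper74.WidthOneW
import Cfsg.Agent.Lib.Helper30.Layer
import Cfsg.Agent.Lib.Helper28.FStar
import Cfsg.Agent.Lib.Helper28.Components
import Cfsg.Agent.Lib.Helper28.Layer
import Cfsg.Agent.Lib.Helper01.Fitting

set_option autoImplicit false

/-!
# 3-transposition groups: normal `p`-subgroups and the layer

Commutator calculus `ttK d g = d * (g d g⁻¹) = [d, g]` for a 3-transposition `d`, the "order six"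
trick for two commuting normal subgroups, and the criterion: if `[d, E]` is solvable for a perfect
subgroup `E` whose solvable normal subgroups are central, then `d` centralizes `E`.
-/

namespace Cfsg.Agent.Lib.Helper74

universe u

open scoped commutatorElement

section
variable {G : Type u} [Group G]

/-- `ttK d g = d * (g d g⁻¹)`, the commutator `[d, g]` when `d` is an involution -/
def ttK (d g : G) : G := d * (g * d * g⁻¹)

theorem ttK_eq {d : G} (hdd : d * d = 1) (g : G) : ttK d g = d * g * d⁻¹ * g⁻¹ := by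
  have hinv : d⁻¹ = d := inv_eq_of_mul_eq_one_left hdd
  unfold ttK
  rw [hinv]; group

theorem ttK_mem {d : G} (hdd : d * d = 1) {E : Subgroup G}
    (hdE : ∀ y ∈ E, d * y * d⁻¹ ∈ E) {g : G} (hg : g ∈ E) : ttK d g ∈ E := by
  rw [ttK_eq hdd]
  exact E.mul_mem (hdE g hg) (E.inv_mem hg)

theorem ttK_eq_one_iff {d : G} (hdd : d * d = 1) (g : G) : ttK d g = 1 ↔ g * d = d * g := by
  have hinv : d⁻¹ = d := inv_eq_of_mul_eq_one_left hdd
  unfold ttK
  constructor
  · intro h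
    have h1 : g * d * g⁻¹ = d := by
      have := eq_inv_of_mul_eq_one_right h
      rw [this, hinv]
    calc g * d = g * d * g⁻¹ * g := by group
      _ = d * g := by rw [h1]
  · intro h
    have : g * d * g⁻¹ = d := by rw [h]; group
    rw [this, hdd]

theorem ttK_mul (d x y : G) (hdd : d * d = 1) :
    ttK d (x * y) = ttK d x * (x * ttK d y * x⁻¹) := by
  have hinv : d⁻¹ = d := inv_eq_of_mul_eq_one_left hdd
  unfold ttK
  have e : d * (x * d * x⁻¹) * (x * (d * (y * d * y⁻¹)) * x⁻¹) =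
      d * x * (d * d) * y * d * y⁻¹ * x⁻¹ := by group
  rw [e, hdd]; group

theorem ttK_conj (d g y : G) :
    ttK (g * d * g⁻¹) y = g * ttK d (g⁻¹ * y * g) * g⁻¹ := by
  unfold ttK; group

variable {D : Set G}

theorem WOT.ttK_pow (h : WOT D) {d : G} (hd : d ∈ D) (g : G) :
    ttK d g ^ 2 = 1 ∨ ttK d g ^ 3 = 1 :=
  h.tt.2 d hd _ (h.conj g d hd)

/-- the "order six" trick -/
theorem WOT.no_two_three (h : WOT D) {d : G} (hd : d ∈ D) {x y : G}
    (hxr : Commute x (ttK d y)) (hqr : Commute (ttK d x) (ttK d y))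
    (hq1 : ttK d x ≠ 1) (hq2 : ttK d x ^ 2 = 1) (hr1 : ttK d y ≠ 1) (hr3 : ttK d y ^ 3 = 1) :
    False := by
  have hmul : ttK d (x * y) = ttK d x * ttK d y := by
    rw [ttK_mul d x y (h.sq hd), hxr.mul_inv_cancel]
  rcases h.ttK_pow hd (x * y) with h2 | h3
  · rw [hmul, hqr.mul_pow, hq2, one_mul] at h2
    apply hr1
    calc ttK d y = ttK d y ^ 3 * (ttK d y ^ 2)⁻¹ := by group
      _ = 1 := by rw [hr3, h2]; simp
  · rw [hmul, hqr.mul_pow, hr3, mul_one] at h3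
    apply hq1
    calc ttK d x = ttK d x ^ 3 * (ttK d x ^ 2)⁻¹ := by group
      _ = 1 := by rw [h3, hq2]; simp

theorem tt_commutator_mul_eq {a b y z : G} (hay : Commute a y) (haz : Commute a z)
    (hab : Commute a b) (hby : Commute b y) (hbz : Commute b z) :
    ⁅a * y, b * z⁆ = ⁅y, z⁆ := by
  have h1 : Commute a (y * b * z * y⁻¹) :=
    ((hay.mul_right hab).mul_right haz).mul_right hay.inv_right
  have h2 : Commute b (y * z * y⁻¹ * z⁻¹) :=
    ((hby.mul_right hbz).mul_right hby.inv_right).mul_right hbz.inv_right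
  calc ⁅a * y, b * z⁆ = (a * (y * b * z * y⁻¹) * a⁻¹) * z⁻¹ * b⁻¹ := by
        rw [commutatorElement_def]; group
    _ = (y * b * z * y⁻¹) * z⁻¹ * b⁻¹ := by rw [h1.mul_inv_cancel]
    _ = y * (b * z * y⁻¹ * z⁻¹ * b⁻¹) := by group
    _ = y * (z * y⁻¹ * z⁻¹) := by
        have h3 : Commute b (z * y⁻¹ * z⁻¹) :=
          (hbz.mul_right hby.inv_right).mul_right hbz.inv_right
        have : b * z * y⁻¹ * z⁻¹ * b⁻¹ = b * (z * y⁻¹ * z⁻¹) * b⁻¹ := by group
        rw [this, h3.mul_inv_cancel]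
    _ = ⁅y, z⁆ := by rw [commutatorElement_def]; group

theorem le_normalizer_of_conj_mem {H K : Subgroup G}
    (h : ∀ z ∈ H, ∀ n ∈ K, z * n * z⁻¹ ∈ K) : H ≤ Subgroup.normalizer (K : Set G) := by
  intro z hz
  rw [Subgroup.mem_normalizer_iff]
  intro n
  constructor
  · exact h z hz n
  · intro hn
    have := h z⁻¹ (H.inv_mem hz) _ hn
    have e : z⁻¹ * (z * n * z⁻¹) * z⁻¹⁻¹ = n := by group
    rwa [e] at this

/-- if all `[d, y]`, `y ∈ E`, centralize the perfect group `E`, then `d` centralizes `E` -/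
theorem tt_centralizes_of_central (E : Subgroup G) (hperf : ⁅E, E⁆ = E) {d : G}
    (hdd : d * d = 1) (hdE : ∀ y ∈ E, d * y * d⁻¹ ∈ E)
    (hc : ∀ y ∈ E, ∀ z ∈ E, Commute (ttK d y) z) : ∀ y ∈ E, y * d = d * y := by
  have hle : ⁅E, E⁆ ≤ Subgroup.centralizer {d} := by
    rw [Subgroup.commutator_le]
    intro y hy z hz
    rw [Subgroup.mem_centralizer_singleton_iff]
    have hy' : d * y * d⁻¹ = ttK d y * y := by rw [ttK_eq hdd]; group
    have hz' : d * z * d⁻¹ = ttK d z * z := by rw [ttK_eq hdd]; group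
    have hconj : d * ⁅y, z⁆ * d⁻¹ = ⁅y, z⁆ := by
      have e : d * ⁅y, z⁆ * d⁻¹ = ⁅d * y * d⁻¹, d * z * d⁻¹⁆ := by
        rw [commutatorElement_def, commutatorElement_def]; group
      rw [e, hy', hz']
      exact tt_commutator_mul_eq (hc y hy y hy) (hc y hy z hz)
        (hc y hy _ (ttK_mem hdd hdE hz)) (hc z hz y hy) (hc z hz z hz)
    calc ⁅y, z⁆ * d = (d * ⁅y, z⁆ * d⁻¹)⁻¹⁻¹ * d := by rw [hconj]; group
      _ = d * ⁅y, z⁆ := by group
  intro y hy
  have := hle (hperf.symm ▸ hy)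
  rwa [Subgroup.mem_centralizer_singleton_iff] at this

/-- the subgroup `[d, E]` -/
def ttComm (d : G) (E : Subgroup G) : Subgroup G :=
  Subgroup.closure {c : G | ∃ y ∈ E, c = ttK d y}

theorem ttComm_le {d : G} (hdd : d * d = 1) {E : Subgroup G}
    (hdE : ∀ y ∈ E, d * y * d⁻¹ ∈ E) : ttComm d E ≤ E := by
  unfold ttComm
  rw [Subgroup.closure_le]
  rintro c ⟨y, hy, rfl⟩
  exact ttK_mem hdd hdE hy

theorem le_normalizer_ttComm {d : G} (hdd : d * d = 1) (E : Subgroup G) :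
    E ≤ Subgroup.normalizer (ttComm d E : Set G) := by
  apply le_normalizer_of_conj_mem
  intro z hz n hn
  have hle : ttComm d E ≤ (ttComm d E).comap (MulAut.conj z).toMonoidHom := by
    refine (Subgroup.closure_le _).2 ?_
    rintro c ⟨y, hy, rfl⟩
    rw [SetLike.mem_coe, Subgroup.mem_comap]
    show z * ttK d y * z⁻¹ ∈ ttComm d E
    have e : z * ttK d y * z⁻¹ = (ttK d z)⁻¹ * ttK d (z * y) := by
      rw [ttK_mul d z y hdd]; group
    rw [e]
    exact Subgroup.mul_mem _ (Subgroup.inv_mem _ (Subgroup.subset_closure ⟨z, hz, rfl⟩))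
      (Subgroup.subset_closure ⟨z * y, E.mul_mem hz hy, rfl⟩)
  have := hle hn
  rw [Subgroup.mem_comap] at this
  simpa using this

/-- **centralizing criterion**: if `E` is perfect, its solvable normal subgroups are central and
`[d, E]` is solvable, then `d` centralizes `E` -/
theorem tt_centralizes_of_solvable (E : Subgroup G) (hperf : ⁅E, E⁆ = E)
    (hE : ∀ K : Subgroup G, K ≤ E → E ≤ Subgroup.normalizer (K : Set G) →
      Group.IsSolvable ↥K → ⁅E, K⁆ = ⊥)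
    {d : G} (hdd : d * d = 1) (hdE : ∀ y ∈ E, d * y * d⁻¹ ∈ E)
    (hsolv : Group.IsSolvable ↥(ttComm d E)) : ∀ y ∈ E, y * d = d * y := by
  have h1 := hE (ttComm d E) (ttComm_le hdd hdE) (le_normalizer_ttComm hdd E) hsolv
  rw [Subgroup.commutator_eq_bot_iff_le_centralizer] at h1
  apply tt_centralizes_of_central E hperf hdd hdE
  intro y hy z hz
  have := h1 hz
  rw [Subgroup.mem_centralizer_iff] at this
  exact this _ (Subgroup.subset_closure ⟨y, hy, rfl⟩)

end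

section
variable {G : Type u} [Group G]

/-- the `E`-orbit of `d` -/
def ttOrb (d : G) (E : Subgroup G) : Set G := {x : G | ∃ y ∈ E, x = y * d * y⁻¹}

theorem mem_ttOrb_self (d : G) (E : Subgroup G) : d ∈ ttOrb d E := ⟨1, E.one_mem, by simp⟩

theorem ttOrb_mul (d y y' : G) :
    (y * d * y⁻¹) * (y' * d * y'⁻¹) = y * ttK d (y⁻¹ * y') * y⁻¹ := by
  unfold ttK; group

theorem ttOrb_conj {d : G} {E : Subgroup G} (hdE : ∀ y ∈ E, d * y * d⁻¹ ∈ E) {x x' : G}
    (hx : x ∈ ttOrb d E) (hx' : x' ∈ ttOrb d E) : x' * x * x'⁻¹ ∈ ttOrb d E := by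
  obtain ⟨y, hy, rfl⟩ := hx
  obtain ⟨y', hy', rfl⟩ := hx'
  refine ⟨y' * (d * (y'⁻¹ * y) * d⁻¹),
    E.mul_mem hy' (hdE _ (E.mul_mem (E.inv_mem hy') hy)), ?_⟩
  group

variable {D : Set G}

/-- if `d` does not centralize `E`, some `[d, y]`, `y ∈ E`, has order 3 -/
theorem WOT.exists_cube (h : WOT D) {d : G} (hd : d ∈ D) (E : Subgroup G) (hperf : ⁅E, E⁆ = E)
    (hE : ∀ K : Subgroup G, K ≤ E → E ≤ Subgroup.normalizer (K : Set G) →
      Group.IsSolvable ↥K → ⁅E, K⁆ = ⊥)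
    (hdE : ∀ y ∈ E, d * y * d⁻¹ ∈ E) (hnc : ∃ y ∈ E, y * d ≠ d * y) :
    ∃ y ∈ E, ttK d y ≠ 1 ∧ ttK d y ^ 3 = 1 := by
  by_contra hno
  push Not at hno
  have hdd := h.sq hd
  have hsq2 : ∀ y ∈ E, ttK d y ^ 2 = 1 := by
    intro y hy
    rcases h.ttK_pow hd y with h2 | h3
    · exact h2
    · by_cases h1 : ttK d y = 1
      · rw [h1]; simp
      · exact absurd h3 (hno y hy h1)
  have hcomm : ∀ x ∈ ttOrb d E, ∀ x' ∈ ttOrb d E, Commute x x' := by
    rintro x ⟨y, hy, rfl⟩ x' ⟨y', hy', rfl⟩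
    apply wo_commute_of_sq (h.sq (h.conj y d hd)) (h.sq (h.conj y' d hd))
    rw [ttOrb_mul, conj_pow, hsq2 _ (E.mul_mem (E.inv_mem hy) hy')]; group
  have hsolv : Group.IsSolvable ↥(ttComm d E) := by
    have hc : ∀ a ∈ {c : G | ∃ y ∈ E, c = ttK d y}, ∀ b ∈ {c : G | ∃ y ∈ E, c = ttK d y},
        a * b = b * a := by
      rintro a ⟨y, hy, rfl⟩ b ⟨y', hy', rfl⟩
      have h1 := hcomm d (mem_ttOrb_self d E) _ ⟨y, hy, rfl⟩
      have h2 := hcomm d (mem_ttOrb_self d E) _ ⟨y', hy', rfl⟩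
      have h3 := hcomm _ ⟨y, hy, rfl⟩ _ ⟨y', hy', rfl⟩
      unfold ttK
      exact (Commute.mul_left ((Commute.refl d).mul_right h2) (h1.symm.mul_right h3)).eq
    exact isSolvable_of_comm (fun a b => (Subgroup.closureCommGroupOfComm hc).mul_comm a b)
  obtain ⟨y, hy, hne⟩ := hnc
  exact hne (tt_centralizes_of_solvable E hperf hE hdd hdE hsolv y hy)

end

section
variable {G : Type u} [Group G] [Finite G]

/-- the width-one theorem for a set generating a subgroup -/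
theorem wo_sub (hZ : ∀ H : Subgroup G, WOZStar ↥H) {D₀ : Set G}
    (hord : ∀ x ∈ D₀, orderOf x = 2)
    (hconj : ∀ x ∈ D₀, ∀ x' ∈ D₀, x' * x * x'⁻¹ ∈ D₀)
    (hcube : ∀ x ∈ D₀, ∀ x' ∈ D₀, x ≠ x' → (x * x') ^ 3 = 1) {d : G} (hd : d ∈ D₀) :
    ∃ P : Subgroup G, IsPGroup 3 P ∧
      (∀ g ∈ Subgroup.closure D₀, ∀ n ∈ P, g * n * g⁻¹ ∈ P) ∧
      ∀ e ∈ D₀, ∃ x ∈ P, e = x * d * x⁻¹ := by
  have hsq : ∀ x ∈ D₀, x * x = 1 := by
    intro x hx
    have := pow_orderOf_eq_one x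
    rw [hord x hx, pow_two] at this
    exact this
  have hTn : Subgroup.closure D₀ ≤ Subgroup.normalizer D₀ := by
    rw [Subgroup.closure_le]
    intro x' hx'
    rw [SetLike.mem_coe, Subgroup.mem_set_normalizer_iff]
    intro n
    constructor
    · intro hn; exact hconj n hn x' hx'
    · intro hn
      have := hconj _ hn x' hx'
      have hinv : x'⁻¹ = x' := inv_eq_of_mul_eq_one_left (hsq x' hx')
      have e : x' * (x' * n * x'⁻¹) * x'⁻¹ = n := by
        rw [hinv]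
        calc x' * (x' * n * x') * x' = (x' * x') * n * (x' * x') := by group
          _ = n := by rw [hsq x' hx']; group
      rwa [e] at this
  have hconjT : ∀ g ∈ Subgroup.closure D₀, ∀ x ∈ D₀, g * x * g⁻¹ ∈ D₀ := by
    intro g hg x hx
    exact ((Subgroup.mem_set_normalizer_iff.1 (hTn hg)) x).1 hx
  have hW' : WOSet (((↑) : Subgroup.closure D₀ → G) ⁻¹' D₀) := by
    refine ⟨?_, ?_, ?_⟩
    · intro x hx
      rw [← Subgroup.orderOf_coe]
      exact hord _ hx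
    · intro g x hx
      show ((g * x * g⁻¹ : Subgroup.closure D₀) : G) ∈ D₀
      have := hconjT g g.2 x hx
      simpa using this
    · intro x hx y hy hne
      have hne' : (x : G) ≠ y := fun e => hne (Subtype.ext e)
      have := hcube _ hx _ hy hne'
      apply Subtype.ext
      simpa using this
  have hgen' : Subgroup.closure (((↑) : Subgroup.closure D₀ → G) ⁻¹' D₀) = ⊤ :=
    Subgroup.closure_closure_coe_preimage
  have hdT : d ∈ Subgroup.closure D₀ := Subgroup.subset_closure hd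
  obtain ⟨P, hPn, hP3, hP⟩ :=
    width_one_main (hZ (Subgroup.closure D₀)) hW' hgen' (d := ⟨d, hdT⟩) hd
  refine ⟨P.map (Subgroup.closure D₀).subtype, hP3.map _, ?_, ?_⟩
  · rintro g hg n ⟨n', hn', rfl⟩
    exact ⟨⟨g, hg⟩ * n' * ⟨g, hg⟩⁻¹, hPn.conj_mem n' hn' ⟨g, hg⟩, by simp⟩
  · intro e he
    obtain ⟨x, hx, hxe⟩ := hP ⟨e, Subgroup.subset_closure he⟩ he
    refine ⟨x, ⟨x, hx, rfl⟩, ?_⟩
    have := congrArg Subtype.val hxe
    simpa using this

variable {D : Set G}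

/-- if `d` does not centralize `E`, some `[d, y]`, `y ∈ E`, has order 2 -/
theorem WOT.exists_sq (hZ : ∀ H : Subgroup G, WOZStar ↥H) (h : WOT D) {d : G} (hd : d ∈ D)
    (E : Subgroup G) (hperf : ⁅E, E⁆ = E)
    (hE : ∀ K : Subgroup G, K ≤ E → E ≤ Subgroup.normalizer (K : Set G) →
      Group.IsSolvable ↥K → ⁅E, K⁆ = ⊥)
    (hdE : ∀ y ∈ E, d * y * d⁻¹ ∈ E) (hnc : ∃ y ∈ E, y * d ≠ d * y) :
    ∃ y ∈ E, ttK d y ≠ 1 ∧ ttK d y ^ 2 = 1 := by
  by_contra hno
  push Not at hno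
  have hdd := h.sq hd
  have hcube3 : ∀ y ∈ E, ttK d y ^ 3 = 1 := by
    intro y hy
    rcases h.ttK_pow hd y with h2 | h3
    · by_cases h1 : ttK d y = 1
      · rw [h1]; simp
      · exact absurd h2 (hno y hy h1)
    · exact h3
  obtain ⟨P, hP3, hPn, hP⟩ := wo_sub hZ (D₀ := ttOrb d E)
    (by rintro x ⟨y, hy, rfl⟩; exact h.tt.1 _ (h.conj y d hd))
    (fun x hx x' hx' => ttOrb_conj hdE hx hx')
    (by
      rintro x ⟨y, hy, rfl⟩ x' ⟨y', hy', rfl⟩ -
      rw [ttOrb_mul, conj_pow, hcube3 _ (E.mul_mem (E.inv_mem hy) hy')]; group)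
    (mem_ttOrb_self d E)
  have hle : ttComm d E ≤ P := by
    refine (Subgroup.closure_le _).2 ?_
    rintro c ⟨y, hy, rfl⟩
    obtain ⟨x, hx, hxe⟩ := hP (y * d * y⁻¹) ⟨y, hy, rfl⟩
    have e : ttK d y = (d * x * d⁻¹) * x⁻¹ := by
      unfold ttK
      rw [hxe, h.inv hd]; group
    rw [SetLike.mem_coe, e]
    exact P.mul_mem (hPn d (Subgroup.subset_closure (mem_ttOrb_self d E)) x hx) (P.inv_mem hx)
  have hsolv : Group.IsSolvable ↥(ttComm d E) := by
    have : Fact (Nat.Prime 3) := ⟨Nat.prime_three⟩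
    exact Cfsg.Agent.Lib.Helper28.isSolvable_of_isPGroup _ (hP3.to_le hle)
  obtain ⟨y, hy, hne⟩ := hnc
  exact hne (tt_centralizes_of_solvable E hperf hE hdd hdE hsolv y hy)

end

section
variable {G : Type u} [Group G]

theorem layer_solvable_central (K : Subgroup G) (hK : K ≤ Cfsg.layer G)
    (hn : Cfsg.layer G ≤ Subgroup.normalizer (K : Set G)) (hs : Group.IsSolvable ↥K) :
    ⁅Cfsg.layer G, K⁆ = ⊥ := by
  apply Cfsg.Agent.Lib.Helper30.layer_commute_solvable _ hs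
  exact Subgroup.IsSubnormal.step K (Cfsg.layer G) hK
    (Subgroup.Normal.isSubnormal inferInstance)
    ((Subgroup.normal_subgroupOf_iff_le_normalizer hK).2 hn)

theorem component_solvable_central {L : Subgroup G} (hL : Cfsg.IsComponent L) (K : Subgroup G)
    (_hK : K ≤ L) (hn : L ≤ Subgroup.normalizer (K : Set G)) (hs : Group.IsSolvable ↥K) :
    ⁅L, K⁆ = ⊥ :=
  Cfsg.Agent.Lib.Helper28.component_commutes_solvable L K hL hs hn

end

section
variable {G : Type u} [Group G]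

/-- a generating conjugacy class of 3-transpositions (convenient form) -/
structure TTC (D : Set G) : Prop where
  wot : WOT D
  gen : Subgroup.closure D = ⊤
  trans : ∀ a ∈ D, ∀ b ∈ D, ∃ g : G, b = g * a * g⁻¹

theorem TTC.of_class {D : Set G} (hD : Cfsg.IsThreeTranspositionClass D) : TTC D := by
  obtain ⟨htt, ⟨d₀, hd₀, hcls⟩, hgen⟩ := hD
  refine ⟨⟨htt, ?_⟩, hgen, ?_⟩
  · intro g x hx
    rw [hcls] at hx ⊢
    exact IsConj.trans hx (isConj_iff.2 ⟨g, rfl⟩)
  · intro a ha b hb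
    rw [hcls] at ha hb
    have hab : IsConj a b := (IsConj.symm ha).trans hb
    obtain ⟨g, hg⟩ := isConj_iff.1 hab
    exact ⟨g, hg.symm⟩

variable {D : Set G}

theorem TTC.mem_center (h : TTC D) {x : G} (hx : ∀ d ∈ D, x * d = d * x) :
    x ∈ Subgroup.center G := by
  have hle : Subgroup.closure D ≤ Subgroup.centralizer {x} := by
    rw [Subgroup.closure_le]
    intro d hd
    rw [SetLike.mem_coe, Subgroup.mem_centralizer_singleton_iff]
    exact (hx d hd).symm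
  rw [h.gen] at hle
  rw [Subgroup.mem_center_iff]
  intro g
  have := hle (Subgroup.mem_top g)
  rwa [Subgroup.mem_centralizer_singleton_iff] at this

/-- a normal subgroup not in the centre is centralized by no member of `D` -/
theorem TTC.exists_not_comm (h : TTC D) {N : Subgroup G} (hN : N.Normal)
    (hc : ¬ N ≤ Subgroup.center G) {d : G} (hd : d ∈ D) : ∃ y ∈ N, y * d ≠ d * y := by
  by_contra hno
  push Not at hno
  apply hc
  intro y hy
  apply h.mem_center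
  intro d' hd'
  obtain ⟨g, rfl⟩ := h.trans d hd d' hd'
  have h1 := hno (g⁻¹ * y * g) (by
    have := hN.conj_mem y hy g⁻¹
    simpa using this)
  calc y * (g * d * g⁻¹) = g * ((g⁻¹ * y * g) * d) * g⁻¹ := by group
    _ = g * (d * (g⁻¹ * y * g)) * g⁻¹ := by rw [h1]
    _ = g * d * g⁻¹ * y := by group

theorem eq_one_of_pow_of_isPGroup {p n : ℕ} {P : Subgroup G} (hP : IsPGroup p P) {x : G}
    (hx : x ∈ P) (hn : x ^ n = 1) (hcop : Nat.Coprime n p) : x = 1 := by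
  obtain ⟨k, hk⟩ := hP ⟨x, hx⟩
  have hk' : x ^ (p ^ k) = 1 := by
    have := congrArg Subtype.val hk
    simpa using this
  have h1 : orderOf x ∣ n := orderOf_dvd_of_pow_eq_one hn
  have h2 : orderOf x ∣ p ^ k := orderOf_dvd_of_pow_eq_one hk'
  have := Nat.eq_one_of_dvd_coprimes (Nat.Coprime.pow_right k hcop) h1 h2
  rwa [orderOf_eq_one_iff] at this

/-- `O_p(G)` is central for `p > 3` -/
theorem TTC.pCore_le_center (h : TTC D) {p : ℕ} (hp : p.Prime) (hp3 : 3 < p) :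
    Cfsg.pCore p G ≤ Subgroup.center G := by
  have hNn : (Cfsg.pCore p G).Normal := Cfsg.Agent.Lib.Helper01.pCore_normal p
  have hNp : IsPGroup p (Cfsg.pCore p G) := Cfsg.Agent.Lib.Helper01.pCore_isPGroup p
  have c2 : Nat.Coprime 2 p := (Nat.coprime_primes Nat.prime_two hp).2 (by omega)
  have c3 : Nat.Coprime 3 p := (Nat.coprime_primes Nat.prime_three hp).2 (by omega)
  intro x hx
  apply h.mem_center
  intro d hd
  have hdd := h.wot.sq hd
  have hmem : ttK d x ∈ Cfsg.pCore p G :=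
    ttK_mem hdd (fun y hy => hNn.conj_mem y hy d) hx
  have h1 : ttK d x = 1 := by
    rcases h.wot.ttK_pow hd x with h2 | h3
    · exact eq_one_of_pow_of_isPGroup hNp hmem h2 c2
    · exact eq_one_of_pow_of_isPGroup hNp hmem h3 c3
  exact (ttK_eq_one_iff hdd x).1 h1

/-- a non-central commutator in `O_2(G)` -/
theorem TTC.exists_two (h : TTC D) (hQ : ¬ Cfsg.pCore 2 G ≤ Subgroup.center G) {d : G}
    (hd : d ∈ D) : ∃ x ∈ Cfsg.pCore 2 G, ttK d x ≠ 1 ∧ ttK d x ^ 2 = 1 := by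
  have hNn : (Cfsg.pCore 2 G).Normal := Cfsg.Agent.Lib.Helper01.pCore_normal 2
  have hNp : IsPGroup 2 (Cfsg.pCore 2 G) := Cfsg.Agent.Lib.Helper01.pCore_isPGroup 2
  have hdd := h.wot.sq hd
  obtain ⟨x, hx, hne⟩ := h.exists_not_comm hNn hQ hd
  have hmem : ttK d x ∈ Cfsg.pCore 2 G :=
    ttK_mem hdd (fun y hy => hNn.conj_mem y hy d) hx
  have h1 : ttK d x ≠ 1 := fun e => hne ((ttK_eq_one_iff hdd x).1 e)
  refine ⟨x, hx, h1, ?_⟩
  rcases h.wot.ttK_pow hd x with h2 | h3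
  · exact h2
  · exact absurd (eq_one_of_pow_of_isPGroup hNp hmem h3 (by norm_num)) h1

/-- a non-central commutator in `O_3(G)` -/
theorem TTC.exists_three (h : TTC D) (hR : ¬ Cfsg.pCore 3 G ≤ Subgroup.center G) {d : G}
    (hd : d ∈ D) : ∃ x ∈ Cfsg.pCore 3 G, ttK d x ≠ 1 ∧ ttK d x ^ 3 = 1 := by
  have hNn : (Cfsg.pCore 3 G).Normal := Cfsg.Agent.Lib.Helper01.pCore_normal 3
  have hNp : IsPGroup 3 (Cfsg.pCore 3 G) := Cfsg.Agent.Lib.Helper01.pCore_isPGroup 3
  have hdd := h.wot.sq hd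
  obtain ⟨x, hx, hne⟩ := h.exists_not_comm hNn hR hd
  have hmem : ttK d x ∈ Cfsg.pCore 3 G :=
    ttK_mem hdd (fun y hy => hNn.conj_mem y hy d) hx
  have h1 : ttK d x ≠ 1 := fun e => hne ((ttK_eq_one_iff hdd x).1 e)
  refine ⟨x, hx, h1, ?_⟩
  rcases h.wot.ttK_pow hd x with h2 | h3
  · exact absurd (eq_one_of_pow_of_isPGroup hNp hmem h2 (by norm_num)) h1
  · exact h3

/-- `O_2(G)` and `O_3(G)` are not both non-central -/
theorem TTC.not_two_three (h : TTC D) {d : G} (hd : d ∈ D)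
    (hQ : ¬ Cfsg.pCore 2 G ≤ Subgroup.center G) (hR : ¬ Cfsg.pCore 3 G ≤ Subgroup.center G) :
    False := by
  have hQn : (Cfsg.pCore 2 G).Normal := Cfsg.Agent.Lib.Helper01.pCore_normal 2
  have hRn : (Cfsg.pCore 3 G).Normal := Cfsg.Agent.Lib.Helper01.pCore_normal 3
  have hdd := h.wot.sq hd
  have : Fact (Nat.Prime 2) := ⟨Nat.prime_two⟩
  have : Fact (Nat.Prime 3) := ⟨Nat.prime_three⟩
  have hdisj : Disjoint (Cfsg.pCore 2 G) (Cfsg.pCore 3 G) :=
    IsPGroup.disjoint_of_ne 2 3 (by norm_num) _ _ (Cfsg.Agent.Lib.Helper01.pCore_isPGroup 2)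
      (Cfsg.Agent.Lib.Helper01.pCore_isPGroup 3)
  obtain ⟨x, hx, hq1, hq2⟩ := h.exists_two hQ hd
  obtain ⟨y, hy, hr1, hr3⟩ := h.exists_three hR hd
  have hqm : ttK d x ∈ Cfsg.pCore 2 G := ttK_mem hdd (fun y hy => hQn.conj_mem y hy d) hx
  have hrm : ttK d y ∈ Cfsg.pCore 3 G := ttK_mem hdd (fun y hy => hRn.conj_mem y hy d) hy
  exact h.wot.no_two_three hd
    (Subgroup.commute_of_normal_of_disjoint _ _ hQn hRn hdisj x _ hx hrm)
    (Subgroup.commute_of_normal_of_disjoint _ _ hQn hRn hdisj _ _ hqm hrm) hq1 hq2 hr1 hr3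

theorem layer_not_le_center (hE : Cfsg.layer G ≠ ⊥) : ¬ Cfsg.layer G ≤ Subgroup.center G := by
  intro hle
  apply hE
  have h1 : ⁅Cfsg.layer G, Cfsg.layer G⁆ = ⊥ := by
    rw [Subgroup.commutator_eq_bot_iff_le_centralizer]
    exact hle.trans (Subgroup.center_le_centralizer _)
  rw [← Cfsg.Agent.Lib.Helper30.layer_perfect, h1]

end

section
variable {G : Type u} [Group G] [Finite G] {D : Set G}

theorem commute_layer_pCore (p : ℕ) [Fact p.Prime] {x y : G} (hx : x ∈ Cfsg.layer G)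
    (hy : y ∈ Cfsg.pCore p G) : Commute x y := by
  have h1 : ⁅Cfsg.layer G, Cfsg.fittingSubgroup G⁆ = ⊥ :=
    Cfsg.Agent.Lib.Helper30.layer_commute_fitting
  rw [Subgroup.commutator_eq_bot_iff_le_centralizer] at h1
  have := h1 hx
  rw [Subgroup.mem_centralizer_iff] at this
  exact (this y (Cfsg.Agent.Lib.Helper01.pCore_le_fitting p hy)).symm

/-- `O_2(G)` non-central forces `E(G) = 1` -/
theorem TTC.not_two_layer (h : TTC D) {d : G} (hd : d ∈ D)
    (hQ : ¬ Cfsg.pCore 2 G ≤ Subgroup.center G) (hE : Cfsg.layer G ≠ ⊥) : False := by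
  have hQn : (Cfsg.pCore 2 G).Normal := Cfsg.Agent.Lib.Helper01.pCore_normal 2
  have hEn : (Cfsg.layer G).Normal := inferInstance
  have hdd := h.wot.sq hd
  have : Fact (Nat.Prime 2) := ⟨Nat.prime_two⟩
  obtain ⟨x, hx, hq1, hq2⟩ := h.exists_two hQ hd
  have hdE : ∀ y ∈ Cfsg.layer G, d * y * d⁻¹ ∈ Cfsg.layer G := fun y hy => hEn.conj_mem y hy d
  obtain ⟨y, hy, hr1, hr3⟩ := h.wot.exists_cube hd (Cfsg.layer G)
    Cfsg.Agent.Lib.Helper30.layer_perfect layer_solvable_central hdE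
    (h.exists_not_comm hEn (layer_not_le_center hE) hd)
  have hqm : ttK d x ∈ Cfsg.pCore 2 G := ttK_mem hdd (fun y hy => hQn.conj_mem y hy d) hx
  have hrm : ttK d y ∈ Cfsg.layer G := ttK_mem hdd hdE hy
  exact h.wot.no_two_three hd (commute_layer_pCore 2 hrm hx).symm
    (commute_layer_pCore 2 hrm hqm).symm hq1 hq2 hr1 hr3

/-- `O_3(G)` non-central forces `E(G) = 1` -/
theorem TTC.not_three_layer (hZ : ∀ H : Subgroup G, WOZStar ↥H) (h : TTC D) {d : G} (hd : d ∈ D)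
    (hR : ¬ Cfsg.pCore 3 G ≤ Subgroup.center G) (hE : Cfsg.layer G ≠ ⊥) : False := by
  have hRn : (Cfsg.pCore 3 G).Normal := Cfsg.Agent.Lib.Helper01.pCore_normal 3
  have hEn : (Cfsg.layer G).Normal := inferInstance
  have hdd := h.wot.sq hd
  have : Fact (Nat.Prime 3) := ⟨Nat.prime_three⟩
  obtain ⟨x, hx, hr1, hr3⟩ := h.exists_three hR hd
  have hdE : ∀ y ∈ Cfsg.layer G, d * y * d⁻¹ ∈ Cfsg.layer G := fun y hy => hEn.conj_mem y hy d
  obtain ⟨y, hy, hq1, hq2⟩ := h.wot.exists_sq hZ hd (Cfsg.layer G)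
    Cfsg.Agent.Lib.Helper30.layer_perfect layer_solvable_central hdE
    (h.exists_not_comm hEn (layer_not_le_center hE) hd)
  have hrm : ttK d x ∈ Cfsg.pCore 3 G := ttK_mem hdd (fun y hy => hRn.conj_mem y hy d) hx
  have hqm : ttK d y ∈ Cfsg.layer G := ttK_mem hdd hdE hy
  exact h.wot.no_two_three hd (commute_layer_pCore 3 hy hrm)
    (commute_layer_pCore 3 hqm hrm) hq1 hq2 hr1 hr3

/-- the Fitting subgroup is central when `O_2(G)` and `O_3(G)` are -/
theorem TTC.fitting_le_center (h : TTC D) (h2 : Cfsg.pCore 2 G ≤ Subgroup.center G)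
    (h3 : Cfsg.pCore 3 G ≤ Subgroup.center G) :
    Cfsg.fittingSubgroup G ≤ Subgroup.center G := by
  rw [Cfsg.Agent.Lib.Helper01.fitting_eq_iSup_pCore]
  apply iSup_le
  intro p
  by_cases e2 : (p : ℕ) = 2
  · rw [e2]; exact h2
  by_cases e3 : (p : ℕ) = 3
  · rw [e3]; exact h3
  have := p.2.two_le
  exact h.pCore_le_center p.2 (by omega)

/-- if `O_2(G)` and `O_3(G)` are central then `E(G) ≠ 1` -/
theorem TTC.layer_ne_bot (h : TTC D) (hD2 : ∃ a ∈ D, ∃ b ∈ D, a ≠ b)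
    (h2 : Cfsg.pCore 2 G ≤ Subgroup.center G) (h3 : Cfsg.pCore 3 G ≤ Subgroup.center G) :
    Cfsg.layer G ≠ ⊥ := by
  intro hE
  have hF : Cfsg.generalizedFittingSubgroup G ≤ Subgroup.center G := by
    unfold Cfsg.generalizedFittingSubgroup
    rw [hE, bot_sup_eq]
    exact h.fitting_le_center h2 h3
  have hC : Subgroup.centralizer (Cfsg.generalizedFittingSubgroup G : Set G) = ⊤ :=
    Subgroup.centralizer_eq_top_iff_subset.2 hF
  have htop : (⊤ : Subgroup G) ≤ Subgroup.center G := by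
    rw [← hC]
    exact Cfsg.Agent.Lib.Helper28.centralizer_genFitting_le.trans hF
  obtain ⟨a, ha, b, hb, hne⟩ := hD2
  obtain ⟨g, rfl⟩ := h.trans a ha b hb
  apply hne
  have hg : g ∈ Subgroup.center G := htop (Subgroup.mem_top g)
  rw [Subgroup.mem_center_iff] at hg
  calc a = a * g * g⁻¹ := by group
    _ = g * a * g⁻¹ := by rw [hg a]

/-- **S5351**, conditional on the Z*-theorem for the subgroups of `G`. -/
theorem s5351_of_zstar (hZ : ∀ H : Subgroup G, WOZStar ↥H)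
    (hD : Cfsg.IsThreeTranspositionClass D) (hD2 : ∃ a ∈ D, ∃ b ∈ D, a ≠ b) :
    (∀ p : ℕ, p.Prime → 3 < p → Cfsg.pCore p G ≤ Subgroup.center G) ∧
    ((¬ Cfsg.pCore 2 G ≤ Subgroup.center G ∧ Cfsg.pCore 3 G ≤ Subgroup.center G ∧
        Cfsg.layer G = ⊥) ∨
      (Cfsg.pCore 2 G ≤ Subgroup.center G ∧ ¬ Cfsg.pCore 3 G ≤ Subgroup.center G ∧
        Cfsg.layer G = ⊥) ∨
      (Cfsg.pCore 2 G ≤ Subgroup.center G ∧ Cfsg.pCore 3 G ≤ Subgroup.center G ∧
        Cfsg.layer G ≠ ⊥)) := by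
  have h := TTC.of_class hD
  have hD2' := hD2
  obtain ⟨d, hd, -⟩ := hD2'
  refine ⟨fun p hp hp3 => h.pCore_le_center hp hp3, ?_⟩
  by_cases hQ : Cfsg.pCore 2 G ≤ Subgroup.center G
  · by_cases hR : Cfsg.pCore 3 G ≤ Subgroup.center G
    · exact Or.inr (Or.inr ⟨hQ, hR, h.layer_ne_bot hD2 hQ hR⟩)
    · refine Or.inr (Or.inl ⟨hQ, hR, ?_⟩)
      by_contra hE
      exact h.not_three_layer hZ hd hR hE
  · refine Or.inl ⟨hQ, ?_, ?_⟩
    · by_contra hR
      exact h.not_two_three hd hQ hR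
    · by_contra hE
      exact h.not_two_layer hd hQ hE

end

end Cfsg.Agent.Lib.Helper74
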