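import Mathlib
import Cfsg.Agent.Lib.Helper74.NormArgument

set_option autoImplicit false

/-!
Isaacs: in a finite `p`-group whose class sizes are `1` and `m`, the quotient by the center has
exponent dividing `p`.
-/

namespace Cfsg.Agent.Lib.Helper74

variable {P : Type*} [Group P]

/-- centralizer of an element -/
abbrev cn (g : P) : Subgroup P := Subgroup.centralizer ({g} : Set P)

theorem mem_cn {g k : P} : k ∈ cn g ↔ k * g = g * k := Subgroup.mem_centralizer_singleton_iff

theorem cn_eq_top_iff {g : P} : cn g = ⊤ ↔ g ∈ Subgroup.center P := by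
  rw [cn, Subgroup.centralizer_eq_top_iff_subset, Set.singleton_subset_iff]
  rfl

theorem cn_le_cn_pow (g : P) (k : ℕ) : cn g ≤ cn (g ^ k) := by
  intro a ha
  rw [mem_cn] at ha ⊢
  exact ((Commute.pow_right (show Commute a g from ha) k)).eq

theorem cn_mul_central (g c : P) (hc : c ∈ Subgroup.center P) : cn (g * c) = cn g := by
  ext a
  rw [mem_cn, mem_cn]
  have h := Subgroup.mem_center_iff.mp hc
  constructor
  · intro e
    have e2 : a * g * c = g * a * c := by
      calc a * g * c = a * (g * c) := by group
        _ = g * c * a := e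
        _ = g * (c * a) := by group
        _ = g * (a * c) := by rw [h a]
        _ = g * a * c := by group
    exact mul_right_cancel e2
  · intro e
    calc a * (g * c) = (a * g) * c := by group
      _ = (g * a) * c := by rw [e]
      _ = g * (a * c) := by group
      _ = g * (c * a) := by rw [h a]
      _ = g * c * a := by group

theorem self_mem_cn (g : P) : g ∈ cn g := mem_cn.mpr rfl

theorem center_le_cn (g : P) : Subgroup.center P ≤ cn g := by
  intro c hc
  rw [mem_cn]
  exact (Subgroup.mem_center_iff.mp hc g).symm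

/-- a central element of order `p` in a nontrivial finite `p`-group -/
theorem exists_central_orderOf_eq_prime {Q : Type*} [Group Q] [Finite Q] [Nontrivial Q] (p : ℕ)
    [hp : Fact p.Prime] (hQ : IsPGroup p Q) : ∃ c : Q, c ∈ Subgroup.center Q ∧ orderOf c = p := by
  have hcnt : Nontrivial (Subgroup.center Q) := hQ.center_nontrivial
  have hZQ : IsPGroup p (Subgroup.center Q) := hQ.to_subgroup _
  obtain ⟨n, hn⟩ := IsPGroup.iff_card.mp hZQ
  have hn0 : n ≠ 0 := by
    intro h0
    rw [h0, pow_zero] at hn
    have := Finite.one_lt_card (α := Subgroup.center Q)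
    omega
  have hdvd : p ∣ Nat.card (Subgroup.center Q) := by
    rw [hn]; exact dvd_pow_self p hn0
  obtain ⟨c, hc⟩ := exists_prime_orderOf_dvd_card' p hdvd
  exact ⟨c, c.2, by rw [← hc]; exact (Subgroup.orderOf_coe c)⟩

section Main

variable [Finite P]

/-- comparable centralizers of noncentral elements are equal when there are two class sizes -/
theorem cn_eq_of_le (m : ℕ) (h : ∀ x : P, (cn x).index = 1 ∨ (cn x).index = m) (u v : P)
    (hle : cn u ≤ cn v) (hv : v ∉ Subgroup.center P) : cn u = cn v := by
  have hvm : (cn v).index = m := by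
    rcases h v with h1 | h1
    · exact absurd (cn_eq_top_iff.mp (Subgroup.index_eq_one.mp h1)) hv
    · exact h1
  have hu : u ∉ Subgroup.center P := by
    intro hu
    apply hv
    rw [← cn_eq_top_iff] at hu ⊢
    rw [hu] at hle
    exact top_le_iff.mp hle
  have hum : (cn u).index = m := by
    rcases h u with h1 | h1
    · exact absurd (cn_eq_top_iff.mp (Subgroup.index_eq_one.mp h1)) hu
    · exact h1
  have hm0 : m ≠ 0 := by
    rw [← hvm]; exact Subgroup.index_ne_zero_of_finite
  have e := Subgroup.relIndex_mul_index hle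
  rw [hum, hvm] at e
  have e1 : (cn u).relIndex (cn v) = 1 := by
    have : (cn u).relIndex (cn v) * m = 1 * m := by rw [e, one_mul]
    exact Nat.eq_of_mul_eq_mul_right (Nat.pos_of_ne_zero hm0) this
  exact le_antisymm hle (Subgroup.relIndex_eq_one.mp e1)

/-- **Isaacs.** In a finite `p`-group with class sizes `1` and `m`, `p`-th powers are central. -/
theorem pow_prime_mem_center_of_two_class_sizes (p : ℕ) [hp : Fact p.Prime] (hP : IsPGroup p P)
    (m : ℕ) (h : ∀ x : P, (cn x).index = 1 ∨ (cn x).index = m) (x : P) :
    x ^ p ∈ Subgroup.center P := by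
  by_contra hx
  have hxZ : x ∉ Subgroup.center P := fun hxz => hx (Subgroup.pow_mem _ hxz p)
  -- Step A: a central element of order `p` of the quotient by the center
  obtain ⟨z, hz1, hz2, hz3⟩ : ∃ z : P, z ∉ Subgroup.center P ∧ z ^ p ∈ Subgroup.center P ∧
      ∀ g : P, (QuotientGroup.mk z : P ⧸ Subgroup.center P) * QuotientGroup.mk g =
        QuotientGroup.mk g * QuotientGroup.mk z := by
    have hnt : Nontrivial (P ⧸ Subgroup.center P) := by
      refine ⟨⟨QuotientGroup.mk x, 1, ?_⟩⟩
      intro e
      exact hxZ ((QuotientGroup.eq_one_iff x).mp e)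
    have hQ : IsPGroup p (P ⧸ Subgroup.center P) := hP.to_quotient _
    have hcnt : Nontrivial (Subgroup.center (P ⧸ Subgroup.center P)) := hQ.center_nontrivial
    have hZQ : IsPGroup p (Subgroup.center (P ⧸ Subgroup.center P)) := hQ.to_subgroup _
    obtain ⟨n, hn⟩ := IsPGroup.iff_card.mp hZQ
    have hn0 : n ≠ 0 := by
      intro h0
      rw [h0, pow_zero] at hn
      have := Finite.one_lt_card (α := Subgroup.center (P ⧸ Subgroup.center P))
      omega
    have hdvd : p ∣ Nat.card (Subgroup.center (P ⧸ Subgroup.center P)) := by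
      rw [hn]; exact dvd_pow_self p hn0
    obtain ⟨c, hc⟩ := exists_prime_orderOf_dvd_card' p hdvd
    obtain ⟨z, hz⟩ := QuotientGroup.mk_surjective (c : P ⧸ Subgroup.center P)
    have hcne : (c : P ⧸ Subgroup.center P) ≠ 1 := by
      intro e
      have : c = 1 := Subtype.ext e
      rw [this, orderOf_one] at hc
      exact hp.out.one_lt.ne hc
    have hcp : (c : P ⧸ Subgroup.center P) ^ p = 1 := by
      have := pow_orderOf_eq_one c
      rw [hc] at this
      have h2 := congrArg Subtype.val this
      simpa using h2
    refine ⟨z, ?_, ?_, ?_⟩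
    · intro hzc
      apply hcne
      rw [← hz]
      exact (QuotientGroup.eq_one_iff z).mpr hzc
    · rw [← QuotientGroup.eq_one_iff, QuotientGroup.mk_pow, hz]
      exact hcp
    · intro g
      rw [hz]
      exact (Subgroup.mem_center_iff.mp c.2 _).symm
  -- Step B
  have stepB : ∀ g : P, g ^ p ∉ Subgroup.center P → cn g = cn z := by
    intro g hg
    have hgZ : g ∉ Subgroup.center P := fun hgz => hg (Subgroup.pow_mem _ hgz p)
    -- `(z g)^p` and `g^p` differ by a central element
    have e1 : (QuotientGroup.mk ((z * g) ^ p) : P ⧸ Subgroup.center P) = QuotientGroup.mk (g ^ p) := by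
      rw [QuotientGroup.mk_pow, QuotientGroup.mk_mul, (show Commute (QuotientGroup.mk z : P ⧸ Subgroup.center P)
        (QuotientGroup.mk g) from hz3 g).mul_pow, ← QuotientGroup.mk_pow, ← QuotientGroup.mk_pow,
        (QuotientGroup.eq_one_iff (z ^ p)).mpr hz2, one_mul]
    have e2 : (g ^ p)⁻¹ * (z * g) ^ p ∈ Subgroup.center P := by
      have := QuotientGroup.eq.mp e1.symm
      exact this
    have e3 : (z * g) ^ p = g ^ p * ((g ^ p)⁻¹ * (z * g) ^ p) := by group
    have hzg : (z * g) ^ p ∉ Subgroup.center P := by
      intro hc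
      apply hg
      have : g ^ p = (z * g) ^ p * ((g ^ p)⁻¹ * (z * g) ^ p)⁻¹ := by group
      rw [this]
      exact Subgroup.mul_mem _ hc (Subgroup.inv_mem _ e2)
    have c1 : cn (z * g) = cn ((z * g) ^ p) := cn_eq_of_le m h _ _ (cn_le_cn_pow _ _) hzg
    have c2 : cn ((z * g) ^ p) = cn (g ^ p) := by
      rw [e3]; exact cn_mul_central _ _ e2
    have c3 : cn g = cn (g ^ p) := cn_eq_of_le m h _ _ (cn_le_cn_pow _ _) hg
    have c4 : cn (z * g) = cn g := by rw [c1, c2, c3]
    have hle : cn g ≤ cn z := by
      intro k hk
      have hk2 : k ∈ cn (z * g) := by rw [c4]; exact hk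
      rw [mem_cn] at hk hk2 ⊢
      have : k * z * g = z * k * g := by
        calc k * z * g = k * (z * g) := by group
          _ = z * g * k := hk2
          _ = z * (g * k) := by group
          _ = z * (k * g) := by rw [hk]
          _ = z * k * g := by group
      exact mul_right_cancel this
    exact cn_eq_of_le m h _ _ hle hz1
  -- Step C
  have hCx : cn x = cn z := stepB x hx
  have outside : ∀ g : P, (g ∉ cn z ∨ ∃ c ∈ cn z, g * c ≠ c * g) → g ^ p ∈ Subgroup.center P := by
    intro g hg
    by_contra hgp
    have hCg := stepB g hgp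
    rcases hg with hg | ⟨c, hc, hgc⟩
    · apply hg
      rw [← hCg]
      exact self_mem_cn g
    · apply hgc
      rw [← hCg, mem_cn] at hc
      exact hc.symm
  have hxC : x ∈ cn z := by rw [← hCx]; exact self_mem_cn x
  have hxcomm : ∀ c ∈ cn z, c * x = x * c := by
    intro c hc
    rw [← hCx, mem_cn] at hc
    exact hc
  by_cases hab : ∀ u ∈ cn z, ∀ v ∈ cn z, u * v = v * u
  swap
  · -- Step D: the centralizer is not abelian
    push Not at hab
    obtain ⟨w, hw, v, hv, hwv⟩ := hab
    have h1 : w ^ p ∈ Subgroup.center P := outside w (Or.inr ⟨v, hv, hwv⟩)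
    have h2 : (x * w) ^ p ∈ Subgroup.center P := by
      apply outside
      right
      refine ⟨v, hv, ?_⟩
      intro e
      apply hwv
      have hxv := hxcomm v hv
      have : x * (w * v) = x * (v * w) := by
        calc x * (w * v) = x * w * v := by group
          _ = v * (x * w) := e
          _ = v * x * w := by group
          _ = x * v * w := by rw [hxv]
          _ = x * (v * w) := by group
      exact mul_left_cancel this
    have h3 : (x * w) ^ p = x ^ p * w ^ p := by
      have : Commute x w := (hxcomm w hw).symm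
      exact this.mul_pow p
    apply hx
    have : x ^ p = (x * w) ^ p * (w ^ p)⁻¹ := by rw [h3]; group
    rw [this]
    exact Subgroup.mul_mem _ h2 (Subgroup.inv_mem _ h1)
  · -- Step E: the centralizer `C` is abelian
    have hout : ∀ g : P, g ∉ cn z → g ^ p ∈ Subgroup.center P := fun g hg => outside g (Or.inl hg)
    have hnormal : (cn z).Normal := by
      have key : ∀ n ∈ cn z, ∀ k : P, k⁻¹ * n * k ∈ cn z := by
        intro n hn k
        have hk : (k * x * k⁻¹) ^ p ∉ Subgroup.center P := by
          rw [conj_pow]
          intro hc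
          apply hx
          have := (Subgroup.center P).normal_of_characteristic.conj_mem _ hc k⁻¹
          have e : k⁻¹ * (k * x ^ p * k⁻¹) * k⁻¹⁻¹ = x ^ p := by group
          rwa [e] at this
        have hCk := stepB _ hk
        rw [← hCk, mem_cn] at hn
        rw [← hCx, mem_cn]
        calc k⁻¹ * n * k * x = k⁻¹ * (n * (k * x * k⁻¹)) * k := by group
          _ = k⁻¹ * ((k * x * k⁻¹) * n) * k := by rw [hn]
          _ = x * (k⁻¹ * n * k) := by group
      constructor
      intro n hn k
      have := key n hn k⁻¹
      rwa [inv_inv] at this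
    have hZC : Subgroup.center P ≤ cn z := center_le_cn z
    have hCu : ∀ u ∈ cn z, u ∉ Subgroup.center P → cn u = cn z := by
      intro u hu huZ
      symm
      apply cn_eq_of_le m h _ _ _ huZ
      intro k hk
      rw [mem_cn]
      exact hab k hk u hu
    have hCm : (cn z).index = m := by
      rcases h z with h1 | h1
      · exact absurd (cn_eq_top_iff.mp (Subgroup.index_eq_one.mp h1)) hz1
      · exact h1
    have hm1 : m ≠ 1 := by
      intro e
      rw [e] at hCm
      exact hz1 (cn_eq_top_iff.mp (Subgroup.index_eq_one.mp hCm))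
    have hm0 : m ≠ 0 := by rw [← hCm]; exact Subgroup.index_ne_zero_of_finite
    obtain ⟨a, ha⟩ := hP.index (cn z)
    rw [hCm] at ha
    have ha0 : a ≠ 0 := by
      intro e; rw [e, pow_zero] at ha; exact hm1 ha
    by_cases ha1 : a = 1
    · -- class sizes `1` and `p`
      rw [ha1, pow_one] at ha
      have hCtop : cn z ≠ ⊤ := fun e => hz1 (cn_eq_top_iff.mp e)
      obtain ⟨y, hy⟩ : ∃ y, y ∉ cn z := by
        by_contra hne
        push Not at hne
        exact hCtop (eq_top_iff.mpr fun g _ => hne g)
      have hyZ : y ∉ Subgroup.center P := fun hyc => hy (hZC hyc)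
      have hDm : (cn y).index = m := by
        rcases h y with h1 | h1
        · exact absurd (cn_eq_top_iff.mp (Subgroup.index_eq_one.mp h1)) hyZ
        · exact h1
      have hinf : cn z ⊓ cn y = Subgroup.center P := by
        apply le_antisymm
        · intro u hu
          by_contra huZ
          have e := hCu u hu.1 huZ
          apply hy
          rw [← e, mem_cn]
          exact (mem_cn.mp hu.2).symm
        · exact le_inf hZC (center_le_cn y)
      have hdvd : (cn z).relIndex (cn y) ∣ (cn z).index := Subgroup.relIndex_dvd_index_of_normal _ _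
      have e1 : (cn z).relIndex (cn y) = (Subgroup.center P).relIndex (cn y) := by
        rw [← Subgroup.inf_relIndex_right, hinf]
      have e2 : (Subgroup.center P).relIndex (cn y) * (cn y).index = (Subgroup.center P).index :=
        Subgroup.relIndex_mul_index (center_le_cn y)
      have e3 : (Subgroup.center P).relIndex (cn z) * (cn z).index = (Subgroup.center P).index :=
        Subgroup.relIndex_mul_index hZC
      have e4 : (Subgroup.center P).relIndex (cn y) = (Subgroup.center P).relIndex (cn z) := by
        rw [hDm] at e2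
        rw [hCm] at e3
        exact Nat.eq_of_mul_eq_mul_right (Nat.pos_of_ne_zero hm0) (e2.trans e3.symm)
      have hr : (Subgroup.center P).relIndex (cn z) ∣ p := by
        rw [← e4, ← e1, ← ha, ← hCm]; exact hdvd
      have hpow := Subgroup.pow_index_mem ((Subgroup.center P).subgroupOf (cn z)) (⟨x, hxC⟩ : ↥(cn z))
      have hxr : x ^ ((Subgroup.center P).relIndex (cn z)) ∈ Subgroup.center P := by
        have h5 := Subgroup.mem_subgroupOf.mp hpow
        simp only [Subgroup.coe_pow] at h5
        exact h5
      obtain ⟨q, hq⟩ := hr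
      apply hx
      rw [hq, pow_mul]
      exact Subgroup.pow_mem _ hxr q
    · -- at least `p ^ 2`
      have ha2 : 2 ≤ a := by omega
      have hcardQ : Nat.card (P ⧸ cn z) = p ^ a := by
        rw [← Subgroup.index_eq_card, hCm, ha]
      have hntQ : Nontrivial (P ⧸ cn z) := by
        apply Finite.one_lt_card_iff_nontrivial.mp
        rw [hcardQ]
        exact Nat.one_lt_pow ha0 hp.out.one_lt
      have hQp : IsPGroup p (P ⧸ cn z) := hP.to_quotient _
      obtain ⟨c₁, hc₁c, hc₁o⟩ := exists_central_orderOf_eq_prime p hQp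
      obtain ⟨c₂, hc₂⟩ : ∃ c₂ : P ⧸ cn z, c₂ ∉ Subgroup.zpowers c₁ := by
        by_contra hall
        push Not at hall
        have htop : Subgroup.zpowers c₁ = ⊤ := eq_top_iff.mpr fun g _ => hall g
        have hcard : Nat.card (Subgroup.zpowers c₁) = p := by rw [Nat.card_zpowers, hc₁o]
        have hQc : Nat.card (P ⧸ cn z) = p := by
          rw [← hcard, htop, Subgroup.card_top]
        rw [hcardQ] at hQc
        have : p ^ a = p ^ 1 := by rw [hQc, pow_one]
        have := Nat.pow_right_injective hp.out.two_le this
        omega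
      obtain ⟨d₁, hd₁e⟩ := QuotientGroup.mk_surjective c₁
      obtain ⟨d₂, hd₂e⟩ := QuotientGroup.mk_surjective c₂
      have hc₁ne : c₁ ≠ 1 := by
        intro e
        rw [e, orderOf_one] at hc₁o
        exact hp.out.one_lt.ne hc₁o
      have hd₁ : d₁ ∉ cn z := by
        intro hmem
        apply hc₁ne
        rw [← hd₁e]
        exact (QuotientGroup.eq_one_iff d₁).mpr hmem
      have hd₂ : ∀ j : ℕ, d₂ * d₁ ^ j ∉ cn z := by
        intro j hmem
        apply hc₂
        have e := (QuotientGroup.eq_one_iff (d₂ * d₁ ^ j)).mpr hmem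
        rw [QuotientGroup.mk_mul, QuotientGroup.mk_pow, hd₁e, hd₂e] at e
        have : c₂ = (c₁ ^ j)⁻¹ := eq_inv_of_mul_eq_one_left e
        rw [this]
        exact Subgroup.inv_mem _ (Subgroup.pow_mem _ (Subgroup.mem_zpowers _) j)
      have hcomm : d₁⁻¹ * d₂⁻¹ * d₁ * d₂ ∈ cn z := by
        rw [← QuotientGroup.eq_one_iff]
        simp only [QuotientGroup.mk_mul, QuotientGroup.mk_inv, hd₁e, hd₂e]
        have := Subgroup.mem_center_iff.mp hc₁c c₂⁻¹
        calc c₁⁻¹ * c₂⁻¹ * c₁ * c₂ = c₁⁻¹ * (c₂⁻¹ * c₁) * c₂ := by group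
          _ = c₁⁻¹ * (c₁ * c₂⁻¹) * c₂ := by rw [this]
          _ = 1 := by group
      exact hx (pow_prime_mem_of_outside_pow_mem (cn z) hab (Subgroup.center P) le_rfl p hp.out hout
        d₁ d₂ hd₁ hd₂ hcomm x hxC)

end Main

end Cfsg.Agent.Lib.Helper74
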