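import Mathlib
import Cfsg.Agent.Lib.Helper11.ZassDefs
import Cfsg.Agent.Lib.Helper16.ClassEq2
import Cfsg.Agent.Lib.Helper23.ZassIcosa
import Cfsg.Agent.Lib.Helper57.ZassNo48
import Cfsg.Agent.Lib.Helper74.ZassKlein2

set_option autoImplicit false

/-!
# Consequences of Klein's list for subgroups generated by elements of order three (glue for S0690)

A finite nonabelian subgroup of `SL₂(K)`, `K` of characteristic zero, generated by its elements of order three has order
`24` or `120`, its elements satisfy `g^4 = 1`, `g^6 = 1` or `g^10 = 1`, and in the case of order `120` it has exactly ten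
subgroups of order three, two of which generate a subgroup of order `24`.
-/

namespace Cfsg.Agent.Lib.Helper74.Zass

open Cfsg.Agent.Lib.Helper16
open Classical

theorem pow_card_centralizer_self {G : Type*} [Group G] (g : G) :
    g ^ Nat.card (Subgroup.centralizer ({g} : Set G)) = 1 := by
  have hmem : g ∈ Subgroup.centralizer ({g} : Set G) :=
    Subgroup.mem_centralizer_singleton_iff.mpr rfl
  have h := pow_card_eq_one' (G := Subgroup.centralizer ({g} : Set G)) (x := ⟨g, hmem⟩)
  have := congrArg Subtype.val h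
  rw [Subgroup.coe_pow, Subgroup.coe_one] at this
  exact this

theorem pow_eq_one_of_dvd {G : Type*} [Group G] {g : G} {m n : ℕ} (h : g ^ m = 1) (hd : m ∣ n) :
    g ^ n = 1 := by
  obtain ⟨k, rfl⟩ := hd
  rw [pow_mul, h, one_pow]

section Klein
variable {K : Type*} [Field K] [CharZero K]

local notation "SL2" => Matrix.SpecialLinearGroup (Fin 2) K

omit [CharZero K] in
theorem card_ZL_le_two (L : Subgroup SL2) [Finite L] : Nat.card (SL2Q.ZL L) ≤ 2 := by
  have h : Nat.card (SL2Q.ZL L) ≤ Nat.card Bool := by
    apply Nat.card_le_card_of_injective (fun z : SL2Q.ZL L => decide (((z : L) : SL2) = 1))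
    intro z z' h
    have hz := (SL2Q.mem_ZL L).mp z.2
    have hz' := (SL2Q.mem_ZL L).mp z'.2
    apply Subtype.ext
    apply Subtype.ext
    simp only [decide_eq_decide] at h
    rcases hz with hz | hz
    · rw [hz, h.mp hz]
    · rcases hz' with hz' | hz'
      · rw [hz', h.mpr hz']
      · rw [hz, hz']
  simpa using h

/-- the order and the exponents -/
theorem klein_three_card (L : Subgroup SL2) [Finite L] (hna : ∃ a b : L, a * b ≠ b * a)
    (hgen : Subgroup.closure {h : L | orderOf h = 3} = ⊤) :
    ((Nat.card L = 24 ∨ Nat.card L = 120) ∧ ∀ g : L, g ^ 4 = 1 ∨ g ^ 6 = 1 ∨ g ^ 10 = 1) ∧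
    (Nat.card L = 120 → Nat.card (SL2Q.ZL L) = 2 ∧
      ∀ _ : Fintype L, Cfsg.Agent.Lib.Helper23.Zass.KleinData L 5) := by
  have hfin : Fintype L := Fintype.ofFinite L
  have hζ2 := card_ZL_le_two L
  have hζ1 : 1 ≤ Nat.card (SL2Q.ZL L) := Nat.card_pos
  -- central elements
  have hcent : ∀ g : L, g ∈ SL2Q.ZL L → g ^ 4 = 1 := by
    intro g hg
    have h := pow_card_eq_one' (G := SL2Q.ZL L) (x := ⟨g, hg⟩)
    have h' : g ^ Nat.card (SL2Q.ZL L) = 1 := by
      have := congrArg Subtype.val h
      rw [Subgroup.coe_pow, Subgroup.coe_one] at this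
      exact this
    apply pow_eq_one_of_dvd h'
    have : Nat.card (SL2Q.ZL L) = 1 ∨ Nat.card (SL2Q.ZL L) = 2 := by omega
    rcases this with e | e <;> rw [e] <;> norm_num
  have h3Z : ∀ h : L, orderOf h = 3 → h ∉ SL2Q.ZL L := by
    intro h h3 hZ
    have h4 := hcent h hZ
    have := orderOf_dvd_of_pow_eq_one h4
    rw [h3] at this
    norm_num at this
  rcases klein_cases L hna with ⟨g, hgZ, hgC, hcov⟩ | ⟨h24, hC⟩ | ⟨h48, hZ, hD⟩ | ⟨h120, hZ, hD⟩
  · -- dihedral-like: impossible
    exfalso
    have hle : Subgroup.closure {h : L | orderOf h = 3} ≤ Subgroup.centralizer ({g} : Set L) := by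
      rw [Subgroup.closure_le]
      intro h h3
      have h3' : orderOf h = 3 := h3
      rcases hcov h (h3Z h h3') with h1 | h1
      · exact h1
      · exfalso
        have hd : orderOf h ∣ Nat.card (Subgroup.centralizer ({h} : Set L)) :=
          orderOf_dvd_of_pow_eq_one (pow_card_centralizer_self h)
        rw [h3', h1] at hd
        have : Nat.card (SL2Q.ZL L) = 1 ∨ Nat.card (SL2Q.ZL L) = 2 := by omega
        rcases this with e | e <;> rw [e] at hd <;> norm_num at hd
    rw [hgen] at hle
    have htop : Subgroup.centralizer ({g} : Set L) = ⊤ := top_le_iff.mp hle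
    rw [htop, Subgroup.card_top] at hgC
    have : 0 < Nat.card L := Nat.card_pos
    omega
  · refine ⟨⟨Or.inl h24, ?_⟩, fun h => by omega⟩
    intro g
    by_cases hg : g ∈ SL2Q.ZL L
    · exact Or.inl (hcent g hg)
    · have := pow_card_centralizer_self g
      rcases hC g hg with e | e
      · left; rw [e] at this; exact this
      · right; left; rw [e] at this; exact this
  · exfalso
    exact Cfsg.Agent.Lib.Helper57.Zass.no_48 L h48 hZ hD hgen
  · refine ⟨⟨Or.inr h120, ?_⟩, fun _ => ⟨hZ, ?_⟩⟩
    · intro g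
      by_cases hg : g ∈ SL2Q.ZL L
      · exact Or.inl (hcent g hg)
      · have := pow_card_centralizer_self g
        rcases (hD g hg).1 with e | e | e
        · left; rw [e] at this; exact this
        · right; left; rw [e] at this; exact this
        · right; right; rw [e] at this; exact this
    · intro inst
      have e : inst = hfin := Subsingleton.elim _ _
      subst e
      exact hD

/-- abstract form of `klein_three_card`: `H` embeds in `SL₂(K)` -/
theorem planar_three_card {H : Type*} [Group H] [Finite H] (ψ : H →* SL2)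
    (hψ : Function.Injective ψ) (hna : ∃ a b : H, a * b ≠ b * a)
    (hgen : Subgroup.closure {h : H | orderOf h = 3} = ⊤) :
    (Nat.card H = 24 ∨ Nat.card H = 120) ∧ ∀ g : H, g ^ 4 = 1 ∨ g ^ 6 = 1 ∨ g ^ 10 = 1 := by
  let e : H ≃* ψ.range := MonoidHom.ofInjective hψ
  have hfin : Finite ψ.range := Finite.of_equiv H e.toEquiv
  have hna' : ∃ a b : ψ.range, a * b ≠ b * a := by
    obtain ⟨a, b, hab⟩ := hna
    refine ⟨e a, e b, fun h => hab ?_⟩
    apply e.injective
    rw [map_mul, map_mul, h]
  have hgen' : Subgroup.closure {h : ψ.range | orderOf h = 3} = ⊤ := by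
    have h1 : (Subgroup.closure {h : H | orderOf h = 3}).map e.toMonoidHom = ⊤ := by
      rw [hgen]
      exact Subgroup.map_top_of_surjective _ e.surjective
    rw [MonoidHom.map_closure] at h1
    apply top_le_iff.mp
    rw [← h1]
    apply Subgroup.closure_mono
    rintro _ ⟨h, hh, rfl⟩
    have hh' : orderOf h = 3 := hh
    show orderOf (e h) = 3
    rw [MulEquiv.orderOf_eq, hh']
  obtain ⟨⟨h1, h2⟩, -⟩ := klein_three_card ψ.range hna' hgen'
  refine ⟨?_, ?_⟩
  · rw [Nat.card_congr e.toEquiv]
    exact h1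
  · intro g
    have key : ∀ n : ℕ, (e g) ^ n = 1 → g ^ n = 1 := by
      intro n hn
      apply e.injective
      rw [map_pow, hn, map_one]
    rcases h2 (e g) with h | h | h
    · exact Or.inl (key 4 h)
    · exact Or.inr (Or.inl (key 6 h))
    · exact Or.inr (Or.inr (key 10 h))

/-- K-S0690 step (2): a finite nonabelian subgroup of `SL₂(K)` generated by its elements of order three -/
theorem klein_three (L : Subgroup SL2) [Finite L] (hna : ∃ a b : L, a * b ≠ b * a)
    (hgen : Subgroup.closure {h : L | orderOf h = 3} = ⊤) :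
    (Nat.card L = 24 ∨ Nat.card L = 120) ∧ (∀ g : L, g ^ 4 = 1 ∨ g ^ 6 = 1 ∨ g ^ 10 = 1) ∧
    (Nat.card L = 120 →
      Nat.card {A : Subgroup L // Nat.card A = 3} = 10 ∧
      ∃ x y : L, orderOf x = 3 ∧ orderOf y = 3 ∧ x * y ≠ y * x ∧
        Nat.card (Subgroup.closure {x, y}) = 24) := by
  obtain ⟨⟨h1, h2⟩, h3⟩ := klein_three_card L hna hgen
  refine ⟨h1, h2, ?_⟩
  intro h120
  obtain ⟨hZ, hD⟩ := h3 h120
  have hfin : Fintype L := Fintype.ofFinite L
  have hK : ∀ x y : L, orderOf x = 3 → orderOf y = 3 → x * y ≠ y * x →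
      Nat.card (Subgroup.closure {x, y}) = 24 ∨ Nat.card (Subgroup.closure {x, y}) = 120 := by
    intro x y hx hy hxy
    have hxm : x ∈ Subgroup.closure ({x, y} : Set L) := Subgroup.subset_closure (by simp)
    have hym : y ∈ Subgroup.closure ({x, y} : Set L) := Subgroup.subset_closure (by simp)
    refine (planar_three_card (H := Subgroup.closure ({x, y} : Set L))
      (L.subtype.comp (Subgroup.closure ({x, y} : Set L)).subtype) ?_ ?_ ?_).1
    · intro a b hab
      exact Subtype.ext (Subtype.ext hab)
    · refine ⟨⟨x, hxm⟩, ⟨y, hym⟩, fun h => hxy ?_⟩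
      exact congrArg Subtype.val h
    · apply top_le_iff.mp
      rw [← Subgroup.closure_closure_coe_preimage (k := ({x, y} : Set L))]
      apply Subgroup.closure_mono
      intro h hh
      have hh' : (h : L) = x ∨ (h : L) = y := by simpa using hh
      show orderOf h = 3
      rw [← Subgroup.orderOf_coe]
      rcases hh' with e | e <;> rw [e] <;> assumption
  exact ⟨Cfsg.Agent.Lib.Helper23.Zass.icosa_points L h120 hZ (hD hfin),
    Cfsg.Agent.Lib.Helper23.Zass.icosa_line L h120 hZ (hD hfin) hK⟩

/-- K-S0690 step (2), abstract form: a finite nonabelian group generated by its elements of order three which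
embeds in `SL₂(K)`, `K` a field of characteristic zero -/
theorem planar_three {H : Type*} [Group H] [Finite H] (ψ : H →* SL2)
    (hψ : Function.Injective ψ) (hna : ∃ a b : H, a * b ≠ b * a)
    (hgen : Subgroup.closure {h : H | orderOf h = 3} = ⊤) :
    (Nat.card H = 24 ∨ Nat.card H = 120) ∧ (∀ g : H, g ^ 4 = 1 ∨ g ^ 6 = 1 ∨ g ^ 10 = 1) ∧
    (Nat.card H = 120 →
      Nat.card {A : Subgroup H // Nat.card A = 3} = 10 ∧
      ∃ x y : H, orderOf x = 3 ∧ orderOf y = 3 ∧ x * y ≠ y * x ∧
        Nat.card (Subgroup.closure {x, y}) = 24) := by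
  obtain ⟨h1, h2⟩ := planar_three_card ψ hψ hna hgen
  refine ⟨h1, h2, ?_⟩
  intro h120
  let e : H ≃* ψ.range := MonoidHom.ofInjective hψ
  have hfin : Finite ψ.range := Finite.of_equiv H e.toEquiv
  have hna' : ∃ a b : ψ.range, a * b ≠ b * a := by
    obtain ⟨a, b, hab⟩ := hna
    refine ⟨e a, e b, fun h => hab ?_⟩
    apply e.injective
    rw [map_mul, map_mul, h]
  have hgen' : Subgroup.closure {h : ψ.range | orderOf h = 3} = ⊤ := by
    have h1 : (Subgroup.closure {h : H | orderOf h = 3}).map e.toMonoidHom = ⊤ := by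
      rw [hgen]
      exact Subgroup.map_top_of_surjective _ e.surjective
    rw [MonoidHom.map_closure] at h1
    apply top_le_iff.mp
    rw [← h1]
    apply Subgroup.closure_mono
    rintro _ ⟨h, hh, rfl⟩
    have hh' : orderOf h = 3 := hh
    show orderOf (e h) = 3
    rw [MulEquiv.orderOf_eq, hh']
  have hL120 : Nat.card ψ.range = 120 := by
    rw [← Nat.card_congr e.toEquiv]; exact h120
  obtain ⟨hpts, x, y, hx, hy, hxy, hc⟩ := (klein_three ψ.range hna' hgen').2.2 hL120
  refine ⟨?_, e.symm x, e.symm y, ?_, ?_, ?_, ?_⟩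
  · rw [← hpts]
    apply Nat.card_congr
    refine Equiv.subtypeEquiv e.mapSubgroup.toEquiv ?_
    intro A
    show Nat.card A = 3 ↔ Nat.card (A.map e.toMonoidHom) = 3
    have hinj : Function.Injective e.toMonoidHom := e.injective
    rw [Subgroup.card_map_of_injective hinj]
  · rw [MulEquiv.orderOf_eq, hx]
  · rw [MulEquiv.orderOf_eq, hy]
  · intro h
    apply hxy
    apply e.symm.injective
    rw [map_mul, map_mul, h]
  · rw [← hc]
    have h5 : Subgroup.closure ({e.symm x, e.symm y} : Set H) =
        (Subgroup.closure ({x, y} : Set ψ.range)).map e.symm.toMonoidHom := by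
      rw [MonoidHom.map_closure, Set.image_pair]
      rfl
    have hinj : Function.Injective e.symm.toMonoidHom := e.symm.injective
    rw [h5, Subgroup.card_map_of_injective hinj]

end Klein

end Cfsg.Agent.Lib.Helper74.Zass
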